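/-
Matrices from finite-dimensional commutative algebras, and a power killing every
invertible matrix over a finite field.
-/
import Mathlib

set_option autoImplicit false

namespace Cfsg.Agent.H55

open Polynomial

/-- An algebra of dimension `n` acts faithfully on itself: its units embed in `GL n`. -/
noncomputable def algUnitsToGL {F R : Type*} [Field F] [Ring R] [Algebra F R]
    [FiniteDimensional F R] {n : ℕ} (h : Module.finrank F R = n) :
    Rˣ →* Matrix.GeneralLinearGroup (Fin n) F :=
  Units.map (Algebra.leftMulMatrix (Module.finBasisOfFinrankEq F R h)).toRingHom.toMonoidHom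

theorem algUnitsToGL_injective {F R : Type*} [Field F] [Ring R] [Algebra F R]
    [FiniteDimensional F R] {n : ℕ} (h : Module.finrank F R = n) :
    Function.Injective (algUnitsToGL (F := F) (R := R) h) :=
  Units.map_injective (Algebra.leftMulMatrix_injective _)

/-- A polynomial over a field whose normalized irreducible factors all divide `g` divides a power of `g`. -/
theorem dvd_pow_natDegree_of_factors {F : Type*} [Field F] {χ g : F[X]} (hχ : χ.Monic) {N : ℕ}
    (hN : χ.natDegree ≤ N) (h : ∀ f : F[X], Irreducible f → f ∣ χ → f ∣ g) :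
    χ ∣ g ^ N := by
  classical
  open UniqueFactorizationMonoid in
  have hne : χ ≠ 0 := hχ.ne_zero
  have hassoc := prod_normalizedFactors hne
  set s := normalizedFactors χ with hs
  have hdeg : Multiset.card s ≤ χ.natDegree := by
    have h0 : (0 : F[X]) ∉ s := fun h => not_irreducible_zero (irreducible_of_normalized_factor _ h)
    have h1 : χ.natDegree = (s.map natDegree).sum := by
      rw [← natDegree_eq_of_degree_eq (degree_eq_degree_of_associated hassoc),
        natDegree_multiset_prod _ h0]
    rw [h1]
    calc Multiset.card s = Multiset.card (s.map natDegree) • 1 := by simp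
      _ ≤ (s.map natDegree).sum := Multiset.card_nsmul_le_sum (by
          intro x hx
          obtain ⟨f, hf, rfl⟩ := Multiset.mem_map.1 hx
          exact (irreducible_of_normalized_factor _ hf).natDegree_pos)
  have hprod : s.prod ∣ (s.map fun _ => g).prod := by
    have := Multiset.prod_dvd_prod_of_dvd (S := s) id (fun _ => g)
      (fun f hf => h f (irreducible_of_normalized_factor _ hf) (dvd_of_mem_normalizedFactors hf))
    simpa using this
  rw [Multiset.map_const', Multiset.prod_replicate] at hprod
  exact (hassoc.dvd_iff_dvd_left.1 hprod).trans (pow_dvd_pow g (hdeg.trans hN))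

/-- If `q ^ e - 1 ∣ N` for `1 ≤ e ≤ n` then every invertible `n`-matrix over the field with `q`
elements satisfies `A ^ (N * p ^ L) = 1` as soon as `n ≤ p ^ L`. -/
theorem matrix_pow_eq_one {F : Type*} [Field F] [Finite F] (p : ℕ) [Fact p.Prime] [CharP F p]
    {n : ℕ} (A : Matrix (Fin n) (Fin n) F) (hA : A.det ≠ 0) (N L : ℕ) (hL : n ≤ p ^ L)
    (hN : ∀ e, 1 ≤ e → e ≤ n → Nat.card F ^ e - 1 ∣ N) : A ^ (N * p ^ L) = 1 := by
  have hdvd : A.charpoly ∣ (X ^ N - 1) ^ (p ^ L) := by
    refine dvd_pow_natDegree_of_factors A.charpoly_monic (by simpa using hL) ?_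
    intro f hf hfA
    have hle : f.natDegree ≤ n := by
      simpa using natDegree_le_of_dvd hfA A.charpoly_monic.ne_zero
    have hfX : ¬ f ∣ X := by
      intro hfX
      have hass : Associated f X := hf.associated_of_dvd irreducible_X hfX
      have hX : X ∣ A.charpoly := (hass.dvd_iff_dvd_left).1 hfA
      rw [X_dvd_iff] at hX
      apply hA
      rw [Matrix.det_eq_sign_charpoly_coeff, hX, mul_zero]
    have h1 : f ∣ X ^ (Nat.card F) ^ f.natDegree - X :=
      (hf.natDegree_dvd_iff_dvd_X_pow_card_pow_sub_X).1 dvd_rfl
    have hpos : 1 ≤ Nat.card F ^ f.natDegree := Nat.one_le_pow _ _ Nat.card_pos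
    obtain ⟨c, hc⟩ := hN f.natDegree hf.natDegree_pos hle
    obtain ⟨m, hm⟩ : ∃ m, Nat.card F ^ f.natDegree = m + 1 :=
      ⟨Nat.card F ^ f.natDegree - 1, by omega⟩
    rw [hm, pow_succ', ← mul_sub_one] at h1
    rcases hf.prime.dvd_or_dvd h1 with h2 | h2
    · exact absurd h2 hfX
    · refine h2.trans ?_
      rw [hc, hm, Nat.add_sub_cancel, pow_mul]
      exact sub_one_dvd_pow_sub_one _ _
  obtain ⟨c, hc⟩ := hdvd
  have := congrArg (aeval A) hc
  rw [map_mul, Matrix.aeval_self_charpoly, zero_mul, sub_pow_char_pow, one_pow, ← pow_mul] at this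
  simpa [sub_eq_zero] using this

end Cfsg.Agent.H55
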