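/-
Element orders of PSL(n, q): torus elements, block elements, and the dichotomy
"commutes with a proper idempotent / one primary cyclic block".
-/
import Cfsg.Agent.H55.AlgEmb

set_option autoImplicit false

namespace Cfsg.Agent.H55

open Polynomial Matrix

section

variable {F : Type*} [Field F] {n : ℕ}

/-- The image of `A` in PSL. -/
abbrev toPSL (A : Matrix.SpecialLinearGroup (Fin n) F) :
    Matrix.ProjectiveSpecialLinearGroup (Fin n) F :=
  QuotientGroup.mk' (Subgroup.center (Matrix.SpecialLinearGroup (Fin n) F)) A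

theorem toPSL_pow_eq_one_iff (A : Matrix.SpecialLinearGroup (Fin n) F) (h : ℕ) :
    toPSL A ^ h = 1 ↔ ∃ c : F, (A : Matrix (Fin n) (Fin n) F) ^ h = scalar (Fin n) c := by
  unfold toPSL
  rw [← map_pow, QuotientGroup.mk'_apply, QuotientGroup.eq_one_iff,
    Matrix.SpecialLinearGroup.mem_center_iff, Fintype.card_fin]
  constructor
  · rintro ⟨c, -, hc⟩
    exact ⟨c, by rw [hc, Matrix.SpecialLinearGroup.coe_pow]⟩
  · rintro ⟨c, hc⟩
    refine ⟨c, ?_, by rw [Matrix.SpecialLinearGroup.coe_pow, hc]⟩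
    have h1 : ((A : Matrix (Fin n) (Fin n) F) ^ h).det = 1 := by simp [A.2]
    rw [hc] at h1
    simpa [Matrix.scalar_apply] using h1

/-- The element of `SL n` given by a norm-one element of an `n`-dimensional algebra. -/
noncomputable def slOf {R : Type*} [CommRing R] [Algebra F R] [FiniteDimensional F R]
    (h : Module.finrank F R = n) (u : R) (hu : Algebra.norm F u = 1) :
    Matrix.SpecialLinearGroup (Fin n) F :=
  ⟨Algebra.leftMulMatrix (Module.finBasisOfFinrankEq F R h) u,
    by rw [← Algebra.norm_eq_matrix_det]; exact hu⟩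

theorem toPSL_slOf_pow_eq_one_iff {R : Type*} [CommRing R] [Algebra F R] [FiniteDimensional F R]
    (h : Module.finrank F R = n) (u : R) (hu : Algebra.norm F u = 1) (j : ℕ) :
    toPSL (slOf h u hu) ^ j = 1 ↔ ∃ c : F, u ^ j = algebraMap F R c := by
  rw [toPSL_pow_eq_one_iff]
  refine exists_congr fun c => ?_
  show (Algebra.leftMulMatrix _ u) ^ j = _ ↔ _
  rw [← map_pow, show scalar (Fin n) c = algebraMap F (Matrix (Fin n) (Fin n) F) c from rfl,
    ← AlgHom.commutes (Algebra.leftMulMatrix (Module.finBasisOfFinrankEq F R h)) c]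
  exact (Algebra.leftMulMatrix_injective _).eq_iff

theorem norm_prod {R S : Type*} [CommRing R] [CommRing S] [Algebra F R] [Algebra F S]
    [FiniteDimensional F R] [FiniteDimensional F S] (a : R) (b : S) :
    Algebra.norm F (a, b) = Algebra.norm F a * Algebra.norm F b := by
  rw [Algebra.norm_apply, Algebra.norm_apply, Algebra.norm_apply, ← LinearMap.det_prodMap]
  congr 1

theorem eq_one_of_pow_char_pow {R : Type*} [CommRing R] [IsReduced R] (p : ℕ) [Fact p.Prime]
    [CharP R p] {c : R} {t : ℕ} (h : c ^ p ^ t = 1) : c = 1 := by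
  have : (c - 1) ^ p ^ t = 0 := by rw [sub_pow_char_pow, h, one_pow, sub_self]
  exact sub_eq_zero.1 (eq_zero_of_pow_eq_zero this)

/-- If `A` commutes with a proper idempotent and `r ∣ q - 1`, `r ∤ n`, then some element of PSL
has order divisible by both the order of `A` and by `r`. -/
theorem exists_order_of_idempotent [Finite F] {r : ℕ} (hr : r.Prime) (hrq : r ∣ Nat.card F - 1)
    (hrn : ¬ r ∣ n) (A : Matrix.SpecialLinearGroup (Fin n) F) (P : Matrix (Fin n) (Fin n) F)
    (hPP : P * P = P) (hP0 : P ≠ 0) (hP1 : P ≠ 1)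
    (hcomm : Commute (A : Matrix (Fin n) (Fin n) F) P) :
    ∃ y : Matrix.ProjectiveSpecialLinearGroup (Fin n) F,
      Nat.lcm (orderOf (toPSL A)) r ∣ orderOf y := by
  by_cases hdvd : r ∣ orderOf (toPSL A)
  · exact ⟨toPSL A, Nat.lcm_dvd dvd_rfl hdvd⟩
  cases nonempty_fintype F
  obtain ⟨g, hg⟩ := IsCyclic.exists_ofOrder_eq_natCard (α := Fˣ)
  rw [Nat.card_units] at hg
  have hq : Nat.card F - 1 ≠ 0 := by have := Finite.one_lt_card (α := F); omega
  obtain ⟨w, hw⟩ : ∃ w : Fˣ, orderOf w = r := by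
    refine ⟨g ^ ((Nat.card F - 1) / r), ?_⟩
    rw [orderOf_pow_of_dvd (Nat.div_ne_zero_iff.2 ⟨hr.ne_zero, Nat.le_of_dvd (by omega) hrq⟩)
      (by rw [hg]; exact Nat.div_dvd_of_dvd hrq), hg, Nat.div_div_self hrq hq]
  set ζ : F := (w : F) with hζdef
  have hζr : ζ ^ r = 1 := by
    rw [hζdef, ← Units.val_pow_eq_pow_val, ← hw, pow_orderOf_eq_one, Units.val_one]
  have hζ1 : ζ ≠ 1 := by
    intro h
    have : w = 1 := Units.ext h
    rw [this, orderOf_one] at hw
    exact hr.ne_one hw.symm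
  set Z0 : Matrix (Fin n) (Fin n) F := 1 + (ζ - 1) • P with hZ0
  have hZpow : ∀ j : ℕ, Z0 ^ j = 1 + (ζ ^ j - 1) • P := by
    intro j
    induction j with
    | zero => simp
    | succ j ih =>
      rw [pow_succ, ih, hZ0, add_mul, mul_add, mul_add, one_mul, one_mul, mul_one,
        Algebra.smul_mul_assoc, Algebra.mul_smul_comm, hPP, smul_smul, add_assoc, ← add_smul,
        ← add_smul]
      congr 2
      ring
  have hdet : Z0.det ^ r = 1 := by
    rw [← Matrix.det_pow, hZpow, hζr, sub_self, zero_smul, add_zero, Matrix.det_one]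
  obtain ⟨k, hk⟩ : ∃ k : ℕ, r ∣ n * k + 1 := by
    have : Fact r.Prime := ⟨hr⟩
    have hn0 : (n : ZMod r) ≠ 0 := by rwa [Ne, ZMod.natCast_eq_zero_iff]
    refine ⟨(-(n : ZMod r)⁻¹).val, ?_⟩
    rw [← ZMod.natCast_eq_zero_iff, Nat.cast_add, Nat.cast_mul, Nat.cast_one,
      ZMod.natCast_zmod_val, mul_neg, mul_inv_cancel₀ hn0, neg_add_cancel]
  set c : F := Z0.det ^ k with hc
  have hcr : c ^ r = 1 := by rw [hc, ← pow_mul, mul_comm, pow_mul, hdet, one_pow]
  have hdet1 : (c • Z0).det = 1 := by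
    rw [Matrix.det_smul, Fintype.card_fin, hc, ← pow_mul, ← pow_succ, mul_comm k n]
    obtain ⟨m, hm⟩ := hk
    rw [hm, pow_mul, hdet, one_pow]
  let Z : Matrix.SpecialLinearGroup (Fin n) F := ⟨c • Z0, hdet1⟩
  have hZA : Commute A Z := by
    apply Subtype.ext
    exact (((Commute.one_right _).add_right (hcomm.smul_right _)).smul_right c).eq
  have hZord : orderOf (toPSL Z) = r := by
    have : Fact r.Prime := ⟨hr⟩
    refine orderOf_eq_prime ((toPSL_pow_eq_one_iff Z r).2 ⟨1, ?_⟩) ?_
    · show (c • Z0) ^ r = _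
      rw [_root_.smul_pow, hcr, one_smul, hZpow, hζr, sub_self, zero_smul, add_zero, map_one]
    · intro h
      have h' : toPSL Z ^ 1 = 1 := by rwa [pow_one]
      obtain ⟨d, hd⟩ := (toPSL_pow_eq_one_iff Z 1).1 h'
      rw [pow_one] at hd
      change c • (1 + (ζ - 1) • P) = scalar (Fin n) d at hd
      have hc0 : c ≠ 0 := by
        intro h0
        rw [h0, zero_pow hr.ne_zero] at hcr
        exact zero_ne_one hcr
      obtain ⟨a, rfl⟩ : ∃ a : F, P = a • 1 := by
        refine ⟨(d / c - 1) / (ζ - 1), ?_⟩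
        have hd' : (1 : Matrix (Fin n) (Fin n) F) + (ζ - 1) • P = (d / c) • 1 := by
          rw [← inv_smul_smul₀ hc0 (1 + (ζ - 1) • P), hd, ← Algebra.algebraMap_eq_smul_one,
            show scalar (Fin n) d = algebraMap F (Matrix (Fin n) (Fin n) F) d from rfl,
            Algebra.algebraMap_eq_smul_one, Algebra.algebraMap_eq_smul_one, smul_smul,
            div_eq_inv_mul]
        rw [← inv_smul_smul₀ (sub_ne_zero.2 hζ1) P, eq_sub_of_add_eq' hd']
        rw [div_eq_inv_mul _ (ζ - 1), mul_smul, sub_smul, one_smul]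
      have hne : (1 : Matrix (Fin n) (Fin n) F) ≠ 0 := fun h1 => hP0 (by rw [h1, smul_zero])
      rw [smul_mul_smul_comm, one_mul] at hPP
      have ha : a * a = a := smul_left_injective F hne hPP
      rcases eq_or_ne a 0 with rfl | ha0
      · exact hP0 (zero_smul _ _)
      · exact hP1 (by rw [(mul_eq_left₀ ha0).1 ha, one_smul])
  refine ⟨toPSL A * toPSL Z, ?_⟩
  have hc' : Commute (toPSL A) (toPSL Z) := hZA.map _
  have hcop : Nat.Coprime (orderOf (toPSL A)) (orderOf (toPSL Z)) := by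
    rw [hZord]; exact (hr.coprime_iff_not_dvd.2 hdvd).symm
  rw [hc'.orderOf_mul_eq_mul_orderOf_of_coprime hcop, hZord]
  exact Nat.lcm_dvd_mul _ _

/-- Either `A` commutes with a proper idempotent, or its minimal polynomial is primary. -/
theorem idempotent_or_primary (A : Matrix (Fin n) (Fin n) F) (hn : 0 < n) :
    (∃ P : Matrix (Fin n) (Fin n) F, P * P = P ∧ P ≠ 0 ∧ P ≠ 1 ∧ Commute A P) ∨
    ∃ (f : F[X]) (m : ℕ), f.Monic ∧ Irreducible f ∧ 1 ≤ m ∧ aeval A (f ^ m) = 0 ∧
      f.natDegree * m ≤ n := by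
  have : Nonempty (Fin n) := ⟨⟨0, hn⟩⟩
  set μ := minpoly F A with hμ
  have hint : IsIntegral F A := Matrix.isIntegral A
  have hmon : μ.Monic := minpoly.monic hint
  have h0 : μ ≠ 0 := hmon.ne_zero
  obtain ⟨f, hfm, hf, hfμ⟩ :=
    Polynomial.exists_monic_irreducible_factor μ (minpoly.not_isUnit F A)
  obtain ⟨m, g, hg, hfg⟩ := WfDvdMonoid.max_power_factor h0 hf
  have hgdvd : g ∣ μ := ⟨f ^ m, by rw [hfg, mul_comm]⟩
  have hm : 1 ≤ m := by
    rcases Nat.eq_zero_or_pos m with rfl | h
    · rw [pow_zero, one_mul] at hfg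
      exact absurd (hfg ▸ hfμ) hg
    · exact h
  by_cases hu : IsUnit g
  · right
    refine ⟨f, m, hfm, hf, hm, ?_, ?_⟩
    · obtain ⟨v, hv⟩ := hu
      have : f ^ m = μ * ↑v⁻¹ := by rw [hfg, ← hv, mul_assoc, Units.mul_inv, mul_one]
      rw [this, map_mul, hμ, minpoly.aeval, zero_mul]
    · have hle : (f ^ m).natDegree ≤ A.charpoly.natDegree :=
        natDegree_le_of_dvd ((Dvd.intro g hfg.symm).trans (Matrix.minpoly_dvd_charpoly A))
          A.charpoly_monic.ne_zero
      rwa [natDegree_pow, Matrix.charpoly_natDegree_eq_dim, Fintype.card_fin, mul_comm] at hle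
  · left
    obtain ⟨a, b, hab⟩ := ((hf.coprime_iff_not_dvd.2 hg).pow_left (m := m))
    have key : ∀ s : F[X], μ ∣ s → aeval A s = 0 := fun s hs => by
      obtain ⟨t, rfl⟩ := hs
      rw [map_mul, hμ, minpoly.aeval, zero_mul]
    have hsum : aeval A (a * f ^ m) + aeval A (b * g) = 1 := by rw [← map_add, hab, map_one]
    refine ⟨aeval A (b * g), ?_, ?_, ?_, ?_⟩
    · have h1 : aeval A (b * g) * aeval A (a * f ^ m) = 0 := by
        rw [← map_mul]
        exact key _ ⟨a * b, by rw [hfg]; ring⟩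
      calc aeval A (b * g) * aeval A (b * g) =
            aeval A (b * g) * (aeval A (a * f ^ m) + aeval A (b * g)) := by
              rw [mul_add, h1, zero_add]
        _ = _ := by rw [hsum, mul_one]
    · intro h
      have hd : μ ∣ b * g := minpoly.dvd F A h
      have hd' : f ∣ b * g := hfμ.trans hd
      have : f ∣ 1 := hab ▸ dvd_add (Dvd.dvd.mul_left (dvd_pow_self f (by omega)) a) hd'
      exact hf.not_isUnit (isUnit_of_dvd_one this)
    · intro h
      rw [h, add_eq_right] at hsum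
      have hd : g ∣ a * f ^ m := hgdvd.trans (minpoly.dvd F A hsum)
      have : g ∣ 1 := hab ▸ dvd_add hd (dvd_mul_left g b)
      exact hu (isUnit_of_dvd_one this)
    · show Commute A _
      have h : Commute (aeval A X) (aeval A (b * g)) := (Commute.all _ _).map (aeval A)
      simpa using h

theorem charpoly_eq_of_aeval {f : F[X]} (hf : Irreducible f) (hm : f.Monic)
    (hd : f.natDegree = n) (hn : 0 < n) (M : Matrix (Fin n) (Fin n) F) (h : aeval M f = 0) :
    M.charpoly = f := by
  have : Nonempty (Fin n) := ⟨⟨0, hn⟩⟩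
  have h1 : f = minpoly F M := minpoly.eq_of_irreducible_of_monic hf h hm
  refine (Polynomial.eq_of_monic_of_dvd_of_natDegree_le hm M.charpoly_monic
    (h1 ▸ Matrix.minpoly_dvd_charpoly M) ?_)
  rw [Matrix.charpoly_natDegree_eq_dim, Fintype.card_fin, hd]

end

section

variable {F : Type*} [Field F] [Finite F] (p : ℕ) [Fact p.Prime] [CharP F p]

/-- A generator of the norm-one subgroup of the extension of degree `e`. -/
theorem exists_norm_one_gen (e : ℕ) [NeZero e] :
    ∃ T : FiniteField.Extension F p e,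
      Algebra.norm F T = 1 ∧ orderOf T = (Nat.card F ^ e - 1) / (Nat.card F - 1) ∧
        ∀ x : FiniteField.Extension F p e, Algebra.norm F x = 1 → ∃ i : ℕ, x = T ^ i := by
  set K := FiniteField.Extension F p e
  obtain ⟨g, hg⟩ := IsCyclic.exists_ofOrder_eq_natCard (α := Kˣ)
  rw [Nat.card_units, FiniteField.natCard_extension] at hg
  set q := Nat.card F with hq
  have hq1 : 1 < q := Finite.one_lt_card
  have hdvd : q - 1 ∣ q ^ e - 1 := by
    simpa using Nat.pow_sub_one_dvd_pow_sub_one q (one_dvd e)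
  set N := (q ^ e - 1) / (q - 1) with hN
  have hNq : N * (q - 1) = q ^ e - 1 := Nat.div_mul_cancel hdvd
  have hinj := (algebraMap F K).injective
  have hnorm : ∀ x : K, algebraMap F K (Algebra.norm F x) = x ^ N := by
    intro x
    rw [FiniteField.algebraMap_norm_eq_pow, FiniteField.natCard_extension]
  refine ⟨((g ^ (q - 1) : Kˣ) : K), ?_, ?_, ?_⟩
  · apply hinj
    rw [hnorm, ← Units.val_pow_eq_pow_val, ← pow_mul, mul_comm, hNq, ← hg, pow_orderOf_eq_one,
      Units.val_one, map_one]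
  · rw [orderOf_units, orderOf_pow_of_dvd (by omega) (hg ▸ hdvd), hg]
  · intro x hx
    have hxN : x ^ N = 1 := by rw [← hnorm, hx, map_one]
    have hN0 : N ≠ 0 := by
      have : q ≤ q ^ e := Nat.le_self_pow (NeZero.ne e) q
      intro h
      rw [h, zero_mul] at hNq
      omega
    have hx0 : x ≠ 0 := by
      rintro rfl
      rw [zero_pow hN0] at hxN
      exact zero_ne_one hxN
    have hmem : Units.mk0 x hx0 ∈ Subgroup.zpowers g := by
      have htop : Subgroup.zpowers g = ⊤ := Subgroup.eq_top_of_card_eq _ (by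
        rw [Nat.card_zpowers, hg, Nat.card_units, FiniteField.natCard_extension])
      rw [htop]
      exact Subgroup.mem_top _
    obtain ⟨i, hi⟩ := mem_powers_iff_mem_zpowers.2 hmem
    have hdi : q - 1 ∣ i := by
      have h1 : g ^ (i * N) = 1 := by
        apply Units.ext
        simp only at hi
        rw [pow_mul, hi]
        simpa using hxN
      have := orderOf_dvd_of_pow_eq_one h1
      rw [hg, ← hNq, mul_comm i N] at this
      exact Nat.dvd_of_mul_dvd_mul_left (Nat.pos_of_ne_zero hN0) this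
    obtain ⟨j, rfl⟩ := hdi
    refine ⟨j, ?_⟩
    simp only at hi
    rw [← Units.val_pow_eq_pow_val, ← pow_mul, hi]
    rfl

theorem natCard_geom_pos (e : ℕ) [NeZero e] :
    Nat.Coprime ((Nat.card F ^ e - 1) / (Nat.card F - 1)) p := by
  set q := Nat.card F with hq
  have hq1 : 1 < q := Finite.one_lt_card
  have hpq : p ∣ q := by
    cases nonempty_fintype F
    obtain ⟨k, -, hk⟩ := FiniteField.card F p
    rw [hq, Nat.card_eq_fintype_card, hk]
    exact dvd_pow_self p k.ne_zero
  refine ((Nat.Prime.coprime_iff_not_dvd Fact.out).2 fun h => ?_).symm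
  have h1 : p ∣ q ^ e - 1 :=
    h.trans (Nat.div_dvd_of_dvd (by simpa using Nat.pow_sub_one_dvd_pow_sub_one q (one_dvd e)))
  have h2 : p ∣ q ^ e := hpq.trans (dvd_pow_self q (NeZero.ne e))
  have h4 : 1 ≤ q ^ e := Nat.one_le_pow _ _ (by omega)
  have h3 := Nat.dvd_sub h2 h1
  rw [Nat.sub_sub_self h4] at h3
  exact (Fact.out : p.Prime).one_lt.ne' (Nat.dvd_one.1 h3)

/-- A block element: torus of degree `e` times a regular unipotent of degree `n - e`. -/
theorem exists_block_element {n e : ℕ} (he : 1 ≤ e) (hen : e < n) :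
    ∃ (A : Matrix.SpecialLinearGroup (Fin n) F) (P : Matrix (Fin n) (Fin n) F),
      P * P = P ∧ P ≠ 0 ∧ P ≠ 1 ∧ Commute (A : Matrix (Fin n) (Fin n) F) P ∧
      (Nat.card F ^ e - 1) / (Nat.card F - 1) * p ^ Nat.clog p (n - e) ∣ orderOf (toPSL A) := by
  have : NeZero e := ⟨by omega⟩
  set K := FiniteField.Extension F p e
  obtain ⟨T, hT1, hT2, -⟩ := exists_norm_one_gen (F := F) p e
  let f : F[X] := X ^ (n - e)
  have hf : f.Monic := monic_X_pow _
  let pb := AdjoinRoot.powerBasis' hf
  have hfinS : Module.finrank F (AdjoinRoot f) = n - e := by rw [pb.finrank]; simp [pb, f]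
  have : FiniteDimensional F (AdjoinRoot f) := pb.finite
  have : Nontrivial (AdjoinRoot f) := AdjoinRoot.nontrivial f (by
    rw [degree_eq_natDegree hf.ne_zero]
    simp [f]
    omega)
  have : CharP (AdjoinRoot f) p :=
    charP_of_injective_algebraMap (algebraMap F (AdjoinRoot f)).injective p
  set t := Nat.clog p (n - e) with ht
  set u : AdjoinRoot f := 1 + AdjoinRoot.root f with hu
  have hpow : ∀ j, u ^ p ^ j = 1 ↔ n - e ≤ p ^ j := by
    intro j
    rw [hu, add_pow_char_pow, one_pow, add_eq_left, ← AdjoinRoot.mk_X, ← map_pow,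
      AdjoinRoot.mk_eq_zero]
    exact pow_dvd_pow_iff X_ne_zero not_isUnit_X
  have hlast : u ^ p ^ t = 1 :=
    (hpow t).2 (Nat.le_pow_clog (Fact.out : p.Prime).one_lt _)
  have hou : orderOf u = p ^ t := by
    rcases Nat.eq_zero_or_pos t with h0 | h0
    · rw [h0, pow_zero] at hlast ⊢
      rw [pow_one] at hlast
      rw [hlast, orderOf_one]
    · obtain ⟨t', ht'⟩ : ∃ t', t = t' + 1 := ⟨t - 1, by omega⟩
      rw [ht'] at hlast ⊢
      refine orderOf_eq_prime_pow ?_ hlast
      rw [hpow, not_le]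
      exact Nat.pow_lt_of_lt_clog (by omega)
  have hnu : Algebra.norm F u = 1 :=
    eq_one_of_pow_char_pow p (t := t) (by rw [← map_pow, hlast, map_one])
  have hfin : Module.finrank F (K × AdjoinRoot f) = n := by
    rw [Module.finrank_prod, FiniteField.finrank_extension, hfinS]
    omega
  have hnorm : Algebra.norm F (T, u) = 1 := by rw [norm_prod, hT1, hnu, one_mul]
  refine ⟨slOf hfin (T, u) hnorm,
    Algebra.leftMulMatrix (Module.finBasisOfFinrankEq F (K × AdjoinRoot f) hfin) (1, 0),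
    ?_, ?_, ?_, ?_, ?_⟩
  · rw [← map_mul]; simp
  · intro h
    have := Algebra.leftMulMatrix_injective _ (h.trans (map_zero _).symm)
    exact one_ne_zero (congrArg Prod.fst this)
  · intro h
    have := Algebra.leftMulMatrix_injective _ (h.trans (map_one _).symm)
    exact zero_ne_one (congrArg Prod.snd this)
  · exact (Commute.all _ _).map _
  · obtain ⟨c, hc⟩ := (toPSL_slOf_pow_eq_one_iff hfin (T, u) hnorm _).1
      (pow_orderOf_eq_one (toPSL (slOf hfin (T, u) hnorm)))
    set h := orderOf (toPSL (slOf hfin (T, u) hnorm))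
    have hcT : T ^ h = algebraMap F K c := congrArg Prod.fst hc
    have hcu : u ^ h = algebraMap F (AdjoinRoot f) c := congrArg Prod.snd hc
    have hc1 : c = 1 := by
      refine eq_one_of_pow_char_pow p (t := t) ((algebraMap F (AdjoinRoot f)).injective ?_)
      rw [map_pow, ← hcu, ← pow_mul, mul_comm, pow_mul, hlast, one_pow, map_one]
    rw [hc1, map_one] at hcT hcu
    refine Nat.Coprime.mul_dvd_of_dvd_of_dvd ((natCard_geom_pos p e).pow_right t) ?_ ?_
    · exact hT2 ▸ orderOf_dvd_of_pow_eq_one hcT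
    · exact hou ▸ orderOf_dvd_of_pow_eq_one hcu

include p in
/-- One element whose order is a multiple of the orders of all irreducible elements. -/
theorem exists_coxeter_element {n : ℕ} (hn : 0 < n) :
    ∃ y : Matrix.ProjectiveSpecialLinearGroup (Fin n) F,
      ∀ (A : Matrix.SpecialLinearGroup (Fin n) F) (f : F[X]), f.Monic → Irreducible f →
        f.natDegree = n → aeval (A : Matrix (Fin n) (Fin n) F) f = 0 →
          orderOf (toPSL A) ∣ orderOf y := by
  have : NeZero n := ⟨by omega⟩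
  set K := FiniteField.Extension F p n
  obtain ⟨T, hT1, -, hT3⟩ := exists_norm_one_gen (F := F) p n
  have hfin : Module.finrank F K = n := FiniteField.finrank_extension F p n
  refine ⟨toPSL (slOf hfin T hT1), fun A f hfm hf hd hA => ?_⟩
  obtain ⟨x, hx⟩ : ∃ x : K, aeval x f = 0 := by
    have : Fact (Irreducible f) := ⟨hf⟩
    have : Module.Finite F (AdjoinRoot f) := (AdjoinRoot.powerBasis hf.ne_zero).finite
    have : Finite (AdjoinRoot f) := Module.finite_of_finite F
    have hfd : Module.finrank F (AdjoinRoot f) = n := by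
      rw [(AdjoinRoot.powerBasis hf.ne_zero).finrank, AdjoinRoot.powerBasis_dim, hd]
    let ψ := FiniteField.algEquivExtension F p n (AdjoinRoot f) hfd
    exact ⟨ψ (AdjoinRoot.root f), by rw [aeval_algEquiv]; simp⟩
  have hnx : Algebra.norm F x = 1 := by
    set M := Algebra.leftMulMatrix (Module.finBasisOfFinrankEq F K hfin) x
    have hM : aeval M f = 0 := by rw [aeval_algHom_apply, hx, map_zero]
    rw [Algebra.norm_eq_matrix_det (Module.finBasisOfFinrankEq F K hfin)]
    show M.det = 1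
    rw [Matrix.det_eq_sign_charpoly_coeff, charpoly_eq_of_aeval hf hfm hd hn M hM,
      ← charpoly_eq_of_aeval hf hfm hd hn _ hA, ← Matrix.det_eq_sign_charpoly_coeff]
    exact A.2
  obtain ⟨i, hi⟩ := hT3 x hnx
  obtain ⟨c, hc⟩ := (toPSL_slOf_pow_eq_one_iff hfin T hT1 _).1
    (pow_orderOf_eq_one (toPSL (slOf hfin T hT1)))
  set h := orderOf (toPSL (slOf hfin T hT1))
  apply orderOf_dvd_of_pow_eq_one
  rw [toPSL_pow_eq_one_iff]
  refine ⟨c ^ i, ?_⟩
  have hdvd : f ∣ X ^ h - C (c ^ i) := by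
    rw [minpoly.eq_of_irreducible_of_monic hf hx hfm]
    refine minpoly.dvd F x ?_
    rw [map_sub, map_pow, aeval_X, aeval_C, hi, ← pow_mul, mul_comm, pow_mul, hc, map_pow, sub_self]
  obtain ⟨w, hw⟩ := hdvd
  have := congrArg (aeval (A : Matrix (Fin n) (Fin n) F)) hw
  rw [map_mul, hA, zero_mul, map_sub, map_pow, aeval_X, aeval_C, sub_eq_zero] at this
  exact this

/-- Order bound for an element with primary minimal polynomial. -/
theorem orderOf_primary_dvd {n : ℕ} (A : Matrix.SpecialLinearGroup (Fin n) F)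
    {f : F[X]} (hf : Irreducible f) (m s : ℕ) (hs : m ≤ p ^ s)
    (h : aeval (A : Matrix (Fin n) (Fin n) F) (f ^ m) = 0) :
    orderOf (toPSL A) ∣ (Nat.card F ^ f.natDegree - 1) / (Nat.card F - 1) * p ^ s := by
  apply orderOf_dvd_of_pow_eq_one
  rw [toPSL_pow_eq_one_iff]
  have : Fact (Irreducible f) := ⟨hf⟩
  have : Module.Finite F (AdjoinRoot f) := (AdjoinRoot.powerBasis hf.ne_zero).finite
  have : Finite (AdjoinRoot f) := Module.finite_of_finite F
  have hcard : Nat.card (AdjoinRoot f) = Nat.card F ^ f.natDegree := by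
    rw [Module.natCard_eq_pow_finrank (K := F), (AdjoinRoot.powerBasis hf.ne_zero).finrank,
      AdjoinRoot.powerBasis_dim]
  set c := Algebra.norm F (AdjoinRoot.root f) with hc
  have hdvd : f ∣ X ^ ((Nat.card F ^ f.natDegree - 1) / (Nat.card F - 1)) - C c := by
    rw [← AdjoinRoot.mk_eq_zero, map_sub, map_pow, AdjoinRoot.mk_X, AdjoinRoot.mk_C,
      ← AdjoinRoot.algebraMap_eq, hc, FiniteField.algebraMap_norm_eq_pow, hcard, sub_self]
  have h2 := (pow_dvd_pow f hs).trans (pow_dvd_pow_of_dvd hdvd (p ^ s))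
  rw [sub_pow_char_pow, ← pow_mul, ← C_pow] at h2
  refine ⟨c ^ p ^ s, ?_⟩
  obtain ⟨w, hw⟩ := (pow_dvd_pow_of_dvd hdvd (p ^ s))
  obtain ⟨v, hv⟩ := pow_dvd_pow f hs
  have h3 : aeval (A : Matrix (Fin n) (Fin n) F) (f ^ p ^ s) = 0 := by
    rw [hv, map_mul, h, zero_mul]
  obtain ⟨z, hz⟩ := pow_dvd_pow_of_dvd hdvd (p ^ s)
  have h4 := congrArg (aeval (A : Matrix (Fin n) (Fin n) F)) hz
  rw [sub_pow_char_pow, ← pow_mul, ← C_pow, map_mul, h3, zero_mul, map_sub, map_pow, aeval_X,
    aeval_C, sub_eq_zero] at h4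
  exact h4

end

end Cfsg.Agent.H55
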