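/-
Tools for prime graphs and spectra of PSL(n, q).
-/
import Cfsg.Agent.H55.PSLTorus
import Cfsg.Agent.Linear.Order

set_option autoImplicit false
set_option linter.unusedSectionVars false

namespace Cfsg.Agent.H55

open Polynomial Matrix

theorem mem_range_orderOf_of_dvd {A : Type*} [Group A] [Finite A] {a : A} {m : ℕ}
    (h : m ∣ orderOf a) : m ∈ Set.range (orderOf : A → ℕ) := by
  have h0 : 0 < orderOf a := orderOf_pos a
  have hm : m ≠ 0 := fun hm => h0.ne' (Nat.eq_zero_of_zero_dvd (hm ▸ h))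
  exact ⟨a ^ (orderOf a / m), by
    rw [orderOf_pow_of_dvd (Nat.div_ne_zero_iff.2 ⟨hm, Nat.le_of_dvd h0 h⟩) (Nat.div_dvd_of_dvd h),
      Nat.div_div_self h h0.ne']⟩

section

variable {F : Type*} [Field F] [Finite F] {n : ℕ}

theorem eq_one_of_pow_eq_one_of_coprime {x : F} {M : ℕ} (hcop : Nat.Coprime M (Nat.card F - 1))
    (hM : 0 < M) (h : x ^ M = 1) : x = 1 := by
  have hx : x ≠ 0 := by rintro rfl; rw [zero_pow hM.ne'] at h; exact zero_ne_one h
  have := Fintype.ofFinite F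
  have h2 : x ^ (Nat.card F - 1) = 1 := by
    rw [Nat.card_eq_fintype_card]; exact FiniteField.pow_card_sub_one_eq_one x hx
  have h3 := pow_gcd_eq_one.2 ⟨h, h2⟩
  rwa [hcop.gcd_eq_one, pow_one] at h3

/-- A unit of order `M` prime to `q - 1` in an algebra of dimension at most `n` gives an element of
PSL of order divisible by `M`. -/
theorem exists_psl_of_alg {R : Type*} [CommRing R] [Nontrivial R] [Algebra F R]
    [FiniteDimensional F R] (u : R) (hfin : Module.finrank F R ≤ n) {M : ℕ} (hM : 0 < M)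
    (hu : orderOf u = M) (hcop : Nat.Coprime M (Nat.card F - 1)) :
    ∃ y : Matrix.ProjectiveSpecialLinearGroup (Fin n) F, M ∣ orderOf y := by
  have hfin' : Module.finrank F (R × (Fin (n - Module.finrank F R) → F)) = n := by
    rw [Module.finrank_prod, Module.finrank_fin_fun]; omega
  set u' : R × (Fin (n - Module.finrank F R) → F) := (u, 1) with hu'
  have hpow : u' ^ M = 1 := by
    rw [hu', Prod.pow_mk, ← hu, pow_orderOf_eq_one, one_pow]; rfl
  have hnorm : Algebra.norm F u' = 1 :=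
    eq_one_of_pow_eq_one_of_coprime hcop hM (by rw [← map_pow, hpow, map_one])
  refine ⟨toPSL (slOf hfin' u' hnorm), ?_⟩
  obtain ⟨c, hc⟩ := (toPSL_slOf_pow_eq_one_iff hfin' u' hnorm _).1
    (pow_orderOf_eq_one (toPSL (slOf hfin' u' hnorm)))
  set h := orderOf (toPSL (slOf hfin' u' hnorm))
  have hc1 : c = 1 := by
    refine eq_one_of_pow_eq_one_of_coprime hcop hM ((algebraMap F R).injective ?_)
    have := congrArg Prod.fst hc
    rw [hu', Prod.pow_mk] at this
    change u ^ h = algebraMap F R c at this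
    rw [map_pow, ← this, ← pow_mul, mul_comm, pow_mul, ← hu, pow_orderOf_eq_one, one_pow, map_one]
  rw [hc1, map_one, hu', Prod.pow_mk] at hc
  exact hu ▸ orderOf_dvd_of_pow_eq_one (congrArg Prod.fst hc)

theorem exists_ext_elem (p : ℕ) [Fact p.Prime] [CharP F p] (e : ℕ) [NeZero e] {M : ℕ} (hM : 0 < M)
    (h : M ∣ Nat.card F ^ e - 1) : ∃ u : FiniteField.Extension F p e, orderOf u = M := by
  obtain ⟨g, hg⟩ := IsCyclic.exists_ofOrder_eq_natCard (α := (FiniteField.Extension F p e)ˣ)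
  rw [Nat.card_units, FiniteField.natCard_extension] at hg
  have h1 : 1 < Nat.card F ^ e := Nat.one_lt_pow (NeZero.ne e) Finite.one_lt_card
  refine ⟨((g ^ ((Nat.card F ^ e - 1) / M) : (FiniteField.Extension F p e)ˣ) :
    FiniteField.Extension F p e), ?_⟩
  rw [orderOf_units, orderOf_pow_of_dvd (Nat.div_ne_zero_iff.2 ⟨hM.ne', Nat.le_of_dvd (by omega) h⟩)
    (by rw [hg]; exact Nat.div_dvd_of_dvd h), hg, Nat.div_div_self h (by omega)]

/-- An element of order prime to `q - 1` has a lift of the same order killed by that order. -/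
theorem exists_lift (y : Matrix.ProjectiveSpecialLinearGroup (Fin n) F) {M : ℕ}
    (hn : 0 < n) (hy : orderOf y = M) (hcop : Nat.Coprime M (Nat.card F - 1)) :
    ∃ A : Matrix.SpecialLinearGroup (Fin n) F,
      orderOf (toPSL A) = M ∧ (A : Matrix (Fin n) (Fin n) F) ^ M = 1 := by
  obtain ⟨A, rfl⟩ := QuotientGroup.mk'_surjective _ y
  obtain ⟨c, hc⟩ := (toPSL_pow_eq_one_iff A M).1 (by rw [← hy]; exact pow_orderOf_eq_one _)
  have hc0 : c ≠ 0 := by
    rintro rfl
    have : Nonempty (Fin n) := ⟨⟨0, hn⟩⟩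
    have h1 := congrArg Matrix.det hc
    rw [Matrix.det_pow, A.2, one_pow, map_zero, Matrix.det_zero] at h1
    exact one_ne_zero h1
  have := Fintype.ofFinite F
  refine ⟨A ^ (Nat.card F - 1), ?_, ?_⟩
  · have hco : Nat.Coprime (orderOf (toPSL A)) (Nat.card F - 1) := by rw [hy]; exact hcop
    unfold toPSL at hco ⊢
    rw [map_pow, hco.orderOf_pow, hy]
  · rw [Matrix.SpecialLinearGroup.coe_pow, ← pow_mul, mul_comm, pow_mul, hc, ← map_pow,
      Nat.card_eq_fintype_card, FiniteField.pow_card_sub_one_eq_one c hc0, map_one]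

/-- If `A ^ (r * s) = 1`, `A ^ s ≠ 1`, some factor of the minimal polynomial has degree divisible
by the order of `q` modulo `r`. -/
theorem exists_factor (p : ℕ) [Fact p.Prime] [CharP F p] {r s : ℕ} (hr : r.Prime) (hrp : r ≠ p)
    (A : Matrix (Fin n) (Fin n) F) (hA : A ^ (r * s) = 1) (hs : A ^ s ≠ 1) :
    ∃ f : F[X], f.Monic ∧ Irreducible f ∧ f ∣ minpoly F A ∧ ¬ f ∣ X ^ s - 1 ∧
      orderOf ((Nat.card F : ℕ) : ZMod r) ∣ f.natDegree := by
  have hp1 : 1 < p := (Fact.out : p.Prime).one_lt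
  have hne : minpoly F A ≠ 0 := minpoly.ne_zero (Matrix.isIntegral A)
  obtain ⟨f, hfm, hf, hfμ, hfs⟩ : ∃ f : F[X], f.Monic ∧ Irreducible f ∧ f ∣ minpoly F A ∧
      ¬ f ∣ X ^ s - 1 := by
    by_contra hc
    push Not at hc
    set L := Nat.clog p (minpoly F A).natDegree
    have hd : minpoly F A ∣ (X ^ s - 1) ^ p ^ L := by
      refine dvd_pow_natDegree_of_factors (minpoly.monic (Matrix.isIntegral A))
        (Nat.le_pow_clog hp1 _) fun f hf hfd => ?_
      have hassoc : Associated (f * C f.leadingCoeff⁻¹) f :=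
        associated_mul_unit_left _ _
          (isUnit_C.2 (isUnit_iff_ne_zero.2 (inv_ne_zero (leadingCoeff_ne_zero.2 hf.ne_zero))))
      exact hassoc.dvd_iff_dvd_left.1 (hc _ (monic_mul_leadingCoeff_inv hf.ne_zero)
        (hassoc.irreducible_iff.2 hf) (hassoc.dvd_iff_dvd_left.2 hfd))
    rcases isEmpty_or_nonempty (Fin n) with he | hne'
    · exact hs (Subsingleton.elim _ _)
    obtain ⟨w, hw⟩ := hd
    have h1 := congrArg (aeval A) hw
    rw [map_mul, minpoly.aeval, zero_mul, sub_pow_char_pow, one_pow, ← pow_mul, map_sub, map_pow,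
      aeval_X, map_one, sub_eq_zero] at h1
    have h2 : (A ^ s) ^ r = 1 := by rw [← pow_mul, mul_comm, hA]
    have h3 : (A ^ s) ^ p ^ L = 1 := by rw [← pow_mul, h1]
    have h4 := pow_gcd_eq_one.2 ⟨h2, h3⟩
    have hco : Nat.Coprime r (p ^ L) :=
      Nat.Coprime.pow_right _ ((Nat.coprime_primes hr Fact.out).2 hrp)
    rw [hco.gcd_eq_one, pow_one] at h4
    exact hs h4
  refine ⟨f, hfm, hf, hfμ, hfs, ?_⟩
  have : Fact (Irreducible f) := ⟨hf⟩
  have : Module.Finite F (AdjoinRoot f) := (AdjoinRoot.powerBasis hf.ne_zero).finite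
  have : Finite (AdjoinRoot f) := Module.finite_of_finite F
  have hcard : Nat.card (AdjoinRoot f) = Nat.card F ^ f.natDegree := by
    rw [Module.natCard_eq_pow_finrank (K := F), (AdjoinRoot.powerBasis hf.ne_zero).finrank,
      AdjoinRoot.powerBasis_dim]
  have hroot : (AdjoinRoot.root f) ^ (r * s) = 1 := by
    have hd : minpoly F A ∣ X ^ (r * s) - 1 := minpoly.dvd F A (by simp [hA])
    have := AdjoinRoot.mk_eq_zero.2 (hfμ.trans hd)
    rwa [map_sub, map_pow, AdjoinRoot.mk_X, map_one, sub_eq_zero] at this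
  set y := (AdjoinRoot.root f) ^ s with hy
  have hy1 : y ≠ 1 := by
    intro h
    refine hfs (AdjoinRoot.mk_eq_zero.1 ?_)
    rw [map_sub, map_pow, AdjoinRoot.mk_X, map_one, ← hy, h, sub_self]
  have : Fact r.Prime := ⟨hr⟩
  have hyr : y ^ r = 1 := by rw [hy, ← pow_mul, mul_comm, hroot]
  have hord : orderOf y = r := orderOf_eq_prime hyr hy1
  have := Fintype.ofFinite (AdjoinRoot f)
  have hy0 : y ≠ 0 := by intro h; rw [h, zero_pow hr.ne_zero] at hyr; exact zero_ne_one hyr
  have h5 : r ∣ Nat.card F ^ f.natDegree - 1 := by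
    rw [← hord, ← hcard, Nat.card_eq_fintype_card]
    exact orderOf_dvd_of_pow_eq_one (FiniteField.pow_card_sub_one_eq_one y hy0)
  refine orderOf_dvd_of_pow_eq_one ?_
  have h6 := (ZMod.natCast_eq_zero_iff _ _).2 h5
  rwa [Nat.cast_sub (Nat.one_le_pow _ _ Nat.card_pos), sub_eq_zero, Nat.cast_pow, Nat.cast_one] at h6

theorem minpoly_natDegree_le (A : Matrix (Fin n) (Fin n) F) : (minpoly F A).natDegree ≤ n := by
  have h := natDegree_le_of_dvd (Matrix.minpoly_dvd_charpoly A) A.charpoly_monic.ne_zero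
  rwa [Matrix.charpoly_natDegree_eq_dim, Fintype.card_fin] at h

theorem natDegree_le_of_dvd_minpoly {A : Matrix (Fin n) (Fin n) F} {f : F[X]}
    (h : f ∣ minpoly F A) : f.natDegree ≤ n :=
  (natDegree_le_of_dvd h (minpoly.ne_zero (Matrix.isIntegral A))).trans (minpoly_natDegree_le A)

/-- A prime divisor of the group order other than `p` has small multiplicative order. -/
theorem ord_le_of_dvd_card (hn : 1 ≤ n) {s : ℕ} (hs : s.Prime) (hsq : ¬ s ∣ Nat.card F)
    (h : s ∣ Nat.card (Matrix.ProjectiveSpecialLinearGroup (Fin n) F)) :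
    0 < orderOf ((Nat.card F : ℕ) : ZMod s) ∧ orderOf ((Nat.card F : ℕ) : ZMod s) ≤ n := by
  have := Fintype.ofFinite F
  have h1 : s ∣ ∏ i : Fin n, (Fintype.card F ^ n - Fintype.card F ^ (i : ℕ)) := by
    rw [← Cfsg.Agent.Linear.card_PSL_mul n hn]
    exact Dvd.dvd.mul_left (Dvd.dvd.mul_left h _) _
  obtain ⟨i, -, hi⟩ := (Prime.dvd_finsetProd_iff hs.prime _).1 h1
  set q := Nat.card F with hq
  rw [← Nat.card_eq_fintype_card, ← hq] at hi
  have hin : (i : ℕ) < n := i.2
  have hsplit : q ^ n - q ^ (i : ℕ) = q ^ (i : ℕ) * (q ^ (n - (i : ℕ)) - 1) := by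
    rw [Nat.mul_sub, mul_one, ← pow_add, Nat.add_sub_cancel' hin.le]
  rw [hsplit] at hi
  have h2 : s ∣ q ^ (n - (i : ℕ)) - 1 :=
    (hs.dvd_mul.1 hi).resolve_left fun hd => hsq (hs.dvd_of_dvd_pow hd)
  have h6 := (ZMod.natCast_eq_zero_iff _ _).2 h2
  rw [Nat.cast_sub (Nat.one_le_pow _ _ Nat.card_pos), sub_eq_zero, Nat.cast_pow, Nat.cast_one] at h6
  have h3 := orderOf_dvd_of_pow_eq_one h6
  exact ⟨Nat.pos_of_dvd_of_pos h3 (by omega), (Nat.le_of_dvd (by omega) h3).trans (by omega)⟩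

theorem dvd_pow_sub_one_of_ord {r e : ℕ} (h : orderOf ((Nat.card F : ℕ) : ZMod r) ∣ e) :
    r ∣ Nat.card F ^ e - 1 := by
  rw [← ZMod.natCast_eq_zero_iff, Nat.cast_sub (Nat.one_le_pow _ _ Nat.card_pos), sub_eq_zero,
    Nat.cast_pow, Nat.cast_one]
  exact orderOf_dvd_iff_pow_eq_one.1 h

theorem ord_eq_one_iff {r : ℕ} : orderOf ((Nat.card F : ℕ) : ZMod r) = 1 ↔ r ∣ Nat.card F - 1 := by
  rw [orderOf_eq_one_iff, ← ZMod.natCast_eq_zero_iff, Nat.cast_sub Nat.card_pos, sub_eq_zero,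
    Nat.cast_one]

theorem coprime_of_two_le {r : ℕ} (hr : r.Prime) (h : 2 ≤ orderOf ((Nat.card F : ℕ) : ZMod r)) :
    Nat.Coprime r (Nat.card F - 1) :=
  hr.coprime_iff_not_dvd.2 fun hd => by rw [ord_eq_one_iff.2 hd] at h; omega

theorem not_dvd_card (p : ℕ) [Fact p.Prime] [CharP F p] {r : ℕ} (hr : r.Prime) (hrp : r ≠ p) :
    ¬ r ∣ Nat.card F := by
  cases nonempty_fintype F
  obtain ⟨k, -, hk⟩ := FiniteField.card F p
  rw [Nat.card_eq_fintype_card, hk]
  exact fun h => hrp ((Nat.prime_dvd_prime_iff_eq hr Fact.out).1 (hr.dvd_of_dvd_pow h))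

theorem char_coprime (p : ℕ) [Fact p.Prime] [CharP F p] : Nat.Coprime p (Nat.card F - 1) := by
  cases nonempty_fintype F
  obtain ⟨k, -, hk⟩ := FiniteField.card F p
  refine (Fact.out : p.Prime).coprime_iff_not_dvd.2 fun h => ?_
  rw [Nat.card_eq_fintype_card, hk] at h
  have h1 := Nat.dvd_sub (dvd_pow_self p k.ne_zero) h
  rw [Nat.sub_sub_self (Nat.one_le_pow _ _ (Fact.out : p.Prime).pos)] at h1
  exact (Fact.out : p.Prime).one_lt.ne' (Nat.dvd_one.1 h1)

theorem exists_const_of_pow_eq_one {K : Type*} [Field K] [Algebra F K] {x : K}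
    (h : x ^ (Nat.card F - 1) = 1) : ∃ c : F, x = algebraMap F K c := by
  classical
  have := Fintype.ofFinite F
  by_contra hc
  push Not at hc
  have hq : 1 < Nat.card F := Finite.one_lt_card
  set g : K[X] := X ^ Nat.card F - X with hg
  have hdeg : g.natDegree = Nat.card F := FiniteField.X_pow_card_sub_X_natDegree_eq K hq
  have hg0 : g ≠ 0 := FiniteField.X_pow_card_sub_X_ne_zero K hq
  have hsub : (insert x ((Finset.univ : Finset F).image (algebraMap F K))).val ⊆ g.roots := by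
    intro y hy
    rw [mem_roots hg0, IsRoot, hg, eval_sub, eval_pow, eval_X, sub_eq_zero]
    rcases Finset.mem_insert.1 hy with rfl | hy
    · conv_lhs => rw [show Nat.card F = Nat.card F - 1 + 1 by omega, pow_succ, h, one_mul]
    · obtain ⟨c, -, rfl⟩ := Finset.mem_image.1 hy
      rw [← map_pow, Nat.card_eq_fintype_card, FiniteField.pow_card]
  have hle := card_le_degree_of_subset_roots hsub
  rw [hdeg, Finset.card_insert_of_notMem (by simpa using fun c => (hc c).symm),
    Finset.card_image_of_injective _ (algebraMap F K).injective, Finset.card_univ,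
    ← Nat.card_eq_fintype_card] at hle
  omega

theorem root_pow_geom {f : F[X]} (hfm : f.Monic) (hf : Irreducible f) :
    AdjoinRoot.root f ^ ((Nat.card F ^ f.natDegree - 1) / (Nat.card F - 1)) =
      AdjoinRoot.of f ((-1) ^ f.natDegree * f.coeff 0) := by
  have : Fact (Irreducible f) := ⟨hf⟩
  have : Module.Finite F (AdjoinRoot f) := (AdjoinRoot.powerBasis hf.ne_zero).finite
  have : Finite (AdjoinRoot f) := Module.finite_of_finite F
  have hcard : Nat.card (AdjoinRoot f) = Nat.card F ^ f.natDegree := by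
    rw [Module.natCard_eq_pow_finrank (K := F), (AdjoinRoot.powerBasis hf.ne_zero).finrank,
      AdjoinRoot.powerBasis_dim]
  rw [← hcard, ← FiniteField.algebraMap_norm_eq_pow, ← AdjoinRoot.algebraMap_eq]
  congr 1
  have h := Algebra.PowerBasis.norm_gen_eq_coeff_zero_minpoly (AdjoinRoot.powerBasis hf.ne_zero)
  rw [AdjoinRoot.powerBasis_gen, AdjoinRoot.powerBasis_dim,
    AdjoinRoot.minpoly_root hf.ne_zero, hfm.leadingCoeff, inv_one, C_1, mul_one] at h
  exact h

theorem geom_gcd (n : ℕ) :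
    Nat.gcd ((Nat.card F ^ n - 1) / (Nat.card F - 1)) (Nat.card F - 1) =
      Nat.gcd n (Nat.card F - 1) := by
  have hq : 2 ≤ Nat.card F := Finite.one_lt_card
  rw [← Nat.geomSum_eq hq n]
  refine Nat.ModEq.gcd_eq ?_
  rw [← ZMod.natCast_eq_natCast_iff, Nat.cast_sum]
  have h1 : ((Nat.card F : ℕ) : ZMod (Nat.card F - 1)) = 1 := by
    have h2 : (((Nat.card F - 1 : ℕ) + 1 : ℕ) : ZMod (Nat.card F - 1)) = 1 := by
      rw [Nat.cast_add, ZMod.natCast_self, zero_add, Nat.cast_one]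
    rwa [Nat.sub_add_cancel (by omega : 1 ≤ Nat.card F)] at h2
  simp [h1]

/-- Order bound for elements with irreducible characteristic polynomial. -/
theorem orderOf_irreducible_dvd (hn : 0 < n) (A : Matrix.SpecialLinearGroup (Fin n) F) {f : F[X]}
    (hfm : f.Monic) (hf : Irreducible f) (hd : f.natDegree = n)
    (hA : aeval (A : Matrix (Fin n) (Fin n) F) f = 0) :
    orderOf (toPSL A) ∣ (Nat.card F ^ n - 1) / (Nat.card F - 1) / Nat.gcd n (Nat.card F - 1) := by
  have : Fact (Irreducible f) := ⟨hf⟩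
  set N := (Nat.card F ^ n - 1) / (Nat.card F - 1) with hN
  set d := Nat.gcd n (Nat.card F - 1) with hd'
  have hdN : d ∣ N := by
    rw [hd', ← geom_gcd (F := F) n]; exact Nat.gcd_dvd_left _ _
  set y := AdjoinRoot.root f ^ (N / d) with hy
  have hnorm : (-1 : F) ^ n * f.coeff 0 = 1 := by
    have h1 := Matrix.det_eq_sign_charpoly_coeff (A : Matrix (Fin n) (Fin n) F)
    rw [A.2, charpoly_eq_of_aeval hf hfm hd hn _ hA, Fintype.card_fin] at h1
    exact h1.symm
  have hyd : y ^ d = 1 := by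
    rw [hy, ← pow_mul, Nat.div_mul_cancel hdN, hN, ← hd, root_pow_geom hfm hf, hd, hnorm, map_one]
  obtain ⟨c, hc⟩ := exists_const_of_pow_eq_one (F := F) (x := y) (by
    obtain ⟨t, ht⟩ : d ∣ Nat.card F - 1 := Nat.gcd_dvd_right _ _
    rw [ht, pow_mul, hyd, one_pow])
  apply orderOf_dvd_of_pow_eq_one
  rw [toPSL_pow_eq_one_iff]
  refine ⟨c, ?_⟩
  have hdvd : f ∣ X ^ (N / d) - C c := by
    rw [← AdjoinRoot.mk_eq_zero, map_sub, map_pow, AdjoinRoot.mk_X, AdjoinRoot.mk_C, ← hy, hc,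
      AdjoinRoot.algebraMap_eq, sub_self]
  obtain ⟨w, hw⟩ := hdvd
  have := congrArg (aeval (A : Matrix (Fin n) (Fin n) F)) hw
  rw [map_mul, hA, zero_mul, map_sub, map_pow, aeval_X, aeval_C, sub_eq_zero] at this
  exact this

/-- The Coxeter torus in PSL. -/
theorem exists_singer (p : ℕ) [Fact p.Prime] [CharP F p] (hn : 0 < n) :
    ∃ y : Matrix.ProjectiveSpecialLinearGroup (Fin n) F,
      (Nat.card F ^ n - 1) / (Nat.card F - 1) / Nat.gcd n (Nat.card F - 1) ∣ orderOf y := by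
  have : NeZero n := ⟨by omega⟩
  obtain ⟨T, hT1, hT2, -⟩ := exists_norm_one_gen (F := F) p n
  have hfin : Module.finrank F (FiniteField.Extension F p n) = n :=
    FiniteField.finrank_extension F p n
  refine ⟨toPSL (slOf hfin T hT1), ?_⟩
  obtain ⟨c, hc⟩ := (toPSL_slOf_pow_eq_one_iff hfin T hT1 _).1
    (pow_orderOf_eq_one (toPSL (slOf hfin T hT1)))
  set j := orderOf (toPSL (slOf hfin T hT1))
  set N := (Nat.card F ^ n - 1) / (Nat.card F - 1)
  have hc0 : c ≠ 0 := by
    rintro rfl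
    have hT0 : T ≠ 0 := by
      rintro rfl
      rw [Algebra.norm_zero] at hT1
      exact zero_ne_one hT1
    rw [map_zero] at hc
    exact pow_ne_zero _ hT0 hc
  have hT3 : T ^ (j * (Nat.card F - 1)) = 1 := by
    have := Fintype.ofFinite F
    rw [pow_mul, hc, ← map_pow, Nat.card_eq_fintype_card,
      FiniteField.pow_card_sub_one_eq_one c hc0, map_one]
  have h2 := orderOf_dvd_of_pow_eq_one hT3
  rw [hT2] at h2
  have h3 : N ∣ j * Nat.gcd N (Nat.card F - 1) := by
    rw [← Nat.gcd_mul_left]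
    exact Nat.dvd_gcd (dvd_mul_left _ _) h2
  rw [geom_gcd] at h3
  refine (Nat.div_dvd_iff_dvd_mul ?_ (Nat.gcd_pos_of_pos_left _ hn)).2 (by rwa [mul_comm])
  rw [← geom_gcd (F := F) n]
  exact Nat.gcd_dvd_left _ _

/-- A unipotent unit of an `m`-dimensional local algebra. -/
theorem exists_unipotent_unit (p : ℕ) [Fact p.Prime] [CharP F p] {m : ℕ} (hm : 1 ≤ m) :
    ∃ u : AdjoinRoot (X ^ m : F[X]), Algebra.norm F u = 1 ∧
      ∀ (h : ℕ) (c : F), u ^ h = algebraMap F _ c → c = 1 ∧ p ^ Nat.clog p m ∣ h := by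
  set f : F[X] := X ^ m with hfdef
  have hf : f.Monic := monic_X_pow _
  have : FiniteDimensional F (AdjoinRoot f) := (AdjoinRoot.powerBasis' hf).finite
  have : Nontrivial (AdjoinRoot f) := AdjoinRoot.nontrivial f (by
    rw [degree_eq_natDegree hf.ne_zero]
    simp [f]
    omega)
  have : CharP (AdjoinRoot f) p :=
    charP_of_injective_algebraMap (algebraMap F (AdjoinRoot f)).injective p
  set t := Nat.clog p m with ht
  set u : AdjoinRoot f := 1 + AdjoinRoot.root f with hu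
  have hpow : ∀ j, u ^ p ^ j = 1 ↔ m ≤ p ^ j := by
    intro j
    rw [hu, add_pow_char_pow, one_pow, add_eq_left, ← AdjoinRoot.mk_X, ← map_pow,
      AdjoinRoot.mk_eq_zero]
    exact pow_dvd_pow_iff X_ne_zero not_isUnit_X
  have hlast : u ^ p ^ t = 1 :=
    (hpow t).2 (Nat.le_pow_clog (Fact.out : p.Prime).one_lt _)
  have hou : orderOf u = p ^ t := by
    rcases Nat.eq_zero_or_pos t with h0 | h0
    · rw [h0, pow_zero] at hlast ⊢
      rw [pow_one] at hlast
      rw [hlast, orderOf_one]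
    · obtain ⟨t', ht'⟩ : ∃ t', t = t' + 1 := ⟨t - 1, by omega⟩
      rw [ht'] at hlast ⊢
      refine orderOf_eq_prime_pow ?_ hlast
      rw [hpow, not_le]
      exact Nat.pow_lt_of_lt_clog (by omega)
  refine ⟨u, eq_one_of_pow_char_pow p (t := t) (by rw [← map_pow, hlast, map_one]), fun h c hc => ?_⟩
  have hc1 : c = 1 := by
    refine eq_one_of_pow_char_pow p (t := t) ((algebraMap F (AdjoinRoot f)).injective ?_)
    rw [map_pow, ← hc, ← pow_mul, mul_comm, pow_mul, hlast, one_pow, map_one]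
  rw [hc1, map_one] at hc
  exact ⟨hc1, hou ▸ orderOf_dvd_of_pow_eq_one hc⟩

theorem finrank_unipotent_alg (m : ℕ) :
    Module.finrank F (AdjoinRoot (X ^ m : F[X])) = m := by
  rw [(AdjoinRoot.powerBasis' (monic_X_pow m : (X ^ m : F[X]).Monic)).finrank]
  simp

theorem finite_unipotent_alg (m : ℕ) : Module.Finite F (AdjoinRoot (X ^ m : F[X])) :=
  (AdjoinRoot.powerBasis' (monic_X_pow m : (X ^ m : F[X]).Monic)).finite

end

end Cfsg.Agent.H55
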