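/-
Elements of Sp(2n, q) from commutative algebras with involution: tori and unipotent blocks.
-/
import Cfsg.Agent.Symplectic.Std
import Cfsg.Agent.Symplectic.Center

set_option autoImplicit false

namespace Cfsg.Agent.H55

open Cfsg.Agent.Symplectic Polynomial
open scoped Matrix

variable {F : Type*} [Field F] {n : ℕ}

/-- The image in PSp. -/
abbrev toPSp (A : Matrix.symplecticGroup (Fin n) F) : Cfsg.PSp n F :=
  QuotientGroup.mk' (Subgroup.center (Matrix.symplecticGroup (Fin n) F)) A

theorem toPSp_pow_eq_one_iff (hn : 1 ≤ n) (A : Matrix.symplecticGroup (Fin n) F) (h : ℕ) :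
    toPSp A ^ h = 1 ↔ (A : Mat n F) ^ h = 1 ∨ (A : Mat n F) ^ h = -1 := by
  unfold toPSp
  rw [← map_pow, QuotientGroup.mk'_apply, QuotientGroup.eq_one_iff, Cfsg.Agent.Symplectic.mem_center_iff]
  constructor
  · rintro ⟨c, hc⟩
    have hc2 := scalar_sq hn _ hc
    have hm : ((A ^ h : Matrix.symplecticGroup (Fin n) F) : Mat n F) = c • 1 := by
      apply Matrix.ext_of_mulVec_single
      intro i
      rw [hc, Matrix.smul_mulVec, Matrix.one_mulVec]
    rw [SubmonoidClass.coe_pow] at hm
    rcases sq_eq_one_iff.1 hc2 with rfl | rfl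
    · exact Or.inl (by rw [hm, one_smul])
    · exact Or.inr (by rw [hm, neg_smul, one_smul])
  · rintro (e | e)
    · exact ⟨1, fun v => by rw [SubmonoidClass.coe_pow, e, one_smul, Matrix.one_mulVec]⟩
    · exact ⟨-1, fun v => by
        rw [SubmonoidClass.coe_pow, e, neg_smul, one_smul, Matrix.neg_mulVec, Matrix.one_mulVec]⟩

/-- An alternating, non-degenerate pairing `(a, b) ↦ φ (a * σ b)` on a commutative algebra. -/
structure SpAlg (F R : Type*) [Field F] [CommRing R] [Algebra F R] where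
  /-- the involution -/
  σ : R →ₐ[F] R
  /-- the functional -/
  φ : R →ₗ[F] F
  inv : ∀ a, σ (σ a) = a
  odd : ∀ a, φ (σ a) = -φ a
  nondeg : ∀ a, (∀ b, φ (a * b) = 0) → a = 0

/-- The product of two such algebras. -/
def SpAlg.prod {R S : Type*} [CommRing R] [Algebra F R] [CommRing S] [Algebra F S]
    (P : SpAlg F R) (Q : SpAlg F S) : SpAlg F (R × S) where
  σ := (P.σ.comp (AlgHom.fst F R S)).prod (Q.σ.comp (AlgHom.snd F R S))
  φ := P.φ.comp (LinearMap.fst F R S) + Q.φ.comp (LinearMap.snd F R S)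
  inv a := by
    obtain ⟨a, b⟩ := a
    simp [P.inv, Q.inv]
  odd a := by
    obtain ⟨a, b⟩ := a
    simp only [LinearMap.add_apply, LinearMap.comp_apply, LinearMap.fst_apply, LinearMap.snd_apply,
      AlgHom.prod_apply, AlgHom.comp_apply, AlgHom.fst_apply, AlgHom.snd_apply, P.odd, Q.odd]
    ring
  nondeg := by
    rintro ⟨a, b⟩ h
    refine Prod.ext (P.nondeg a fun c => ?_) (Q.nondeg b fun c => ?_)
    · simpa using h (c, 0)
    · simpa using h (0, c)

/-- The algebra `S × S` with the swap. -/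
noncomputable def SpAlg.hyperbolic (K : Type*) [Field K] [Algebra F K] [FiniteDimensional F K]
    [Algebra.IsSeparable F K] : SpAlg F (K × K) where
  σ := (AlgHom.snd F K K).prod (AlgHom.fst F K K)
  φ := (Algebra.trace F K).comp (LinearMap.fst F K K) - (Algebra.trace F K).comp (LinearMap.snd F K K)
  inv a := rfl
  odd a := by simp
  nondeg := by
    rintro ⟨a, b⟩ h
    have key : ∀ x : K, (∀ c, Algebra.trace F K (x * c) = 0) → x = 0 := fun x hx =>
      (traceForm_nondegenerate F K).1 x (fun c => by rw [Algebra.traceForm_apply]; exact hx c)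
    exact Prod.ext (key a fun c => by simpa using h (c, 0)) (key b fun c => by simpa using h (0, c))

/-- A field with an involution, given a skew element. -/
noncomputable def SpAlg.field {K : Type*} [Field K] [Algebra F K] [FiniteDimensional F K]
    [Algebra.IsSeparable F K] (σ : K →ₐ[F] K) (hσ : ∀ a, σ (σ a) = a) (δ : K) (hδ : δ ≠ 0)
    (hδσ : σ δ = -δ) : SpAlg F K where
  σ := σ
  φ := (Algebra.trace F K).comp (LinearMap.mulLeft F δ)
  inv := hσ
  odd a := by
    let e : K ≃ₐ[F] K := AlgEquiv.ofAlgHom σ σ (AlgHom.ext hσ) (AlgHom.ext hσ)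
    have h := Algebra.trace_eq_of_algEquiv e (δ * σ a)
    simp only [LinearMap.comp_apply, LinearMap.mulLeft_apply]
    rw [← h]
    show Algebra.trace F K (σ (δ * σ a)) = _
    rw [map_mul, hσ, hδσ, neg_mul, map_neg]
  nondeg a h := by
    have : δ * a = 0 := (traceForm_nondegenerate F K).1 _ fun c => by
      rw [Algebra.traceForm_apply, mul_assoc]
      exact h c
    exact (mul_eq_zero.1 this).resolve_left hδ

/-- The pairing is alternating. -/
def SpAlg.Alt {R : Type*} [CommRing R] [Algebra F R] (P : SpAlg F R) : Prop :=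
  ∀ a, P.φ (a * P.σ a) = 0

theorem exists_spOf' {R : Type*} [CommRing R] [Algebra F R] [FiniteDimensional F R] (P : SpAlg F R)
    (hP : P.Alt)
    (hfin : Module.finrank F R = 2 * n) (u : R) (hu : u * P.σ u = 1) :
    ∃ g : Matrix.symplecticGroup (Fin n) F, ∀ h : ℕ,
      ((g : Mat n F) ^ h = 1 ↔ u ^ h = 1) ∧ ((g : Mat n F) ^ h = -1 ↔ u ^ h = -1) := by
  set B : LinearMap.BilinForm F R := (LinearMap.mul F R).compr₂ P.φ |>.compl₂ P.σ.toLinearMap with hB
  have hBa : ∀ a b, B a b = P.φ (a * P.σ b) := fun a b => rfl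
  have hswap : ∀ a b, B a b = - B b a := by
    intro a b
    rw [hBa, hBa, ← P.odd (b * P.σ a), map_mul P.σ, P.inv, mul_comm a]
  have halt : B.IsAlt := hP
  obtain ⟨m, k, b, ⟨hef, hee, hff⟩, hrad⟩ := exists_hyp_basis B halt
  have hk : k = 0 := by
    by_contra hk
    refine b.ne_zero (Sum.inr ⟨0, Nat.pos_of_ne_zero hk⟩) (P.nondeg _ fun c => ?_)
    have h := hrad ⟨0, Nat.pos_of_ne_zero hk⟩ (P.σ c)
    rwa [hBa, P.inv] at h
  subst hk
  have hm : m = n := by
    have h := Module.finrank_eq_card_basis b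
    simp [hfin] at h
    omega
  subst hm
  let b' : Module.Basis (Fin m ⊕ Fin m) F R :=
    b.reindex ((Equiv.sumEmpty (Fin m ⊕ Fin m) (Fin 0)).trans (Equiv.sumComm (Fin m) (Fin m)))
  let L : (Fin m ⊕ Fin m → F) ≃ₗ[F] R := b'.equivFun.symm
  have hLs : ∀ i, L (Pi.single i 1) = b' i := by
    intro i
    classical
    simp [L, Module.Basis.equivFun_symm_apply, Pi.single_apply]
  have hL : B.comp L.toLinearMap L.toLinearMap = spB m F := by
    refine LinearMap.BilinForm.ext_basis (Pi.basisFun F _) fun i j => ?_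
    rw [LinearMap.BilinForm.comp_apply, Pi.basisFun_apply, Pi.basisFun_apply, LinearEquiv.coe_coe,
      hLs, hLs, spB_single]
    rcases i with i | i <;> rcases j with j | j <;>
      simp [b', Matrix.J, hef, hee, hff, Matrix.one_apply]
    rw [hswap, hef]
    simp [eq_comm]
  have hunit : P.σ u * u = 1 := by rw [mul_comm, hu]
  let g0 : (Fin m ⊕ Fin m → F) ≃ₗ[F] (Fin m ⊕ Fin m → F) :=
    LinearEquiv.ofLinearMap (L.symm.toLinearMap ∘ₗ LinearMap.mulLeft F u ∘ₗ L.toLinearMap)
      (L.symm.toLinearMap ∘ₗ LinearMap.mulLeft F (P.σ u) ∘ₗ L.toLinearMap)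
      (LinearMap.ext fun v => by simp [← mul_assoc, hu])
      (LinearMap.ext fun v => by simp [← mul_assoc, hunit])
  have hg0 : g0 ∈ Isom (spB m F) := by
    rw [mem_isom]
    intro v w
    rw [← hL]
    show B (L (L.symm (u * L v))) (L (L.symm (u * L w))) = B (L v) (L w)
    rw [LinearEquiv.apply_symm_apply, LinearEquiv.apply_symm_apply, hBa, hBa, map_mul P.σ]
    congr 1
    linear_combination (L v * P.σ (L w)) * hu
  refine ⟨(spEquiv m F).symm ⟨g0, hg0⟩, fun h => ?_⟩
  set g := (spEquiv m F).symm ⟨g0, hg0⟩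
  have hpow : ∀ v, L (((g : Mat m F) ^ h) *ᵥ v) = u ^ h * L v := by
    induction h with
    | zero => simp
    | succ j ih =>
      intro v
      rw [pow_succ, ← Matrix.mulVec_mulVec, ih, spEquiv_symm_mulVec, pow_succ, mul_assoc]
      simp [g0]
  constructor <;> constructor <;> intro e
  · have := hpow (L.symm 1)
    rw [e, Matrix.one_mulVec, LinearEquiv.apply_symm_apply, mul_one] at this
    exact this.symm
  · apply Matrix.ext_of_mulVec_single
    intro i
    apply L.injective
    rw [hpow, e, one_mul, Matrix.one_mulVec]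
  · have := hpow (L.symm 1)
    rw [e, Matrix.neg_mulVec, Matrix.one_mulVec, map_neg, LinearEquiv.apply_symm_apply, mul_one] at this
    exact this.symm
  · apply Matrix.ext_of_mulVec_single
    intro i
    apply L.injective
    rw [hpow, e, neg_one_mul, Matrix.neg_mulVec, Matrix.one_mulVec, map_neg]

theorem exists_spOf {R : Type*} [CommRing R] [Algebra F R] [FiniteDimensional F R] (P : SpAlg F R)
    (h2 : (2 : F) ≠ 0)
    (hfin : Module.finrank F R = 2 * n) (u : R) (hu : u * P.σ u = 1) :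
    ∃ g : Matrix.symplecticGroup (Fin n) F, ∀ h : ℕ,
      ((g : Mat n F) ^ h = 1 ↔ u ^ h = 1) ∧ ((g : Mat n F) ^ h = -1 ↔ u ^ h = -1) := by
  refine exists_spOf' P (fun a => ?_) hfin u hu
  have h : P.σ (a * P.σ a) = a * P.σ a := by rw [map_mul, P.inv, mul_comm]
  have h1 := P.odd (a * P.σ a)
  rw [h] at h1
  exact (mul_eq_zero.1 (show (2 : F) * P.φ (a * P.σ a) = 0 by linear_combination h1)).resolve_left h2

/-- Truncated polynomials with `t ↦ -t`; contains a regular unipotent. -/
theorem exists_unipotent_alg (k : ℕ) (hk : 1 ≤ k) (p : ℕ) [Fact p.Prime] [CharP F p] (hp : p ≠ 2) :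
    ∃ (P : SpAlg F (AdjoinRoot ((X : F[X]) ^ (2 * k)))) (u : AdjoinRoot ((X : F[X]) ^ (2 * k))),
      u * P.σ u = 1 ∧ ∀ l : ℕ, u ^ p ^ l = 1 ↔ 2 * k ≤ p ^ l := by
  set f : F[X] := (X : F[X]) ^ (2 * k) with hf0
  have hf : f.Monic := monic_X_pow _
  let pb := AdjoinRoot.powerBasis' hf
  have hdim : pb.dim = 2 * k := by simp [pb, f]
  set t := AdjoinRoot.root f with ht
  have h2 : (2 : F) ≠ 0 := Ring.two_ne_zero (by rw [ringChar.eq F p]; exact hp)
  have hgen : pb.gen = t := rfl
  have ht0 : t ^ (2 * k) = 0 := by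
    rw [ht, ← AdjoinRoot.mk_X, ← map_pow, AdjoinRoot.mk_self]
  have hroot : aeval (-t) f = 0 := by
    simp only [f, map_pow, aeval_X]
    rw [neg_pow, ht0, mul_zero]
  let σ : AdjoinRoot f →ₐ[F] AdjoinRoot f := AdjoinRoot.liftAlgHom f (Algebra.ofId F _) (-t) hroot
  have hσt : σ t = -t := AdjoinRoot.liftAlgHom_root _ _ _ _
  have hσσ : ∀ a, σ (σ a) = a := fun a => by
    have : σ.comp σ = AlgHom.id F _ := AdjoinRoot.algHom_ext (by
      rw [AlgHom.comp_apply, ← ht, hσt, map_neg, hσt, neg_neg, AlgHom.id_apply])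
    exact AlgHom.congr_fun this a
  let last : Fin pb.dim := ⟨2 * k - 1, by omega⟩
  let φ : AdjoinRoot f →ₗ[F] F := pb.basis.coord last
  have hφpow : ∀ j, φ (t ^ j) = if j = 2 * k - 1 then 1 else 0 := by
    intro j
    by_cases hj : j < 2 * k
    · have : t ^ j = pb.basis ⟨j, by omega⟩ := by rw [pb.coe_basis, hgen]
      rw [this]
      show pb.basis.coord last _ = _
      rw [Module.Basis.coord_apply, Module.Basis.repr_self, Finsupp.single_apply]
      simp [last, Fin.ext_iff, eq_comm]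
    · have : t ^ j = 0 := by
        rw [show j = 2 * k + (j - 2 * k) by omega, pow_add, ht0, zero_mul]
      rw [this, map_zero, if_neg (by omega)]
  have hodd : ∀ a, φ (σ a) = -φ a := by
    intro a
    have : φ.comp σ.toLinearMap = -φ := pb.basis.ext fun i => by
      rw [LinearMap.comp_apply, AlgHom.toLinearMap_apply, LinearMap.neg_apply, pb.coe_basis]
      simp only [hgen, map_pow, hσt]
      by_cases h : (i : ℕ) = 2 * k - 1
      · rw [neg_pow, Odd.neg_one_pow ⟨k - 1, by omega⟩, neg_one_mul, map_neg]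
      · rw [neg_pow, hφpow, if_neg h, neg_zero]
        rcases neg_one_pow_eq_or (AdjoinRoot f) (i : ℕ) with e | e <;>
          rw [e] <;> simp [hφpow, h]
    exact LinearMap.congr_fun this a
  have hnd : ∀ a, (∀ b, φ (a * b) = 0) → a = 0 := by
    intro a ha
    apply pb.basis.repr.injective
    rw [map_zero]
    ext i
    rw [Finsupp.zero_apply]
    induction hi : (i : ℕ) using Nat.strong_induction_on generalizing i with
    | _ j ih =>
      have h := ha (t ^ (2 * k - 1 - j))
      rw [← pb.basis.sum_repr a, Finset.sum_mul, map_sum, Finset.sum_eq_single i] at h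
      · rw [Algebra.smul_mul_assoc, map_smul, pb.coe_basis] at h
        simp only [hgen] at h
        rw [← pow_add, hφpow, if_pos (by omega), smul_eq_mul, mul_one] at h
        exact h
      · intro i' _ hne
        rw [Algebra.smul_mul_assoc, map_smul, pb.coe_basis]
        simp only [hgen]
        rw [← pow_add, hφpow]
        by_cases hlt : (i' : ℕ) < j
        · rw [ih _ hlt i' rfl, zero_smul]
        · rw [if_neg (by
            have : (i' : ℕ) ≠ j := fun e => hne (Fin.ext (e.trans hi.symm))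
            have := i'.isLt
            omega), smul_zero]
      · simp
  let u' : (AdjoinRoot f)ˣ := (IsNilpotent.isUnit_one_sub ⟨2 * k, ht0⟩).unit
  have hu' : (u' : AdjoinRoot f) = 1 - t := IsUnit.unit_spec _
  refine ⟨⟨σ, φ, hσσ, hodd, hnd⟩, (1 + t) * ↑u'⁻¹, ?_, fun l => ?_⟩
  · show (1 + t) * ↑u'⁻¹ * σ ((1 + t) * ↑u'⁻¹) = 1
    have h1 : σ (1 + t) = u' := by rw [map_add, map_one, hσt, hu', sub_eq_add_neg]
    have h3 : σ (↑u'⁻¹) * (1 + t) = 1 := by
      have h := congrArg σ (u'.inv_mul)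
      rwa [map_mul, map_one, hu', map_sub, map_one, hσt, sub_neg_eq_add] at h
    rw [map_mul, h1]
    calc (1 + t) * ↑u'⁻¹ * ((u' : AdjoinRoot f) * σ ↑u'⁻¹)
        = (↑u'⁻¹ * (u' : AdjoinRoot f)) * (σ ↑u'⁻¹ * (1 + t)) := by ring
      _ = 1 := by rw [u'.inv_mul, h3, one_mul]
  · have hdeg : 0 < f.natDegree := by simp [f]; omega
    have : Nontrivial (AdjoinRoot f) := AdjoinRoot.nontrivial f (by
      rw [degree_eq_natDegree hf.ne_zero]; exact_mod_cast hdeg.ne')
    have : CharP (AdjoinRoot f) p :=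
      charP_of_injective_algebraMap (algebraMap F (AdjoinRoot f)).injective p
    rw [mul_pow, ← Units.val_pow_eq_pow_val, inv_pow, Units.mul_inv_eq_one, Units.val_pow_eq_pow_val,
      hu', add_pow_char_pow, sub_pow_char_pow, one_pow, ← sub_eq_zero,
      show 1 + t ^ p ^ l - (1 - t ^ p ^ l) = (2 : F) • t ^ p ^ l by rw [two_smul]; ring,
      smul_eq_zero_iff_right h2, ht, ← AdjoinRoot.mk_X, ← map_pow, AdjoinRoot.mk_eq_zero]
    exact pow_dvd_pow_iff X_ne_zero not_isUnit_X

end Cfsg.Agent.H55
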