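/-
Element orders of PSp(2n, q), q odd.
-/
import Cfsg.Agent.H55.SpTorus
import Cfsg.Agent.H55.AlgEmb

set_option autoImplicit false

namespace Cfsg.Agent.H55

open Cfsg.Agent.Symplectic Polynomial
open scoped Matrix

variable {F : Type*} [Field F] [Finite F] (p : ℕ) [Fact p.Prime] [CharP F p] {n : ℕ}

theorem two_ne_zero_of_char (hp : p ≠ 2) : (2 : F) ≠ 0 :=
  Ring.two_ne_zero (by rw [ringChar.eq F p]; exact hp)

include p in
theorem card_odd (hp : p ≠ 2) : p ∣ Nat.card F ∧ Nat.card F % 2 = 1 := by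
  have hpp : p.Prime := Fact.out
  cases nonempty_fintype F
  obtain ⟨k, -, hk⟩ := FiniteField.card F p
  rw [Nat.card_eq_fintype_card, hk]
  exact ⟨dvd_pow_self p k.ne_zero, Nat.odd_iff.1 ((hpp.odd_of_ne_two hp).pow)⟩

include p in
/-- The anisotropic torus algebra. -/
theorem exists_plus_alg (hp : p ≠ 2) (e : ℕ) (he : 1 ≤ e) [NeZero (2 * e)] :
    ∃ (P : SpAlg F (FiniteField.Extension F p (2 * e))) (w : FiniteField.Extension F p (2 * e)),
      w * P.σ w = 1 ∧ orderOf w = Nat.card F ^ e + 1 := by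
  cases nonempty_fintype F
  have : CharP F p := inferInstance
  set K := FiniteField.Extension F p (2 * e)
  have hK : Nat.card K = Nat.card F ^ (2 * e) := FiniteField.natCard_extension F p (2 * e)
  let σ : K ≃ₐ[F] K := FiniteField.Extension.frob F p (2 * e) ^ e
  have hσ : ∀ x, σ x = x ^ (Nat.card F ^ e) := fun x =>
    FiniteField.Extension.frob_iterate_apply F p (2 * e) e
  have hσσ : ∀ x, σ (σ x) = x := by
    intro x
    have : Fintype K := Fintype.ofFinite _
    rw [hσ, hσ, ← pow_mul, ← pow_add, ← two_mul, ← hK, Nat.card_eq_fintype_card, FiniteField.pow_card]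
  have hq : 1 < Nat.card F := Finite.one_lt_card
  have hqe : 1 < Nat.card F ^ e := Nat.one_lt_pow (by omega) hq
  have hNq : (Nat.card F ^ e - 1) * (Nat.card F ^ e + 1) = Nat.card F ^ (2 * e) - 1 := by
    rw [mul_comm, pow_mul']
    simpa using (Nat.sq_sub_sq (Nat.card F ^ e) 1).symm
  obtain ⟨g, hg⟩ := IsCyclic.exists_ofOrder_eq_natCard (α := Kˣ)
  rw [Nat.card_units, hK] at hg
  have hord : orderOf ((g : K) ^ (Nat.card F ^ e - 1)) = Nat.card F ^ e + 1 := by
    rw [orderOf_pow_of_dvd (by omega) (by rw [orderOf_units, hg, ← hNq]; exact dvd_mul_right _ _),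
      orderOf_units, hg, ← hNq, Nat.mul_div_cancel_left _ (by omega)]
  set δ := (g : K) - σ g with hδ
  have hδ0 : δ ≠ 0 := by
    intro h
    rw [hδ, sub_eq_zero, hσ, eq_comm, ← Nat.sub_add_cancel (show 1 ≤ Nat.card F ^ e by omega), pow_succ,
      mul_eq_right₀ g.ne_zero] at h
    rw [h, orderOf_one] at hord
    omega
  refine ⟨SpAlg.field σ.toAlgHom hσσ δ hδ0 ?_, (g : K) ^ (Nat.card F ^ e - 1), ?_, hord⟩
  · show σ δ = -δ
    rw [hδ, map_sub, hσσ, neg_sub]
  · show _ * σ _ = 1
    rw [hσ, ← pow_succ', ← hord, pow_orderOf_eq_one]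

include p in
/-- The split torus algebra. -/
theorem exists_minus_alg (e : ℕ) [NeZero e] :
    ∃ (P : SpAlg F (FiniteField.Extension F p e × FiniteField.Extension F p e))
      (w : FiniteField.Extension F p e × FiniteField.Extension F p e),
      w * P.σ w = 1 ∧ orderOf w = Nat.card F ^ e - 1 := by
  set K := FiniteField.Extension F p e
  obtain ⟨g, hg⟩ := IsCyclic.exists_ofOrder_eq_natCard (α := Kˣ)
  rw [Nat.card_units, FiniteField.natCard_extension] at hg
  refine ⟨SpAlg.hyperbolic K, ((g : K), ((g⁻¹ : Kˣ) : K)), ?_, ?_⟩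
  · show ((g : K), ((g⁻¹ : Kˣ) : K)) * (((g⁻¹ : Kˣ) : K), (g : K)) = 1
    simp
  · rw [Prod.orderOf, orderOf_units, orderOf_units, orderOf_inv, Nat.lcm_self, hg]

theorem half_dvd_orderOf {R : Type*} [CommRing R] [Algebra F R] [FiniteDimensional F R]
    (P : SpAlg F R) (h2 : (2 : F) ≠ 0) (hn : 1 ≤ n) (hfin : Module.finrank F R = 2 * n) (w : R)
    (hw : w * P.σ w = 1) (N : ℕ) (hN : orderOf w = N) (h2N : 2 ∣ N) :
    ∃ y : Cfsg.PSp n F, N / 2 ∣ orderOf y := by
  obtain ⟨g, hg⟩ := exists_spOf P h2 hfin w hw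
  refine ⟨toPSp g, ?_⟩
  have h := (toPSp_pow_eq_one_iff hn g _).1 (pow_orderOf_eq_one (toPSp g))
  have hpow : w ^ (orderOf (toPSp g) * 2) = 1 := by
    rw [pow_mul]
    rcases h with h | h
    · rw [((hg _).1).1 h, one_pow]
    · rw [((hg _).2).1 h, neg_one_sq]
  obtain ⟨c, rfl⟩ := h2N
  rw [Nat.mul_div_cancel_left _ two_pos]
  exact Nat.dvd_of_mul_dvd_mul_left two_pos (by
    rw [← hN, mul_comm 2 (orderOf _)]
    exact orderOf_dvd_of_pow_eq_one hpow)

theorem exists_block {R : Type*} [CommRing R] [Algebra F R] [FiniteDimensional F R] (P : SpAlg F R)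
    (hp : p ≠ 2) {e : ℕ} (hen : e < n) (hfin : Module.finrank F R = 2 * e) (w : R)
    (hw : w * P.σ w = 1) (N : ℕ) (hN : orderOf w = N) (hNp : Nat.Coprime N p) :
    ∃ y : Cfsg.PSp n F, N * p ^ Nat.clog p (2 * (n - e)) ∣ orderOf y := by
  have h2 := two_ne_zero_of_char (F := F) p hp
  obtain ⟨Q, u, hu, hpow⟩ := exists_unipotent_alg (F := F) (n - e) (by omega) p hp
  have hf : ((X : F[X]) ^ (2 * (n - e))).Monic := monic_X_pow _
  let pb := AdjoinRoot.powerBasis' hf
  have : FiniteDimensional F (AdjoinRoot ((X : F[X]) ^ (2 * (n - e)))) := pb.finite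
  have hfinS : Module.finrank F (AdjoinRoot ((X : F[X]) ^ (2 * (n - e)))) = 2 * (n - e) := by rw [pb.finrank]; simp [pb]
  have hfin' : Module.finrank F (R × AdjoinRoot ((X : F[X]) ^ (2 * (n - e)))) = 2 * n := by
    rw [Module.finrank_prod, hfin, hfinS]; omega
  have : Nontrivial (AdjoinRoot ((X : F[X]) ^ (2 * (n - e)))) := Module.nontrivial_of_finrank_pos (R := F) (by rw [hfinS]; omega)
  obtain ⟨g, hg⟩ := exists_spOf (P.prod Q) h2 hfin' (w, u) (by
    show (w * P.σ w, u * Q.σ u) = 1
    rw [hw, hu]; rfl)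
  refine ⟨toPSp g, ?_⟩
  set h := orderOf (toPSp g)
  set t := Nat.clog p (2 * (n - e))
  have hlast : u ^ p ^ t = 1 := (hpow t).2 (Nat.le_pow_clog (Fact.out : p.Prime).one_lt _)
  have hou : orderOf u = p ^ t := by
    obtain ⟨t', ht'⟩ : ∃ t', t = t' + 1 := ⟨t - 1, by
      have : 0 < t := Nat.clog_pos (Fact.out : p.Prime).one_lt (by omega)
      omega⟩
    rw [ht'] at hlast ⊢
    refine orderOf_eq_prime_pow ?_ hlast
    rw [hpow, not_le]
    exact Nat.pow_lt_of_lt_clog (by omega)
  have hcase : w ^ h = 1 ∧ u ^ h = 1 := by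
    rcases (toPSp_pow_eq_one_iff (by omega) g h).1 (pow_orderOf_eq_one _) with e1 | e1
    · have := ((hg h).1).1 e1
      exact ⟨congrArg Prod.fst this, congrArg Prod.snd this⟩
    · exfalso
      have e2 : u ^ h = -1 := congrArg Prod.snd (((hg h).2).1 e1)
      have e3 : (-1 : AdjoinRoot ((X : F[X]) ^ (2 * (n - e)))) ^ p ^ t = 1 := by
        rw [← e2, ← pow_mul u, mul_comm h, pow_mul u, hlast, one_pow]
      rw [((Fact.out : p.Prime).odd_of_ne_two hp).pow.neg_one_pow] at e3
      have e4 : (2 : F) • (1 : AdjoinRoot ((X : F[X]) ^ (2 * (n - e)))) = 0 := by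
        rw [two_smul]
        nth_rewrite 2 [← e3]
        rw [add_neg_cancel]
      exact h2 ((smul_eq_zero.1 e4).resolve_right one_ne_zero)
  refine Nat.Coprime.mul_dvd_of_dvd_of_dvd (hNp.pow_right t) ?_ ?_
  · exact hN ▸ orderOf_dvd_of_pow_eq_one hcase.1
  · exact hou ▸ orderOf_dvd_of_pow_eq_one hcase.2

include p in
theorem coprime_pm (hp : p ≠ 2) (e : ℕ) (he : 1 ≤ e) :
    Nat.Coprime (Nat.card F ^ e + 1) p ∧ Nat.Coprime (Nat.card F ^ e - 1) p ∧
      2 ∣ Nat.card F ^ e + 1 ∧ 2 ∣ Nat.card F ^ e - 1 := by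
  obtain ⟨hd, hodd⟩ := card_odd (F := F) p hp
  have hpp : p.Prime := Fact.out
  have hde : p ∣ Nat.card F ^ e := hd.trans (dvd_pow_self _ (by omega))
  have h1 : 1 ≤ Nat.card F ^ e := Nat.one_le_pow _ _ Nat.card_pos
  have hodde : Nat.card F ^ e % 2 = 1 := by simp [Nat.pow_mod, hodd]
  refine ⟨((Nat.Prime.coprime_iff_not_dvd hpp).2 fun h => ?_).symm,
    ((Nat.Prime.coprime_iff_not_dvd hpp).2 fun h => ?_).symm, by omega, by omega⟩
  · have := Nat.dvd_sub h hde
    rw [Nat.add_sub_cancel_left] at this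
    exact hpp.one_lt.ne' (Nat.dvd_one.1 this)
  · have := Nat.dvd_sub hde h
    rw [Nat.sub_sub_self h1] at this
    exact hpp.one_lt.ne' (Nat.dvd_one.1 this)

/-- `x` has an order dividing an even element order. -/
def EvenMult (d : ℕ) (n : ℕ) (F : Type*) [Field F] : Prop :=
  ∃ y : Cfsg.PSp n F, d ∣ orderOf y ∧ 2 ∣ orderOf y

include p in
theorem evenMult_block (hp : p ≠ 2) {e s : ℕ} (he : 1 ≤ e) (hen : e < n) (H : ℕ)
    (hH : 2 * H = Nat.card F ^ e + 1 ∨ 2 * H = Nat.card F ^ e - 1)
    (hs : s ≤ Nat.clog p (2 * (n - e))) : EvenMult (H * p ^ s) n F := by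
  obtain ⟨c1, c2, d1, d2⟩ := coprime_pm (F := F) p hp e he
  have hpow : p ^ s ∣ p ^ Nat.clog p (2 * (n - e)) := pow_dvd_pow p hs
  rcases hH with hH | hH
  · have : NeZero (2 * e) := ⟨by omega⟩
    obtain ⟨P, w, hw, hN⟩ := exists_plus_alg (F := F) p hp e he
    obtain ⟨y, hy⟩ := exists_block p P hp hen (FiniteField.finrank_extension F p (2 * e)) w hw _ hN c1
    exact ⟨y, (Nat.mul_dvd_mul (Dvd.intro_left 2 hH) hpow).trans hy, (d1.trans (dvd_mul_right _ _)).trans hy⟩
  · have : NeZero e := ⟨by omega⟩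
    obtain ⟨P, w, hw, hN⟩ := exists_minus_alg (F := F) p e
    obtain ⟨y, hy⟩ := exists_block p P hp hen (by
      rw [Module.finrank_prod, FiniteField.finrank_extension]; omega) w hw _ hN c2
    exact ⟨y, (Nat.mul_dvd_mul (Dvd.intro_left 2 hH) hpow).trans hy, (d2.trans (dvd_mul_right _ _)).trans hy⟩

include p in
/-- The two maximal tori of rank `n`. -/
theorem exists_coxeter_sp (hp : p ≠ 2) (hn : 1 ≤ n) :
    ∃ Y : Cfsg.PSp n F, ∀ H : ℕ, (2 * H = Nat.card F ^ n + 1 ∨ 2 * H = Nat.card F ^ n - 1) →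
      EvenMult H n F ∨ H ∣ orderOf Y := by
  obtain ⟨-, -, d1, d2⟩ := coprime_pm (F := F) p hp n hn
  have h2 := two_ne_zero_of_char (F := F) p hp
  have : NeZero (2 * n) := ⟨by omega⟩
  have : NeZero n := ⟨by omega⟩
  obtain ⟨P, w, hw, hN⟩ := exists_plus_alg (F := F) p hp n hn
  obtain ⟨yp, hyp⟩ := half_dvd_orderOf P h2 hn (FiniteField.finrank_extension F p (2 * n)) w hw _ hN d1
  obtain ⟨P', w', hw', hN'⟩ := exists_minus_alg (F := F) p n
  obtain ⟨ym, hym⟩ := half_dvd_orderOf P' h2 hn (by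
      rw [Module.finrank_prod, FiniteField.finrank_extension]; omega) w' hw' _ hN' d2
  have h1 : 1 ≤ Nat.card F ^ n := Nat.one_le_pow _ _ Nat.card_pos
  by_cases hev : 2 ∣ (Nat.card F ^ n + 1) / 2
  · refine ⟨ym, fun H hH => ?_⟩
    rcases hH with hH | hH
    · rw [show H = (Nat.card F ^ n + 1) / 2 by omega]
      exact Or.inl ⟨yp, hyp, hev.trans hyp⟩
    · rw [show H = (Nat.card F ^ n - 1) / 2 by omega]
      exact Or.inr hym
  · refine ⟨yp, fun H hH => ?_⟩
    rcases hH with hH | hH
    · rw [show H = (Nat.card F ^ n + 1) / 2 by omega]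
      exact Or.inr hyp
    · rw [show H = (Nat.card F ^ n - 1) / 2 by omega]
      exact Or.inl ⟨ym, hym, (show 2 ∣ (Nat.card F ^ n - 1) / 2 by omega).trans hym⟩

theorem transpose_aeval (A : Matrix.symplecticGroup (Fin n) F) (A' : Mat n F)
    (hA' : (A : Mat n F) * A' = 1) (s : F[X]) :
    Matrix.J (Fin n) F * (aeval (A : Mat n F) s)ᵀ = aeval A' s * Matrix.J (Fin n) F := by
  have hA'' : A' * (A : Mat n F) = 1 := mul_eq_one_comm.1 hA'
  have hgen : Matrix.J (Fin n) F * (A : Mat n F)ᵀ = A' * Matrix.J (Fin n) F := by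
    have h := SymplecticGroup.mem_iff.1 A.2
    calc _ = (A' * (A : Mat n F)) * (Matrix.J (Fin n) F * (A : Mat n F)ᵀ) := by rw [hA'', one_mul]
      _ = A' * ((A : Mat n F) * Matrix.J (Fin n) F * (A : Mat n F)ᵀ) := by simp only [mul_assoc]
      _ = _ := by rw [h]
  induction s using Polynomial.induction_on' with
  | add a b ha hb => rw [map_add, Matrix.transpose_add, mul_add, ha, hb, map_add, add_mul]
  | monomial k c =>
    rw [aeval_monomial, aeval_monomial, ← Algebra.smul_def, ← Algebra.smul_def, Matrix.transpose_smul,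
      Algebra.mul_smul_comm, Algebra.smul_mul_assoc, Matrix.transpose_pow]
    congr 1
    exact ((show SemiconjBy (Matrix.J (Fin n) F) (A : Mat n F)ᵀ A' from hgen).pow_right k).eq

/-- An element whose minimal polynomial is not of self-dual primary type commutes with an involution. -/
theorem evenMult_of_idempotent (hn : 1 ≤ n) (hp2 : (2 : F) ≠ 0) (A : Matrix.symplecticGroup (Fin n) F)
    (P : Mat n F) (hPP : P * P = P) (hJ : Matrix.J (Fin n) F * Pᵀ = P * Matrix.J (Fin n) F)
    (hP0 : P ≠ 0) (hP1 : P ≠ 1) (hcomm : Commute (A : Mat n F) P) :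
    EvenMult (orderOf (toPSp A)) n F := by
  by_cases hev : 2 ∣ orderOf (toPSp A)
  · exact ⟨toPSp A, dvd_rfl, hev⟩
  set Z : Mat n F := 1 - (2 : F) • P with hZ
  have hZZ : Z * Z = 1 := by
    rw [hZ]
    simp only [sub_mul, mul_sub, one_mul, mul_one, smul_mul_assoc, mul_smul_comm, hPP]
    simp only [two_smul]
    abel
  have hZsp : Z ∈ Matrix.symplecticGroup (Fin n) F := by
    rw [SymplecticGroup.mem_iff]
    have : Matrix.J (Fin n) F * Zᵀ = Z * Matrix.J (Fin n) F := by
      rw [hZ, Matrix.transpose_sub, Matrix.transpose_one, Matrix.transpose_smul, mul_sub, sub_mul,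
        Algebra.mul_smul_comm, Algebra.smul_mul_assoc, hJ, one_mul, mul_one]
    rw [mul_assoc, this, ← mul_assoc, hZZ, one_mul]
  let z : Matrix.symplecticGroup (Fin n) F := ⟨Z, hZsp⟩
  have hZA : Commute A z :=
    Subtype.ext (((Commute.one_right _).sub_right (hcomm.smul_right _))).eq
  have hz : orderOf (toPSp z) = 2 := by
    refine orderOf_eq_prime ((toPSp_pow_eq_one_iff hn z 2).2 (Or.inl (by rw [sq]; exact hZZ))) ?_
    intro h
    rcases (toPSp_pow_eq_one_iff hn z 1).1 (by rwa [pow_one]) with e | e <;> rw [pow_one] at e <;>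
      change (1 : Mat n F) - (2 : F) • P = _ at e
    · exact hP0 ((smul_eq_zero.1 (sub_eq_self.1 e)).resolve_left hp2)
    · apply hP1
      apply smul_right_injective (Mat n F) hp2
      show (2 : F) • P = (2 : F) • 1
      rw [two_smul F (1 : Mat n F), ← sub_eq_zero]
      calc (2 : F) • P - (1 + 1) = -((1 - (2 : F) • P) - -1) := by abel
        _ = 0 := by rw [e, sub_self, neg_zero]
  have hc : Commute (toPSp A) (toPSp z) := hZA.map _
  refine ⟨toPSp A * toPSp z, ?_⟩
  rw [hc.orderOf_mul_eq_mul_orderOf_of_coprime (by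
    rw [hz]; exact (Nat.prime_two.coprime_iff_not_dvd.2 hev).symm), hz]
  exact ⟨dvd_mul_right _ _, dvd_mul_left _ _⟩

include p in
theorem orderOf_dvd_of_poly (hn : 1 ≤ n) (A : Matrix.symplecticGroup (Fin n) F) (g : F[X]) (M s H : ℕ)
    (ε : F) (hε : ε = 1 ∨ ε = -1) (hs : M ≤ p ^ s) (hA : aeval (A : Mat n F) (g ^ M) = 0)
    (hg : g ∣ X ^ H - C ε) : orderOf (toPSp A) ∣ H * p ^ s := by
  apply orderOf_dvd_of_pow_eq_one
  rw [toPSp_pow_eq_one_iff hn]
  obtain ⟨v, hv⟩ := (pow_dvd_pow g hs).trans (pow_dvd_pow_of_dvd hg (p ^ s))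
  have h := congrArg (aeval (A : Mat n F)) hv
  rw [map_mul, hA, zero_mul, sub_pow_char_pow, ← pow_mul, ← C_pow, map_sub, map_pow, aeval_X, aeval_C,
    sub_eq_zero] at h
  rcases hε with rfl | rfl
  · exact Or.inl (by rw [h, one_pow, map_one])
  · rcases neg_one_pow_eq_or F (p ^ s) with e | e
    · exact Or.inl (by rw [h, e, map_one])
    · exact Or.inr (by rw [h, e, map_neg, map_one])

theorem exists_prime_factor_data (hp : p ≠ 2) (hn : 1 ≤ n) (A : Matrix.symplecticGroup (Fin n) F) :
    EvenMult (orderOf (toPSp A)) n F ∨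
    ∃ (g : F[X]) (M e H : ℕ) (ε : F), (ε = 1 ∨ ε = -1) ∧ aeval (A : Mat n F) (g ^ M) = 0 ∧
      g ∣ X ^ H - C ε ∧ 1 ≤ M ∧
      ((1 ≤ e ∧ (2 * H = Nat.card F ^ e + 1 ∨ 2 * H = Nat.card F ^ e - 1) ∧ e * (M + 1) ≤ 2 * n ∧
          (e = n → M = 1)) ∨
        (H = 1 ∧ M ≤ 2 * n)) := by
  classical
  have hp2 := two_ne_zero_of_char (F := F) p hp
  have : Nonempty (Fin n ⊕ Fin n) := ⟨Sum.inl ⟨0, by omega⟩⟩
  set AM : Mat n F := (A : Mat n F) with hAM
  set μ := minpoly F AM with hμ
  have hint : IsIntegral F AM := Matrix.isIntegral _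
  have hmon : μ.Monic := minpoly.monic hint
  have haev : ∀ s : F[X], aeval AM s = 0 ↔ μ ∣ s := fun s => (minpoly.dvd_iff).symm
  have hdet : IsUnit AM.det := SymplecticGroup.symplectic_det A.2
  have hX : ¬ X ∣ μ := by
    rintro ⟨h, hh⟩
    have h0 : aeval AM h = 0 := by
      have e := minpoly.aeval F AM
      rw [← hμ, hh, map_mul, aeval_X] at e
      calc aeval AM h = AM⁻¹ * (AM * aeval AM h) := by
            rw [← mul_assoc, Matrix.nonsing_inv_mul _ hdet, one_mul]
        _ = 0 := by rw [e, mul_zero]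
    have h1 := (haev h).1 h0
    have hne : h ≠ 0 := by
      rintro rfl
      rw [mul_zero] at hh
      exact hmon.ne_zero hh
    have hle := natDegree_le_of_dvd h1 hne
    rw [hh, natDegree_X_mul hne] at hle
    omega
  obtain ⟨a, b, hab⟩ := irreducible_X.coprime_iff_not_dvd.2 hX
  set A' : Mat n F := aeval AM a with hA'
  have hAA' : AM * A' = 1 := by
    have h := congrArg (aeval AM) hab
    rw [map_add, map_mul, map_mul, minpoly.aeval, mul_zero, add_zero, aeval_X, map_one] at h
    exact mul_eq_one_comm.1 h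
  have hcomp : ∀ s : F[X], aeval A' s = aeval AM (s.comp a) := fun s => by rw [aeval_comp]
  have htr : ∀ s : F[X], Matrix.J (Fin n) F * (aeval AM s)ᵀ = aeval AM (s.comp a) * Matrix.J (Fin n) F :=
    fun s => (transpose_aeval A A' hAA' s).trans (by rw [hcomp])
  have hμμ : μ ∣ μ.comp a := by
    rw [← haev]
    have h := htr μ
    rw [minpoly.aeval, Matrix.transpose_zero, mul_zero] at h
    have hu : IsUnit (Matrix.J (Fin n) F) := (Matrix.isUnit_iff_isUnit_det _).2 (Matrix.isUnit_det_J (Fin n) F)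
    exact hu.mul_left_eq_zero.1 h.symm
  obtain ⟨f, hfm, hf, hfμ⟩ := Polynomial.exists_monic_irreducible_factor μ (minpoly.not_isUnit F AM)
  have : Fact (Irreducible f) := ⟨hf⟩
  have : Module.Finite F (AdjoinRoot f) := (AdjoinRoot.powerBasis hf.ne_zero).finite
  have : Finite (AdjoinRoot f) := Module.finite_of_finite F
  set α := AdjoinRoot.root f with hα
  have hαf : aeval α f = 0 := by rw [hα, AdjoinRoot.aeval_eq, AdjoinRoot.mk_self]
  have hdvdα : ∀ s : F[X], aeval α s = 0 ↔ f ∣ s := fun s => by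
    rw [hα, AdjoinRoot.aeval_eq, AdjoinRoot.mk_eq_zero]
  have haα : aeval α a * α = 1 := by
    have h := congrArg (aeval α) hab
    rwa [map_add, map_mul, map_mul, (hdvdα μ).2 hfμ, mul_zero, add_zero, aeval_X, map_one] at h
  set β := aeval α a with hβ
  have hβμ : aeval β μ = 0 := by
    rw [hβ, ← aeval_comp]
    exact (hdvdα _).2 (hfμ.trans hμμ)
  have hintβ : IsIntegral F β := Algebra.IsIntegral.isIntegral β
  set f' := minpoly F β with hf'def
  have hf'm : f'.Monic := minpoly.monic hintβ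
  have hf' : Irreducible f' := minpoly.irreducible hintβ
  have hf'μ : f' ∣ μ := minpoly.dvd F β hβμ
  have haβ : aeval β a = α := by
    have h := congrArg (aeval β) hab
    rw [map_add, map_mul, map_mul, hβμ, mul_zero, add_zero, aeval_X, map_one] at h
    calc aeval β a = aeval β a * (β * α) := by rw [haα, mul_one]
      _ = α := by rw [← mul_assoc, h, one_mul]
  set g := if f' = f then f else f * f' with hgdef
  have hfg : f ∣ g := by rw [hgdef]; split_ifs <;> simp
  have hf'g : f' ∣ g := by rw [hgdef]; split_ifs with h <;> simp [h]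
  have hgdvd : ∀ s, f ∣ s → f' ∣ s → g ∣ s := by
    intro s h1 h2
    rw [hgdef]; split_ifs with h
    · exact h1
    · refine IsCoprime.mul_dvd ?_ h1 h2
      exact hf.coprime_iff_not_dvd.2 fun hd =>
        h (eq_of_monic_of_associated hfm hf'm (hf.associated_of_dvd hf' hd)).symm
  have hgμ : g ∣ μ := hgdvd μ hfμ hf'μ
  have hgga : g ∣ g.comp a := by
    refine hgdvd _ ((hdvdα _).1 ?_) (minpoly.dvd F β ?_)
    · rw [aeval_comp, ← hβ]
      obtain ⟨v, hv⟩ := hf'g
      rw [hv, map_mul, minpoly.aeval, zero_mul]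
    · rw [aeval_comp, haβ]
      exact (hdvdα g).2 hfg
  obtain ⟨G, rest, hGr, hGdvd, hrest⟩ : ∃ G rest : F[X], μ = G * rest ∧ G ∣ g ^ μ.natDegree ∧
      (IsUnit rest ∨ IsCoprime G rest ∧ ¬ IsUnit rest ∧ g ∣ G) := by
    by_cases hall : μ ∣ g ^ μ.natDegree
    · exact ⟨μ, 1, (mul_one _).symm, hall, Or.inl isUnit_one⟩
    · obtain ⟨i, r1, hr1, hμ1⟩ := WfDvdMonoid.max_power_factor hmon.ne_zero hf
      have hi : i ≤ μ.natDegree := by
        have h := natDegree_le_of_dvd (Dvd.intro r1 hμ1.symm) hmon.ne_zero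
        rw [natDegree_pow] at h
        calc i = i * 1 := (mul_one i).symm
          _ ≤ i * f.natDegree := Nat.mul_le_mul_left i hf.natDegree_pos
          _ ≤ _ := h
      have hipos : 1 ≤ i := by
        rcases Nat.eq_zero_or_pos i with rfl | h
        · rw [pow_zero, one_mul] at hμ1
          exact absurd (hμ1 ▸ hfμ) hr1
        · exact h
      by_cases hff : f' = f
      · have hg' : g = f := by rw [hgdef, if_pos hff]
        refine ⟨f ^ i, r1, hμ1, by rw [hg']; exact pow_dvd_pow f hi,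
          Or.inr ⟨(hf.coprime_iff_not_dvd.2 hr1).pow_left, fun hu => hall ?_, by
            rw [hg']; exact dvd_pow_self f (by omega)⟩⟩
        have : μ ∣ f ^ i := by
          rw [hμ1]
          exact hu.mul_right_dvd.2 dvd_rfl
        exact this.trans (by rw [hg']; exact pow_dvd_pow f hi)
      · have hco : IsCoprime f f' := hf.coprime_iff_not_dvd.2 fun hd =>
            hff (eq_of_monic_of_associated hfm hf'm (hf.associated_of_dvd hf' hd)).symm
        have hr1ne : r1 ≠ 0 := fun h => hmon.ne_zero (by rw [hμ1, h, mul_zero])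
        obtain ⟨j, r2, hr2, hμ2⟩ := WfDvdMonoid.max_power_factor hr1ne hf'
        have hj : j ≤ μ.natDegree := by
          have h := natDegree_le_of_dvd (show f' ^ j ∣ μ from
            (Dvd.intro r2 hμ2.symm).trans (Dvd.intro_left (f ^ i) hμ1.symm)) hmon.ne_zero
          rw [natDegree_pow] at h
          calc j = j * 1 := (mul_one j).symm
            _ ≤ j * f'.natDegree := Nat.mul_le_mul_left j hf'.natDegree_pos
            _ ≤ _ := h
        have hjpos : 1 ≤ j := by
          rcases Nat.eq_zero_or_pos j with rfl | h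
          · rw [pow_zero, one_mul] at hμ2
            exact absurd (hμ2 ▸ ((hco.symm.pow_right (n := i)).dvd_of_dvd_mul_left (hμ1 ▸ hf'μ))) hr2
          · exact h
        have hg' : g = f * f' := by rw [hgdef, if_neg hff]
        have hG : f ^ i * f' ^ j ∣ g ^ μ.natDegree := by
          rw [hg', mul_pow]; exact mul_dvd_mul (pow_dvd_pow f hi) (pow_dvd_pow f' hj)
        refine ⟨f ^ i * f' ^ j, r2, by rw [hμ1, hμ2, mul_assoc], hG,
          Or.inr ⟨?_, fun hu => hall ?_, by
            rw [hg']; exact mul_dvd_mul (dvd_pow_self f (by omega)) (dvd_pow_self f' (by omega))⟩⟩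
        · refine IsCoprime.mul_left (hf.coprime_iff_not_dvd.2 fun hd => hr1 ?_).pow_left
            (hf'.coprime_iff_not_dvd.2 hr2).pow_left
          rw [hμ2]; exact hd.mul_left _
        · have : μ ∣ f ^ i * f' ^ j := by
            rw [hμ1, hμ2, ← mul_assoc]
            exact hu.mul_right_dvd.2 dvd_rfl
          exact this.trans hG
  rcases hrest with hu | ⟨hco, hnu, hgG⟩
  · -- the minimal polynomial divides a power of g
    right
    obtain ⟨M, hM, hMg⟩ : ∃ M, aeval AM (g ^ M) = 0 ∧ ∀ j < M, aeval AM (g ^ j) ≠ 0 := by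
      have hex : ∃ M, aeval AM (g ^ M) = 0 :=
        ⟨μ.natDegree, (haev _).2 (hGr.dvd.trans (hu.mul_right_dvd.2 hGdvd))⟩
      exact ⟨Nat.find hex, Nat.find_spec hex, fun j hj => Nat.find_min hex hj⟩
    have hM1 : 1 ≤ M := by
      rcases Nat.eq_zero_or_pos M with rfl | h
      · rw [pow_zero, map_one] at hM
        exact absurd hM one_ne_zero
      · exact h
    obtain ⟨M', rfl⟩ : ∃ M', M = M' + 1 := ⟨M - 1, by omega⟩
    -- some prime power of exponent M divides μ
    have hpowdvd : f ^ (M' + 1) ∣ μ ∨ f' ^ (M' + 1) ∣ μ := by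
      by_contra hne
      push Not at hne
      apply hMg M' (Nat.lt_succ_self _)
      rw [haev]
      have hμg : μ ∣ g ^ (M' + 1) := (haev _).1 hM
      rw [hgdef] at hμg ⊢
      split_ifs at hμg ⊢ with hff
      · obtain ⟨k, hk, hassoc⟩ := (dvd_prime_pow hf.prime _).1 hμg
        have hkM : k ≤ M' := by
          by_contra h
          exact hne.1 ((pow_dvd_pow f (show M' + 1 ≤ k by omega)).trans hassoc.symm.dvd)
        exact hassoc.dvd.trans (pow_dvd_pow f hkM)
      · obtain ⟨i, r1, hr1, hμ1⟩ := WfDvdMonoid.max_power_factor hmon.ne_zero hf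
        have hiM : i ≤ M' := by
          by_contra h
          exact hne.1 ((pow_dvd_pow f (show M' + 1 ≤ i by omega)).trans (Dvd.intro r1 hμ1.symm))
        have hr1' : r1 ∣ f' ^ (M' + 1) := by
          rw [mul_pow] at hμg
          exact ((hf.coprime_iff_not_dvd.2 hr1).symm.pow_right).dvd_of_dvd_mul_left
            ((Dvd.intro_left (f ^ i) hμ1.symm).trans hμg)
        obtain ⟨k, hk, hassoc⟩ := (dvd_prime_pow hf'.prime _).1 hr1'
        have hkM : k ≤ M' := by
          by_contra h
          exact hne.2 ((pow_dvd_pow f' (show M' + 1 ≤ k by omega)).trans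
            (hassoc.symm.dvd.trans (Dvd.intro_left (f ^ i) hμ1.symm)))
        rw [hμ1, mul_pow]
        exact mul_dvd_mul (pow_dvd_pow f hiM) (hassoc.dvd.trans (pow_dvd_pow f' hkM))
    have hdeg : μ.natDegree ≤ 2 * n := by
      have h : μ.natDegree ≤ AM.charpoly.natDegree :=
        natDegree_le_of_dvd (Matrix.minpoly_dvd_charpoly AM) AM.charpoly_monic.ne_zero
      rw [Matrix.charpoly_natDegree_eq_dim, Fintype.card_sum, Fintype.card_fin] at h
      omega
    by_cases hff : f' = f
    · have hgf : g = f := by rw [hgdef, if_pos hff]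
      have hfM : f ^ (M' + 1) ∣ μ := hpowdvd.elim id (fun h => hff ▸ h)
      have hdegM : f.natDegree * (M' + 1) ≤ 2 * n := by
        have h := natDegree_le_of_dvd hfM hmon.ne_zero
        rw [natDegree_pow, mul_comm] at h
        omega
      have hβf : aeval β f = 0 := by
        have h0 := minpoly.aeval F β
        rwa [← hf'def, hff] at h0
      let τ : AdjoinRoot f →ₐ[F] AdjoinRoot f := AdjoinRoot.liftAlgHom f (Algebra.ofId F _) β hβf
      have hτ : τ α = β := AdjoinRoot.liftAlgHom_root _ _ _ _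
      obtain ⟨i, hi⟩ := FiniteField.exists_forall_apply_eq_pow F p (AdjoinRoot f)
        (AlgEquiv.ofBijective τ ⟨τ.toRingHom.injective, Finite.injective_iff_surjective.1 τ.toRingHom.injective⟩)
      set d := f.natDegree with hd
      have hcardK : Nat.card (AdjoinRoot f) = Nat.card F ^ d := by
        rw [Module.natCard_eq_pow_finrank (K := F), (AdjoinRoot.powerBasis hf.ne_zero).finrank,
          AdjoinRoot.powerBasis_dim]
      have hper : ∀ (x : AdjoinRoot f) (c : ℕ), x ^ (Nat.card F ^ (d * c)) = x := by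
        intro x c
        have : Fintype (AdjoinRoot f) := Fintype.ofFinite _
        rw [pow_mul, ← hcardK, Nat.card_eq_fintype_card, FiniteField.pow_card_pow]
      set r := i % d with hr
      have hβr : β = α ^ (Nat.card F ^ r) := by
        rw [← hτ]
        have : τ α = α ^ (Nat.card F ^ i) := hi α
        rw [this, ← Nat.mod_add_div i d, pow_add, pow_mul, hper]
      have hαr : α ^ (Nat.card F ^ r + 1) = 1 := by rw [pow_succ, ← hβr, haα]
      have hαα : α ^ (Nat.card F ^ (2 * r)) = α := by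
        have h1 : β ^ (Nat.card F ^ r + 1) = 1 := by
          rw [eq_inv_of_mul_eq_one_left haα, inv_pow, hαr, inv_one]
        rw [two_mul, pow_add, pow_mul, ← hβr]
        rw [pow_succ] at h1
        calc β ^ Nat.card F ^ r = β ^ Nat.card F ^ r * (β * α) := by rw [haα, mul_one]
          _ = α := by rw [← mul_assoc, h1, one_mul]
      have hd2r : d ∣ 2 * r := hf.natDegree_dvd_of_dvd_X_pow_card_pow_sub_X ((hdvdα _).1 (by
        rw [map_sub, map_pow, aeval_X, hαα, sub_self]))
      have hrd : r < d := Nat.mod_lt _ hf.natDegree_pos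
      rcases Nat.eq_zero_or_pos r with hr0 | hrpos
      · rw [hr0, pow_zero] at hαr
        rcases mul_self_eq_one_iff.1 (show α * α = 1 by rw [← sq]; exact hαr) with hα1 | hα1
        · exact ⟨g, M' + 1, 0, 1, 1, Or.inl rfl, hM, by
            rw [hgf, ← hdvdα]; simp [hα1], hM1, Or.inr ⟨rfl, (Nat.le_mul_of_pos_left _ hf.natDegree_pos).trans hdegM⟩⟩
        · exact ⟨g, M' + 1, 0, 1, -1, Or.inr rfl, hM, by
            rw [hgf, ← hdvdα]; simp [hα1], hM1, Or.inr ⟨rfl, (Nat.le_mul_of_pos_left _ hf.natDegree_pos).trans hdegM⟩⟩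
      · have h2r : 2 * r = d := by
          obtain ⟨c, hc⟩ := hd2r
          rcases c with _ | _ | c
          · omega
          · omega
          · rw [Nat.mul_succ, Nat.mul_succ] at hc; omega
        obtain ⟨-, -, dd, -⟩ := coprime_pm (F := F) p hp r hrpos
        obtain ⟨H, hH⟩ := dd
        rw [← h2r] at hdegM
        rcases mul_self_eq_one_iff.1 (show α ^ H * α ^ H = 1 by rw [← pow_add, ← two_mul, ← hH, hαr]) with hεH | hεH
        · exact ⟨g, M' + 1, r, H, 1, Or.inl rfl, hM, by
            rw [hgf, ← hdvdα]; simp [hεH], hM1, Or.inl ⟨hrpos, Or.inl hH.symm, by nlinarith, fun h => by nlinarith⟩⟩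
        · exact ⟨g, M' + 1, r, H, -1, Or.inr rfl, hM, by
            rw [hgf, ← hdvdα]; simp [hεH], hM1, Or.inl ⟨hrpos, Or.inl hH.symm, by nlinarith, fun h => by nlinarith⟩⟩
    · have hgf : g = f * f' := by rw [hgdef, if_neg hff]
      have hco : IsCoprime f f' := hf.coprime_iff_not_dvd.2 fun hd =>
        hff (eq_of_monic_of_associated hfm hf'm (hf.associated_of_dvd hf' hd)).symm
      have hdd : f'.natDegree = f.natDegree := by
        have hgen : IntermediateField.adjoin F {β} = ⊤ := by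
          refine IntermediateField.toSubalgebra_injective ?_
          rw [IntermediateField.adjoin_simple_toSubalgebra_of_isAlgebraic hintβ.isAlgebraic, IntermediateField.top_toSubalgebra,
            eq_top_iff, ← AdjoinRoot.adjoinRoot_eq_top, Algebra.adjoin_le_iff, Set.singleton_subset_iff]
          show α ∈ Algebra.adjoin F {β}
          rw [← haβ]
          exact Algebra.adjoin_singleton_eq_range_aeval F β ▸ ⟨a, rfl⟩
        have h := IntermediateField.adjoin.finrank hintβ
        rw [hgen, IntermediateField.finrank_top', (AdjoinRoot.powerBasis hf.ne_zero).finrank,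
          AdjoinRoot.powerBasis_dim] at h
        exact h.symm
      set d := f.natDegree with hd
      have hdegM : d * (M' + 1 + 1) ≤ 2 * n := by
        refine le_trans ?_ hdeg
        rcases hpowdvd with hfM | hfM
        · have h := natDegree_le_of_dvd ((hco.pow_left (m := M' + 1)).mul_dvd hfM hf'μ) hmon.ne_zero
          rw [natDegree_mul (pow_ne_zero _ hf.ne_zero) hf'.ne_zero, natDegree_pow, hdd] at h
          rw [Nat.mul_succ, mul_comm]; exact h
        · have h := natDegree_le_of_dvd ((hco.pow_right (n := M' + 1)).mul_dvd hfμ hfM) hmon.ne_zero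
          rw [natDegree_mul hf.ne_zero (pow_ne_zero _ hf'.ne_zero), natDegree_pow, hdd] at h
          rw [Nat.mul_succ, mul_comm, add_comm]; exact h
      have hdpos : 1 ≤ d := hf.natDegree_pos
      obtain ⟨-, -, -, dd⟩ := coprime_pm (F := F) p hp d hdpos
      obtain ⟨H, hH⟩ := dd
      have hαq : α ^ (Nat.card F ^ d - 1) = 1 := by
        have hα0 : α ≠ 0 := fun h => by rw [h, mul_zero] at haα; exact zero_ne_one haα
        have : Fintype (AdjoinRoot f) := Fintype.ofFinite _
        have h := FiniteField.pow_card_sub_one_eq_one α hα0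
        rwa [← Nat.card_eq_fintype_card, Module.natCard_eq_pow_finrank (K := F),
          (AdjoinRoot.powerBasis hf.ne_zero).finrank, AdjoinRoot.powerBasis_dim] at h
      have hM1' : d = n → M' + 1 = 1 := fun h => by nlinarith
      rcases mul_self_eq_one_iff.1 (show α ^ H * α ^ H = 1 by rw [← pow_add, ← two_mul, ← hH, hαq]) with hεH | hεH
      all_goals
        have hβH : β ^ H = (α ^ H)⁻¹ := by rw [eq_inv_of_mul_eq_one_left haα, inv_pow]
        rw [hεH] at hβH
        simp at hβH
      · exact ⟨g, M' + 1, d, H, 1, Or.inl rfl, hM, hgdvd _ ((hdvdα _).1 (by simp [hεH]))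
          (minpoly.dvd F β (by simp [hβH])), hM1, Or.inl ⟨hdpos, Or.inr hH.symm, hdegM, hM1'⟩⟩
      · exact ⟨g, M' + 1, d, H, -1, Or.inr rfl, hM, hgdvd _ ((hdvdα _).1 (by simp [hεH]))
          (minpoly.dvd F β (by simp [hβH])), hM1, Or.inl ⟨hdpos, Or.inr hH.symm, hdegM, hM1'⟩⟩
  · left
    obtain ⟨c, d, hcd⟩ := hco
    set P := d * rest with hP
    have hPG : aeval AM (P * G) = 0 := (haev _).2 ⟨d, by rw [hP, hGr]; ring⟩
    have h1P : 1 - P = c * G := by rw [hP]; linear_combination -hcd
    have hidem : μ ∣ P * (1 - P) := (haev _).1 (by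
      rw [h1P, show P * (c * G) = c * (P * G) by ring, map_mul, hPG, mul_zero])
    have hGa : g ∣ G.comp a :=
      hgga.trans (by obtain ⟨v, hv⟩ := hgG; exact ⟨v.comp a, by rw [hv, mul_comp]⟩)
    have hk : μ ∣ P * (1 - P).comp a ^ μ.natDegree := by
      rw [h1P, mul_comp, mul_pow]
      exact ((haev _).1 hPG).trans (mul_dvd_mul_left P ((hGdvd.trans (pow_dvd_pow_of_dvd hGa _)).mul_left _))
    have hQ : μ ∣ (1 - P).comp a * (1 - (1 - P).comp a) := by
      refine hμμ.trans ?_
      obtain ⟨v, hv⟩ := hidem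
      refine ⟨v.comp a, ?_⟩
      have e : ((1 - P) * (1 - (1 - P))).comp a = (μ * v).comp a := by rw [← hv]; ring_nf
      simpa [mul_comp, sub_comp] using e
    have hpow : ∀ j, 1 ≤ j → μ ∣ (1 - P).comp a ^ j - (1 - P).comp a := by
      intro j hj
      induction j, hj using Nat.le_induction with
      | base => simp
      | succ j _ ih =>
        have e : (1 - P).comp a ^ (j + 1) - (1 - P).comp a =
            (1 - P).comp a * ((1 - P).comp a ^ j - (1 - P).comp a) - (1 - P).comp a * (1 - (1 - P).comp a) := by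
          ring
        rw [e]
        exact dvd_sub (ih.mul_left _) hQ
    have hdpos : 1 ≤ μ.natDegree := minpoly.natDegree_pos hint
    have hkey : μ ∣ P * (1 - P.comp a) := by
      have h := dvd_sub hk ((hpow _ hdpos).mul_left P)
      rwa [← mul_sub, sub_sub_cancel, sub_comp, one_comp] at h
    set PM := aeval AM P with hPM
    have hPP : PM * PM = PM := by
      have h := (haev _).2 hidem
      rw [map_mul, map_sub, map_one, ← hPM, mul_sub, mul_one, sub_eq_zero] at h
      exact h.symm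
    set PM' := aeval AM (P.comp a) with hPM'
    have h12 : PM = PM * PM' := by
      have h := (haev _).2 hkey
      rwa [map_mul, map_sub, map_one, ← hPM, ← hPM', mul_sub, mul_one, sub_eq_zero] at h
    have hJu : IsUnit (Matrix.J (Fin n) F) := (Matrix.isUnit_iff_isUnit_det _).2 (Matrix.isUnit_det_J (Fin n) F)
    have hcom : PM * PM' = PM' * PM := by rw [hPM, hPM', ← map_mul, ← map_mul, mul_comm]
    have h21 : aeval AM ((P.comp a).comp a) = PM := by
      have h2 : μ ∣ (P.comp a).comp a - P := by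
        have hX : μ ∣ a.comp a - X := by
          rw [← haev, map_sub, aeval_comp, aeval_X, sub_eq_zero]
          show aeval A' a = AM
          have h := congrArg (aeval A') hab
          rw [map_add, map_mul, map_mul, (show aeval A' μ = 0 by rw [hcomp]; exact (haev _).2 hμμ), mul_zero,
            add_zero, aeval_X, map_one] at h
          calc aeval A' a = aeval A' a * (A' * AM) := by rw [mul_eq_one_comm.1 hAA', mul_one]
            _ = AM := by rw [← mul_assoc, h, one_mul]
        rw [comp_assoc]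
        refine hX.trans ?_
        have h := sub_dvd_eval_sub (R := F[X]) (a.comp a) X (P.map C)
        rw [Polynomial.eval_map, Polynomial.eval_map] at h
        change _ ∣ P.comp (a.comp a) - P.comp X at h
        rwa [comp_X] at h
      exact sub_eq_zero.1 ((map_sub _ _ _).symm.trans ((haev _).2 h2))
    have h12' : PM' = PM' * PM := by
      apply hJu.mul_left_inj.1
      calc PM' * Matrix.J (Fin n) F = Matrix.J (Fin n) F * PMᵀ := (htr P).symm
        _ = Matrix.J (Fin n) F * (PM * PM')ᵀ := by rw [← h12]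
        _ = Matrix.J (Fin n) F * (PM')ᵀ * PMᵀ := by rw [Matrix.transpose_mul, mul_assoc]
        _ = aeval AM ((P.comp a).comp a) * Matrix.J (Fin n) F * PMᵀ := by rw [hPM', htr]
        _ = PM * (Matrix.J (Fin n) F * PMᵀ) := by rw [h21, mul_assoc]
        _ = PM * PM' * Matrix.J (Fin n) F := by rw [hPM, htr P, ← hPM', ← mul_assoc]
        _ = PM' * PM * Matrix.J (Fin n) F := by rw [hcom]
    have heq : PM = PM' := by rw [h12, hcom, ← h12']
    refine evenMult_of_idempotent hn hp2 A PM hPP ?_ ?_ ?_ ?_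
    · rw [hPM, htr P, ← hPM', ← heq, hPM]
    · intro h
      have hd : μ ∣ P := (haev P).1 h
      obtain ⟨v, hv⟩ := hd
      have h1 : G ∣ 1 := by
        have e : c * G + P = 1 := by rw [hP]; linear_combination hcd
        rw [← e, hv, hGr]
        exact dvd_add (dvd_mul_left G c) ((dvd_mul_right G rest).mul_right v)
      exact hf.not_isUnit (isUnit_of_dvd_one ((hfg.trans hgG).trans h1))
    · intro h
      have h1 : aeval AM (1 - P) = 0 := by rw [map_sub, map_one, ← hPM, h, sub_self]
      obtain ⟨v, hv⟩ := (haev _).1 h1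
      have e : rest ∣ 1 := by
        have e1 : (1 - P) + d * rest = 1 := by rw [hP]; ring
        rw [← e1, hv, hGr]
        exact dvd_add ((dvd_mul_left rest G).mul_right v) (dvd_mul_left rest d)
      exact hnu (isUnit_of_dvd_one e)
    · show Commute AM PM
      have h := (Commute.all (X : F[X]) P).map (aeval AM)
      simpa [hPM] using h

include p in
/-- Trichotomy for element orders of PSp(2n,q). -/
theorem psp_classify (hp : p ≠ 2) (hn : 2 ≤ n) :
    ∃ Y : Cfsg.PSp n F, (∃ y : Cfsg.PSp n F, 2 ∣ orderOf y) ∧ ∀ x : Cfsg.PSp n F,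
      EvenMult (orderOf x) n F ∨ orderOf x ∣ orderOf Y ∨
        ((∃ s : ℕ, orderOf x = p ^ s) ∧ ∃ j : ℕ, 2 * n - 1 = p ^ j) := by
  have hpp : p.Prime := Fact.out
  obtain ⟨Y, hY⟩ := exists_coxeter_sp (F := F) (n := n) p hp (by omega)
  obtain ⟨hpq, hodd⟩ := card_odd (F := F) p hp
  have hq1 : 1 < Nat.card F := Finite.one_lt_card
  obtain ⟨y0, -, hy0⟩ := evenMult_block (F := F) (n := n) p hp (e := 1) (s := 0) le_rfl (by omega)
    ((Nat.card F + 1) / 2) (Or.inl (by rw [pow_one]; omega)) (Nat.zero_le _)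
  refine ⟨Y, ⟨y0, hy0⟩, fun x => ?_⟩
  obtain ⟨A, rfl⟩ := QuotientGroup.mk'_surjective _ x
  rcases exists_prime_factor_data p hp (by omega) A with h | ⟨g, M, e, H, ε, hε, hA, hg, hM, hcase⟩
  · exact Or.inl h
  set s := Nat.clog p M with hs
  have hb := orderOf_dvd_of_poly p (by omega) A g M s H ε hε (Nat.le_pow_clog hpp.one_lt M) hA hg
  have hclog : ∀ K, 1 ≤ K → ¬ 2 ∣ p ^ K ∧ ¬ 2 ∣ p ^ (K - 1) := fun K _ => by
    constructor <;> exact fun h => by
      have := (hpp.odd_of_ne_two hp).pow (n := K)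
      have := (hpp.odd_of_ne_two hp).pow (n := K - 1)
      rw [Nat.odd_iff] at *
      omega
  rcases hcase with ⟨he, hH, hle, hone⟩ | ⟨rfl, hMn⟩
  · rcases eq_or_ne e n with rfl | hne
    · rw [hs, hone rfl, Nat.clog_one_right, pow_zero, mul_one] at hb
      rcases hY H hH with ⟨y, h1, h2⟩ | h1
      · exact Or.inl ⟨y, hb.trans h1, h2⟩
      · exact Or.inr (Or.inl (hb.trans h1))
    · have hlt : e < n := by
        by_contra h
        have : n * 2 < e * (M + 1) := by
          calc n * 2 < e * 2 := by omega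
            _ ≤ e * (M + 1) := Nat.mul_le_mul_left e (by omega)
        omega
      refine Or.inl (Exists.imp (fun y hy => ⟨hb.trans hy.1, hy.2⟩)
        (evenMult_block (F := F) p hp he hlt H hH ?_))
      rcases Nat.eq_zero_or_pos s with h0 | h0
      · omega
      by_contra hgt
      have h1 : Nat.clog p (2 * (n - e)) ≤ s - 1 := by omega
      have h2 := (Nat.clog_le_iff_le_pow hpp.one_lt).1 h1
      have h3 : p ^ (s - 1) < M := Nat.pow_lt_of_lt_clog (by omega)
      have h4 : (M + 1) + (e - 1) * 2 ≤ e * (M + 1) := by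
        obtain ⟨e', rfl⟩ : ∃ e', e = e' + 1 := ⟨e - 1, by omega⟩
        rw [add_mul, one_mul, Nat.add_sub_cancel]
        have := Nat.mul_le_mul_left e' (show 2 ≤ M + 1 by omega)
        omega
      have h5 := (hclog s (by omega)).2
      omega
  · rw [one_mul] at hb
    by_cases hst : s ≤ Nat.clog p (2 * (n - 1))
    · exact Or.inl (Exists.imp (fun y hy => ⟨(hb.trans (dvd_mul_left _ _)).trans hy.1, hy.2⟩)
        (evenMult_block (F := F) (n := n) p hp (e := 1) (s := s) le_rfl (by omega)
          ((Nat.card F + 1) / 2) (Or.inl (by rw [pow_one]; omega)) hst))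
    · right; right
      obtain ⟨i, -, hi⟩ := (Nat.dvd_prime_pow hpp).1 hb
      refine ⟨⟨i, hi⟩, s - 1, ?_⟩
      have h1 : Nat.clog p (2 * (n - 1)) ≤ s - 1 := by omega
      have h2 := (Nat.clog_le_iff_le_pow hpp.one_lt).1 h1
      have h3 : p ^ (s - 1) < M := Nat.pow_lt_of_lt_clog (by omega)
      have h5 := (hclog s (by omega)).2
      omega

end Cfsg.Agent.H55
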