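/-
Prime graph tools for PSp(2n, q), any characteristic.
-/
import Cfsg.Agent.H55.SpOrders
import Cfsg.Agent.H55.PSLPrimeGraph
import Cfsg.Agent.Symplectic.Order

set_option autoImplicit false
set_option linter.unusedSectionVars false

namespace Cfsg.Agent.H55

open Cfsg.Agent.Symplectic Polynomial
open scoped Matrix

section

variable {F : Type*} [Field F] {n : ℕ}

theorem SpAlg.Alt.prod {R S : Type*} [CommRing R] [Algebra F R] [CommRing S] [Algebra F S]
    {P : SpAlg F R} {Q : SpAlg F S} (hP : P.Alt) (hQ : Q.Alt) : (P.prod Q).Alt := by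
  rintro ⟨a, b⟩
  show P.φ (a * P.σ a) + Q.φ (b * Q.σ b) = 0
  rw [hP, hQ, add_zero]

theorem SpAlg.hyperbolic_alt (K : Type*) [Field K] [Algebra F K] [FiniteDimensional F K]
    [Algebra.IsSeparable F K] : (SpAlg.hyperbolic (F := F) K).Alt := by
  rintro ⟨a, b⟩
  show Algebra.trace F K (a * b) - Algebra.trace F K (b * a) = 0
  rw [mul_comm b a, sub_self]

/-- Hyperbolic padding. -/
noncomputable def SpAlg.pad (F : Type*) [Field F] (j : ℕ) :
    SpAlg F ((Fin j → F) × (Fin j → F)) where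
  σ := (AlgHom.snd F _ _).prod (AlgHom.fst F _ _)
  φ := (∑ i : Fin j, LinearMap.proj i).comp (LinearMap.fst F _ _) -
    (∑ i : Fin j, LinearMap.proj i).comp (LinearMap.snd F _ _)
  inv a := rfl
  odd a := by simp
  nondeg := by
    classical
    rintro ⟨a, b⟩ h
    refine Prod.ext (funext fun i => ?_) (funext fun i => ?_)
    · simpa [Pi.single_apply] using h (Pi.single i 1, 0)
    · simpa [Pi.single_apply] using h (0, Pi.single i 1)

theorem SpAlg.pad_alt (j : ℕ) : (SpAlg.pad F j).Alt := by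
  rintro ⟨a, b⟩
  simp [SpAlg.pad, mul_comm]

/-- The two-dimensional algebra with a transvection. -/
noncomputable def SpAlg.dual (F : Type*) [Field F] : SpAlg F (DualNumber F) where
  σ := TrivSqZeroExt.map (-LinearMap.id)
  φ := TrivSqZeroExt.sndHom F F
  inv a := by ext <;> simp
  odd a := by simp
  nondeg a h := by
    have h1 : a.fst = 0 := by simpa using h (TrivSqZeroExt.inr 1)
    have h2 : a.snd = 0 := by simpa [h1] using h 1
    ext <;> assumption

theorem SpAlg.dual_alt : (SpAlg.dual F).Alt := by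
  intro a
  simp [SpAlg.dual, mul_comm]

/-- Linear coordinates on dual numbers. -/
noncomputable def dualEquiv (F : Type*) [Field F] : DualNumber F ≃ₗ[F] F × F where
  toFun x := (x.fst, x.snd)
  invFun x := TrivSqZeroExt.inl x.1 + TrivSqZeroExt.inr x.2
  left_inv x := TrivSqZeroExt.inl_fst_add_inr_snd_eq x
  right_inv x := by ext <;> simp
  map_add' x y := by simp
  map_smul' c x := by simp

instance finiteDual : Module.Finite F (DualNumber F) := Module.Finite.equiv (dualEquiv F).symm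

theorem finrank_dual : Module.finrank F (DualNumber F) = 2 := by
  rw [(dualEquiv F).finrank_eq, Module.finrank_prod, Module.finrank_self]

theorem exists_dual_elem (p : ℕ) [Fact p.Prime] [CharP F p] :
    ∃ u : DualNumber F, u * (SpAlg.dual F).σ u = 1 ∧ orderOf u = p := by
  refine ⟨1 + DualNumber.eps, ?_, orderOf_eq_prime ?_ ?_⟩
  · ext <;> simp [SpAlg.dual]
  · ext
    · simp
    · simp
  · intro h
    simpa using congrArg TrivSqZeroExt.snd h

/-- A unit of order `M` in a symplectic algebra of dimension at most `2n` gives an element of PSp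
of order divisible by `M`. -/
theorem exists_psp_of_alg {R : Type*} [CommRing R] [Algebra F R] [FiniteDimensional F R]
    (P : SpAlg F R) (hP : P.Alt) {e M : ℕ} (hen : e ≤ n) (hn : 1 ≤ n)
    (hfin : Module.finrank F R = 2 * e) (u : R) (hu : u * P.σ u = 1) (hord : orderOf u = M)
    (hneg : Odd M ∨ (2 : F) = 0) : ∃ y : Cfsg.PSp n F, M ∣ orderOf y := by
  have hfin' : Module.finrank F (R × ((Fin (n - e) → F) × (Fin (n - e) → F))) = 2 * n := by
    rw [Module.finrank_prod, Module.finrank_prod, Module.finrank_fin_fun, hfin]; omega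
  obtain ⟨g, hg⟩ := exists_spOf' (P.prod (SpAlg.pad F (n - e))) (hP.prod (SpAlg.pad_alt _)) hfin'
    (u, 1) (by
      show (u * P.σ u, 1 * (SpAlg.pad F (n - e)).σ 1) = 1
      rw [hu, map_one, mul_one]; rfl)
  refine ⟨toPSp g, ?_⟩
  set h := orderOf (toPSp g)
  rw [← hord]
  apply orderOf_dvd_of_pow_eq_one
  rcases (toPSp_pow_eq_one_iff hn g h).1 (pow_orderOf_eq_one _) with e1 | e1
  · exact congrArg Prod.fst (((hg h).1).1 e1)
  · have e2 : u ^ h = -1 := congrArg Prod.fst (((hg h).2).1 e1)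
    rw [e2]
    rcases hneg with ho | h2
    · have e3 : (-1 : R) ^ M = 1 := by
        rw [← e2, ← pow_mul, mul_comm, pow_mul, ← hord, pow_orderOf_eq_one, one_pow]
      rwa [ho.neg_one_pow] at e3
    · have : (2 : R) = 0 := by rw [← map_ofNat (algebraMap F R), h2, map_zero]
      linear_combination -this

end

/-- `Sp(2e, q)` has a semisimple element of order `M` coming from a torus algebra. -/
def HasTorus (F : Type*) [Field F] (e M : ℕ) : Prop :=
  ∃ (R : Type) (_ : CommRing R) (_ : Algebra F R) (_ : FiniteDimensional F R) (P : SpAlg F R)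
    (u : R), P.Alt ∧ Module.finrank F R = 2 * e ∧ u * P.σ u = 1 ∧ orderOf u = M

section

variable {F : Type*} [Field F] {n : ℕ}

theorem HasTorus.prod {a b M N : ℕ} (h1 : HasTorus F a M) (h2 : HasTorus F b N) :
    HasTorus F (a + b) (Nat.lcm M N) := by
  obtain ⟨R, _, _, _, P, u, hP, hR, hu, hM⟩ := h1
  obtain ⟨S, _, _, _, Q, v, hQ, hS, hv, hN⟩ := h2
  refine ⟨R × S, inferInstance, inferInstance, inferInstance, P.prod Q, (u, v), hP.prod hQ,
    by rw [Module.finrank_prod, hR, hS]; ring, ?_, by rw [Prod.orderOf, hM, hN]⟩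
  show (u * P.σ u, v * Q.σ v) = 1
  rw [hu, hv]; rfl

theorem HasTorus.exists_psp {e M : ℕ} (h : HasTorus F e M) (hen : e ≤ n) (hn : 1 ≤ n)
    (hneg : Odd M ∨ (2 : F) = 0) : ∃ y : Cfsg.PSp n F, M ∣ orderOf y := by
  obtain ⟨R, _, _, _, P, u, hP, hR, hu, hM⟩ := h
  exact exists_psp_of_alg P hP hen hn hR u hu hM hneg

variable [Finite F] (p : ℕ) [Fact p.Prime] [CharP F p]

include p in
theorem hasTorus {e M : ℕ} (he : 1 ≤ e)
    (hM : M ∣ Nat.card F ^ e + 1 ∨ M ∣ Nat.card F ^ e - 1) : HasTorus F e M := by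
  cases nonempty_fintype F
  have hq : 1 < Nat.card F := Finite.one_lt_card
  have hqe : 1 < Nat.card F ^ e := Nat.one_lt_pow (by omega) hq
  have down : ∀ {R : Type} [CommRing R] (σ : R →+* R) (w : R) (N : ℕ), 0 < N → w * σ w = 1 →
      orderOf w = N → M ∣ N → ∃ u : R, u * σ u = 1 ∧ orderOf u = M := by
    intro R _ σ w N hN hw hord hd
    have hM0 : M ≠ 0 := fun h => hN.ne' (Nat.eq_zero_of_zero_dvd (h ▸ hd))
    refine ⟨w ^ (N / M), by rw [map_pow, ← mul_pow, hw, one_pow], ?_⟩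
    rw [orderOf_pow_of_dvd (Nat.div_ne_zero_iff.2 ⟨hM0, Nat.le_of_dvd hN hd⟩)
      (by rw [hord]; exact Nat.div_dvd_of_dvd hd), hord, Nat.div_div_self hd hN.ne']
  rcases hM with hM | hM
  · have : NeZero (2 * e) := ⟨by omega⟩
    set K := FiniteField.Extension F p (2 * e)
    have hK : Nat.card K = Nat.card F ^ (2 * e) := FiniteField.natCard_extension F p (2 * e)
    let σ : K ≃ₐ[F] K := FiniteField.Extension.frob F p (2 * e) ^ e
    have hσ : ∀ x, σ x = x ^ (Nat.card F ^ e) := fun x =>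
      FiniteField.Extension.frob_iterate_apply F p (2 * e) e
    have hσσ : ∀ x, σ (σ x) = x := by
      intro x
      have : Fintype K := Fintype.ofFinite _
      rw [hσ, hσ, ← pow_mul, ← pow_add, ← two_mul, ← hK, Nat.card_eq_fintype_card,
        FiniteField.pow_card]
    have hNq : (Nat.card F ^ e - 1) * (Nat.card F ^ e + 1) = Nat.card F ^ (2 * e) - 1 := by
      rw [mul_comm, pow_mul']
      simpa using (Nat.sq_sub_sq (Nat.card F ^ e) 1).symm
    obtain ⟨g, hg⟩ := IsCyclic.exists_ofOrder_eq_natCard (α := Kˣ)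
    rw [Nat.card_units, hK] at hg
    have hord : orderOf ((g : K) ^ (Nat.card F ^ e - 1)) = Nat.card F ^ e + 1 := by
      rw [orderOf_pow_of_dvd (by omega) (by rw [orderOf_units, hg, ← hNq]; exact dvd_mul_right _ _),
        orderOf_units, hg, ← hNq, Nat.mul_div_cancel_left _ (by omega)]
    set δ := (g : K) - σ g with hδ
    have hδ0 : δ ≠ 0 := by
      intro h
      rw [hδ, sub_eq_zero, hσ, eq_comm, ← Nat.sub_add_cancel (show 1 ≤ Nat.card F ^ e by omega),
        pow_succ, mul_eq_right₀ g.ne_zero] at h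
      rw [h, orderOf_one] at hord
      omega
    have hδσ : σ δ = -δ := by rw [hδ, map_sub, hσσ, neg_sub]
    let P : SpAlg F K := SpAlg.field σ.toAlgHom hσσ δ hδ0 hδσ
    have hP : P.Alt := by
      intro a
      show Algebra.trace F K (δ * (a * σ a)) = 0
      set x := δ * (a * σ a) with hx
      have hσx : σ x = -x := by rw [hx, map_mul, map_mul, hσσ, hδσ]; ring
      set c := (g : K) / δ with hc
      have hsum : c + σ c = 1 := by
        rw [hc, map_div₀, hδσ, div_neg, ← sub_eq_add_neg, ← sub_div, ← hδ, div_self hδ0]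
      have hdec : x = c * x - σ (c * x) := by
        rw [map_mul, hσx]
        linear_combination (-x) * hsum
      rw [hdec, map_sub, Algebra.trace_eq_of_algEquiv σ, sub_self]
    obtain ⟨u, hu1, hu2⟩ := down σ.toAlgHom.toRingHom ((g : K) ^ (Nat.card F ^ e - 1)) _
      (by omega) (by show _ * σ _ = 1; rw [hσ, ← pow_succ', ← hord, pow_orderOf_eq_one]) hord hM
    exact ⟨K, inferInstance, inferInstance, inferInstance, P, u, hP,
      FiniteField.finrank_extension F p (2 * e), hu1, hu2⟩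
  · have : NeZero e := ⟨by omega⟩
    obtain ⟨g, hg⟩ := IsCyclic.exists_ofOrder_eq_natCard (α := (FiniteField.Extension F p e)ˣ)
    rw [Nat.card_units, FiniteField.natCard_extension] at hg
    set K := FiniteField.Extension F p e
    obtain ⟨u, hu1, hu2⟩ := down (SpAlg.hyperbolic (F := F) K).σ.toRingHom
      (((g : K), ((g⁻¹ : Kˣ) : K))) (Nat.card F ^ e - 1) (by omega)
      (by show ((g : K), ((g⁻¹ : Kˣ) : K)) * (((g⁻¹ : Kˣ) : K), (g : K)) = 1; simp)
      (by rw [Prod.orderOf, orderOf_units, orderOf_units, orderOf_inv, Nat.lcm_self, hg]) hM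
    exact ⟨K × K, inferInstance, inferInstance, inferInstance, SpAlg.hyperbolic K, u,
      SpAlg.hyperbolic_alt K,
      by rw [Module.finrank_prod, FiniteField.finrank_extension]; ring, hu1, hu2⟩

/-- A lift of the same order. -/
theorem exists_lift_sp (hn : 1 ≤ n) (y : Cfsg.PSp n F) {M : ℕ} (hy : orderOf y = M)
    (hneg : Odd M ∨ (2 : F) = 0) :
    ∃ A : Matrix.symplecticGroup (Fin n) F, orderOf (toPSp A) = M ∧ (A : Mat n F) ^ M = 1 := by
  obtain ⟨A, rfl⟩ := QuotientGroup.mk'_surjective _ y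
  change orderOf (toPSp A) = M at hy
  have hA : (A : Mat n F) ^ M = 1 ∨ (A : Mat n F) ^ M = -1 :=
    (toPSp_pow_eq_one_iff hn A M).1 (by rw [← hy]; exact pow_orderOf_eq_one _)
  rcases hneg with ho | h2
  · refine ⟨A ^ 2, ?_, ?_⟩
    · have hco : Nat.Coprime (orderOf (toPSp A)) 2 := by rw [hy]; exact Nat.coprime_two_right.2 ho
      unfold toPSp at hco hy ⊢
      rw [map_pow, hco.orderOf_pow, hy]
    · rw [SubmonoidClass.coe_pow, ← pow_mul, mul_comm, pow_mul]
      rcases hA with h | h <;> rw [h]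
      · rw [one_pow]
      · rw [neg_one_sq]
  · refine ⟨A, hy, hA.elim id fun h => ?_⟩
    have : (2 : F) • (1 : Mat n F) = 0 := by rw [h2, zero_smul]
    rw [two_smul] at this
    rw [h, neg_eq_iff_add_eq_zero]
    exact this

/-- `ηk` is the dimension parameter of a prime with `ord = k`. -/
def IsEta (k η : ℕ) : Prop := (Odd k ∧ η = k) ∨ (Even k ∧ 2 * η = k)

theorem IsEta.le {k η : ℕ} (h : IsEta k η) : η ≤ k := by
  rcases h with ⟨-, rfl⟩ | ⟨-, h⟩ <;> omega

theorem IsEta.dvd_double {k η : ℕ} (h : IsEta k η) : k ∣ 2 * η := by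
  rcases h with ⟨-, rfl⟩ | ⟨-, h⟩
  · exact dvd_mul_left _ _
  · rw [h]

theorem IsEta.le_of_dvd {k η e : ℕ} (h : IsEta k η) (he : 0 < e) (hd : k ∣ 2 * e) : η ≤ e := by
  rcases h with ⟨ho, rfl⟩ | ⟨-, h⟩
  · exact Nat.le_of_dvd he ((Nat.coprime_two_right.2 ho).dvd_of_dvd_mul_left hd)
  · have := Nat.le_of_dvd (by omega) hd
    omega

theorem dvd_pow_sub_one_iff_ord {r j : ℕ} :
    r ∣ Nat.card F ^ j - 1 ↔ orderOf ((Nat.card F : ℕ) : ZMod r) ∣ j := by
  refine ⟨fun h => ?_, dvd_pow_sub_one_of_ord⟩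
  have h6 := (ZMod.natCast_eq_zero_iff _ _).2 h
  rw [Nat.cast_sub (Nat.one_le_pow _ _ Nat.card_pos), sub_eq_zero, Nat.cast_pow, Nat.cast_one] at h6
  exact orderOf_dvd_of_pow_eq_one h6

theorem not_dvd_both {r : ℕ} (hr : r.Prime) (hr2 : r ≠ 2) (e : ℕ)
    (h : r ∣ Nat.card F ^ e + 1) : ¬ r ∣ Nat.card F ^ e - 1 := by
  intro h'
  have h1 : r ∣ 2 := by
    have := Nat.dvd_sub h h'
    rwa [show Nat.card F ^ e + 1 - (Nat.card F ^ e - 1) = 2 by
      have : 1 ≤ Nat.card F ^ e := Nat.one_le_pow _ _ Nat.card_pos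
      omega] at this
  exact hr2 ((Nat.prime_dvd_prime_iff_eq hr Nat.prime_two).1 h1)

theorem sq_pow_sub_one (e : ℕ) :
    Nat.card F ^ (2 * e) - 1 = (Nat.card F ^ e + 1) * (Nat.card F ^ e - 1) := by
  rw [pow_mul']
  simpa using Nat.sq_sub_sq (Nat.card F ^ e) 1

/-- A prime dividing `q ^ e + 1`: `k` is even and `e` is an odd multiple of `η`. -/
theorem eta_of_dvd_plus {r k η e : ℕ} (hr : r.Prime) (hr2 : r ≠ 2)
    (hk : k = orderOf ((Nat.card F : ℕ) : ZMod r)) (hη : IsEta k η)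
    (h : r ∣ Nat.card F ^ e + 1) : 2 * η = k ∧ ∃ t, Odd t ∧ e = η * t := by
  have hne : ¬ k ∣ e := fun hd =>
    not_dvd_both hr hr2 e h (dvd_pow_sub_one_of_ord (hk ▸ hd))
  have hd : k ∣ 2 * e := by
    rw [hk, ← dvd_pow_sub_one_iff_ord, sq_pow_sub_one]
    exact h.mul_right _
  rcases hη with ⟨ho, rfl⟩ | ⟨-, hη⟩
  · exact absurd ((Nat.coprime_two_right.2 ho).dvd_of_dvd_mul_left hd) hne
  · refine ⟨hη, ?_⟩
    obtain ⟨t, ht⟩ := hd
    rw [← hη, mul_assoc] at ht
    have he : e = η * t := by omega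
    refine ⟨t, ?_, he⟩
    by_contra hc
    rw [Nat.not_odd_iff_even] at hc
    obtain ⟨u, rfl⟩ := hc
    exact hne ⟨u, by rw [he, ← hη]; ring⟩

theorem dvd_torus {r k η : ℕ} (hr : r.Prime) (hk : k = orderOf ((Nat.card F : ℕ) : ZMod r))
    (hη : IsEta k η) (hk0 : 0 < k) :
    (Odd k ∧ r ∣ Nat.card F ^ η - 1) ∨ (Even k ∧ r ∣ Nat.card F ^ η + 1) := by
  rcases hη with ⟨ho, rfl⟩ | ⟨he, hη⟩
  · exact Or.inl ⟨ho, dvd_pow_sub_one_of_ord (dvd_of_eq hk.symm)⟩
  · refine Or.inr ⟨he, ?_⟩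
    have h : r ∣ Nat.card F ^ (2 * η) - 1 := dvd_pow_sub_one_of_ord (by rw [hη, hk])
    rw [sq_pow_sub_one] at h
    refine (hr.dvd_mul.1 h).resolve_right fun h2 => ?_
    have := Nat.le_of_dvd (by omega) (hk ▸ dvd_pow_sub_one_iff_ord.1 h2)
    omega

include p in
theorem eta_le_of_dvd_card (hn : 1 ≤ n) {r k η : ℕ} (hr : r.Prime) (hrp : r ≠ p)
    (hk : k = orderOf ((Nat.card F : ℕ) : ZMod r)) (hη : IsEta k η)
    (h : r ∣ Nat.card (Cfsg.PSp n F)) : 0 < k ∧ 0 < η ∧ η ≤ n := by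
  have := Fintype.ofFinite F
  have h1 : r ∣ Fintype.card F ^ (n ^ 2) *
      ∏ i ∈ Finset.range n, (Fintype.card F ^ (2 * (i + 1)) - 1) := by
    rw [← card_psp_mul n F hn]; exact h.mul_right _
  rcases hr.dvd_mul.1 h1 with h2 | h2
  · exact absurd (hr.dvd_of_dvd_pow h2) (by
      rw [← Nat.card_eq_fintype_card]; exact not_dvd_card p hr hrp)
  obtain ⟨i, hi, hd⟩ := (Prime.dvd_finsetProd_iff hr.prime _).1 h2
  rw [Finset.mem_range] at hi
  rw [← Nat.card_eq_fintype_card] at hd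
  have h3 : k ∣ 2 * (i + 1) := hk ▸ dvd_pow_sub_one_iff_ord.1 hd
  have hk0 : 0 < k := Nat.pos_of_dvd_of_pos h3 (by omega)
  have := hη.le_of_dvd (Nat.succ_pos i) h3
  refine ⟨hk0, ?_, by omega⟩
  rcases hη with ⟨-, rfl⟩ | ⟨-, hη⟩ <;> omega

omit [Finite F] in
theorem minpoly_natDegree_le_sp (A : Mat n F) : (minpoly F A).natDegree ≤ 2 * n := by
  have h := natDegree_le_of_dvd (Matrix.minpoly_dvd_charpoly A) A.charpoly_monic.ne_zero
  rwa [Matrix.charpoly_natDegree_eq_dim, Fintype.card_sum, Fintype.card_fin, ← two_mul] at h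

/-- If `f ∣ X ^ (r * s) - 1`, `f ∤ X ^ s - 1` and `f ∣ X ^ N - 1` then `r ∣ N`. -/
theorem root_dvd {r s N : ℕ} (hr : r.Prime) {f : F[X]}
    (h1 : f ∣ X ^ (r * s) - 1) (h2 : ¬ f ∣ X ^ s - 1) (h3 : f ∣ X ^ N - 1) : r ∣ N := by
  by_contra hN
  apply h2
  have key : ∀ j, (AdjoinRoot.root f) ^ j = 1 ↔ f ∣ X ^ j - 1 := fun j => by
    rw [← AdjoinRoot.mk_eq_zero, map_sub, map_pow, AdjoinRoot.mk_X, map_one, sub_eq_zero]
  have h4 := pow_gcd_eq_one.2 ⟨(key _).2 h1, (key _).2 h3⟩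
  rw [Nat.Coprime.gcd_mul_left_cancel _ (hr.coprime_iff_not_dvd.2 hN)] at h4
  obtain ⟨t, ht⟩ := Nat.gcd_dvd_left s N
  rw [← key, ht, pow_mul, h4, one_pow]

/-- Existence of a factor whose roots have order divisible by `r`. -/
theorem exists_factor_sp {r s : ℕ} (hr : r.Prime) (hrp : r ≠ p) (A : Mat n F)
    (hA : A ^ (r * s) = 1) (hs : A ^ s ≠ 1) :
    ∃ f : F[X], f.Monic ∧ Irreducible f ∧ f ∣ minpoly F A ∧ f ∣ X ^ (r * s) - 1 ∧
      ¬ f ∣ X ^ s - 1 := by
  have hp1 : 1 < p := (Fact.out : p.Prime).one_lt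
  obtain ⟨f, hfm, hf, hfμ, hfs⟩ : ∃ f : F[X], f.Monic ∧ Irreducible f ∧ f ∣ minpoly F A ∧
      ¬ f ∣ X ^ s - 1 := by
    by_contra hc
    push Not at hc
    set L := Nat.clog p (minpoly F A).natDegree
    have hd : minpoly F A ∣ (X ^ s - 1) ^ p ^ L := by
      refine dvd_pow_natDegree_of_factors (minpoly.monic (Matrix.isIntegral A))
        (Nat.le_pow_clog hp1 _) fun f hf hfd => ?_
      have hassoc : Associated (f * C f.leadingCoeff⁻¹) f :=
        associated_mul_unit_left _ _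
          (isUnit_C.2 (isUnit_iff_ne_zero.2 (inv_ne_zero (leadingCoeff_ne_zero.2 hf.ne_zero))))
      exact hassoc.dvd_iff_dvd_left.1 (hc _ (monic_mul_leadingCoeff_inv hf.ne_zero)
        (hassoc.irreducible_iff.2 hf) (hassoc.dvd_iff_dvd_left.2 hfd))
    rcases isEmpty_or_nonempty (Fin n ⊕ Fin n) with he | hne'
    · exact hs (Subsingleton.elim _ _)
    obtain ⟨w, hw⟩ := hd
    have h1 := congrArg (aeval A) hw
    rw [map_mul, minpoly.aeval, zero_mul, sub_pow_char_pow, one_pow, ← pow_mul, map_sub, map_pow,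
      aeval_X, map_one, sub_eq_zero] at h1
    have h2 : (A ^ s) ^ r = 1 := by rw [← pow_mul, mul_comm, hA]
    have h3 : (A ^ s) ^ p ^ L = 1 := by rw [← pow_mul, h1]
    have h4 := pow_gcd_eq_one.2 ⟨h2, h3⟩
    have hco : Nat.Coprime r (p ^ L) :=
      Nat.Coprime.pow_right _ ((Nat.coprime_primes hr Fact.out).2 hrp)
    rw [hco.gcd_eq_one, pow_one] at h4
    exact hs h4
  exact ⟨f, hfm, hf, hfμ, hfμ.trans (minpoly.dvd F A (by simp [hA])), hfs⟩

/-- The reciprocal partner of a factor of the minimal polynomial of a symplectic matrix. -/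
theorem exists_partner (hn : 1 ≤ n) (A : Matrix.symplecticGroup (Fin n) F) {N : ℕ} (hN : 0 < N)
    (hA : (A : Mat n F) ^ N = 1) {f : F[X]} (hfm : f.Monic) (hf : Irreducible f)
    (hfμ : f ∣ minpoly F (A : Mat n F)) :
    f ∣ X ^ (Nat.card F ^ f.natDegree - 1) - 1 ∧
    ∃ f' : F[X], f'.Monic ∧ Irreducible f' ∧ f' ∣ minpoly F (A : Mat n F) ∧
      f'.natDegree = f.natDegree ∧ (∀ j : ℕ, f ∣ X ^ j - 1 ↔ f' ∣ X ^ j - 1) ∧
      (f' = f → f ∣ X ^ 2 - 1 ∨
        ∃ e, 0 < e ∧ f.natDegree = 2 * e ∧ f ∣ X ^ (Nat.card F ^ e + 1) - 1) := by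
  obtain ⟨p', hp'F⟩ := CharP.exists F
  have : Fact p'.Prime := ⟨CharP.char_is_prime F p'⟩
  have hnone : Nonempty (Fin n ⊕ Fin n) := ⟨Sum.inl ⟨0, by omega⟩⟩
  set AM : Mat n F := (A : Mat n F) with hAM
  have hAA' : AM * AM ^ (N - 1) = 1 := by rw [← pow_succ', Nat.sub_add_cancel hN, hA]
  have hμμ : minpoly F AM ∣ (minpoly F AM).comp (X ^ (N - 1)) := by
    refine minpoly.dvd F AM ?_
    rw [aeval_comp, map_pow, aeval_X]
    have h := transpose_aeval A (AM ^ (N - 1)) hAA' (minpoly F AM)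
    rw [minpoly.aeval, Matrix.transpose_zero, mul_zero] at h
    have hu : IsUnit (Matrix.J (Fin n) F) :=
      (Matrix.isUnit_iff_isUnit_det _).2 (Matrix.isUnit_det_J (Fin n) F)
    exact hu.mul_left_eq_zero.1 h.symm
  have : Fact (Irreducible f) := ⟨hf⟩
  have : Module.Finite F (AdjoinRoot f) := (AdjoinRoot.powerBasis hf.ne_zero).finite
  have : Finite (AdjoinRoot f) := Module.finite_of_finite F
  have : Fintype (AdjoinRoot f) := Fintype.ofFinite _
  set α := AdjoinRoot.root f with hα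
  set d := f.natDegree with hd
  have hcardK : Nat.card (AdjoinRoot f) = Nat.card F ^ d := by
    rw [Module.natCard_eq_pow_finrank (K := F), (AdjoinRoot.powerBasis hf.ne_zero).finrank,
      AdjoinRoot.powerBasis_dim]
  have hdvdα : ∀ s : F[X], aeval α s = 0 ↔ f ∣ s := fun s => by
    rw [hα, AdjoinRoot.aeval_eq, AdjoinRoot.mk_eq_zero]
  have key : ∀ j, f ∣ X ^ j - 1 ↔ α ^ j = 1 := fun j => by
    rw [← hdvdα, map_sub, map_pow, aeval_X, map_one, sub_eq_zero]
  have hαN : α ^ N = 1 := (key N).1 (hfμ.trans (minpoly.dvd F AM (by simp [hA])))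
  have hα0 : α ≠ 0 := fun h => by rw [h, zero_pow hN.ne'] at hαN; exact zero_ne_one hαN
  have hper : ∀ (x : AdjoinRoot f) (c : ℕ), x ^ (Nat.card F ^ (d * c)) = x := by
    intro x c
    rw [pow_mul, ← hcardK, Nat.card_eq_fintype_card, FiniteField.pow_card_pow]
  refine ⟨(key _).2 (by
    rw [← hcardK, Nat.card_eq_fintype_card, FiniteField.pow_card_sub_one_eq_one α hα0]), ?_⟩
  set β := α ^ (N - 1) with hβ
  have hαβ : β * α = 1 := by rw [hβ, ← pow_succ, Nat.sub_add_cancel hN, hαN]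
  have hβμ : aeval β (minpoly F AM) = 0 := by
    have h := (hdvdα _).2 (hfμ.trans hμμ)
    rwa [aeval_comp, map_pow, aeval_X] at h
  have hintβ : IsIntegral F β := Algebra.IsIntegral.isIntegral β
  set f' := minpoly F β with hf'def
  have hf'm : f'.Monic := minpoly.monic hintβ
  have hf' : Irreducible f' := minpoly.irreducible hintβ
  have hkey' : ∀ j, f' ∣ X ^ j - 1 ↔ α ^ j = 1 := fun j => by
    rw [hf'def, minpoly.dvd_iff, map_sub, map_pow, aeval_X, map_one, sub_eq_zero,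
      eq_inv_of_mul_eq_one_left hαβ, inv_pow, inv_eq_one]
  have hdd : f'.natDegree = d := by
    refine le_antisymm ?_ (Nat.le_of_dvd hf'.natDegree_pos ?_)
    · have h := minpoly.natDegree_le (A := F) β
      rw [(AdjoinRoot.powerBasis hf.ne_zero).finrank, AdjoinRoot.powerBasis_dim] at h
      exact h
    · have h1 : f' ∣ X ^ (Nat.card F) ^ f'.natDegree - X :=
        (hf'.natDegree_dvd_iff_dvd_X_pow_card_pow_sub_X).1 dvd_rfl
      rw [hf'def, minpoly.dvd_iff, map_sub, map_pow, aeval_X, sub_eq_zero] at h1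
      refine hf.natDegree_dvd_of_dvd_X_pow_card_pow_sub_X ((hdvdα _).1 ?_)
      rw [map_sub, map_pow, aeval_X, sub_eq_zero]
      rw [← hf'def] at h1
      rw [eq_inv_of_mul_eq_one_left hαβ, inv_pow] at h1
      exact inv_injective h1
  refine ⟨f', hf'm, hf', minpoly.dvd F β hβμ, hdd, fun j => (key j).trans (hkey' j).symm,
    fun hff => ?_⟩
  have hβf : aeval β f = 0 := by
    have h0 := minpoly.aeval F β
    rwa [← hf'def, hff] at h0
  let τ : AdjoinRoot f →ₐ[F] AdjoinRoot f := AdjoinRoot.liftAlgHom f (Algebra.ofId F _) β hβf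
  have hτ : τ α = β := AdjoinRoot.liftAlgHom_root _ _ _ _
  obtain ⟨i, hi⟩ := FiniteField.exists_forall_apply_eq_pow F p' (AdjoinRoot f)
    (AlgEquiv.ofBijective τ ⟨τ.toRingHom.injective,
      Finite.injective_iff_surjective.1 τ.toRingHom.injective⟩)
  set ρ := i % d with hρ
  have hβr : β = α ^ (Nat.card F ^ ρ) := by
    rw [← hτ]
    have : τ α = α ^ (Nat.card F ^ i) := hi α
    rw [this, ← Nat.mod_add_div i d, pow_add, pow_mul, hper]
  have hαr : α ^ (Nat.card F ^ ρ + 1) = 1 := by rw [pow_succ, ← hβr, hαβ]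
  have hαα : α ^ (Nat.card F ^ (2 * ρ)) = α := by
    have h1 : β ^ (Nat.card F ^ ρ + 1) = 1 := by
      rw [eq_inv_of_mul_eq_one_left hαβ, inv_pow, hαr, inv_one]
    rw [two_mul, pow_add, pow_mul, ← hβr]
    rw [pow_succ] at h1
    calc β ^ Nat.card F ^ ρ = β ^ Nat.card F ^ ρ * (β * α) := by rw [hαβ, mul_one]
      _ = α := by rw [← mul_assoc, h1, one_mul]
  have hd2r : d ∣ 2 * ρ := hf.natDegree_dvd_of_dvd_X_pow_card_pow_sub_X ((hdvdα _).1 (by
    rw [map_sub, map_pow, aeval_X, hαα, sub_self]))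
  have hrd : ρ < d := Nat.mod_lt _ hf.natDegree_pos
  rcases Nat.eq_zero_or_pos ρ with h0 | h0
  · rw [h0, pow_zero] at hαr
    exact Or.inl ((key 2).2 hαr)
  · refine Or.inr ⟨ρ, h0, ?_, (key _).2 hαr⟩
    obtain ⟨c, hc⟩ := hd2r
    rcases c with _ | _ | c
    · omega
    · omega
    · rw [Nat.mul_succ, Nat.mul_succ] at hc; omega

/-- All data attached to one prime `r`. -/
theorem factor_data {r s : ℕ} (hn : 1 ≤ n) (hr : r.Prime) (hr2 : r ≠ 2) (hrp : r ≠ p)
    (hs0 : 0 < s) (A : Matrix.symplecticGroup (Fin n) F) (hA : (A : Mat n F) ^ (r * s) = 1)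
    (hs : (A : Mat n F) ^ s ≠ 1) :
    ∃ (f f' G : F[X]) (d : ℕ), f.Monic ∧ Irreducible f ∧ f'.Monic ∧ Irreducible f' ∧
      f.natDegree = d ∧ f'.natDegree = d ∧
      f ∣ minpoly F (A : Mat n F) ∧ f' ∣ minpoly F (A : Mat n F) ∧
      ¬ f ∣ X ^ s - 1 ∧ ¬ f' ∣ X ^ s - 1 ∧
      G.Monic ∧ G ∣ minpoly F (A : Mat n F) ∧
      (∀ P : F[X], f ∣ P → f' ∣ P → G ∣ P) ∧
      ((f' = f ∧ G = f ∧ ∃ e, 0 < e ∧ d = 2 * e ∧ f ∣ X ^ (Nat.card F ^ e + 1) - 1 ∧
          r ∣ Nat.card F ^ e + 1) ∨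
        (f' ≠ f ∧ G = f * f' ∧ 2 * d ≤ 2 * n ∧ f ∣ X ^ (Nat.card F ^ d - 1) - 1 ∧
          r ∣ Nat.card F ^ d - 1)) := by
  obtain ⟨f, hfm, hf, hfμ, hfrs, hfs⟩ := exists_factor_sp p hr hrp _ hA hs
  obtain ⟨hq, f', hf'm, hf', hf'μ, hdd, hiff, hself⟩ :=
    exists_partner hn A (Nat.mul_pos hr.pos hs0) hA hfm hf hfμ
  have hs' : ¬ f' ∣ X ^ s - 1 := fun h => hfs ((hiff s).2 h)
  by_cases hff : f' = f
  · rcases hself hff with h2 | ⟨e, he, hde, hfe⟩
    · exact absurd ((Nat.prime_dvd_prime_iff_eq hr Nat.prime_two).1 (root_dvd hr hfrs hfs h2)) hr2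
    · exact ⟨f, f', f, _, hfm, hf, hf'm, hf', rfl, hdd, hfμ, hf'μ, hfs, hs', hfm, hfμ,
        fun P h _ => h, Or.inl ⟨hff, rfl, e, he, hde, hfe, root_dvd hr hfrs hfs hfe⟩⟩
  · have hco : IsCoprime f f' := hf.coprime_iff_not_dvd.2 fun hd =>
      hff (eq_of_monic_of_associated hfm hf'm (hf.associated_of_dvd hf' hd)).symm
    have hG : f * f' ∣ minpoly F (A : Mat n F) := hco.mul_dvd hfμ hf'μ
    refine ⟨f, f', f * f', _, hfm, hf, hf'm, hf', rfl, hdd, hfμ, hf'μ, hfs, hs', hfm.mul hf'm, hG,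
      fun P h h' => hco.mul_dvd h h', Or.inr ⟨hff, rfl, ?_, hq, root_dvd hr hfrs hfs hq⟩⟩
    have h := (natDegree_le_of_dvd hG (minpoly.ne_zero (Matrix.isIntegral _))).trans
      (minpoly_natDegree_le_sp _)
    rw [natDegree_mul hf.ne_zero hf'.ne_zero, hdd] at h
    omega

end

end Cfsg.Agent.H55
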