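/-
Elements of SU(n, q) from commutative algebras with a semilinear involution: tori and unipotents.
-/
import Cfsg.Agent.Unitary.Wall
import Cfsg.Agent.Unitary.Center

set_option autoImplicit false
set_option linter.unusedSectionVars false

namespace Cfsg.Agent.H55

open Cfsg.Agent.Unitary Polynomial
open scoped Matrix

variable {F : Type*} [Field F] [Fintype F] {n q : ℕ}

/-- A non-degenerate hermitian pairing `(a, b) ↦ φ (σ a * b)` on a commutative algebra. -/
structure HermAlg (F R : Type*) [Field F] [CommRing R] [Algebra F R] (q : ℕ) where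
  /-- the involution -/
  σ : R →+* R
  /-- the functional -/
  φ : R →ₗ[F] F
  semi : ∀ a : F, σ (algebraMap F R a) = algebraMap F R (a ^ q)
  inv : ∀ a, σ (σ a) = a
  conj : ∀ a, φ (σ a) = φ a ^ q
  nondeg : ∀ a, (∀ b, φ (a * b) = 0) → a = 0

/-- The product. -/
def HermAlg.prod (hF : Fintype.card F = q ^ 2) {R S : Type*} [CommRing R] [Algebra F R] [CommRing S]
    [Algebra F S] (P : HermAlg F R q) (Q : HermAlg F S q) : HermAlg F (R × S) q where
  σ := P.σ.prodMap Q.σ
  φ := P.φ.comp (LinearMap.fst F R S) + Q.φ.comp (LinearMap.snd F R S)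
  semi a := Prod.ext (P.semi a) (Q.semi a)
  inv a := Prod.ext (P.inv a.1) (Q.inv a.2)
  conj a := by
    simp only [LinearMap.add_apply, LinearMap.comp_apply, LinearMap.fst_apply, LinearMap.snd_apply,
      add_pow_q hF]
    exact congrArg₂ (· + ·) (P.conj a.1) (Q.conj a.2)
  nondeg := by
    rintro ⟨a, b⟩ h
    refine Prod.ext (P.nondeg a fun c => ?_) (Q.nondeg b fun c => ?_)
    · simpa using h (c, 0)
    · simpa using h (0, c)

/-- The regular representation is conjugate to one compatible with `hstar`. -/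
theorem exists_rep (hF : Fintype.card F = q ^ 2) {R : Type*} [CommRing R] [Algebra F R]
    [FiniteDimensional F R] (P : HermAlg F R q) (hfin : Module.finrank F R = n) :
    ∃ Ψ : R →ₐ[F] Matrix (Fin n) (Fin n) F, Function.Injective Ψ ∧
      (∀ a, hstar q (Ψ a) = Ψ (P.σ a)) ∧ ∀ a, (Ψ a).det = Algebra.norm F a := by
  classical
  let b := Module.finBasisOfFinrankEq F R hfin
  let H : Matrix (Fin n) (Fin n) F := Matrix.of fun i j => P.φ (P.σ (b i) * b j)
  have hH : hstar q H = H := by
    ext i j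
    show (P.φ (P.σ (b j) * b i)) ^ q = P.φ (P.σ (b i) * b j)
    rw [← P.conj, map_mul, P.inv, mul_comm]
  have hdet : H.det ≠ 0 := by
    intro h0
    obtain ⟨v, hv, hHv⟩ := Matrix.exists_mulVec_eq_zero_iff.2 h0
    apply hv
    have hx : ∑ j, v j • b j = 0 := by
      apply P.nondeg
      intro c
      rw [← P.inv c, ← b.sum_repr (P.σ c), map_sum, Finset.mul_sum, map_sum]
      refine Finset.sum_eq_zero fun i _ => ?_
      rw [Algebra.smul_def, map_mul P.σ, P.semi, mul_left_comm, ← Algebra.smul_def, map_smul]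
      have hi : P.φ ((∑ j, v j • b j) * P.σ (b i)) = 0 := by
        rw [Finset.sum_mul, map_sum]
        have := congrFun hHv i
        simp only [Matrix.mulVec, dotProduct, H, Matrix.of_apply, Pi.zero_apply] at this
        rw [← this]
        refine Finset.sum_congr rfl fun j _ => ?_
        rw [Algebra.smul_mul_assoc, map_smul, smul_eq_mul, mul_comm (b j), mul_comm (v j)]
      rw [hi, smul_zero]
    funext i
    exact Fintype.linearIndependent_iff.1 b.linearIndependent v hx i
  have hHu : IsUnit H := (Matrix.isUnit_iff_isUnit_det H).2 (isUnit_iff_ne_zero.2 hdet)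
  obtain ⟨y, hyu, hy, -⟩ := exists_hstar_mul_self hF hHu hH
  obtain ⟨y, rfl⟩ := hyu
  let L := Algebra.leftMulMatrix b
  have hL : ∀ a, hstar q (L a) * H = H * L (P.σ a) := by
    intro a
    ext i j
    have e1 : (hstar q (L a) * H) i j = P.φ (P.σ (a * b i) * b j) := by
      conv_rhs => rw [← b.sum_repr (a * b i), map_sum, Finset.sum_mul, map_sum]
      rw [Matrix.mul_apply]
      refine Finset.sum_congr rfl fun k _ => ?_
      rw [Algebra.smul_def, map_mul P.σ, P.semi, mul_assoc, ← Algebra.smul_def, map_smul, smul_eq_mul]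
      simp [hstar, L, H, Algebra.leftMulMatrix_eq_repr_mul]
    have e2 : (H * L (P.σ a)) i j = P.φ (P.σ (b i) * (P.σ a * b j)) := by
      conv_rhs => rw [← b.sum_repr (P.σ a * b j), Finset.mul_sum, map_sum]
      rw [Matrix.mul_apply]
      refine Finset.sum_congr rfl fun k _ => ?_
      rw [Algebra.mul_smul_comm, map_smul, smul_eq_mul]
      simp [L, H, Algebra.leftMulMatrix_eq_repr_mul, mul_comm]
    rw [e1, e2, map_mul P.σ]
    congr 1
    ring
  let Ψ : R →ₐ[F] Matrix (Fin n) (Fin n) F :=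
    { toFun := fun a => (y : Matrix (Fin n) (Fin n) F) * L a * (↑y⁻¹ : Matrix (Fin n) (Fin n) F)
      map_one' := by simp
      map_mul' := fun a c => by simp [mul_assoc]
      map_zero' := by simp
      map_add' := fun a c => by simp [mul_add, add_mul]
      commutes' := fun r => by
        show _ * L (algebraMap F R r) * _ = _
        rw [AlgHom.commutes, ← Algebra.commutes, mul_assoc, Units.mul_inv, mul_one] }
  have hy' : hstar q (↑y⁻¹ : Matrix (Fin n) (Fin n) F) * hstar q (y : Matrix (Fin n) (Fin n) F) = 1 := by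
    rw [← hstar_mul hF, Units.mul_inv, hstar_one hF]
  refine ⟨Ψ, fun a c h => ?_, fun a => ?_, fun a => ?_⟩
  · change (y : Matrix (Fin n) (Fin n) F) * L a * _ = (y : Matrix (Fin n) (Fin n) F) * L c * _ at h
    exact Algebra.leftMulMatrix_injective b (y.isUnit.mul_left_cancel
      ((y⁻¹).isUnit.mul_right_cancel h))
  · show hstar q ((y : Matrix (Fin n) (Fin n) F) * L a * (↑y⁻¹ : Matrix (Fin n) (Fin n) F)) =
      (y : Matrix (Fin n) (Fin n) F) * L (P.σ a) * (↑y⁻¹ : Matrix (Fin n) (Fin n) F)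
    have h1 : hstar q (L a) * hstar q (y : Matrix (Fin n) (Fin n) F) =
        hstar q (y : Matrix (Fin n) (Fin n) F) *
          ((y : Matrix (Fin n) (Fin n) F) * L (P.σ a) * (↑y⁻¹ : Matrix (Fin n) (Fin n) F)) := by
      rw [← mul_assoc, ← mul_assoc, hy, ← hL, mul_assoc, ← hy, mul_assoc, Units.mul_inv, mul_one]
    rw [hstar_mul hF, hstar_mul hF, h1, ← mul_assoc, hy', one_mul]
  · show ((y : Matrix (Fin n) (Fin n) F) * L a * (↑y⁻¹ : Matrix (Fin n) (Fin n) F)).det = _
    rw [Matrix.det_units_conj, ← Algebra.norm_eq_matrix_det]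

theorem norm_unitary (hF : Fintype.card F = q ^ 2) {R : Type*} [CommRing R] [Algebra F R]
    [FiniteDimensional F R] (P : HermAlg F R q) (u : R) (hu : P.σ u * u = 1) :
    Algebra.norm F u ^ (q + 1) = 1 := by
  obtain ⟨Ψ, -, h2, h3⟩ := exists_rep hF P rfl
  have h4 : Preserves q (Ψ u) := by
    rw [preserves_iff_hstar hF, h2, ← map_mul, hu, map_one]
  rw [← h3, pow_succ']
  exact h4.det_norm hF

/-- The element of SU. -/
theorem exists_suOf (hF : Fintype.card F = q ^ 2) {R : Type*} [CommRing R] [Algebra F R]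
    [FiniteDimensional F R] (P : HermAlg F R q) (hfin : Module.finrank F R = n) (u : R)
    (hu : P.σ u * u = 1) (hdet : Algebra.norm F u = 1) :
    ∃ (A : SU n F q) (Ψ : R →ₐ[F] Matrix (Fin n) (Fin n) F), Function.Injective Ψ ∧
      mat A = Ψ u ∧ ∀ a, hstar q (Ψ a) = Ψ (P.σ a) := by
  obtain ⟨Ψ, h1, h2, h3⟩ := exists_rep hF P hfin
  exact ⟨toSU (M := Ψ u) (by rw [preserves_iff_hstar hF, h2, ← map_mul, hu, map_one])
    (by rw [h3, hdet]), Ψ, h1, rfl, h2⟩

/-- The orders `(q ^ k - (-1) ^ k) / (q + 1)`. -/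
def uH (q : ℕ) : ℕ → ℕ
  | 0 => 0
  | k + 1 => if Even k then q * uH q k + 1 else q * uH q k - 1

theorem uH_spec {q : ℕ} (hq : 1 ≤ q) : ∀ k, ((uH q k : ℤ) * (q + 1) = (q : ℤ) ^ k - (-1) ^ k) ∧
    (Odd k → 1 ≤ uH q k)
  | 0 => by simp [uH]
  | k + 1 => by
    obtain ⟨h1, h2⟩ := uH_spec hq k
    by_cases hk : Even k
    · refine ⟨?_, fun _ => by simp [uH, hk]⟩
      rw [uH, if_pos hk, pow_succ, pow_succ, hk.neg_one_pow]
      rw [hk.neg_one_pow] at h1
      push_cast
      linear_combination (q : ℤ) * h1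
    · have hk' : Odd k := Nat.not_even_iff_odd.1 hk
      have h3 : 1 ≤ q * uH q k := Nat.mul_pos hq (h2 hk')
      refine ⟨?_, fun h => absurd h (Nat.not_odd_iff_even.2 hk'.add_one)⟩
      rw [uH, if_neg hk, pow_succ, pow_succ, hk'.neg_one_pow]
      rw [hk'.neg_one_pow] at h1
      push_cast [Nat.cast_sub h3]
      linear_combination (q : ℤ) * h1

theorem uH_one (q : ℕ) : uH q 1 = 1 := by simp [uH]

theorem uH_mul_odd {q k : ℕ} (hq : 1 ≤ q) (hk : Odd k) : uH q k * (q + 1) = q ^ k + 1 := by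
  have h := (uH_spec hq k).1
  rw [hk.neg_one_pow, sub_neg_eq_add] at h
  exact_mod_cast h

theorem uH_mul_even {q k : ℕ} (hq : 1 ≤ q) (hk : Even k) : uH q k * (q + 1) = q ^ k - 1 := by
  have h := (uH_spec hq k).1
  rw [hk.neg_one_pow] at h
  have h1 : 1 ≤ q ^ k := Nat.one_le_pow _ _ hq
  have h2 : uH q k * (q + 1) + 1 = q ^ k := by
    have : ((uH q k * (q + 1) + 1 : ℕ) : ℤ) = ((q ^ k : ℕ) : ℤ) := by
      push_cast
      linear_combination h
    exact_mod_cast this
  omega

theorem uH_coprime {q p k : ℕ} (hq : 1 ≤ q) (hp : p.Prime) (hpq : p ∣ q) (hk : 0 < k) :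
    Nat.Coprime (uH q k) p := by
  refine (hp.coprime_iff_not_dvd.2 fun h => ?_).symm
  have h1 : (p : ℤ) ∣ (q : ℤ) ^ k - (-1) ^ k :=
    (uH_spec hq k).1 ▸ (Int.natCast_dvd_natCast.2 h).mul_right _
  have h2 : (p : ℤ) ∣ (q : ℤ) ^ k := (Int.natCast_dvd_natCast.2 hpq).trans (dvd_pow_self _ hk.ne')
  have h3 : (p : ℤ) ∣ 1 := by
    have := dvd_sub h2 h1
    rw [sub_sub_cancel] at this
    rcases neg_one_pow_eq_or ℤ k with e | e <;> rw [e] at this
    · exact this
    · exact dvd_neg.1 this
  exact hp.one_lt.ne' (Nat.dvd_one.1 (by exact_mod_cast h3))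

theorem uH_gcd {q : ℕ} (hq : 1 ≤ q) (k : ℕ) : Nat.gcd (uH q k) (q + 1) = Nat.gcd k (q + 1) := by
  have key : ∀ k, (((uH q k : ℕ) : ℤ) : ZMod (q + 1)) = -((-1) ^ k) * (k : ZMod (q + 1)) := by
    intro k
    induction k with
    | zero => simp [uH]
    | succ k ih =>
      have hq' : ((q : ℕ) : ZMod (q + 1)) = -1 := by
        rw [eq_neg_iff_add_eq_zero]
        have := ZMod.natCast_self (q + 1)
        push_cast at this
        exact this
      have hrec : ((uH q (k + 1) : ℕ) : ℤ) = (q : ℤ) * (uH q k : ℤ) + (-1) ^ k := by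
        by_cases hk : Even k
        · simp [uH, hk, hk.neg_one_pow]
        · have hk' : Odd k := Nat.not_even_iff_odd.1 hk
          rw [uH, if_neg hk, hk'.neg_one_pow, Nat.cast_sub (Nat.mul_pos hq ((uH_spec hq k).2 hk'))]
          push_cast
          ring
      rw [hrec, Int.cast_add, Int.cast_mul, ih, Int.cast_natCast, hq']
      push_cast
      ring
  have h := key k
  rw [Int.cast_natCast] at h
  rcases neg_one_pow_eq_or (ZMod (q + 1)) k with e | e <;> rw [e] at h
  · rw [neg_mul, one_mul, eq_neg_iff_add_eq_zero, ← Nat.cast_add, ZMod.natCast_eq_zero_iff] at h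
    refine Nat.dvd_antisymm (Nat.dvd_gcd ?_ (Nat.gcd_dvd_right _ _))
      (Nat.dvd_gcd ?_ (Nat.gcd_dvd_right _ _))
    · exact (Nat.dvd_add_iff_right (Nat.gcd_dvd_left _ _)).2 ((Nat.gcd_dvd_right _ _).trans h)
    · exact (Nat.dvd_add_iff_left (Nat.gcd_dvd_left _ _)).2 ((Nat.gcd_dvd_right _ _).trans h)
  · rw [neg_neg, one_mul] at h
    exact Nat.ModEq.gcd_eq ((ZMod.natCast_eq_natCast_iff _ _ _).1 h)

section

variable (p : ℕ) [Fact p.Prime] [CharP F p]

include p in
theorem trace_pow_odd (hF : Fintype.card F = q ^ 2) {K : Type*} [Field K] [Finite K] [Algebra F K]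
    {j : ℕ} (hj : Odd j) (x : K) :
    Algebra.trace F K (x ^ q ^ j) = Algebra.trace F K x ^ q := by
  obtain ⟨t, rfl⟩ := hj
  obtain ⟨p', f, hp', -, hc, rfl⟩ := exists_char_pow hF
  have : Fact p'.Prime := ⟨hp'⟩
  have : CharP K p' := charP_of_injective_algebraMap (algebraMap F K).injective p'
  apply (algebraMap F K).injective
  rw [map_pow (algebraMap F K), FiniteField.algebraMap_trace_eq_sum_pow, ← pow_mul p' f]
  have hfix : (algebraMap F K (Algebra.trace F K x)) ^ p' ^ (f * (2 * t + 1)) =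
      (algebraMap F K (Algebra.trace F K x)) ^ (p' ^ f) := by
    rw [← map_pow (algebraMap F K), ← map_pow (algebraMap F K)]
    congr 1
    rw [mul_add, mul_one, pow_add, pow_mul, ← mul_assoc, pow_mul p' (f * 2) t,
      pow_mul p' f 2, ← hF, FiniteField.pow_card_pow]
  rw [← hfix, FiniteField.algebraMap_trace_eq_sum_pow, sum_pow_char_pow]
  exact Finset.sum_congr rfl fun i _ => by rw [← pow_mul, ← pow_mul, mul_comm]

/-- The Frobenius power `x ↦ x ^ q ^ j`. -/
theorem exists_frobPow (hF : Fintype.card F = q ^ 2) (K : Type*) [Field K] [Algebra F K] (j : ℕ) :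
    ∃ σ : K →+* K, ∀ x, σ x = x ^ q ^ j := by
  obtain ⟨p', f, hp', -, hc, rfl⟩ := exists_char_pow hF
  have : Fact p'.Prime := ⟨hp'⟩
  have : CharP K p' := charP_of_injective_algebraMap (algebraMap F K).injective p'
  exact ⟨iterateFrobenius K p' (f * j), fun x => by rw [iterateFrobenius_def, pow_mul]⟩

include p in
/-- The cyclic torus of order `q ^ e - (-1) ^ e`, cut down to norm one. -/
theorem exists_torus_alg (hF : Fintype.card F = q ^ 2) {e : ℕ} (he : 1 ≤ e) :
    ∃ (R : Type) (_ : CommRing R) (_ : Algebra F R) (_ : FiniteDimensional F R) (_ : Nontrivial R)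
      (P : HermAlg F R q) (T : R), Module.finrank F R = e ∧ P.σ T * T = 1 ∧
        Algebra.norm F T = 1 ∧ orderOf T = uH q e := by
  have hq2 := two_le_q hF
  have hcard : Nat.card F = q ^ 2 := by rw [Nat.card_eq_fintype_card, hF]
  have hodd : ∀ (a : F) {j : ℕ}, Odd j → a ^ q ^ j = a ^ q := by
    rintro a j ⟨t, rfl⟩
    rw [pow_succ, pow_mul q, pow_mul, ← hF, FiniteField.pow_card_pow]
  have fin : ∀ {R : Type} [CommRing R] [Algebra F R] [FiniteDimensional F R] (P : HermAlg F R q)
      (w : R), P.σ w * w = 1 → orderOf w = uH q e * (q + 1) → P.σ (w ^ (q + 1)) * w ^ (q + 1) = 1 ∧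
        Algebra.norm F (w ^ (q + 1)) = 1 ∧ orderOf (w ^ (q + 1)) = uH q e := by
    intro R _ _ _ P w hw hord
    refine ⟨by rw [map_pow, ← mul_pow, hw, one_pow], by rw [map_pow]; exact norm_unitary hF P w hw, ?_⟩
    rw [orderOf_pow_of_dvd (by omega) (hord ▸ dvd_mul_left _ _), hord,
      Nat.mul_div_cancel _ (Nat.succ_pos q)]
  rcases Nat.even_or_odd e with he2 | he2
  · obtain ⟨d, rfl⟩ := he2
    have : NeZero d := ⟨by omega⟩
    set K := FiniteField.Extension F p d
    have hK : Nat.card K = q ^ (2 * d) := by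
      rw [FiniteField.natCard_extension, hcard, ← pow_mul]
    obtain ⟨τ, hτ⟩ := exists_frobPow hF K 1
    obtain ⟨τ', hτ'⟩ := exists_frobPow hF K (2 * d - 1)
    have : Fintype K := Fintype.ofFinite K
    have hK' : ∀ x : K, x ^ q ^ (2 * d) = x := fun x => by
      rw [← hK, Nat.card_eq_fintype_card, FiniteField.pow_card]
    have h1 : ∀ x, τ (τ' x) = x := fun x => by
      rw [hτ', hτ, ← pow_mul, ← pow_add, Nat.sub_add_cancel (by omega), hK']
    have h2 : ∀ x, τ' (τ x) = x := fun x => by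
      rw [hτ, hτ', ← pow_mul, ← pow_add, Nat.add_sub_cancel' (by omega), hK']
    have hto : Odd (2 * d - 1) := ⟨d - 1, by omega⟩
    let P : HermAlg F (K × K) q :=
      { σ := (τ'.comp (RingHom.snd K K)).prod (τ.comp (RingHom.fst K K))
        φ := (Algebra.trace F K).comp (LinearMap.fst F K K) + (Algebra.trace F K).comp (LinearMap.snd F K K)
        semi := fun a => Prod.ext
          (by show τ' (algebraMap F K a) = _; rw [hτ', ← map_pow, hodd a hto]; rfl)
          (by show τ (algebraMap F K a) = _; rw [hτ, ← map_pow, hodd a odd_one]; rfl)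
        inv := fun a => Prod.ext (h2 a.1) (h1 a.2)
        conj := fun a => by
          show Algebra.trace F K (τ' a.2) + Algebra.trace F K (τ a.1) =
            (Algebra.trace F K a.1 + Algebra.trace F K a.2) ^ q
          rw [hτ', hτ, trace_pow_odd p hF hto, trace_pow_odd p hF odd_one, add_pow_q hF, add_comm]
        nondeg := by
          rintro ⟨a, b⟩ h
          have key : ∀ x : K, (∀ c, Algebra.trace F K (x * c) = 0) → x = 0 := fun x hx =>
            (traceForm_nondegenerate F K).1 x (fun c => by rw [Algebra.traceForm_apply]; exact hx c)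
          exact Prod.ext (key a fun c => by simpa using h (c, 0))
            (key b fun c => by simpa using h (0, c)) }
    obtain ⟨g, hg⟩ := IsCyclic.exists_ofOrder_eq_natCard (α := Kˣ)
    rw [Nat.card_units, hK] at hg
    have hord : orderOf (((g : K), (τ (g : K))⁻¹) : K × K) = uH q (d + d) * (q + 1) := by
      rw [uH_mul_even (by omega) (⟨d, rfl⟩ : Even (d + d)), Prod.orderOf_mk, orderOf_units, ← map_inv₀,
        show orderOf (τ ((g : K)⁻¹)) = orderOf ((g : K)⁻¹) from orderOf_injective τ.toMonoidHom τ.injective _,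
        ← Units.val_inv_eq_inv_val, orderOf_units,
        orderOf_inv, Nat.lcm_self, hg, two_mul]
    have hw : P.σ ((g : K), (τ (g : K))⁻¹) * ((g : K), (τ (g : K))⁻¹) = 1 := by
      refine Prod.ext ?_ ?_
      · show τ' (τ (g : K))⁻¹ * (g : K) = 1
        rw [map_inv₀, h2, inv_mul_cancel₀ g.ne_zero]
      · show τ (g : K) * (τ (g : K))⁻¹ = 1
        rw [mul_inv_cancel₀]
        simp
    obtain ⟨a, b, c⟩ := fin P _ hw hord
    exact ⟨K × K, inferInstance, inferInstance, inferInstance, inferInstance, P, _,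
      by rw [Module.finrank_prod, FiniteField.finrank_extension], a, b, c⟩
  · have : NeZero e := ⟨by omega⟩
    set K := FiniteField.Extension F p e
    have hK : Nat.card K = q ^ (2 * e) := by
      rw [FiniteField.natCard_extension, hcard, ← pow_mul]
    obtain ⟨τ, hτ⟩ := exists_frobPow hF K e
    have : Fintype K := Fintype.ofFinite K
    let P : HermAlg F K q :=
      { σ := τ
        φ := Algebra.trace F K
        semi := fun a => by rw [hτ, ← map_pow, hodd a he2]
        inv := fun a => by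
          rw [hτ, hτ, ← pow_mul, ← pow_add, ← two_mul, ← hK, Nat.card_eq_fintype_card,
            FiniteField.pow_card]
        conj := fun a => by rw [hτ, trace_pow_odd p hF he2]
        nondeg := fun a ha =>
          (traceForm_nondegenerate F K).1 a (fun c => by rw [Algebra.traceForm_apply]; exact ha c) }
    obtain ⟨g, hg⟩ := IsCyclic.exists_ofOrder_eq_natCard (α := Kˣ)
    rw [Nat.card_units, hK] at hg
    have hqe : 1 < q ^ e := Nat.one_lt_pow (by omega) (by omega)
    have hNq : (q ^ e - 1) * (q ^ e + 1) = q ^ (2 * e) - 1 := by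
      rw [mul_comm, pow_mul']
      simpa using (Nat.sq_sub_sq (q ^ e) 1).symm
    have hord : orderOf ((g : K) ^ (q ^ e - 1)) = uH q e * (q + 1) := by
      rw [orderOf_pow_of_dvd (by omega) (by rw [orderOf_units, hg, ← hNq]; exact dvd_mul_right _ _),
        orderOf_units, hg, ← hNq, Nat.mul_div_cancel_left _ (by omega), uH_mul_odd (by omega) he2]
    have hw : P.σ ((g : K) ^ (q ^ e - 1)) * (g : K) ^ (q ^ e - 1) = 1 := by
      show τ _ * _ = 1
      rw [hτ, ← pow_succ, ← uH_mul_odd (by omega) he2, ← hord, pow_orderOf_eq_one]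
    obtain ⟨a, b, c⟩ := fin P _ hw hord
    exact ⟨K, inferInstance, inferInstance, inferInstance, inferInstance, P, _,
      FiniteField.finrank_extension F p e, a, b, c⟩

include p in
/-- The regular unipotent. -/
theorem exists_unipotent_herm (hF : Fintype.card F = q ^ 2) {k : ℕ} (hk : 1 ≤ k) :
    ∃ (P : HermAlg F (AdjoinRoot ((X : F[X]) ^ k)) q) (u : AdjoinRoot ((X : F[X]) ^ k)),
      P.σ u * u = 1 ∧ Algebra.norm F u = 1 ∧
        ∀ (h : ℕ) (c : F), u ^ h = algebraMap F _ c → c = 1 ∧ p ^ Nat.clog p k ∣ h := by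
  set f : F[X] := (X : F[X]) ^ k with hf0
  have hf : f.Monic := monic_X_pow _
  let pb := AdjoinRoot.powerBasis' hf
  have : FiniteDimensional F (AdjoinRoot f) := pb.finite
  have hdim : pb.dim = k := by simp [pb, f]
  set t := AdjoinRoot.root f with ht
  have hgen : pb.gen = t := rfl
  have ht0 : t ^ k = 0 := by
    rw [ht, ← AdjoinRoot.mk_X, ← map_pow, AdjoinRoot.mk_self]
  let σ : AdjoinRoot f →+* AdjoinRoot f :=
    AdjoinRoot.lift ((AdjoinRoot.of f).comp (frob hF).toRingHom) (-t) (by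
      simp only [f, eval₂_pow, eval₂_X]
      rw [neg_pow, ht0, mul_zero])
  have hσt : σ t = -t := AdjoinRoot.lift_root _
  have hσc : ∀ a, σ (algebraMap F _ a) = algebraMap F _ (a ^ q) := fun a => AdjoinRoot.lift_of _
  have hσσ : ∀ a, σ (σ a) = a := fun a => by
    induction a using AdjoinRoot.induction_on with
    | _ P =>
      induction P using Polynomial.induction_on' with
      | add a b ha hb => rw [map_add, map_add, map_add, ha, hb]
      | monomial j c =>
        rw [← C_mul_X_pow_eq_monomial, map_mul, AdjoinRoot.mk_C, map_pow, AdjoinRoot.mk_X,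
          ← AdjoinRoot.algebraMap_eq, ← ht]
        simp only [map_mul, map_pow, hσc, hσt, map_neg, neg_neg]
        rw [← map_pow, ← map_pow, pow_q_q hF]
  obtain ⟨δ, hδ0, hδ⟩ : ∃ δ : F, δ ≠ 0 ∧ (-1) ^ (k - 1) * δ = δ ^ q := by
    rcases Nat.even_or_odd (k - 1) with h | h
    · exact ⟨1, one_ne_zero, by rw [h.neg_one_pow, one_mul, one_pow]⟩
    · obtain ⟨δ, h1, h2⟩ := exists_skew hF
      exact ⟨δ, h1, by rw [h.neg_one_pow, h2, neg_one_mul]⟩
  let last : Fin pb.dim := ⟨k - 1, by omega⟩
  let φ : AdjoinRoot f →ₗ[F] F := δ • pb.basis.coord last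
  have hφpow : ∀ j, φ (t ^ j) = if j = k - 1 then δ else 0 := by
    intro j
    by_cases hj : j < k
    · have : t ^ j = pb.basis ⟨j, by omega⟩ := by rw [pb.coe_basis, hgen]
      rw [this]
      show δ • pb.basis.coord last _ = _
      rw [Module.Basis.coord_apply, Module.Basis.repr_self, Finsupp.single_apply]
      simp [last, Fin.ext_iff, eq_comm]
    · have : t ^ j = 0 := by
        rw [show j = k + (j - k) by omega, pow_add, ht0, zero_mul]
      rw [this, map_zero, if_neg (by omega)]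
  have hconj : ∀ a, φ (σ a) = φ a ^ q := by
    intro a
    rw [← pb.basis.sum_repr a]
    simp only [map_sum, sum_pow_q hF]
    refine Finset.sum_congr rfl fun i _ => ?_
    rw [pb.coe_basis, Algebra.smul_def, map_mul, hσc, ← Algebra.smul_def, ← Algebra.smul_def,
      map_smul, map_smul, smul_eq_mul, smul_eq_mul, mul_pow]
    simp only [hgen, map_pow, hσt]
    congr 1
    rw [neg_pow]
    have h1 : ((-1 : AdjoinRoot f)) ^ (i : ℕ) = algebraMap F _ ((-1) ^ (i : ℕ)) := by simp
    rw [h1, ← Algebra.smul_def, map_smul, hφpow, smul_eq_mul]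
    split_ifs with h
    · rw [h, hδ]
    · rw [mul_zero, zero_pow (q_ne_zero hF)]
  have hnd : ∀ a, (∀ b, φ (a * b) = 0) → a = 0 := by
    intro a ha
    apply pb.basis.repr.injective
    rw [map_zero]
    ext i
    rw [Finsupp.zero_apply]
    induction hi : (i : ℕ) using Nat.strong_induction_on generalizing i with
    | _ j ih =>
      have h := ha (t ^ (k - 1 - j))
      rw [← pb.basis.sum_repr a, Finset.sum_mul, map_sum, Finset.sum_eq_single i] at h
      · rw [Algebra.smul_mul_assoc, map_smul, pb.coe_basis] at h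
        simp only [hgen] at h
        rw [← pow_add, hφpow, if_pos (by omega), smul_eq_mul] at h
        exact (mul_eq_zero.1 h).resolve_right hδ0
      · intro i' _ hne
        rw [Algebra.smul_mul_assoc, map_smul, pb.coe_basis]
        simp only [hgen]
        rw [← pow_add, hφpow]
        by_cases hlt : (i' : ℕ) < j
        · rw [ih _ hlt i' rfl, zero_smul]
        · rw [if_neg (by
            have : (i' : ℕ) ≠ j := fun e => hne (Fin.ext (e.trans hi.symm))
            have := i'.isLt
            omega), smul_zero]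
      · simp
  obtain ⟨ω, hω⟩ : ∃ ω : F, ω + ω ^ q = 1 := exists_trace_eq hF (one_pow q)
  have hnil : IsNilpotent (algebraMap F _ (ω ^ q) * t : AdjoinRoot f) :=
    ⟨k, by rw [mul_pow, ht0, mul_zero]⟩
  let w' : (AdjoinRoot f)ˣ := hnil.isUnit_one_sub.unit
  have hw' : (w' : AdjoinRoot f) = 1 - algebraMap F _ (ω ^ q) * t := IsUnit.unit_spec _
  set v : AdjoinRoot f := 1 + algebraMap F _ ω * t with hv
  have hσv : σ v = w' := by
    rw [hv, map_add, map_one, map_mul, hσc, hσt, hw', mul_neg, sub_eq_add_neg]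
  have hσw : σ (w' : AdjoinRoot f) = v := by rw [← hσv, hσσ]
  have h3 : σ (↑w'⁻¹) * v = 1 := by
    rw [← hσw, ← map_mul, Units.inv_mul, map_one]
  have hu : σ (v * ↑w'⁻¹) * (v * ↑w'⁻¹) = 1 := by
    rw [map_mul, hσv]
    calc (w' : AdjoinRoot f) * σ ↑w'⁻¹ * (v * ↑w'⁻¹)
        = (↑w'⁻¹ * (w' : AdjoinRoot f)) * (σ ↑w'⁻¹ * v) := by ring
      _ = 1 := by rw [Units.inv_mul, h3, one_mul]
  have : Nontrivial (AdjoinRoot f) := AdjoinRoot.nontrivial f (by
    rw [degree_eq_natDegree hf.ne_zero]; simp [f]; omega)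
  have : CharP (AdjoinRoot f) p :=
    charP_of_injective_algebraMap (algebraMap F (AdjoinRoot f)).injective p
  have hpow : ∀ l, (v * ↑w'⁻¹) ^ p ^ l = 1 ↔ k ≤ p ^ l := by
    intro l
    have hω1 : algebraMap F (AdjoinRoot f) ω ^ p ^ l + algebraMap F _ (ω ^ q) ^ p ^ l = 1 := by
      rw [← add_pow_char_pow, ← map_add, hω, map_one, one_pow]
    rw [mul_pow, ← Units.val_pow_eq_pow_val, inv_pow, Units.mul_inv_eq_one, Units.val_pow_eq_pow_val,
      hw', hv, add_pow_char_pow, sub_pow_char_pow, one_pow, mul_pow, mul_pow, ← sub_eq_zero,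
      show 1 + algebraMap F (AdjoinRoot f) ω ^ p ^ l * t ^ p ^ l -
          (1 - algebraMap F (AdjoinRoot f) (ω ^ q) ^ p ^ l * t ^ p ^ l) =
        (algebraMap F (AdjoinRoot f) ω ^ p ^ l + algebraMap F _ (ω ^ q) ^ p ^ l) * t ^ p ^ l by ring,
      hω1, one_mul, ht, ← AdjoinRoot.mk_X, ← map_pow, AdjoinRoot.mk_eq_zero]
    exact pow_dvd_pow_iff X_ne_zero not_isUnit_X
  set T := Nat.clog p k
  have hlast : (v * ↑w'⁻¹) ^ p ^ T = 1 :=
    (hpow T).2 (Nat.le_pow_clog (Fact.out : p.Prime).one_lt _)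
  have hou : orderOf (v * ↑w'⁻¹) = p ^ T := by
    rcases Nat.eq_zero_or_pos T with h0 | h0
    · rw [h0, pow_zero] at hlast ⊢
      rw [pow_one] at hlast
      rw [hlast, orderOf_one]
    · obtain ⟨t', ht'⟩ : ∃ t', T = t' + 1 := ⟨T - 1, by omega⟩
      rw [ht'] at hlast ⊢
      refine orderOf_eq_prime_pow ?_ hlast
      rw [hpow, not_le]
      exact Nat.pow_lt_of_lt_clog (by omega)
  have hone : ∀ c : F, c ^ p ^ T = 1 → c = 1 := fun c h => by
    have : (c - 1) ^ p ^ T = 0 := by rw [sub_pow_char_pow, h, one_pow, sub_self]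
    exact sub_eq_zero.1 (eq_zero_of_pow_eq_zero this)
  refine ⟨⟨σ, φ, hσc, hσσ, hconj, hnd⟩, v * ↑w'⁻¹, hu,
    hone _ (by rw [← map_pow, hlast, map_one]), fun h c hc => ?_⟩
  have hc1 : c = 1 := hone c ((algebraMap F (AdjoinRoot f)).injective (by
    rw [map_pow, ← hc, ← pow_mul, mul_comm h, pow_mul, hlast, one_pow, map_one]))
  rw [hc1, map_one] at hc
  exact ⟨hc1, hou ▸ orderOf_dvd_of_pow_eq_one hc⟩

end

end Cfsg.Agent.H55
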