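/-
Element orders of PSU(n, q).
-/
import Cfsg.Agent.H55.HermAlg
import Cfsg.Agent.H55.PSLPrimeGraph

set_option autoImplicit false
set_option linter.unusedSectionVars false

namespace Cfsg.Agent.H55

open Cfsg.Agent.Unitary Polynomial
open scoped Matrix

variable {F : Type*} [Field F] [Fintype F] {n q : ℕ}

/-- The image in PSU. -/
abbrev toPSU (A : Cfsg.SU n F q) : Cfsg.PSU n F q :=
  QuotientGroup.mk' (Subgroup.center (Cfsg.SU n F q)) A

theorem mat_pow (A : Cfsg.SU n F q) (h : ℕ) : mat (A ^ h) = mat A ^ h := by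
  simp [mat]

theorem toPSU_pow_eq_one_iff (hF : Fintype.card F = q ^ 2) (hn : 2 ≤ n) (A : Cfsg.SU n F q)
    (h : ℕ) : toPSU A ^ h = 1 ↔
      ∃ c : F, mat A ^ h = algebraMap F (Matrix (Fin n) (Fin n) F) c := by
  unfold toPSU
  rw [← map_pow, QuotientGroup.mk'_apply, QuotientGroup.eq_one_iff]
  constructor
  · intro hc
    obtain ⟨l, hl⟩ := eq_smul_of_mem_center hF hn hc
    exact ⟨l, by rw [← mat_pow, mat_of_ap_smul hl, Algebra.algebraMap_eq_smul_one]⟩
  · rintro ⟨c, hc⟩
    refine smul_mem_center (l := c) fun x => ?_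
    rw [ap_def, mat_pow, hc, Algebra.algebraMap_eq_smul_one, Matrix.smul_mulVec, Matrix.one_mulVec]

theorem hstar_mat (hF : Fintype.card F = q ^ 2) (A : Cfsg.SU n F q) :
    hstar q (mat A) * mat A = 1 := (preserves_iff_hstar hF).1 A.2

theorem hstar_pow (hF : Fintype.card F = q ^ 2) (M : Matrix (Fin n) (Fin n) F) (j : ℕ) :
    hstar q (M ^ j) = hstar q M ^ j := by
  induction j with
  | zero => simp [hstar_one hF]
  | succ j ih => rw [pow_succ, hstar_mul hF, ih, ← pow_succ']

theorem hstar_smul (c : F) (M : Matrix (Fin n) (Fin n) F) :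
    hstar q (c • M) = c ^ q • hstar q M := by
  ext i j
  simp [hstar, mul_pow]

/-- An element commuting with a self-adjoint idempotent can be made to have order divisible by `r`. -/
theorem exists_order_of_idempotent_SU (hF : Fintype.card F = q ^ 2) (hn : 2 ≤ n) {r : ℕ}
    (hr : r.Prime) (hrq : r ∣ q + 1) (hrn : ¬ r ∣ n) (A : Cfsg.SU n F q)
    (P : Matrix (Fin n) (Fin n) F) (hPP : P * P = P) (hP0 : P ≠ 0) (hP1 : P ≠ 1)
    (hcomm : Commute (mat A) P) (hPs : hstar q P = P) :
    ∃ y : Cfsg.PSU n F q, Nat.lcm (orderOf (toPSU A)) r ∣ orderOf y := by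
  by_cases hdvd : r ∣ orderOf (toPSU A)
  · exact ⟨toPSU A, Nat.lcm_dvd dvd_rfl hdvd⟩
  have hrF : r ∣ Nat.card Fˣ := by rw [card_units hF]; exact hrq.mul_right _
  obtain ⟨g, hg⟩ := IsCyclic.exists_ofOrder_eq_natCard (α := Fˣ)
  obtain ⟨w, hw⟩ : ∃ w : Fˣ, orderOf w = r := by
    refine ⟨g ^ (Nat.card Fˣ / r), ?_⟩
    rw [orderOf_pow_of_dvd (Nat.div_ne_zero_iff.2 ⟨hr.ne_zero, Nat.le_of_dvd Nat.card_pos hrF⟩)
      (by rw [hg]; exact Nat.div_dvd_of_dvd hrF), hg, Nat.div_div_self hrF Nat.card_pos.ne']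
  set ζ : F := (w : F) with hζdef
  have hζr : ζ ^ r = 1 := by
    rw [hζdef, ← Units.val_pow_eq_pow_val, ← hw, pow_orderOf_eq_one, Units.val_one]
  have hζq : ζ ^ q * ζ = 1 := by
    obtain ⟨t, ht⟩ := hrq
    rw [← pow_succ, ht, pow_mul, hζr, one_pow]
  have hζ1 : ζ ≠ 1 := by
    intro h
    have : w = 1 := Units.ext h
    rw [this, orderOf_one] at hw
    exact hr.ne_one hw.symm
  set Z0 : Matrix (Fin n) (Fin n) F := 1 + (ζ - 1) • P with hZ0
  have hZpow : ∀ j : ℕ, Z0 ^ j = 1 + (ζ ^ j - 1) • P := by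
    intro j
    induction j with
    | zero => simp
    | succ j ih =>
      rw [pow_succ, ih, hZ0, add_mul, mul_add, mul_add, one_mul, one_mul, mul_one,
        Algebra.smul_mul_assoc, Algebra.mul_smul_comm, hPP, smul_smul, add_assoc, ← add_smul,
        ← add_smul]
      congr 2
      ring
  have hdet : Z0.det ^ r = 1 := by
    rw [← Matrix.det_pow, hZpow, hζr, sub_self, zero_smul, add_zero, Matrix.det_one]
  obtain ⟨k, hk⟩ : ∃ k : ℕ, r ∣ n * k + 1 := by
    have : Fact r.Prime := ⟨hr⟩
    have hn0 : (n : ZMod r) ≠ 0 := by rwa [Ne, ZMod.natCast_eq_zero_iff]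
    refine ⟨(-(n : ZMod r)⁻¹).val, ?_⟩
    rw [← ZMod.natCast_eq_zero_iff, Nat.cast_add, Nat.cast_mul, Nat.cast_one,
      ZMod.natCast_zmod_val, mul_neg, mul_inv_cancel₀ hn0, neg_add_cancel]
  set c : F := Z0.det ^ k with hc
  have hcr : c ^ r = 1 := by rw [hc, ← pow_mul, mul_comm, pow_mul, hdet, one_pow]
  have hcq : c ^ q * c = 1 := by
    obtain ⟨t, ht⟩ := hrq
    rw [← pow_succ, ht, pow_mul, hcr, one_pow]
  have hdet1 : (c • Z0).det = 1 := by
    rw [Matrix.det_smul, Fintype.card_fin, hc, ← pow_mul, ← pow_succ, mul_comm k n]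
    obtain ⟨m, hm⟩ := hk
    rw [hm, pow_mul, hdet, one_pow]
  have hZs : hstar q Z0 * Z0 = 1 := by
    rw [hZ0, hstar_add hF, hstar_one hF, hstar_smul, hPs, add_mul, mul_add, mul_add, one_mul,
      one_mul, mul_one, Algebra.smul_mul_assoc, Algebra.mul_smul_comm, hPP, smul_smul, sub_pow_q hF,
      one_pow, add_assoc, ← add_smul, ← add_smul]
    have : ζ - 1 + (ζ ^ q - 1 + (ζ ^ q - 1) * (ζ - 1)) = 0 := by linear_combination hζq
    rw [this, zero_smul, add_zero]
  let Z : Cfsg.SU n F q := toSU (M := c • Z0) (by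
    rw [preserves_iff_hstar hF, hstar_smul, Algebra.smul_mul_assoc, Algebra.mul_smul_comm, hZs,
      smul_smul, hcq, one_smul]) hdet1
  have hZA : Commute A Z := by
    apply Subtype.ext
    apply Subtype.ext
    exact (((Commute.one_right _).add_right (hcomm.smul_right _)).smul_right c).eq
  have hZord : orderOf (toPSU Z) = r := by
    have : Fact r.Prime := ⟨hr⟩
    refine orderOf_eq_prime ((toPSU_pow_eq_one_iff hF hn Z r).2 ⟨1, ?_⟩) ?_
    · show (c • Z0) ^ r = _
      rw [_root_.smul_pow, hcr, one_smul, hZpow, hζr, sub_self, zero_smul, add_zero, map_one]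
    · intro h
      have h' : toPSU Z ^ 1 = 1 := by rwa [pow_one]
      obtain ⟨d, hd⟩ := (toPSU_pow_eq_one_iff hF hn Z 1).1 h'
      rw [pow_one] at hd
      change c • (1 + (ζ - 1) • P) = algebraMap F _ d at hd
      have hc0 : c ≠ 0 := by
        intro h0
        rw [h0, zero_pow hr.ne_zero] at hcr
        exact zero_ne_one hcr
      obtain ⟨a, rfl⟩ : ∃ a : F, P = a • 1 := by
        refine ⟨(d / c - 1) / (ζ - 1), ?_⟩
        have hd' : (1 : Matrix (Fin n) (Fin n) F) + (ζ - 1) • P = (d / c) • 1 := by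
          rw [← inv_smul_smul₀ hc0 (1 + (ζ - 1) • P), hd, Algebra.algebraMap_eq_smul_one, smul_smul,
            div_eq_inv_mul]
        rw [← inv_smul_smul₀ (sub_ne_zero.2 hζ1) P, eq_sub_of_add_eq' hd']
        rw [div_eq_inv_mul _ (ζ - 1), mul_smul, sub_smul, one_smul]
      have hne : (1 : Matrix (Fin n) (Fin n) F) ≠ 0 := fun h1 => hP0 (by rw [h1, smul_zero])
      rw [smul_mul_smul_comm, one_mul] at hPP
      have ha : a * a = a := smul_left_injective F hne hPP
      rcases eq_or_ne a 0 with rfl | ha0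
      · exact hP0 (zero_smul _ _)
      · exact hP1 (by rw [(mul_eq_left₀ ha0).1 ha, one_smul])
  refine ⟨toPSU A * toPSU Z, ?_⟩
  have hc' : Commute (toPSU A) (toPSU Z) := hZA.map _
  have hcop : Nat.Coprime (orderOf (toPSU A)) (orderOf (toPSU Z)) := by
    rw [hZord]; exact (hr.coprime_iff_not_dvd.2 hdvd).symm
  rw [hc'.orderOf_mul_eq_mul_orderOf_of_coprime hcop, hZord]
  exact Nat.lcm_dvd_mul _ _

section

variable (p : ℕ) [Fact p.Prime] [CharP F p]

include p in
/-- A block element: torus of degree `e` times a regular unipotent. -/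
theorem exists_block_SU (hF : Fintype.card F = q ^ 2) (hpq : p ∣ q) {e : ℕ} (he : 1 ≤ e)
    (hen : e < n) :
    ∃ (A : Cfsg.SU n F q) (P : Matrix (Fin n) (Fin n) F),
      P * P = P ∧ P ≠ 0 ∧ P ≠ 1 ∧ Commute (mat A) P ∧ hstar q P = P ∧
      uH q e * p ^ Nat.clog p (n - e) ∣ orderOf (toPSU A) := by
  obtain ⟨R, _, _, _, _, PT, T, hR, hT1, hT2, hT3⟩ := exists_torus_alg p hF he
  obtain ⟨PU, u, hu1, hu2, hu3⟩ := exists_unipotent_herm p hF (show 1 ≤ n - e by omega)
  let pb := AdjoinRoot.powerBasis' (monic_X_pow (n - e) : ((X : F[X]) ^ (n - e)).Monic)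
  have : FiniteDimensional F (AdjoinRoot ((X : F[X]) ^ (n - e))) := pb.finite
  have hS : Module.finrank F (AdjoinRoot ((X : F[X]) ^ (n - e))) = n - e := by
    rw [pb.finrank]; simp [pb]
  have : Nontrivial (AdjoinRoot ((X : F[X]) ^ (n - e))) :=
    Module.nontrivial_of_finrank_pos (R := F) (by rw [hS]; omega)
  have hfin : Module.finrank F (R × AdjoinRoot ((X : F[X]) ^ (n - e))) = n := by
    rw [Module.finrank_prod, hR, hS]; omega
  obtain ⟨A, Ψ, hΨ, hAΨ, hstarΨ⟩ := exists_suOf hF (PT.prod hF PU) hfin (T, u)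
    (by show (PT.σ T * T, PU.σ u * u) = 1; rw [hT1, hu1]; rfl)
    (by rw [Cfsg.Agent.H55.norm_prod, hT2, hu2, one_mul])
  refine ⟨A, Ψ (1, 0), ?_, ?_, ?_, ?_, ?_, ?_⟩
  · rw [← map_mul]; simp
  · intro h
    have := hΨ (h.trans (map_zero _).symm)
    exact one_ne_zero (congrArg Prod.fst this)
  · intro h
    have := hΨ (h.trans (map_one _).symm)
    exact zero_ne_one (congrArg Prod.snd this)
  · rw [hAΨ]; exact (Commute.all _ _).map Ψ
  · rw [hstarΨ]
    congr 1
    exact Prod.ext (map_one PT.σ) (map_zero PU.σ)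
  · obtain ⟨c, hc⟩ := (toPSU_pow_eq_one_iff hF (by omega) A _).1 (pow_orderOf_eq_one (toPSU A))
    set h := orderOf (toPSU A)
    rw [hAΨ, ← map_pow, ← AlgHom.commutes Ψ c] at hc
    have hc2 := hΨ hc
    obtain ⟨hc1, hp⟩ := hu3 h c (congrArg Prod.snd hc2)
    have hcT : T ^ h = algebraMap F R c := congrArg Prod.fst hc2
    rw [hc1, map_one] at hcT
    refine Nat.Coprime.mul_dvd_of_dvd_of_dvd ?_ ?_ hp
    · exact (uH_coprime (by have := two_le_q hF; omega) Fact.out hpq he).pow_right _
    · exact hT3 ▸ orderOf_dvd_of_pow_eq_one hcT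

include p in
/-- The Coxeter torus. -/
theorem exists_coxeter_SU (hF : Fintype.card F = q ^ 2) (hn : 2 ≤ n) :
    ∃ Y : Cfsg.PSU n F q, uH q n / Nat.gcd n (q + 1) ∣ orderOf Y := by
  have hq := two_le_q hF
  obtain ⟨R, _, _, _, _, P, T, hR, hT1, hT2, hT3⟩ :=
    exists_torus_alg p hF (show 1 ≤ n by omega)
  obtain ⟨A, Ψ, hΨ, hAΨ, -⟩ := exists_suOf hF P hR T hT1 hT2
  refine ⟨toPSU A, ?_⟩
  obtain ⟨c, hc⟩ := (toPSU_pow_eq_one_iff hF hn A _).1 (pow_orderOf_eq_one (toPSU A))
  set j := orderOf (toPSU A)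
  rw [hAΨ, ← map_pow, ← AlgHom.commutes Ψ c] at hc
  have hcT : T ^ j = algebraMap F R c := hΨ hc
  have hcq : c ^ (q + 1) = 1 := by
    apply (algebraMap F R).injective
    rw [map_one, pow_succ, map_mul, ← P.semi, ← hcT, map_pow, ← mul_pow, hT1, one_pow]
  have h1 : uH q n ∣ j * (q + 1) := by
    rw [← hT3]
    exact orderOf_dvd_of_pow_eq_one (by rw [pow_mul, hcT, ← map_pow, hcq, map_one])
  have h3 : uH q n ∣ j * Nat.gcd (uH q n) (q + 1) := by
    rw [← Nat.gcd_mul_left]
    exact Nat.dvd_gcd (dvd_mul_left _ _) h1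
  rw [uH_gcd (by omega)] at h3
  exact (Nat.div_dvd_iff_dvd_mul (uH_gcd (q := q) (by omega) n ▸ Nat.gcd_dvd_left _ _)
    (Nat.gcd_pos_of_pos_left _ (by omega))).2 (by rwa [mul_comm])

end

/-! ### The twisted reciprocal polynomial -/

/-- Conjugate the coefficients and reverse. -/
noncomputable def ustar (hF : Fintype.card F = q ^ 2) (f : F[X]) : F[X] :=
  (f.map (frob hF).toRingHom).reverse

variable (hF : Fintype.card F = q ^ 2)
include hF

theorem ustar_mul (f g : F[X]) : ustar hF (f * g) = ustar hF f * ustar hF g := by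
  rw [ustar, Polynomial.map_mul, reverse_mul_of_domain]; rfl

theorem ustar_pow (f : F[X]) (i : ℕ) : ustar hF (f ^ i) = ustar hF f ^ i := by
  induction i with
  | zero =>
    rw [pow_zero, pow_zero, ustar, Polynomial.map_one, ← C_1, reverse_C]
  | succ i ih => rw [pow_succ, ustar_mul, ih, pow_succ]

theorem ustar_dvd {f g : F[X]} (h : f ∣ g) : ustar hF f ∣ ustar hF g := by
  obtain ⟨c, rfl⟩ := h
  exact ⟨ustar hF c, ustar_mul hF f c⟩

theorem natDegree_ustar {f : F[X]} (h0 : f.coeff 0 ≠ 0) :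
    (ustar hF f).natDegree = f.natDegree := by
  have h : (f.map (frob hF).toRingHom).natTrailingDegree = 0 :=
    Nat.le_zero.1 (natTrailingDegree_le_of_ne_zero (by
      rw [coeff_map]; simpa using h0))
  rw [ustar, reverse_natDegree, h, Nat.sub_zero,
    natDegree_map_eq_of_injective (frob hF).toRingHom.injective]

theorem coeff_zero_ustar (f : F[X]) : (ustar hF f).coeff 0 = f.leadingCoeff ^ q := by
  rw [ustar, coeff_zero_reverse, leadingCoeff_map_of_injective (frob hF).toRingHom.injective]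
  rfl

theorem leadingCoeff_ustar {f : F[X]} (h0 : f.coeff 0 ≠ 0) :
    (ustar hF f).leadingCoeff = f.coeff 0 ^ q := by
  rw [leadingCoeff, natDegree_ustar hF h0, ustar, coeff_reverse,
    natDegree_map_eq_of_injective (frob hF).toRingHom.injective, revAt_le le_rfl, Nat.sub_self,
    coeff_map]
  rfl

theorem ustar_ustar {f : F[X]} (h0 : f.coeff 0 ≠ 0) : ustar hF (ustar hF f) = f := by
  have hd : (f.map (frob hF).toRingHom).reverse.natDegree = f.natDegree := natDegree_ustar hF h0
  have hdm : (f.map (frob hF).toRingHom).natDegree = f.natDegree :=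
    natDegree_map_eq_of_injective (frob hF).toRingHom.injective f
  rw [ustar, ustar, reverse, natDegree_map_eq_of_injective (frob hF).toRingHom.injective, hd,
    reverse, hdm, ← reflect_map, reflect_reflect, Polynomial.map_map]
  ext i
  rw [coeff_map]
  exact pow_q_q hF _

theorem irreducible_ustar {f : F[X]} (hf : Irreducible f) (h0 : f.coeff 0 ≠ 0) :
    Irreducible (ustar hF f) := by
  have hne : (ustar hF f).coeff 0 ≠ 0 := by
    rw [coeff_zero_ustar]; exact pow_ne_zero _ (leadingCoeff_ne_zero.2 hf.ne_zero)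
  refine ⟨fun hu => ?_, fun a b hab => ?_⟩
  · have h1 := natDegree_eq_zero_of_isUnit hu
    rw [natDegree_ustar hF h0] at h1
    exact hf.natDegree_pos.ne' h1
  · have hab0 : a.coeff 0 ≠ 0 ∧ b.coeff 0 ≠ 0 := by
      rw [hab, mul_coeff_zero] at hne
      exact ⟨left_ne_zero_of_mul hne, right_ne_zero_of_mul hne⟩
    have h2 : f = ustar hF a * ustar hF b := by rw [← ustar_mul, ← hab, ustar_ustar hF h0]
    have key : ∀ c : F[X], c.coeff 0 ≠ 0 → IsUnit (ustar hF c) → IsUnit c := by
      intro c hc hu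
      rw [isUnit_iff_degree_eq_zero, degree_eq_natDegree (fun h => hc (by simp [h])),
        ← natDegree_ustar hF hc, natDegree_eq_zero_of_isUnit hu]
      rfl
    exact (hf.isUnit_or_isUnit h2).imp (key a hab0.1) (key b hab0.2)

theorem ustar_X_pow_sub_C {H : ℕ} (hH : 0 < H) {c : F} (hc : c ^ q * c = 1) :
    ustar hF (X ^ H - C c) = C (-(c ^ q)) * (X ^ H - C c) := by
  have hm : (X ^ H - C c : F[X]).map (frob hF).toRingHom = X ^ H - C (c ^ q) := by
    simp [Polynomial.map_sub, frob_apply]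
  rw [ustar, hm, reverse, natDegree_X_pow_sub_C, sub_eq_add_neg, ← map_neg, reflect_add,
    reflect_monomial, reflect_C, revAt_le le_rfl, Nat.sub_self, pow_zero]
  have : C (c ^ q) * C c = (1 : F[X]) := by rw [← C_mul, hc, C_1]
  rw [map_neg]
  linear_combination -this

omit [Fintype F] hF in
theorem aeval_reflect {R : Type*} [Ring R] [Algebra F R] {x x' : R} (h : x * x' = 1)
    (h' : x' * x = 1) (g : F[X]) (N : ℕ) (hN : g.natDegree ≤ N) :
    aeval x (reflect N g) = x ^ N * aeval x' g := by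
  refine Polynomial.induction_with_natDegree_le
    (fun g => aeval x (reflect N g) = x ^ N * aeval x' g) N (by simp) ?_ ?_ g hN
  · intro j a _ hj
    simp only [reflect_C_mul_X_pow, revAt_le hj, map_mul, aeval_C, map_pow, aeval_X]
    rw [← mul_assoc, ← Algebra.commutes, mul_assoc]
    congr 1
    obtain ⟨i, rfl⟩ := Nat.exists_eq_add_of_le hj
    rw [Nat.add_sub_cancel_left, add_comm, pow_add, mul_assoc,
      ← (show Commute x x' from h.trans h'.symm).mul_pow, h, one_pow, mul_one]
  · intro a b _ _ iha ihb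
    simp only [reflect_add, map_add, mul_add, iha, ihb]

theorem hstar_aeval (M : Matrix (Fin n) (Fin n) F) (f : F[X]) :
    hstar q (aeval M f) = aeval (hstar q M) (f.map (frob hF).toRingHom) := by
  induction f using Polynomial.induction_on' with
  | add a b ha hb => rw [map_add, hstar_add hF, ha, hb, Polynomial.map_add, map_add]
  | monomial j c =>
    rw [map_monomial, aeval_monomial, aeval_monomial, hstar_mul hF, hstar_algebraMap hF,
      hstar_pow hF, ← Algebra.commutes]
    rfl

theorem aeval_ustar (A : Cfsg.SU n F q) (f : F[X]) :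
    aeval (mat A) (ustar hF f) = mat A ^ f.natDegree * hstar q (aeval (mat A) f) := by
  rw [hstar_aeval hF, ustar, reverse, natDegree_map_eq_of_injective (frob hF).toRingHom.injective]
  exact aeval_reflect (mul_eq_one_comm.1 (hstar_mat hF A)) (hstar_mat hF A) _ _
    (natDegree_map_eq_of_injective (frob hF).toRingHom.injective f).le

/-- Either a proper self-adjoint idempotent commutes with `A`, or the minimal polynomial is a
power of an irreducible self-dual `g` or of a dual pair. -/
theorem idempotent_or_primary_SU (A : Cfsg.SU n F q) (hn : 0 < n) :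
    (∃ P : Matrix (Fin n) (Fin n) F, P * P = P ∧ P ≠ 0 ∧ P ≠ 1 ∧ Commute (mat A) P ∧
      hstar q P = P) ∨
    ∃ (f g : F[X]) (i : ℕ), f.Monic ∧ Irreducible f ∧ f.coeff 0 ≠ 0 ∧ g.Monic ∧ 1 ≤ i ∧
      g.natDegree * i ≤ n ∧ aeval (mat A) (g ^ i) = 0 ∧ g ∣ minpoly F (mat A) ∧
      ((g = f ∧ Associated (ustar hF f) f) ∨
        ∃ f' : F[X], f'.Monic ∧ Irreducible f' ∧ f' ≠ f ∧ Associated (ustar hF f) f' ∧
          g = f * f') := by
  have : Nonempty (Fin n) := ⟨⟨0, hn⟩⟩
  set M := mat A with hM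
  set μ := minpoly F M with hμdef
  have hint : IsIntegral F M := Matrix.isIntegral _
  have hmon : μ.Monic := minpoly.monic hint
  have haev : ∀ s : F[X], aeval M s = 0 ↔ μ ∣ s := fun s => (minpoly.dvd_iff).symm
  have hAA : hstar q M * M = 1 := hstar_mat hF A
  have h0 : μ.coeff 0 ≠ 0 := by
    intro h
    obtain ⟨w, hw⟩ := X_dvd_iff.2 h
    have e := minpoly.aeval F M
    rw [← hμdef, hw, map_mul, aeval_X] at e
    have h1 : aeval M w = 0 := by
      rw [← one_mul (aeval M w), ← hAA, mul_assoc, e, mul_zero]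
    have hne : w ≠ 0 := by
      rintro rfl
      rw [mul_zero] at hw
      exact hmon.ne_zero hw
    have hle := natDegree_le_of_dvd ((haev w).1 h1) hne
    rw [hw, natDegree_X_mul hne] at hle
    omega
  have hμμ : Associated μ (ustar hF μ) := by
    have hd : μ ∣ ustar hF μ := by
      rw [← haev, hM, aeval_ustar hF, ← hM, hμdef, minpoly.aeval,
        show hstar q (0 : Matrix (Fin n) (Fin n) F) = 0 by ext a b; simp [hstar, q_ne_zero hF],
        mul_zero]
    obtain ⟨w, hw⟩ := hd
    have hne : ustar hF μ ≠ 0 := fun h => by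
      have := coeff_zero_ustar hF μ
      rw [h, coeff_zero, hmon.leadingCoeff, one_pow] at this
      exact zero_ne_one this
    have hw0 : w ≠ 0 := fun h => hne (by rw [hw, h, mul_zero])
    refine ⟨(isUnit_iff_degree_eq_zero.2 ?_ : IsUnit w).unit, by rw [IsUnit.unit_spec]; exact hw.symm⟩
    have := natDegree_ustar hF h0
    rw [hw, natDegree_mul hmon.ne_zero hw0] at this
    rw [degree_eq_natDegree hw0, show w.natDegree = 0 by omega]
    rfl
  obtain ⟨f, hfm, hf, hfμ⟩ :=
    Polynomial.exists_monic_irreducible_factor μ (minpoly.not_isUnit F M)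
  have hf0 : f.coeff 0 ≠ 0 := by
    obtain ⟨w, hw⟩ := hfμ
    rw [hw, mul_coeff_zero] at h0
    exact left_ne_zero_of_mul h0
  have hsf := irreducible_ustar hF hf hf0
  set f' : F[X] := ustar hF f * C (ustar hF f).leadingCoeff⁻¹ with hf'def
  have hf'm : f'.Monic := monic_mul_leadingCoeff_inv hsf.ne_zero
  have hass : Associated (ustar hF f) f' :=
    (associated_mul_unit_left _ _
      (isUnit_C.2 (isUnit_iff_ne_zero.2 (inv_ne_zero (leadingCoeff_ne_zero.2 hsf.ne_zero))))).symm
  have hf' : Irreducible f' := hass.irreducible hsf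
  have hsf' : Associated (ustar hF f') f := by
    obtain ⟨v, hv⟩ := hass
    rw [← hv, ustar_mul, ustar_ustar hF hf0]
    refine associated_mul_unit_left _ _ ?_
    exact isUnit_of_dvd_one (by
      have := ustar_dvd hF (v.isUnit.dvd (a := (1 : F[X])))
      rwa [show ustar hF (1 : F[X]) = 1 by simpa using ustar_pow hF (X : F[X]) 0] at this)
  obtain ⟨i, r1, hr1, hμ1⟩ := WfDvdMonoid.max_power_factor hmon.ne_zero hf
  have hi : 1 ≤ i := by
    rcases Nat.eq_zero_or_pos i with rfl | h
    · rw [pow_zero, one_mul] at hμ1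
      exact absurd (hμ1 ▸ hfμ) hr1
    · exact h
  have hpow' : f' ^ i ∣ μ := by
    have h1 : ustar hF (f ^ i) ∣ ustar hF μ := ustar_dvd hF (Dvd.intro r1 hμ1.symm)
    rw [ustar_pow] at h1
    exact ((hass.pow_pow (n := i)).symm.dvd.trans h1).trans hμμ.symm.dvd
  have hmax' : ¬ f' ^ (i + 1) ∣ μ := by
    intro h
    have h1 := ustar_dvd hF h
    rw [ustar_pow] at h1
    have h2 : f ^ (i + 1) ∣ μ :=
      ((hsf'.pow_pow (n := i + 1)).symm.dvd.trans h1).trans hμμ.symm.dvd
    rw [hμ1, pow_succ] at h2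
    exact hr1 ((mul_dvd_mul_iff_left (pow_ne_zero i hf.ne_zero)).1 h2)
  obtain ⟨g, rest, hgm, hgr, hstarg, hco, hcases⟩ : ∃ g rest : F[X], g.Monic ∧
      μ = g ^ i * rest ∧ Associated (ustar hF g) g ∧ IsCoprime (g ^ i) rest ∧
      ((g = f ∧ Associated (ustar hF f) f) ∨
        ∃ f'' : F[X], f''.Monic ∧ Irreducible f'' ∧ f'' ≠ f ∧ Associated (ustar hF f) f'' ∧
          g = f * f'') := by
    by_cases hff : f' = f
    · exact ⟨f, r1, hfm, hμ1, hff ▸ hass, (hf.coprime_iff_not_dvd.2 hr1).pow_left,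
        Or.inl ⟨rfl, hff ▸ hass⟩⟩
    · have hco : IsCoprime f f' := hf.coprime_iff_not_dvd.2 fun hd =>
        hff (eq_of_monic_of_associated hfm hf'm (hf.associated_of_dvd hf' hd)).symm
      obtain ⟨r2, hμ2⟩ := ((hco.symm.pow (m := i) (n := i)).dvd_of_dvd_mul_left (hμ1 ▸ hpow'))
      refine ⟨f * f', r2, hfm.mul hf'm, by rw [hμ1, hμ2]; ring, ?_, ?_,
        Or.inr ⟨f', hf'm, hf', hff, hass, rfl⟩⟩
      · rw [ustar_mul]
        exact (hass.mul_mul hsf').trans (Associated.of_eq (mul_comm f' f))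
      · rw [mul_pow]
        refine IsCoprime.mul_left (hf.coprime_iff_not_dvd.2 fun hd => hr1 ?_).pow_left
          (hf'.coprime_iff_not_dvd.2 fun hd => hmax' ?_).pow_left
        · rw [hμ2]; exact hd.mul_left _
        · rw [hμ1, hμ2, pow_succ]
          exact (mul_dvd_mul_left _ hd).mul_left _
  have hgμ : g ∣ μ := (dvd_pow_self g (by omega : i ≠ 0)).trans (Dvd.intro rest hgr.symm)
  by_cases hu : IsUnit rest
  · right
    refine ⟨f, g, i, hfm, hf, hf0, hgm, hi, ?_, (haev _).2 ?_, hgμ, hcases⟩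
    · have h := natDegree_le_of_dvd (Dvd.intro rest hgr.symm : g ^ i ∣ μ) hmon.ne_zero
      rw [natDegree_pow, mul_comm] at h
      exact h.trans (minpoly_natDegree_le M)
    · rw [hgr]; exact hu.mul_right_dvd.2 dvd_rfl
  · left
    obtain ⟨c, d, hcd⟩ := hco
    set P := aeval M (d * rest) with hP
    have hPG : P * aeval M (g ^ i) = 0 := by
      rw [hP, ← map_mul]
      exact (haev _).2 ⟨d, by rw [hgr]; ring⟩
    have hsum : aeval M (c * g ^ i) + P = 1 := by rw [hP, ← map_add, hcd, map_one]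
    have hPR : P * aeval M rest = aeval M rest := by
      have h : aeval M (c * g ^ i) * aeval M rest = 0 := by
        rw [← map_mul]
        exact (haev _).2 ⟨c, by rw [hgr]; ring⟩
      calc P * aeval M rest = (aeval M (c * g ^ i) + P) * aeval M rest := by
            rw [add_mul, h, zero_add]
        _ = _ := by rw [hsum, one_mul]
    have hPP : P * P = P := by
      conv_lhs => arg 2; rw [hP, map_mul]
      rw [← mul_assoc, hP, ← map_mul, mul_comm (d * rest) d, map_mul, mul_assoc, ← hP, hPR,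
        ← map_mul]
    have hPcomm : Commute M P := by
      have h := (Commute.all (X : F[X]) (d * rest)).map (aeval M)
      simpa [hP] using h
    have hsP : ∀ G : F[X], hstar q P * aeval M G = aeval M G * hstar q P := by
      intro G
      have hc : Commute M (hstar q P) := by
        have h1 : hstar q P * hstar q M = hstar q M * hstar q P := by
          rw [← hstar_mul hF, ← hstar_mul hF, hPcomm.eq]
        show M * hstar q P = hstar q P * M
        calc M * hstar q P = M * (hstar q P * hstar q M) * M := by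
              rw [mul_assoc, mul_assoc, hAA, mul_one]
          _ = _ := by rw [h1, ← mul_assoc, mul_eq_one_comm.1 hAA, one_mul]
      induction G using Polynomial.induction_on' with
      | add a b ha hb => rw [map_add, mul_add, add_mul, ha, hb]
      | monomial j a =>
        rw [aeval_monomial, ← mul_assoc, ← Algebra.commutes, mul_assoc, mul_assoc,
          (hc.symm.pow_right j).eq]
    -- transport the two relations
    have htrans : ∀ G : F[X], Associated (ustar hF G) G → ∀ W : Matrix (Fin n) (Fin n) F,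
        W * hstar q (aeval M G) = 0 → W * aeval M G = 0 := by
      intro G hG W hW
      obtain ⟨v, hv⟩ := hG
      have hc : Commute (M ^ G.natDegree) (hstar q (aeval M G)) := by
        rw [hM, hstar_aeval hF, ← hM]
        have hcM : Commute M (hstar q M) := (mul_eq_one_comm.1 hAA).trans hAA.symm
        generalize G.map (frob hF).toRingHom = G'
        induction G' using Polynomial.induction_on' with
        | add a b ha hb => rw [map_add]; exact ha.add_right hb
        | monomial j a =>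
          rw [aeval_monomial]
          exact (Algebra.commute_algebraMap_right a _).mul_right (hcM.pow_pow _ _)
      rw [← hv, map_mul, hM, aeval_ustar hF, ← hM, hc.eq, ← mul_assoc, ← mul_assoc, hW, zero_mul,
        zero_mul]
    have hrest : Associated (ustar hF rest) rest := by
      have h1 : Associated (ustar hF (g ^ i) * ustar hF rest) (g ^ i * rest) := by
        rw [← ustar_mul, ← hgr]; exact hμμ.symm
      refine Associated.of_mul_left h1 (by rw [ustar_pow]; exact hstarg.pow_pow) ?_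
      rw [ustar_pow]
      exact pow_ne_zero _ fun h => hgm.ne_zero (hstarg.eq_zero_iff.1 h)
    have hgi : Associated (ustar hF (g ^ i)) (g ^ i) := by rw [ustar_pow]; exact hstarg.pow_pow
    have hzero : hstar q (0 : Matrix (Fin n) (Fin n) F) = 0 := by
      ext a b; simp [hstar, q_ne_zero hF]
    have hG0 : hstar q P * aeval M (g ^ i) = 0 := by
      refine htrans _ hgi _ ?_
      rw [← hstar_mul hF, ← map_mul]
      rw [(haev (g ^ i * (d * rest))).2 ⟨d, by rw [hgr]; ring⟩, hzero]
    have hR0 : hstar q P * aeval M rest = aeval M rest := by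
      have h := htrans rest hrest (1 - hstar q P) (by
        rw [sub_mul, one_mul, ← hstar_mul hF, ← map_mul]
        rw [show aeval M (rest * (d * rest)) = aeval M rest by
          rw [mul_comm rest, map_mul, ← hP, hPR], sub_self])
      rw [sub_mul, one_mul, sub_eq_zero] at h
      exact h.symm
    have hPs : hstar q P = P := by
      calc hstar q P = hstar q P * aeval M (c * g ^ i) + hstar q P * P := by
            rw [← mul_add, hsum, mul_one]
        _ = P := by
          rw [show aeval M (c * g ^ i) = aeval M (g ^ i) * aeval M c by rw [← map_mul, mul_comm],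
            ← mul_assoc, hG0, zero_mul, zero_add]
          conv_lhs => arg 2; rw [hP, mul_comm d rest, map_mul]
          rw [← mul_assoc, hR0, ← map_mul, mul_comm rest d]
    refine ⟨P, hPP, fun h => ?_, fun h => ?_, hPcomm, hPs⟩
    · have h1 : aeval M rest = 0 := by rw [← hPR, h, zero_mul]
      obtain ⟨v, hv⟩ := (haev rest).1 h1
      rw [hgr] at hv
      have hr : rest ≠ 0 := fun h => hmon.ne_zero (by rw [hgr, h, mul_zero])
      have h2 : g ^ i * v = 1 := by
        apply mul_left_cancel₀ hr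
        conv_rhs => rw [mul_one, hv]
        ring
      have h3 := natDegree_eq_zero_of_isUnit (IsUnit.of_mul_eq_one _ h2)
      rw [natDegree_pow] at h3
      rcases Nat.mul_eq_zero.1 h3 with h4 | h4
      · omega
      · rcases hcases with ⟨rfl, -⟩ | ⟨f'', -, hf'', -, -, rfl⟩
        · exact hf.natDegree_pos.ne' h4
        · rw [natDegree_mul hf.ne_zero hf''.ne_zero] at h4
          have := hf.natDegree_pos
          omega
    · have h1 : aeval M (g ^ i) = 0 := by rw [← one_mul (aeval M (g ^ i)), ← h, hPG]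
      obtain ⟨v, hv⟩ := (haev _).1 h1
      rw [hgr] at hv
      apply hu
      refine IsUnit.of_mul_eq_one (a := rest) v (mul_left_cancel₀ (pow_ne_zero i hgm.ne_zero) ?_)
      conv_rhs => rw [mul_one, hv]
      ring

theorem pow_geom_of_norm_one {c : F} (hc : c ^ q * c = 1) (d : ℕ) :
    c ^ (∑ j ∈ Finset.range d, q ^ j) = if Odd d then c else 1 := by
  induction d with
  | zero => simp
  | succ d ih =>
    rw [Finset.sum_range_succ', pow_add, pow_zero, pow_one]
    simp only [pow_succ, ← Finset.sum_mul]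
    rw [pow_mul, ih]
    by_cases hd : Odd d
    · rw [if_pos hd, hc, if_neg (by simpa [Nat.odd_add_one] using hd)]
    · rw [if_neg hd, one_pow, one_mul, if_pos (by simpa [Nat.odd_add_one] using hd)]

/-- The roots of `g` satisfy `X ^ H - c` with a norm-one constant. -/
theorem dvd_const_of_pow {f g : F[X]} (hf : Irreducible f)
    (hg : (g = f ∧ Associated (ustar hF f) f) ∨
      ∃ f' : F[X], f'.Monic ∧ Irreducible f' ∧ f' ≠ f ∧ Associated (ustar hF f) f' ∧ g = f * f')
    (hfm : f.Monic) {H : ℕ} (hH : 0 < H) (h : f ∣ X ^ (H * (q + 1)) - 1) :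
    ∃ c : F, c ^ q * c = 1 ∧ g ∣ X ^ H - C c := by
  have : Fact (Irreducible f) := ⟨hf⟩
  have hy : (AdjoinRoot.root f ^ H) ^ (q + 1) = 1 := by
    have := AdjoinRoot.mk_eq_zero.2 h
    rwa [map_sub, map_pow, AdjoinRoot.mk_X, map_one, sub_eq_zero, pow_mul] at this
  obtain ⟨c, hc⟩ := exists_const_of_pow_eq_one (F := F) (x := AdjoinRoot.root f ^ H) (by
    rw [Nat.card_eq_fintype_card, hF, show q ^ 2 - 1 = (q + 1) * (q - 1) by
      simpa using Nat.sq_sub_sq q 1, pow_mul, hy, one_pow])
  have hc1 : c ^ q * c = 1 := by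
    apply (algebraMap F (AdjoinRoot f)).injective
    rw [← pow_succ, map_pow, ← hc, hy, map_one]
  have hfd : f ∣ X ^ H - C c := by
    rw [← AdjoinRoot.mk_eq_zero, map_sub, map_pow, AdjoinRoot.mk_X, AdjoinRoot.mk_C, hc,
      AdjoinRoot.algebraMap_eq, sub_self]
  refine ⟨c, hc1, ?_⟩
  rcases hg with ⟨rfl, -⟩ | ⟨f', hf'm, hf', hff, hass, rfl⟩
  · exact hfd
  · refine IsCoprime.mul_dvd (hf.coprime_iff_not_dvd.2 fun hd =>
      hff (eq_of_monic_of_associated hfm hf'm (hf.associated_of_dvd hf' hd)).symm) hfd ?_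
    have h1 := ustar_dvd hF hfd
    rw [ustar_X_pow_sub_C hF hH hc1] at h1
    have hcu : IsUnit (C (-(c ^ q)) : F[X]) :=
      isUnit_C.2 (isUnit_iff_ne_zero.2 (neg_ne_zero.2 fun h0 => by rw [h0, zero_mul] at hc1; exact zero_ne_one hc1))
    exact hass.symm.dvd.trans ((hcu.dvd_mul_left).1 h1)

/-- Orders of primary elements. -/
theorem primary_bound {f g : F[X]} (hfm : f.Monic) (hf : Irreducible f) (hf0 : f.coeff 0 ≠ 0)
    (hg : (g = f ∧ Associated (ustar hF f) f) ∨
      ∃ f' : F[X], f'.Monic ∧ Irreducible f' ∧ f' ≠ f ∧ Associated (ustar hF f) f' ∧ g = f * f') :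
    (∃ c : F, g ∣ X ^ uH q g.natDegree - C c) ∧
      ((-1 : F) ^ g.natDegree * g.coeff 0 = 1 →
        ∃ c : F, g ∣ X ^ (uH q g.natDegree / Nat.gcd g.natDegree (q + 1)) - C c) := by
  obtain ⟨p, fexp, hp, -, hpF, hqp⟩ := exists_char_pow hF
  have : Fact p.Prime := ⟨hp⟩
  have hq := two_le_q hF
  have hcard : Nat.card F = q ^ 2 := by rw [Nat.card_eq_fintype_card, hF]
  have : Fact (Irreducible f) := ⟨hf⟩
  have : Module.Finite F (AdjoinRoot f) := (AdjoinRoot.powerBasis hf.ne_zero).finite
  have : Finite (AdjoinRoot f) := Module.finite_of_finite F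
  have : Fintype (AdjoinRoot f) := Fintype.ofFinite _
  set α := AdjoinRoot.root f with hα
  set d := f.natDegree with hd
  have hdpos : 0 < d := hf.natDegree_pos
  have hK : Nat.card (AdjoinRoot f) = q ^ (2 * d) := by
    rw [Module.natCard_eq_pow_finrank (K := F), (AdjoinRoot.powerBasis hf.ne_zero).finrank,
      AdjoinRoot.powerBasis_dim, hcard, ← pow_mul]
  have hper : ∀ (x : AdjoinRoot f) (u : ℕ), x ^ q ^ (2 * d * u) = x := by
    intro x u
    rw [pow_mul, ← hK, Nat.card_eq_fintype_card, FiniteField.pow_card_pow]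
  have hdvdα : ∀ s : F[X], aeval α s = 0 ↔ f ∣ s := fun s => by
    rw [hα, AdjoinRoot.aeval_eq, AdjoinRoot.mk_eq_zero]
  have hα0 : α ≠ 0 := by
    intro h
    have h1 : aeval α f = 0 := (hdvdα f).2 dvd_rfl
    rw [h, ← coeff_zero_eq_aeval_zero'] at h1
    exact hf0 ((algebraMap F (AdjoinRoot f)).injective (h1.trans (map_zero _).symm))
  have key : ∀ j, f ∣ X ^ j - 1 ↔ α ^ j = 1 := fun j => by
    rw [← hdvdα, map_sub, map_pow, aeval_X, map_one, sub_eq_zero]
  -- the degree of `g` and the order of the roots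
  obtain ⟨hgd, hroot⟩ : (g = f → Odd d) ∧ α ^ (uH q g.natDegree * (q + 1)) = 1 := by
    rcases hg with ⟨rfl, hass⟩ | ⟨f', -, hf', hff, hass, rfl⟩
    · have hs : aeval α (ustar hF g) = 0 := (hdvdα _).2 hass.symm.dvd
      rw [ustar, reverse, natDegree_map_eq_of_injective (frob hF).toRingHom.injective,
        aeval_reflect (mul_inv_cancel₀ hα0) (inv_mul_cancel₀ hα0) _ _
          (natDegree_map_eq_of_injective (frob hF).toRingHom.injective g).le,
        mul_eq_zero, or_iff_right (pow_ne_zero _ hα0)] at hs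
      obtain ⟨T, hT⟩ := exists_frobPow hF (AdjoinRoot g) 1
      have hTg : aeval (T α⁻¹) g = 0 := by
        have h1 := congrArg T hs
        rw [map_zero, aeval_def, eval₂_map, hom_eval₂] at h1
        rw [aeval_def]
        rwa [show T.comp ((algebraMap F (AdjoinRoot g)).comp (frob hF).toRingHom) =
          algebraMap F (AdjoinRoot g) from RingHom.ext fun a => by
            show T (algebraMap F _ (a ^ q)) = _
            rw [hT, pow_one, ← map_pow, pow_q_q hF]] at h1
      let τ : AdjoinRoot g →ₐ[F] AdjoinRoot g :=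
        AdjoinRoot.liftAlgHom g (Algebra.ofId F _) (T α⁻¹) hTg
      have hτ : τ α = T α⁻¹ := AdjoinRoot.liftAlgHom_root _ _ _ _
      obtain ⟨j, hj⟩ := FiniteField.exists_forall_apply_eq_pow F p (AdjoinRoot g)
        (AlgEquiv.ofBijective τ ⟨τ.toRingHom.injective,
          Finite.injective_iff_surjective.1 τ.toRingHom.injective⟩)
      have hj' : α ^ q ^ (2 * j) = T α⁻¹ := by
        rw [← hτ, pow_mul, ← hcard]
        exact (hj α).symm
      obtain ⟨m, hm⟩ : ∃ m, 2 * (j + d) = m + 1 := ⟨2 * (j + d) - 1, by omega⟩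
      have hmodd : Odd m := ⟨j + d - 1, by omega⟩
      have hαm : α ^ q ^ m = α⁻¹ := by
        apply T.injective
        rw [← hj', hT, ← pow_mul, ← pow_add, ← hm, mul_add, pow_add, pow_mul]
        have := hper (α ^ q ^ (2 * j)) 1
        rwa [mul_one] at this
      have hα2 : α ^ q ^ (2 * m) = α := by
        rw [two_mul, pow_add, pow_mul, hαm, inv_pow, hαm, inv_inv]
      have hdm : d ∣ m := hf.natDegree_dvd_of_dvd_X_pow_card_pow_sub_X ((hdvdα _).1 (by
        rw [map_sub, map_pow, aeval_X, hcard, ← pow_mul, hα2, sub_self]))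
      obtain ⟨t, rfl⟩ := hdm
      obtain ⟨hdo, hto⟩ := Nat.odd_mul.1 hmodd
      obtain ⟨u, rfl⟩ := hto
      have hαd : α ^ q ^ d = α⁻¹ := by
        rw [← hαm, show d * (2 * u + 1) = d + 2 * d * u by ring, pow_add, pow_mul α, hper]
      refine ⟨fun _ => hdo, ?_⟩
      rw [← hd, uH_mul_odd (by omega) hdo, pow_succ, hαd, inv_mul_cancel₀ hα0]
    · refine ⟨fun h => absurd ?_ hff, ?_⟩
      · have h1 := congrArg natDegree h
        rw [natDegree_mul hf.ne_zero hf'.ne_zero] at h1
        have := hf'.natDegree_pos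
        omega
      · have h1 : f'.natDegree = d := by
          rw [← natDegree_eq_of_degree_eq (degree_eq_degree_of_associated hass),
            natDegree_ustar hF hf0]
        rw [natDegree_mul hf.ne_zero hf'.ne_zero, h1, ← hd, ← two_mul,
          uH_mul_even (by omega) (even_two_mul d), ← hK, Nat.card_eq_fintype_card,
          FiniteField.pow_card_sub_one_eq_one α hα0]
  have hHpos : 0 < uH q g.natDegree := by
    have hgpos : 0 < g.natDegree := by
      rcases hg with ⟨rfl, -⟩ | ⟨f', -, hf', -, -, rfl⟩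
      · exact hdpos
      · rw [natDegree_mul hf.ne_zero hf'.ne_zero]
        omega
    rcases Nat.eq_zero_or_pos (uH q g.natDegree) with h | h
    · exfalso
      rcases Nat.even_or_odd g.natDegree with he | ho
      · have := uH_mul_even (q := q) (by omega) he
        rw [h, zero_mul] at this
        have : 1 < q ^ g.natDegree := Nat.one_lt_pow hgpos.ne' (by omega)
        omega
      · have := (uH_spec (q := q) (by omega) g.natDegree).2 ho
        omega
    · exact h
  refine ⟨?_, fun hdet => ?_⟩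
  · obtain ⟨c, -, hc⟩ := dvd_const_of_pow hF hf hg hfm hHpos ((key _).2 hroot)
    exact ⟨c, hc⟩
  -- with determinant one the constant is one
  have hone : α ^ uH q g.natDegree = 1 := by
    have hnorm := root_pow_geom hfm hf
    rw [← hd, hcard, ← hα] at hnorm
    have hq21 : q ^ 2 - 1 = (q + 1) * (q - 1) := by simpa using Nat.sq_sub_sq q 1
    have hdiv : q ^ 2 - 1 ∣ (q ^ 2) ^ d - 1 := by
      simpa using Nat.pow_sub_one_dvd_pow_sub_one (q ^ 2) (one_dvd d)
    set N := ((q ^ 2) ^ d - 1) / (q ^ 2 - 1) with hN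
    have hN' : N * (q ^ 2 - 1) = q ^ (2 * d) - 1 := by
      rw [hN, Nat.div_mul_cancel hdiv, pow_mul]
    rcases hg with ⟨rfl, hassf⟩ | ⟨f', hf'm, hf', -, hass, rfl⟩
    · have hdo := hgd rfl
      rw [← hd] at hdet hroot ⊢
      obtain ⟨c, hc, hcd⟩ := dvd_const_of_pow hF hf (Or.inl ⟨rfl, hassf⟩) hfm hHpos
        ((key _).2 hroot)
      rw [← hd] at hcd
      have hy : α ^ uH q d = algebraMap F _ c := by
        have := (hdvdα _).2 hcd
        rwa [map_sub, map_pow, aeval_X, aeval_C, sub_eq_zero] at this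
      have hgeom : uH q d * (∑ j ∈ Finset.range d, q ^ j) = N := by
        apply Nat.eq_of_mul_eq_mul_right (show 0 < (q + 1) * (q - 1) from
          Nat.mul_pos (by omega) (by omega))
        have hN'' := hN'
        rw [hq21] at hN''
        rw [hN'', mul_mul_mul_comm, uH_mul_odd (by omega) hdo, Nat.geomSum_eq hq,
          Nat.div_mul_cancel (by simpa using Nat.pow_sub_one_dvd_pow_sub_one q (one_dvd d)),
          pow_mul']
        simpa using (Nat.sq_sub_sq (q ^ d) 1).symm
      rw [← hgeom, pow_mul, hy, ← map_pow, pow_geom_of_norm_one hF hc, if_pos hdo, hdet, map_one,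
        AdjoinRoot.algebraMap_eq, ← map_one (AdjoinRoot.of g)] at hnorm
      rw [hy, AdjoinRoot.algebraMap_eq, hnorm, map_one]
    · have h1 : f'.natDegree = d := by
        rw [← natDegree_eq_of_degree_eq (degree_eq_degree_of_associated hass),
          natDegree_ustar hF hf0]
      rw [natDegree_mul hf.ne_zero hf'.ne_zero, h1, ← hd, ← two_mul] at hdet ⊢
      have hcoeff : f'.coeff 0 = (f.coeff 0 ^ q)⁻¹ := by
        obtain ⟨v, hv⟩ := hass
        obtain ⟨a, ha, hva⟩ := isUnit_iff.1 v.isUnit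
        have e1 := congrArg Polynomial.leadingCoeff hv
        rw [← hva, leadingCoeff_mul, leadingCoeff_C, leadingCoeff_ustar hF hf0] at e1
        have e2 := congrArg (fun P : F[X] => P.coeff 0) hv
        simp only [← hva, mul_coeff_zero, coeff_C_zero, coeff_zero_ustar, hfm.leadingCoeff,
          one_pow, one_mul] at e2
        rw [← e2]
        exact eq_inv_of_mul_eq_one_right (e1.trans hf'm.leadingCoeff)
      rw [pow_mul, neg_one_sq, one_pow, one_mul, mul_coeff_zero, hcoeff, ← div_eq_mul_inv,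
        div_eq_one_iff_eq (pow_ne_zero _ hf0)] at hdet
      have hν : ((-1 : F) ^ d * f.coeff 0) ^ q = (-1) ^ d * f.coeff 0 := by
        rw [mul_pow, ← hdet, ← pow_mul, mul_comm d q, pow_mul, neg_pow_q hF, one_pow]
      have hν0 : (-1 : F) ^ d * f.coeff 0 ≠ 0 :=
        mul_ne_zero (pow_ne_zero _ (neg_ne_zero.2 one_ne_zero)) hf0
      have hH : uH q (2 * d) = N * (q - 1) := by
        apply Nat.eq_of_mul_eq_mul_right (show 0 < q + 1 by omega)
        rw [uH_mul_even (by omega) (even_two_mul d), ← hN', hq21]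
        ring
      rw [hH, pow_mul, hnorm, ← map_pow, pow_sub_one_eq_one hF hν0 hν, map_one]
  have hgcd : Nat.gcd g.natDegree (q + 1) ∣ uH q g.natDegree := by
    rw [← uH_gcd (q := q) (by omega)]; exact Nat.gcd_dvd_left _ _
  obtain ⟨c, -, hc⟩ := dvd_const_of_pow hF hf hg hfm
    (Nat.div_pos (Nat.le_of_dvd hHpos hgcd) (Nat.gcd_pos_of_pos_right _ (by omega)))
    ((key _).2 (by
      obtain ⟨t, ht⟩ : Nat.gcd g.natDegree (q + 1) ∣ q + 1 := Nat.gcd_dvd_right _ _
      conv_lhs => arg 2; arg 2; rw [ht]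
      rw [← mul_assoc, Nat.div_mul_cancel hgcd, pow_mul, hone, one_pow]))
  exact ⟨c, hc⟩

theorem orderOf_dvd_of_poly_SU (p : ℕ) [Fact p.Prime] [CharP F p] (hn : 2 ≤ n) (A : Cfsg.SU n F q)
    {g : F[X]} {i s H : ℕ} {c : F} (hs : i ≤ p ^ s) (hA : aeval (mat A) (g ^ i) = 0)
    (hg : g ∣ X ^ H - C c) : orderOf (toPSU A) ∣ H * p ^ s := by
  apply orderOf_dvd_of_pow_eq_one
  rw [toPSU_pow_eq_one_iff hF hn]
  obtain ⟨v, hv⟩ := (pow_dvd_pow g hs).trans (pow_dvd_pow_of_dvd hg (p ^ s))
  have h := congrArg (aeval (mat A)) hv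
  rw [map_mul, hA, zero_mul, sub_pow_char_pow, ← pow_mul, ← C_pow, map_sub, map_pow, aeval_X,
    aeval_C, sub_eq_zero] at h
  exact ⟨c ^ p ^ s, h⟩

/-- Trichotomy for element orders of PSU(n,q). -/
theorem psu_classify (p : ℕ) [Fact p.Prime] [CharP F p] (hpq : p ∣ q) {r : ℕ} (hn : 2 ≤ n)
    (hr : r.Prime) (hrq : r ∣ q + 1) (hrn : ¬ r ∣ n) :
    ∃ Y : Cfsg.PSU n F q, (∃ y : Cfsg.PSU n F q, r ∣ orderOf y) ∧ ∀ x : Cfsg.PSU n F q,
      (∃ y : Cfsg.PSU n F q, Nat.lcm (orderOf x) r ∣ orderOf y) ∨ orderOf x ∣ orderOf Y ∨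
        ((∃ s : ℕ, orderOf x = p ^ s) ∧ ∃ j : ℕ, n - 1 = p ^ j) := by
  have hp1 : 1 < p := (Fact.out : p.Prime).one_lt
  obtain ⟨Y, hY⟩ := exists_coxeter_SU (n := n) p hF hn
  refine ⟨Y, ?_, fun x => ?_⟩
  · obtain ⟨A, P, h1, h2, h3, h4, h5, -⟩ := exists_block_SU (n := n) p hF hpq le_rfl (by omega : 1 < n)
    obtain ⟨y, hy⟩ := exists_order_of_idempotent_SU hF hn hr hrq hrn A P h1 h2 h3 h4 h5
    exact ⟨y, (Nat.dvd_lcm_right _ _).trans hy⟩
  obtain ⟨A, rfl⟩ := QuotientGroup.mk'_surjective _ x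
  rcases idempotent_or_primary_SU hF A (by omega) with
    ⟨P, h1, h2, h3, h4, h5⟩ | ⟨f, g, i, hfm, hf, hf0, hgm, hi, hle, hA, hgμ, hcases⟩
  · exact Or.inl (exists_order_of_idempotent_SU hF hn hr hrq hrn A P h1 h2 h3 h4 h5)
  obtain ⟨hb, hb'⟩ := primary_bound hF hfm hf hf0 hcases
  set e := g.natDegree with he
  have he1 : 1 ≤ e := by
    have := hf.natDegree_pos
    rcases hcases with ⟨rfl, -⟩ | ⟨f', -, hf', -, -, rfl⟩
    · omega
    · rw [he, natDegree_mul hf.ne_zero hf'.ne_zero]; omega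
  have hen : e ≤ n := le_trans (Nat.le_mul_of_pos_right e hi) hle
  set s := Nat.clog p i with hs
  have his : i ≤ p ^ s := Nat.le_pow_clog hp1 i
  rcases eq_or_lt_of_le hen with he2 | he2
  · right; left
    have hi1 : i = 1 := by
      have h : e * i ≤ e * 1 := by omega
      have := Nat.le_of_mul_le_mul_left h (by omega)
      omega
    have hdet : (-1 : F) ^ e * g.coeff 0 = 1 := by
      have hle' := minpoly_natDegree_le (mat A)
      have hμg := eq_of_monic_of_dvd_of_natDegree_le hgm (minpoly.monic (Matrix.isIntegral _)) hgμ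
        (by omega)
      have hχ := eq_of_monic_of_dvd_of_natDegree_le hgm (mat A).charpoly_monic
        (hgμ.trans (Matrix.minpoly_dvd_charpoly _)) (by
          rw [Matrix.charpoly_natDegree_eq_dim, Fintype.card_fin]; omega)
      have h1 := Matrix.det_eq_sign_charpoly_coeff (mat A)
      rw [Fintype.card_fin, hχ] at h1
      rw [he2, ← h1]
      exact (A : Matrix.SpecialLinearGroup (Fin n) F).2
    obtain ⟨c, hc⟩ := hb' hdet
    have h := orderOf_dvd_of_poly_SU hF p hn A (s := 0) (by rw [hi1, pow_zero]) hA hc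
    rw [pow_zero, mul_one, he2] at h
    exact h.trans hY
  by_cases hst : s ≤ Nat.clog p (n - e)
  · left
    obtain ⟨c, hc⟩ := hb
    have h := orderOf_dvd_of_poly_SU hF p hn A his hA hc
    obtain ⟨B, P, h1, h2, h3, h4, h5, hB⟩ := exists_block_SU (n := n) p hF hpq he1 he2
    obtain ⟨y, hy⟩ := exists_order_of_idempotent_SU hF hn hr hrq hrn B P h1 h2 h3 h4 h5
    exact ⟨y, (Nat.lcm_dvd (((h.trans (Nat.mul_dvd_mul_left _ (pow_dvd_pow p hst))).trans hB).trans
      (Nat.dvd_lcm_left _ _)) (Nat.dvd_lcm_right _ _)).trans hy⟩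
  · right; right
    have hlt : n - e < i := by
      by_contra h
      exact hst (Nat.clog_mono_right p (not_lt.1 h))
    have he11 : e = 1 := by
      by_contra hne
      obtain ⟨e', he'⟩ : ∃ e', e = e' + 2 := ⟨e - 2, by omega⟩
      rw [he'] at hle hlt he2
      obtain ⟨i', rfl⟩ : ∃ i', i = i' + 1 := ⟨i - 1, by omega⟩
      rcases Nat.eq_zero_or_pos i' with rfl | hi'
      · omega
      have : e' * 1 ≤ e' * i' := Nat.mul_le_mul_left e' hi'
      simp only [Nat.add_mul, Nat.mul_add, mul_one] at hle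
      omega
    obtain ⟨c, hc⟩ := hb
    have hbound := orderOf_dvd_of_poly_SU hF p hn A his hA hc
    rw [he11, uH_one, one_mul] at hbound
    obtain ⟨t, -, ht⟩ := (Nat.dvd_prime_pow Fact.out).1 hbound
    refine ⟨⟨t, ht⟩, s - 1, ?_⟩
    rw [he11] at hle hlt hst
    have h1 : Nat.clog p (n - 1) ≤ s - 1 := by omega
    have h2 := (Nat.clog_le_iff_le_pow hp1).1 h1
    have h3 : p ^ (s - 1) < i := Nat.pow_lt_of_lt_clog (by omega)
    omega

end Cfsg.Agent.H55
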