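/-
SL(2,q) / PSL(2,q): products of two classes by traces, element orders, class sizes.
-/
import Cfsg.Agent.Linear.TwoTorus
import Cfsg.Agent.Linear.Order
import Cfsg.Agent.H55.PSLTorus

set_option autoImplicit false

namespace Cfsg.Agent.H55

open Matrix Cfsg.Agent.Linear

variable {F : Type*} [Field F]

local notation "M2" => Matrix (Fin 2) (Fin 2) F
local notation "S2" => Matrix.SpecialLinearGroup (Fin 2) F

theorem toPSL_two_eq_one_iff (X : S2) : toPSL X = 1 ↔ X = 1 ∨ X = -1 := by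
  rw [← mem_center_SL_two]
  exact QuotientGroup.eq_one_iff X

theorem toPSL_two_eq_iff (X Y : S2) : toPSL X = toPSL Y ↔ X = Y ∨ X = -Y := by
  rw [← mul_inv_eq_one, ← map_inv, ← map_mul, toPSL_two_eq_one_iff, mul_inv_eq_one,
    mul_inv_eq_iff_eq_mul, neg_one_mul]

theorem not_scalar_of_ne_one {X : S2} (h : toPSL X ≠ 1) : ¬ IsScalarTwo (X : M2) :=
  fun hs => h ((toPSL_two_eq_one_iff X).2 (isScalarTwo_SL_iff.1 hs))

theorem trace_sq_cases [Finite F] (p : ℕ) [Fact p.Prime] [CharP F p] {X : S2}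
    (ht : (X : M2).trace ^ 2 = 4) : orderOf (toPSL X) ∣ p := by
  apply orderOf_dvd_of_pow_eq_one
  rw [← map_pow, toPSL_two_eq_one_iff]
  have : (X : M2).trace ^ 2 = 2 ^ 2 := by rw [ht]; norm_num
  rcases eq_or_eq_neg_of_sq_eq_sq _ _ this with h | h
  · exact Or.inl ((pow_char_eq_one_iff p X).2 h)
  · rw [pow_char_eq_neg_one p h]
    exact neg_one_pow_eq_or _ p

theorem trace_conj (P A : M2) (hu : IsUnit P.det) : (P * A * P⁻¹).trace = A.trace := by
  rw [Matrix.trace_mul_cycle, nonsing_inv_mul P hu, one_mul]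

theorem trace_conj_mul (P A C : M2) (hu : IsUnit P.det) :
    ((P * A * P⁻¹) * (P * C * P⁻¹)).trace = (A * C).trace := by
  rw [show (P * A * P⁻¹) * (P * C * P⁻¹) = P * (A * C) * P⁻¹ by
    simp only [mul_assoc, nonsing_inv_mul_cancel_left P _ hu], trace_conj _ _ hu]

theorem orderOf_slOf {R : Type*} [CommRing R] [Algebra F R] [FiniteDimensional F R] {n : ℕ}
    (h : Module.finrank F R = n) (u : R) (hu : Algebra.norm F u = 1) :
    orderOf (slOf h u hu) = orderOf u := by
  refine orderOf_eq_orderOf_iff.2 fun k => ?_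
  constructor
  · intro hk
    apply Algebra.leftMulMatrix_injective (Module.finBasisOfFinrankEq F R h)
    rw [map_pow, map_one]
    exact congrArg Subtype.val hk
  · intro hk
    apply Subtype.ext
    rw [Matrix.SpecialLinearGroup.coe_pow, Matrix.SpecialLinearGroup.coe_one]
    show Algebra.leftMulMatrix _ u ^ k = 1
    rw [← map_pow, hk, map_one]

/-- A trace-`t` element `M` with `tr (M * g) = c`, when `t` is a split trace. -/
theorem exists_trace_mul_split {g : S2} (hg : ¬ IsScalarTwo (g : M2)) (t c : F)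
    (hr : ∃ r : F, r ^ 2 - r * t + 1 = 0) :
    ∃ M : S2, (M : M2).trace = t ∧ ((M * g : S2) : M2).trace = c := by
  obtain ⟨r, hr⟩ := hr
  obtain ⟨P, hP, hgP⟩ := exists_conj_companion hg
  have hu : IsUnit P.det := Ne.isUnit hP
  set s := (g : M2).trace
  let A : M2 := !![r, 0; s * (t - r) - c, t - r]
  have hA : A.det = 1 := by simp [A, Matrix.det_fin_two]; linear_combination -hr
  refine ⟨⟨P * A * P⁻¹, by rw [det_conj ((isUnit_iff_isUnit_det P).2 hu), hA]⟩, ?_, ?_⟩
  · show (P * A * P⁻¹).trace = t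
    rw [trace_conj _ _ hu]
    simp [A, Matrix.trace_fin_two]
  · show ((P * A * P⁻¹) * (g : M2)).trace = c
    have hg' : (g : M2) = P * !![0, -(g : M2).det; 1, (g : M2).trace] * P⁻¹ := by
      rw [← hgP, mul_nonsing_inv_cancel_right _ _ hu]
    rw [hg', trace_conj_mul _ _ _ hu, g.2]
    simp [A, Matrix.trace_fin_two, Matrix.mul_apply, Fin.sum_univ_two, s]
    ring

/-- Odd characteristic, any trace. -/
theorem exists_trace_mul_odd [Fintype F] (h2 : (2 : F) ≠ 0) {g : S2} (hg : ¬ IsScalarTwo (g : M2))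
    (t c : F) (h : (g : M2).trace ^ 2 = 4 → c ≠ (g : M2).trace / 2 * t) :
    ∃ M : S2, (M : M2).trace = t ∧ ((M * g : S2) : M2).trace = c := by
  obtain ⟨P, hP, hgP⟩ := exists_conj_companion hg
  have hu : IsUnit P.det := Ne.isUnit hP
  set s := (g : M2).trace with hs
  obtain ⟨x, y, hxy⟩ : ∃ x y : F, x ^ 2 - s * x * y + y ^ 2 - t * x + (s * t - c) * y + 1 = 0 := by
    by_cases hd : s ^ 2 = 4
    · have he : s / 2 * t - c ≠ 0 := sub_ne_zero.2 (h hd).symm
      refine ⟨s / 2 * (-(s / 2 * t - c)⁻¹), -(s / 2 * t - c)⁻¹, ?_⟩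
      generalize hY : -(s / 2 * t - c)⁻¹ = Y
      have hYk : (s / 2 * t - c) * Y = -1 := by rw [← hY, mul_neg, mul_inv_cancel₀ he]
      have h22 : s = 2 * (s / 2) := (mul_div_cancel₀ s h2).symm
      generalize s / 2 = e at hYk h22 ⊢
      rw [h22] at hd ⊢
      have he1 : e ^ 2 = 1 := by
        have : (2 : F) ^ 2 * (e ^ 2 - 1) = 0 := by linear_combination hd
        rcases mul_eq_zero.1 this with h' | h'
        · exact absurd (pow_eq_zero_iff (n := 2) (by norm_num) |>.1 h') h2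
        · exact sub_eq_zero.1 h'
      linear_combination hYk - Y ^ 2 * he1
    · have hodd : Fintype.card F % 2 = 1 := by
        refine FiniteField.odd_card_of_char_ne_two (fun hc => h2 ?_)
        have : CharP F 2 := ringChar.of_eq hc
        exact CharTwo.two_eq_zero
      have hD : 1 - s ^ 2 / 4 ≠ 0 := by
        intro h'
        apply hd
        have h4 : (4 : F) ≠ 0 := by
          rw [show (4 : F) = 2 * 2 by norm_num]; exact mul_ne_zero h2 h2
        field_simp at h'
        linear_combination -h'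
      open Polynomial in
      obtain ⟨u, y, huy⟩ := FiniteField.exists_root_sum_quadratic
        (f := C (1 : F) * X ^ 2 + C (-t) * X + C 1)
        (g := C (1 - s ^ 2 / 4) * X ^ 2 + C (s * t - c - s * t / 2) * X + C 0)
        (degree_quadratic one_ne_zero) (degree_quadratic hD) hodd
      simp only [Polynomial.eval_add, Polynomial.eval_mul, Polynomial.eval_C, Polynomial.eval_pow,
        Polynomial.eval_X] at huy
      refine ⟨u + s * y / 2, y, ?_⟩
      rw [← huy]
      have h4 : (4 : F) ≠ 0 := by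
        rw [show (4 : F) = 2 * 2 by norm_num]; exact mul_ne_zero h2 h2
      field_simp
      ring
  let A : M2 := !![x, y; y + s * (t - x) - c, t - x]
  have hA : A.det = 1 := by simp [A, Matrix.det_fin_two]; linear_combination -hxy
  refine ⟨⟨P * A * P⁻¹, by rw [det_conj ((isUnit_iff_isUnit_det P).2 hu), hA]⟩, ?_, ?_⟩
  · show (P * A * P⁻¹).trace = t
    rw [trace_conj _ _ hu]
    simp [A, Matrix.trace_fin_two]
  · show ((P * A * P⁻¹) * (g : M2)).trace = c
    have hg' : (g : M2) = P * !![0, -(g : M2).det; 1, (g : M2).trace] * P⁻¹ := by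
      rw [← hgP, mul_nonsing_inv_cancel_right _ _ hu]
    rw [hg', trace_conj_mul _ _ _ hu, g.2]
    simp [A, Matrix.trace_fin_two, Matrix.mul_apply, Fin.sum_univ_two, hs]
    ring

theorem trace_inv (M : S2) : ((M⁻¹ : S2) : M2).trace = (M : M2).trace := by
  obtain ⟨i00, i11, -, -⟩ := SL_inv_entries M
  rw [Matrix.trace_fin_two, Matrix.trace_fin_two, i00, i11, add_comm]

/-- From `tr M = tr X`, `tr (M g) = ± tr X` to a covering of `g` by the class of `X`. -/
theorem cover_of_traces [Fintype F] {X g M : S2} (hX : ¬ IsScalarTwo (X : M2))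
    (ht : (X : M2).trace ^ 2 ≠ 4) (hM : (M : M2).trace = (X : M2).trace)
    (hMg : ((M * g : S2) : M2).trace = (X : M2).trace ∨ ((M * g : S2) : M2).trace = -(X : M2).trace) :
    ∃ u v : Matrix.ProjectiveSpecialLinearGroup (Fin 2) F,
      toPSL g = (u * toPSL X * u⁻¹) * (v * toPSL X * v⁻¹) := by
  have key : ∀ Y : S2, (Y : M2).trace = (X : M2).trace → ∃ W : S2, W * X * W⁻¹ = Y := fun Y hY =>
    isConj_iff.1 (isConj_of_trace_eq hX (not_isScalarTwo_of_trace (by rwa [hY])) hY.symm (Or.inr ht))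
  obtain ⟨u, hu⟩ := key M⁻¹ (by rw [trace_inv, hM])
  obtain ⟨v, hv⟩ : ∃ v : S2, toPSL (v * X * v⁻¹) = toPSL (M * g) := by
    rcases hMg with h | h
    · obtain ⟨v, hv⟩ := key _ h
      exact ⟨v, by rw [hv]⟩
    · obtain ⟨v, hv⟩ := key (-(M * g)) (by
        rw [Matrix.SpecialLinearGroup.coe_neg, Matrix.trace_neg, h, neg_neg])
      exact ⟨v, by rw [hv, toPSL_two_eq_iff]; exact Or.inr rfl⟩
  refine ⟨toPSL u, toPSL v, ?_⟩
  calc toPSL g = toPSL M⁻¹ * toPSL (M * g) := by rw [← map_mul, inv_mul_cancel_left]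
    _ = toPSL (u * X * u⁻¹) * toPSL (v * X * v⁻¹) := by rw [hu, hv]
    _ = _ := by simp only [map_mul, map_inv]

theorem toPSL_pow_half [Fintype F] (h2 : (2 : F) ≠ 0) {X : S2} {N : ℕ} (hN : X ^ N = 1)
    (h : 2 ∣ N) : toPSL X ^ (N / 2) = 1 := by
  rw [← map_pow, toPSL_two_eq_one_iff]
  refine eq_one_or_neg_one_of_sq h2 ?_
  rw [← pow_add, ← two_mul, Nat.mul_div_cancel' h, hN]

theorem gcd_two_eq [Fintype F] :
    ((2 : F) = 0 ∧ Nat.gcd 2 (Fintype.card F - 1) = 1 ∧ 2 ∣ Fintype.card F) ∨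
      ((2 : F) ≠ 0 ∧ Nat.gcd 2 (Fintype.card F - 1) = 2 ∧ ¬ 2 ∣ Fintype.card F) := by
  have h1 := Fintype.one_lt_card (α := F)
  by_cases h2 : (2 : F) = 0
  · left
    have : CharP F 2 := CharTwo.of_one_ne_zero_of_two_eq_zero one_ne_zero h2
    obtain ⟨f, -, hf⟩ := FiniteField.card F 2
    have hd : 2 ∣ Fintype.card F := hf ▸ dvd_pow_self 2 f.ne_zero
    refine ⟨h2, Nat.coprime_two_left.2 (Nat.odd_iff.2 (by omega)), hd⟩
  · right
    have hodd : Fintype.card F % 2 = 1 := FiniteField.odd_card_of_char_ne_two (fun hc => h2 (by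
      have : CharP F 2 := ringChar.of_eq hc
      exact CharTwo.two_eq_zero))
    exact ⟨h2, Nat.gcd_eq_left (by omega), by omega⟩

theorem toPSL_two_orderOf_dvd [Fintype F] (p : ℕ) [Fact p.Prime] [CharP F p] (X : S2) :
    orderOf (toPSL X) ∣ p ∨
      orderOf (toPSL X) ∣ (Fintype.card F - 1) / Nat.gcd 2 (Fintype.card F - 1) ∨
      orderOf (toPSL X) ∣ (Fintype.card F + 1) / Nat.gcd 2 (Fintype.card F - 1) := by
  by_cases ht : (X : M2).trace ^ 2 = 4
  · exact Or.inl (trace_sq_cases p ht)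
  have hmem : X ∈ Subgroup.centralizer ({X} : Set S2) := Subgroup.mem_centralizer_singleton_iff.2 rfl
  have key : ∀ N, Nat.card (Subgroup.centralizer ({X} : Set S2)) = N → 1 ≤ N →
      (2 ∣ N ↔ ¬ 2 ∣ Fintype.card F) → orderOf (toPSL X) ∣ N / Nat.gcd 2 (Fintype.card F - 1) := by
    intro N hN hN1 hpar
    have hpow : X ^ N = 1 := by
      have h1 : (⟨X, hmem⟩ : Subgroup.centralizer ({X} : Set S2)) ^ N = 1 := hN ▸ pow_card_eq_one'
      exact congrArg Subtype.val h1
    apply orderOf_dvd_of_pow_eq_one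
    rcases gcd_two_eq (F := F) with ⟨-, hg, -⟩ | ⟨h2, hg, hodd⟩
    · rw [hg, Nat.div_one, ← map_pow, hpow, map_one]
    · rw [hg]
      exact toPSL_pow_half h2 hpow (hpar.2 hodd)
  have h1 := Fintype.one_lt_card (α := F)
  rcases card_centralizer_cases ht with h | h
  · exact Or.inr (Or.inl (key _ h (by omega) (by omega)))
  · exact Or.inr (Or.inr (key _ h (by omega) (by omega)))

theorem exists_torus_orders [Fintype F] (p : ℕ) [Fact p.Prime] [CharP F p] :
    (∃ y : Matrix.ProjectiveSpecialLinearGroup (Fin 2) F, orderOf y = p) ∧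
    (∃ y : Matrix.ProjectiveSpecialLinearGroup (Fin 2) F,
      (Fintype.card F - 1) / Nat.gcd 2 (Fintype.card F - 1) ∣ orderOf y) ∧
    (∃ y : Matrix.ProjectiveSpecialLinearGroup (Fin 2) F,
      (Fintype.card F + 1) / Nat.gcd 2 (Fintype.card F - 1) ∣ orderOf y) := by
  have key : ∀ (X : S2), (Fintype.card F - 1) / Nat.gcd 2 (Fintype.card F - 1) = 0 ∨
      orderOf X / Nat.gcd 2 (Fintype.card F - 1) ∣ orderOf (toPSL X) ∨
      ¬ Nat.gcd 2 (Fintype.card F - 1) ∣ orderOf X := by
    intro X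
    refine Or.inr ?_
    by_cases hdvd : Nat.gcd 2 (Fintype.card F - 1) ∣ orderOf X
    swap
    · exact Or.inr hdvd
    refine Or.inl ?_
    rw [Nat.div_dvd_iff_dvd_mul hdvd (Nat.gcd_pos_of_pos_left _ two_pos)]
    apply orderOf_dvd_of_pow_eq_one
    rw [mul_comm, pow_mul]
    have h := pow_orderOf_eq_one (toPSL X)
    rw [← map_pow, toPSL_two_eq_one_iff] at h
    rcases gcd_two_eq (F := F) with ⟨h2, hg, -⟩ | ⟨-, hg, -⟩
    · rw [hg, pow_one]
      rcases h with h | h
      · exact h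
      · rw [h]
        have : CharP F 2 := CharTwo.of_one_ne_zero_of_two_eq_zero one_ne_zero h2
        apply Subtype.ext
        rw [Matrix.SpecialLinearGroup.coe_neg, Matrix.SpecialLinearGroup.coe_one]
        ext i j
        exact CharTwo.neg_eq _
    · rw [hg]
      rcases h with h | h <;> rw [h]
      · exact one_pow 2
      · exact neg_one_sq
  have h1 := Fintype.one_lt_card (α := F)
  have hgd : Nat.gcd 2 (Fintype.card F - 1) ∣ Fintype.card F - 1 := Nat.gcd_dvd_right _ _
  have hgd' : Nat.gcd 2 (Fintype.card F - 1) ∣ Fintype.card F + 1 := by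
    have := (Nat.dvd_add hgd (Nat.gcd_dvd_left 2 (Fintype.card F - 1)))
    rwa [show Fintype.card F - 1 + 2 = Fintype.card F + 1 by omega] at this
  have use : ∀ (X : S2) (N : ℕ), orderOf X = N → Nat.gcd 2 (Fintype.card F - 1) ∣ N →
      N / Nat.gcd 2 (Fintype.card F - 1) ∣ orderOf (toPSL X) := by
    intro X N hN hd
    rcases key X with h | h | h
    · rcases gcd_two_eq (F := F) with ⟨-, hg, -⟩ | ⟨-, hg, hodd⟩ <;> rw [hg] at h <;> omega
    · rwa [hN] at h
    · exact absurd (hN ▸ hd) h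
  refine ⟨?_, ?_, ?_⟩
  · let U : S2 := ⟨!![1, 1; 0, 1], by simp [Matrix.det_fin_two]⟩
    refine ⟨toPSL U, orderOf_eq_prime ?_ ?_⟩
    · rw [← map_pow, toPSL_two_eq_one_iff]
      exact Or.inl ((pow_char_eq_one_iff p U).2 (by simp [U, Matrix.trace_fin_two]; norm_num))
    · intro h
      rcases (toPSL_two_eq_one_iff U).1 h with h | h <;>
        simpa [U] using congrArg (fun Y : S2 => (Y : M2) 0 1) h
  · obtain ⟨g, hg⟩ := IsCyclic.exists_ofOrder_eq_natCard (α := Fˣ)
    rw [Nat.card_units, Nat.card_eq_fintype_card] at hg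
    have hn : Algebra.norm F ((g : F), ((g⁻¹ : Fˣ) : F)) = 1 := by
      rw [norm_prod, Algebra.norm_self]
      simp
    have hfin : Module.finrank F (F × F) = 2 := by simp
    refine ⟨toPSL (slOf hfin _ hn), use _ _ ?_ hgd⟩
    rw [← hg, orderOf_slOf, Prod.orderOf, orderOf_units, orderOf_units, orderOf_inv, Nat.lcm_self]
  · have : NeZero 2 := ⟨two_ne_zero⟩
    obtain ⟨T, hT1, hT2, -⟩ := exists_norm_one_gen (F := F) p 2
    have hfin : Module.finrank F (FiniteField.Extension F p 2) = 2 :=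
      FiniteField.finrank_extension F p 2
    refine ⟨toPSL (slOf hfin T hT1), use _ _ ?_ hgd'⟩
    rw [orderOf_slOf, hT2, Nat.card_eq_fintype_card]
    apply Nat.div_eq_of_eq_mul_left (by omega)
    simpa using Nat.sq_sub_sq (Fintype.card F) 1

end Cfsg.Agent.H55
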