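/-
One step of the factorisation of a unimodular map into two regular unipotent maps.
-/
import Mathlib

set_option autoImplicit false
set_option linter.unusedSectionVars false

namespace Cfsg.Agent.H55.Lev

open Module

variable {K V : Type*} [Field K] [AddCommGroup V] [Module K V]

/-- A finite set of four scalars. -/
def Four (K : Type*) : Prop := ∃ S : Finset K, 4 ≤ S.card

theorem exists_avoid_aux (S : Finset K) (hS : 4 ≤ S.card) :
    ∀ L : List (Submodule K V), L.length ≤ 4 → (∀ P ∈ L, P ≠ ⊤) → ∃ v : V, ∀ P ∈ L, v ∉ P := by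
  classical
  intro L
  induction L with
  | nil => exact fun _ _ => ⟨0, by simp⟩
  | cons P L ih =>
    intro hlen hL
    rw [List.length_cons] at hlen
    obtain ⟨v, hv⟩ := ih (by omega) fun Q hQ => hL Q (List.mem_cons_of_mem _ hQ)
    by_cases hvP : v ∈ P
    swap
    · exact ⟨v, fun Q hQ => (List.mem_cons.1 hQ).elim (fun e => e ▸ hvP) (hv Q)⟩
    obtain ⟨w, hw⟩ : ∃ w, w ∉ P := by
      by_contra h
      push Not at h
      exact hL P (List.mem_cons_self) (eq_top_iff.2 fun x _ => h x)
    by_cases hwL : ∀ Q ∈ L, w ∉ Q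
    · exact ⟨w, fun Q hQ => (List.mem_cons.1 hQ).elim (fun e => e ▸ hw) (hwL Q)⟩
    push Not at hwL
    obtain ⟨Q0, hQ0, hwQ0⟩ := hwL
    have hone : ∀ R : Submodule K V, R ∈ L → (S.filter fun s => v + s • w ∈ R).card ≤ 1 := by
      intro R hR
      refine Finset.card_le_one.2 fun s hs t ht => ?_
      simp only [Finset.mem_filter] at hs ht
      by_contra hne
      have h1 : (s - t) • w ∈ R := by
        have := R.sub_mem hs.2 ht.2
        rwa [add_sub_add_left_eq_sub, ← sub_smul] at this
      have hwR : w ∈ R := (R.smul_mem_iff (sub_ne_zero.2 hne)).1 h1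
      exact hv R hR (by simpa using R.sub_mem hs.2 (R.smul_mem s hwR))
    let T := L.toFinset.erase Q0
    let bad : Finset K := insert 0 (T.biUnion fun R => S.filter fun s => v + s • w ∈ R)
    have hbad : bad.card ≤ 3 := by
      refine (Finset.card_insert_le _ _).trans ?_
      have hT : T.card + 1 ≤ L.length := by
        rw [Finset.card_erase_add_one (List.mem_toFinset.2 hQ0)]
        exact List.toFinset_card_le L
      have h2 : (T.biUnion fun R => S.filter fun s => v + s • w ∈ R).card ≤ T.card := by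
        refine (Finset.card_biUnion_le_card_mul _ _ 1 fun R hR => hone R ?_).trans (by simp)
        exact List.mem_toFinset.1 (Finset.mem_of_mem_erase hR)
      omega
    obtain ⟨s, hsS, hs⟩ : ∃ s ∈ S, s ∉ bad := by
      by_contra h
      push Not at h
      have := Finset.card_le_card h
      omega
    simp only [bad, Finset.mem_insert, Finset.mem_biUnion, Finset.mem_filter, not_or, not_exists,
      not_and] at hs
    refine ⟨v + s • w, fun Q hQ hmem => ?_⟩
    rcases List.mem_cons.1 hQ with rfl | hQL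
    · exact hw ((Q.smul_mem_iff hs.1).1 (by simpa using Q.sub_mem hmem hvP))
    · by_cases hQQ : Q = Q0
      · subst hQQ
        exact hv Q hQL (by simpa using Q.sub_mem hmem (Q.smul_mem s hwQ0))
      · exact hs.2 Q (Finset.mem_erase.2 ⟨hQQ, List.mem_toFinset.2 hQL⟩) hsS hmem

/-- Four proper subspaces do not cover. -/
theorem exists_avoid (hK : Four K) (P Q R S : Submodule K V) (hP : P ≠ ⊤) (hQ : Q ≠ ⊤) (hR : R ≠ ⊤)
    (hS : S ≠ ⊤) : ∃ v : V, v ∉ P ∧ v ∉ Q ∧ v ∉ R ∧ v ∉ S := by
  obtain ⟨T, hT⟩ := hK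
  obtain ⟨v, hv⟩ := exists_avoid_aux T hT [P, Q, R, S] (by simp) (by simp [hP, hQ, hR, hS])
  exact ⟨v, hv P (by simp), hv Q (by simp), hv R (by simp), hv S (by simp)⟩

/-- A functional killing `e2`, normalised at `e1`, non-zero on three subspaces. -/
theorem exists_functional [FiniteDimensional K V] (hK : Four K) {e1 e2 : V}
    (h12 : e1 ∉ K ∙ e2) (U₁ U₂ U₃ : Submodule K V) (h1 : ¬ U₁ ≤ K ∙ e2) (h2 : ¬ U₂ ≤ K ∙ e2)
    (h3 : ¬ U₃ ≤ K ∙ e2) :
    ∃ f : Dual K V, f e1 = 1 ∧ f e2 = 0 ∧ (∃ u ∈ U₁, f u ≠ 0) ∧ (∃ u ∈ U₂, f u ≠ 0) ∧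
      ∃ u ∈ U₃, f u ≠ 0 := by
  let D : Submodule K (Dual K V) := (K ∙ e2).dualAnnihilator
  let P : Submodule K V → Submodule K D := fun U => U.dualAnnihilator.comap D.subtype
  have hne : ∀ U : Submodule K V, ¬ U ≤ K ∙ e2 → P U ≠ ⊤ := by
    intro U hU htop
    obtain ⟨u, hu, hu2⟩ := SetLike.not_le_iff_exists.1 hU
    obtain ⟨φ, hφ, hφ2⟩ := Submodule.exists_dual_map_eq_bot_of_notMem hu2 inferInstance
    have hD : φ ∈ D := (Submodule.mem_dualAnnihilator _).2 fun w hw =>
      (Submodule.mem_bot K).1 (hφ2 ▸ Submodule.mem_map_of_mem hw)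
    have hmem : (⟨φ, hD⟩ : D) ∈ P U := htop ▸ Submodule.mem_top
    exact hφ ((Submodule.mem_dualAnnihilator φ).1 hmem u hu)
  obtain ⟨⟨f, hf⟩, f0, f1, f2, f3⟩ := exists_avoid (V := D) hK (P (K ∙ e1)) (P U₁) (P U₂) (P U₃)
    (hne _ fun h => h12 (h (Submodule.mem_span_singleton_self e1))) (hne _ h1) (hne _ h2) (hne _ h3)
  have key : ∀ U : Submodule K V, (⟨f, hf⟩ : D) ∉ P U → ∃ u ∈ U, f u ≠ 0 := by
    intro U hU
    by_contra hc
    push Not at hc
    exact hU ((Submodule.mem_dualAnnihilator f).2 hc)
  obtain ⟨u0, hu0, hfu0⟩ := key _ f0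
  obtain ⟨a, rfl⟩ := Submodule.mem_span_singleton.1 hu0
  have hfe : f e1 ≠ 0 := fun h => hfu0 (by rw [map_smul, h, smul_zero])
  have key' : ∀ U : Submodule K V, (⟨f, hf⟩ : D) ∉ P U → ∃ u ∈ U, ((f e1)⁻¹ • f) u ≠ 0 :=
    fun U hU => by
      obtain ⟨u, hu, hfu⟩ := key U hU
      exact ⟨u, hu, by simp [hfe, hfu]⟩
  refine ⟨(f e1)⁻¹ • f, by simp [hfe], ?_, key' _ f1, key' _ f2, key' _ f3⟩
  simp [(Submodule.mem_dualAnnihilator f).1 hf e2 (Submodule.mem_span_singleton_self e2)]

variable [FiniteDimensional K V]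

/-- Nonscalar and not a transvection. -/
def Good (N : Module.End K V) : Prop :=
  (∀ l : K, N ≠ l • 1) ∧ 2 ≤ finrank K (LinearMap.range (N - 1))

/-- The factorisation, with markers for the next level. -/
def Fac (N : Module.End K V) (c : V) (ρ : Dual K V) : Prop :=
  ∃ x y : Module.End K V, N = x * y ∧ (x - 1) ^ finrank K V = 0 ∧
    ((x - 1) ^ (finrank K V - 1)) c ≠ 0 ∧ (y - 1) ^ finrank K V = 0 ∧
    ∃ v, ρ (((y - 1) ^ (finrank K V - 1)) v) ≠ 0

/-- The projection along `e1` onto the kernel of `f`. -/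
noncomputable def proj (f : Dual K V) (e1 : V) (h1 : f e1 = 1) : V →ₗ[K] LinearMap.ker f :=
  (LinearMap.id - f.smulRight e1).codRestrict (LinearMap.ker f) fun v => by
    simp [LinearMap.mem_ker, h1]

theorem proj_coe (f : Dual K V) (e1 : V) (h1 : f e1 = 1) (v : V) :
    (proj f e1 h1 v : V) = v - f v • e1 := rfl

/-- The Schur complement. -/
noncomputable def schur (N : Module.End K V) (f : Dual K V) (e1 : V) (hN1 : f (N e1) = 1) :
    Module.End K (LinearMap.ker f) :=
  ((N - (f.comp N).smulRight (N e1)).comp (LinearMap.ker f).subtype).codRestrict (LinearMap.ker f)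
    fun v => by simp [LinearMap.mem_ker, hN1]

theorem schur_coe (N : Module.End K V) (f : Dual K V) (e1 : V) (hN1 : f (N e1) = 1)
    (v : LinearMap.ker f) : (schur N f e1 hN1 v : V) = N v - f (N v) • N e1 := rfl

theorem finrank_ker_add_one {f : Dual K V} {e1 : V} (h1 : f e1 = 1) :
    finrank K (LinearMap.ker f) + 1 = finrank K V := by
  have hs : LinearMap.range f = ⊤ :=
    LinearMap.range_eq_top.2 fun t => ⟨t • e1, by simp [h1]⟩
  have := f.finrank_range_add_finrank_ker
  rw [hs, finrank_top, finrank_self] at this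
  omega

theorem det_schur (N : Module.End K V) (f : Dual K V) (e1 : V) (h1 : f e1 = 1)
    (hN1 : f (N e1) = 1) :
    LinearMap.det (schur N f e1 hN1) = LinearMap.det N := by
  set e2 := N e1 - e1
  let t2 : V →ₗ[K] V := LinearMap.transvection (f - f.comp N) e1
  let t3 : V →ₗ[K] V := LinearMap.transvection (-f) e2
  let y1 : V →ₗ[K] V := t3.comp (LinearMap.comp N t2)
  have hy1 : ∀ v, y1 v = N v - f (N v) • N e1 + f v • e1 := fun v => by
    simp only [y1, t2, t3, LinearMap.comp_apply, LinearMap.transvection.apply, LinearMap.sub_apply,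
      LinearMap.neg_apply, map_add, map_smul, hN1, smul_eq_mul, e2]
    module
  have hdet : LinearMap.det y1 = LinearMap.det N := by
    simp only [y1, t2, t3, LinearMap.det_comp, LinearMap.transvection.det]
    simp [e2, h1, hN1]
  have hle : LinearMap.ker f ≤ (LinearMap.ker f).comap y1 := fun v hv => by
    rw [Submodule.mem_comap, LinearMap.mem_ker, hy1]
    simp [hN1, h1, LinearMap.mem_ker.1 hv]
  rw [← hdet, LinearMap.det_eq_det_mul_det (LinearMap.ker f) y1 hle]
  have hres : y1.restrict hle = schur N f e1 hN1 := LinearMap.ext fun v => Subtype.ext (by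
    rw [LinearMap.restrict_coe_apply, hy1, schur_coe, LinearMap.mem_ker.1 v.2, zero_smul, add_zero])
  have hq : (LinearMap.ker f).mapQ (LinearMap.ker f) y1 hle = LinearMap.id := by
    refine Submodule.linearMap_qext _ (LinearMap.ext fun v => ?_)
    simp only [LinearMap.comp_apply, Submodule.mkQ_apply, Submodule.mapQ_apply, LinearMap.id_apply]
    rw [Submodule.Quotient.eq, LinearMap.mem_ker, hy1]
    simp [hN1, h1]
  rw [hres, hq, LinearMap.det_id, mul_one]

/-- Lifting a factorisation of the Schur complement. -/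
theorem fac_of_schur (N : Module.End K V) (f : Dual K V) (e1 : V) (h1 : f e1 = 1)
    (hN1 : f (N e1) = 1) (c : V) (ρ : Dual K V) (hc : f c ≠ 0) (hρ : ρ e1 ≠ 0)
    (hdim : 2 ≤ finrank K V)
    (hS : Fac (schur N f e1 hN1)
      ⟨N e1 - e1, by simp [LinearMap.mem_ker, h1, hN1]⟩ ((f.comp N).comp (LinearMap.ker f).subtype)) :
    Fac N c ρ := by
  obtain ⟨x', y', hxy, hx0, hxc, hy0, ⟨v', hv'⟩⟩ := hS
  set e2' : LinearMap.ker f := ⟨N e1 - e1, by simp [LinearMap.mem_ker, h1, hN1]⟩
  have hj : finrank K (LinearMap.ker f) + 1 = finrank K V := finrank_ker_add_one h1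
  set j := finrank K (LinearMap.ker f)
  let ι := (LinearMap.ker f).subtype
  let π := proj f e1 h1
  have hπι : ∀ h : LinearMap.ker f, π h = h := fun h => Subtype.ext (by
    rw [proj_coe, LinearMap.mem_ker.1 h.2, zero_smul, sub_zero])
  have hπe : π e1 = 0 := Subtype.ext (by simp [π, proj_coe, h1])
  have hdec : ∀ v, (π v : V) + f v • e1 = v := fun v => by rw [proj_coe]; abel
  let x : Module.End K V := f.smulRight (N e1) + ι.comp (LinearMap.comp x' π)
  let y : Module.End K V :=
    (f + (f.comp N).comp (ι.comp π)).smulRight e1 + ι.comp (LinearMap.comp y' π)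
  have hx : ∀ v, x v = f v • N e1 + (x' (π v) : V) := fun v => rfl
  have hy : ∀ v, y v = (f v + f (N (π v))) • e1 + (y' (π v) : V) := fun v => rfl
  refine ⟨x, y, ?_, ?_, ?_, ?_, ?_⟩
  · refine LinearMap.ext fun v => ?_
    rw [Module.End.mul_apply, hy, map_add x, map_smul x, hx e1, hx, h1, hπe, hπι, map_zero,
      ZeroMemClass.coe_zero, add_zero, one_smul, LinearMap.mem_ker.1 (y' (π v)).2, zero_smul,
      zero_add, ← Module.End.mul_apply x' y', ← hxy, schur_coe]
    conv_lhs => rw [← hdec v]
    rw [map_add, map_smul, add_smul]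
    abel
  · have hA : ∀ k : ℕ, ∀ v, ((x - 1) ^ (k + 1)) v =
        (((x' - 1) ^ k) (f v • e2' + (x' - 1) (π v)) : LinearMap.ker f) := by
      intro k
      induction k with
      | zero =>
        intro v
        rw [zero_add, pow_one, pow_zero, Module.End.one_apply, LinearMap.sub_apply,
          Module.End.one_apply, hx, Submodule.coe_add, Submodule.coe_smul, LinearMap.sub_apply,
          Module.End.one_apply, Submodule.coe_sub, proj_coe]
        simp only [e2', smul_sub]
        abel
      | succ k ih =>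
        intro v
        rw [pow_succ' (x - 1), Module.End.mul_apply, ih, LinearMap.sub_apply, Module.End.one_apply,
          hx, LinearMap.mem_ker.1 (Subtype.prop _), zero_smul, zero_add, hπι, pow_succ' (x' - 1),
          Module.End.mul_apply]
        rfl
    refine LinearMap.ext fun v => ?_
    rw [← hj, hA, hx0]
    rfl
  · obtain ⟨i, hi⟩ : ∃ i, j = i + 1 := ⟨j - 1, by omega⟩
    rw [← hj, Nat.add_sub_cancel, hi]
    have hA : ∀ k : ℕ, ∀ v, ((x - 1) ^ (k + 1)) v =
        (((x' - 1) ^ k) (f v • e2' + (x' - 1) (π v)) : LinearMap.ker f) := by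
      intro k
      induction k with
      | zero =>
        intro v
        rw [zero_add, pow_one, pow_zero, Module.End.one_apply, LinearMap.sub_apply,
          Module.End.one_apply, hx, Submodule.coe_add, Submodule.coe_smul, LinearMap.sub_apply,
          Module.End.one_apply, Submodule.coe_sub, proj_coe]
        simp only [e2', smul_sub]
        abel
      | succ k ih =>
        intro v
        rw [pow_succ' (x - 1), Module.End.mul_apply, ih, LinearMap.sub_apply, Module.End.one_apply,
          hx, LinearMap.mem_ker.1 (Subtype.prop _), zero_smul, zero_add, hπι, pow_succ' (x' - 1),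
          Module.End.mul_apply]
        rfl
    rw [hA, map_add, map_smul, ← Module.End.mul_apply, ← pow_succ, ← hi, hx0, LinearMap.zero_apply,
      add_zero, Ne, ZeroMemClass.coe_eq_zero, smul_eq_zero, not_or]
    refine ⟨hc, ?_⟩
    rwa [hi, Nat.add_sub_cancel] at hxc
  · have hB : ∀ k : ℕ, ∀ v, ((y - 1) ^ (k + 1)) v =
        (((y' - 1) ^ (k + 1)) (π v) : V) + f (N (((y' - 1) ^ k) (π v) : V)) • e1 := by
      intro k
      induction k with
      | zero =>
        intro v
        rw [zero_add, pow_one, pow_one, pow_zero, Module.End.one_apply, LinearMap.sub_apply,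
          Module.End.one_apply, hy, LinearMap.sub_apply, Module.End.one_apply, Submodule.coe_sub,
          proj_coe, add_smul]
        abel
      | succ k ih =>
        intro v
        rw [pow_succ' (y - 1), Module.End.mul_apply, ih, map_add, map_smul]
        have he : (y - 1) e1 = 0 := by
          rw [LinearMap.sub_apply, Module.End.one_apply, hy, h1, hπe]
          simp
        rw [he, smul_zero, add_zero, LinearMap.sub_apply, Module.End.one_apply, hy, hπι,
          LinearMap.mem_ker.1 (Subtype.prop _), zero_add, pow_succ' (y' - 1) (k + 1),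
          Module.End.mul_apply, LinearMap.sub_apply, Module.End.one_apply, Submodule.coe_sub]
        abel
    refine LinearMap.ext fun v => ?_
    rw [← hj, hB, pow_succ', Module.End.mul_apply, hy0, LinearMap.zero_apply, map_zero,
      ZeroMemClass.coe_zero, map_zero, map_zero, zero_smul, zero_add]
    rfl
  · have hB : ∀ k : ℕ, ∀ v, ((y - 1) ^ (k + 1)) v =
        (((y' - 1) ^ (k + 1)) (π v) : V) + f (N (((y' - 1) ^ k) (π v) : V)) • e1 := by
      intro k
      induction k with
      | zero =>
        intro v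
        rw [zero_add, pow_one, pow_one, pow_zero, Module.End.one_apply, LinearMap.sub_apply,
          Module.End.one_apply, hy, LinearMap.sub_apply, Module.End.one_apply, Submodule.coe_sub,
          proj_coe, add_smul]
        abel
      | succ k ih =>
        intro v
        rw [pow_succ' (y - 1), Module.End.mul_apply, ih, map_add, map_smul]
        have he : (y - 1) e1 = 0 := by
          rw [LinearMap.sub_apply, Module.End.one_apply, hy, h1, hπe]
          simp
        rw [he, smul_zero, add_zero, LinearMap.sub_apply, Module.End.one_apply, hy, hπι,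
          LinearMap.mem_ker.1 (Subtype.prop _), zero_add, pow_succ' (y' - 1) (k + 1),
          Module.End.mul_apply, LinearMap.sub_apply, Module.End.one_apply, Submodule.coe_sub]
        abel
    obtain ⟨i, hi⟩ : ∃ i, j = i + 1 := ⟨j - 1, by omega⟩
    refine ⟨(v' : V), ?_⟩
    rw [← hj, Nat.add_sub_cancel, hi, hB, ← hi, hy0, LinearMap.zero_apply, ZeroMemClass.coe_zero,
      zero_add, map_smul, hπι, smul_eq_mul]
    refine mul_ne_zero ?_ hρ
    rwa [hi, Nat.add_sub_cancel] at hv'

end Cfsg.Agent.H55.Lev
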