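/-
A non-scalar unimodular map that is not a transvection is a product of two regular unipotent maps.
-/
import Cfsg.Agent.H55.LevStep

set_option autoImplicit false
set_option linter.unusedSectionVars false

namespace Cfsg.Agent.H55.Lev

open Module Polynomial

universe u w

variable {K : Type u} {V : Type w} [Field K] [AddCommGroup V] [Module K V] [FiniteDimensional K V]

local notation "ran" A => finrank K (LinearMap.range A)

theorem finrank_lt_sup_span {W : Submodule K V} {x : V} (hx : x ∉ W) :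
    finrank K W + 1 ≤ finrank K (W ⊔ K ∙ x : Submodule K V) :=
  Submodule.finrank_lt_finrank_of_lt (lt_of_le_of_ne le_sup_left fun e =>
    hx (e ▸ Submodule.mem_sup_right (Submodule.mem_span_singleton_self x) : x ∈ W))

theorem finrank_sup_span_le (W : Submodule K V) (x : V) :
    finrank K (W ⊔ K ∙ x : Submodule K V) ≤ finrank K W + 1 := by
  refine (Submodule.finrank_add_le_finrank_add_finrank W (K ∙ x)).trans ?_
  have : finrank K (K ∙ x) ≤ 1 := by
    simpa using finrank_span_le_card ({x} : Set V)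
  omega

/-- The rank of the Schur complement shifted by a scalar. -/
theorem schur_rank (N : Module.End K V) (f : Dual K V) (e1 : V) (h1 : f e1 = 1)
    (hN1 : f (N e1) = 1) {l : K} (hl : l ≠ 0) :
    (ran (N - l • 1)) ≤ (ran (schur N f e1 hN1 - l • 1)) + 2 ∧
      (e1 ∉ LinearMap.range (N - l • 1) →
        (ran (N - l • 1)) ≤ (ran (schur N f e1 hN1 - l • 1)) + 1 ∧
        ((∃ u ∈ LinearMap.ker (N - l • 1), f u ≠ 0) →
          (ran (N - l • 1)) ≤ (ran (schur N f e1 hN1 - l • 1)))) := by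
  set A : Module.End K V := N - l • 1 with hA
  set M : Submodule K V :=
    (LinearMap.range (schur N f e1 hN1 - l • 1)).map (LinearMap.ker f).subtype with hM
  have hMc : finrank K M = (ran (schur N f e1 hN1 - l • 1)) :=
    (Submodule.equivMapOfInjective _ (LinearMap.ker f).subtype_injective _).finrank_eq.symm
  rw [← hMc]
  have hAv : ∀ v, A v = N v - l • v := fun v => by simp [hA]
  have hH : ∀ v, f v = 0 → A v ∈ M ⊔ K ∙ N e1 := by
    intro v hv
    refine Submodule.mem_sup.2 ⟨_, Submodule.mem_map_of_mem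
      (LinearMap.mem_range_self (schur N f e1 hN1 - l • 1) ⟨v, hv⟩), f (N v) • N e1,
      Submodule.smul_mem _ _ (Submodule.mem_span_singleton_self _), ?_⟩
    rw [hAv, Submodule.subtype_apply, LinearMap.sub_apply, LinearMap.smul_apply,
      Module.End.one_apply, Submodule.coe_sub, schur_coe, Submodule.coe_smul]
    abel
  have hdec : ∀ v, A v = A (v - f v • e1) + f v • A e1 := fun v => by
    rw [map_sub, map_smul, sub_add_cancel]
  have hfp : ∀ v, f (v - f v • e1) = 0 := fun v => by simp [h1]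
  have he1 : ∀ W : Submodule K V, A e1 ∈ W → N e1 ∈ W → e1 ∈ W := fun W ha hn => by
    have := W.smul_mem l⁻¹ (W.sub_mem hn ha)
    rwa [hAv, sub_sub_cancel, inv_smul_smul₀ hl] at this
  have hbig : LinearMap.range A ⊔ K ∙ e1 ≤ M ⊔ K ∙ N e1 ⊔ K ∙ A e1 := by
    refine sup_le ?_ ?_
    · rintro _ ⟨v, rfl⟩
      rw [hdec v]
      exact Submodule.add_mem _ (Submodule.mem_sup_left (hH _ (hfp v)))
        (Submodule.mem_sup_right (Submodule.smul_mem _ _ (Submodule.mem_span_singleton_self _)))
    · rw [Submodule.span_singleton_le_iff_mem]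
      exact he1 _ (Submodule.mem_sup_right (Submodule.mem_span_singleton_self _))
        (Submodule.mem_sup_left (Submodule.mem_sup_right (Submodule.mem_span_singleton_self _)))
  have hb := (Submodule.finrank_mono hbig).trans ((finrank_sup_span_le _ _).trans
    (Nat.add_le_add_right (finrank_sup_span_le _ _) 1))
  refine ⟨(Submodule.finrank_mono le_sup_left).trans hb, fun hnot => ⟨?_, ?_⟩⟩
  · have := (finrank_lt_sup_span hnot).trans hb
    omega
  · rintro ⟨u, hu, hfu⟩
    have hle : LinearMap.range A ⊔ K ∙ N e1 ≤ M ⊔ K ∙ N e1 := by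
      refine sup_le ?_ le_sup_right
      rintro _ ⟨v, rfl⟩
      have : A v = A (v - (f v / f u) • u) := by
        rw [map_sub, map_smul, LinearMap.mem_ker.1 hu, smul_zero, sub_zero]
      rw [this]
      exact hH _ (by simp [hfu])
    have hn : N e1 ∉ LinearMap.range A := fun hn =>
      hnot (he1 _ (LinearMap.mem_range_self A e1) hn)
    have := (finrank_lt_sup_span hn).trans ((Submodule.finrank_mono hle).trans
      (finrank_sup_span_le _ _))
    omega

theorem ker_ne_bot_of_rank_lt {A : Module.End K V} (h : (ran A) < finrank K V) :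
    LinearMap.range A ≠ ⊤ := fun e => by rw [e, finrank_top] at h; exact lt_irrefl _ h

theorem ne_smul_one_of_rank {A : Module.End K V} {l : K} (h : 1 ≤ (ran (A - l • 1))) :
    A ≠ l • 1 := by
  rintro rfl
  rw [sub_self, LinearMap.range_zero, finrank_bot] at h
  exact absurd h (by norm_num)

theorem one_le_rank {N : Module.End K V} (hG : Good N) (l : K) : 1 ≤ (ran (N - l • 1)) := by
  rw [Nat.one_le_iff_ne_zero, Ne, Submodule.finrank_eq_zero, LinearMap.range_eq_bot, sub_eq_zero]
  exact hG.1 l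

theorem ker_proper {N : Module.End K V} (hG : Good N) (l : K) :
    LinearMap.ker (N - l • 1) ≠ ⊤ := fun h =>
  hG.1 l (sub_eq_zero.1 (LinearMap.ker_eq_top.1 h))

theorem apply_A (N : Module.End K V) (l : K) (v : V) : (N - l • 1) v = N v - l • v := by simp

/-- Eigenvectors for other scalars lie in the range. -/
theorem eig_mem_range (N : Module.End K V) {a l : K} {v : V} (hv : N v = l • v) :
    v ∈ LinearMap.range (N - a • 1) ∨ v ∈ LinearMap.ker (N - a • 1) := by
  rcases eq_or_ne l a with rfl | h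
  · exact Or.inr (by rw [LinearMap.mem_ker, apply_A, hv, sub_self])
  · refine Or.inl ⟨(l - a)⁻¹ • v, ?_⟩
    rw [map_smul, apply_A, hv, ← sub_smul, inv_smul_smul₀ (sub_ne_zero.2 h)]

theorem exists_cover_any (N : Module.End K V) (hG : Good N) (hpos : 0 < finrank K V) :
    ∃ P₁ P₂ : Submodule K V, P₁ ≠ ⊤ ∧ P₂ ≠ ⊤ ∧ ∀ l : K, ∀ v, N v = l • v → v ∈ P₁ ∨ v ∈ P₂ := by
  by_cases hex : ∃ a : K, ∃ v : V, v ≠ 0 ∧ N v = a • v
  · obtain ⟨a, v, hv0, hv⟩ := hex
    refine ⟨LinearMap.range (N - a • 1), LinearMap.ker (N - a • 1), fun htop => ?_, ker_proper hG a,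
      fun l x hx => eig_mem_range N hx⟩
    have hi := LinearMap.injective_iff_surjective.2 (LinearMap.range_eq_top.1 htop)
    exact hv0 (hi (by rw [apply_A, hv, sub_self, map_zero]))
  · push Not at hex
    have hnt : (⊥ : Submodule K V) ≠ ⊤ := fun h => by
      have := finrank_top K V
      rw [← h, finrank_bot] at this
      omega
    refine ⟨⊥, ⊥, hnt, hnt, fun l v hv => Or.inl ?_⟩
    by_contra h
    exact hex l v h hv

/-- The first vector. -/
theorem exists_e1 (hK : Four K) (N : Module.End K V) (hG : Good N) {c : V} (hc : c ≠ 0)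
    {ρ : Dual K V} (hρ : ρ ≠ 0) (P₁ P₂ : Submodule K V) (h1 : P₁ ≠ ⊤) (h2 : P₂ ≠ ⊤)
    (hcov : ∀ l : K, ∀ v, N v = l • v → v ∈ P₁ ∨ v ∈ P₂) :
    ∃ e1, ρ e1 ≠ 0 ∧ e1 ∉ P₁ ∧ e1 ∉ P₂ ∧ e1 ∉ K ∙ (N e1 - e1) ∧ c ∉ K ∙ (N e1 - e1) ∧
      N e1 ≠ e1 := by
  have hB : (K ∙ c).comap (N - 1) ≠ ⊤ := fun h => by
    have hle : LinearMap.range (N - 1) ≤ K ∙ c := by
      rintro _ ⟨v, rfl⟩
      exact (h ▸ Submodule.mem_top : v ∈ (K ∙ c).comap (N - 1))
    have := Submodule.finrank_mono hle
    rw [finrank_span_singleton hc] at this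
    have := hG.2
    omega
  obtain ⟨e1, hρ1, he1, he2, hB1⟩ := exists_avoid hK (LinearMap.ker ρ) P₁ P₂ _
    (fun h => hρ (LinearMap.ker_eq_top.1 h)) h1 h2 hB
  refine ⟨e1, hρ1, he1, he2, fun h => ?_, fun h => ?_,
    fun h => hB1 (Submodule.mem_comap.2 (by
      rw [LinearMap.sub_apply, Module.End.one_apply, h, sub_self]; exact Submodule.zero_mem _))⟩
  · obtain ⟨s, hs⟩ := Submodule.mem_span_singleton.1 h
    have hne : e1 ≠ 0 := fun h0 => he1 (h0 ▸ P₁.zero_mem)
    have hs0 : s ≠ 0 := fun h0 => hne (by rw [← hs, h0, zero_smul])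
    refine (hcov (1 + s⁻¹) e1 ?_).elim he1 he2
    have h2 : s⁻¹ • e1 = N e1 - e1 := by
      conv_lhs => rw [← hs]
      rw [inv_smul_smul₀ hs0]
    rw [add_smul, one_smul, h2]
    abel
  · obtain ⟨s, hs⟩ := Submodule.mem_span_singleton.1 h
    have hs0 : s ≠ 0 := fun h0 => hc (by rw [← hs, h0, zero_smul])
    refine hB1 (Submodule.mem_comap.2 (Submodule.mem_span_singleton.2 ⟨s⁻¹, ?_⟩))
    rw [LinearMap.sub_apply, Module.End.one_apply, ← hs, inv_smul_smul₀ hs0]

theorem not_le_span {U : Submodule K V} (h : 2 ≤ finrank K U) (x : V) : ¬ U ≤ K ∙ x := fun hle => by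
  have := Submodule.finrank_mono hle
  have := finrank_span_le_card ({x} : Set V) (R := K)
  simp at this
  omega

theorem not_span_le {z x : V} (h : z ∉ K ∙ x) : ¬ (K ∙ z) ≤ K ∙ x := fun hle =>
  h (hle (Submodule.mem_span_singleton_self z))

theorem fN1_eq {N : Module.End K V} {f : Dual K V} {e1 : V} (h1 : f e1 = 1)
    (h2 : f (N e1 - e1) = 0) : f (N e1) = 1 := by
  rwa [map_sub, h1, sub_eq_zero] at h2

theorem det_ne {N : Module.End K V} (hdet : LinearMap.det N = 1) (hpos : 0 < finrank K V) :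
    N ≠ (0 : K) • 1 := fun h => by
  rw [h, LinearMap.det_smul, zero_pow hpos.ne', zero_mul] at hdet
  exact zero_ne_one hdet

theorem no_quadratic (N : Module.End K V) (h3 : finrank K V = 3) (hdet : LinearMap.det N = 1)
    (hG : Good N) (hker : LinearMap.ker (N - 1) = ⊥) (t : K) : N * N - t • N + 1 ≠ 0 := by
  intro hq0
  set χ := LinearMap.charpoly N
  set q : K[X] := X ^ 2 - C t * X + 1 with hqdef
  have hqm : q.Monic := by unfold q; monicity!
  have hqd : q.natDegree = 2 := by unfold q; compute_degree!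
  have hqN : aeval N q = 0 := by
    simp only [q, map_add, map_sub, map_mul, map_pow, aeval_X, aeval_C, map_one]
    rw [pow_two, ← Algebra.smul_def]
    exact hq0
  have hrd : (χ %ₘ q).natDegree ≤ 1 := by
    have := natDegree_modByMonic_lt χ hqm (fun h => by rw [h] at hqd; simp at hqd)
    omega
  have hr : χ %ₘ q = 0 := by
    have h0 : aeval N (χ %ₘ q) = 0 := by
      rw [modByMonic_eq_sub_mul_div, map_sub, map_mul, hqN, zero_mul, sub_zero,
        LinearMap.aeval_self_charpoly]
    obtain ⟨a, b, hab⟩ := exists_eq_X_add_C_of_natDegree_le_one hrd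
    rw [hab, map_add, map_mul, aeval_C, aeval_C, aeval_X, ← Algebra.smul_def,
      Algebra.algebraMap_eq_smul_one] at h0
    have ha : a = 0 := by
      by_contra ha
      refine hG.1 (-(a⁻¹ * b)) ?_
      rw [neg_smul, mul_smul, ← smul_neg, ← eq_neg_of_add_eq_zero_left h0, inv_smul_smul₀ ha]
    rw [ha, zero_smul, zero_add] at h0
    have hb : b = 0 := by
      by_contra hb
      refine hG.1 0 (LinearMap.ext fun v => ?_)
      have hv : b • v = 0 := by simpa using LinearMap.congr_fun h0 v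
      simp [(smul_eq_zero.1 hv).resolve_left hb]
    rw [hab, ha, hb]; simp
  have hfac : χ = q * (χ /ₘ q) := by
    conv_lhs => rw [← modByMonic_add_div χ q, hr, zero_add]
  have hχm : χ.Monic := LinearMap.charpoly_monic N
  have hhm : (χ /ₘ q).Monic := hqm.of_mul_monic_left (hfac ▸ hχm)
  have hhd : (χ /ₘ q).natDegree = 1 := by
    rw [natDegree_divByMonic χ hqm, LinearMap.charpoly_natDegree, h3, hqd]
  have hhX := hhm.eq_X_add_C hhd
  have he0 : χ.eval 0 = -1 := by
    rw [LinearMap.eval_charpoly, map_zero, zero_sub, ← neg_one_smul K N, LinearMap.det_smul, h3,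
      hdet]
    ring
  have he1 : χ.eval 1 ≠ 0 := by
    rw [LinearMap.eval_charpoly, map_one, ← neg_sub, ← neg_one_smul K (N - 1), LinearMap.det_smul]
    refine mul_ne_zero (pow_ne_zero _ (by simp)) fun h => ?_
    exact (LinearMap.bot_lt_ker_of_det_eq_zero h).ne' hker
  rw [hfac, hhX] at he0 he1
  simp only [q, eval_mul, eval_add, eval_sub, eval_pow, eval_X, eval_C, eval_one] at he0 he1
  refine he1 ?_
  linear_combination (1 - t + 1) * he0

/-- Choice of the step in dimension at least four. -/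
theorem exists_step_large (hK : Four K) (N : Module.End K V) (hG : Good N)
    (hdet : LinearMap.det N = 1) (hm : 4 ≤ finrank K V) {c : V} (hc : c ≠ 0) {ρ : Dual K V}
    (hρ : ρ ≠ 0) :
    ∃ (e1 : V) (f : Dual K V) (h1 : f e1 = 1) (hN1 : f (N e1) = 1), ρ e1 ≠ 0 ∧ f c ≠ 0 ∧
      N e1 ≠ e1 ∧
      (∃ u, f (N u) ≠ f u) ∧ Good (schur N f e1 hN1) := by
  classical
  let A : K → Module.End K V := fun l => N - l • 1
  have hrk : ∀ l, (ran (A l)) + finrank K (LinearMap.ker (A l)) = finrank K V := fun l =>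
    (A l).finrank_range_add_finrank_ker
  have hA1 : A 1 = N - 1 := by simp [A]
  have h11 : 2 ≤ (ran (A 1)) := by rw [hA1]; exact hG.2
  let crit : K → Prop := fun l => l ≠ 0 ∧ ((ran (A l)) ≤ 2 ∨ l = 1 ∧ (ran (A l)) ≤ 3)
  have hcrit : ∀ l, crit l → (ran (A l)) ≤ 3 := fun l h => by
    rcases h.2 with h | ⟨-, h⟩ <;> omega
  have hinf : ∀ a b, a ≠ b → LinearMap.ker (A a) ⊓ LinearMap.ker (A b) = ⊥ := fun a b hab => by
    refine eq_bot_iff.2 fun v hv => ?_
    obtain ⟨ha, hb⟩ := Submodule.mem_inf.1 hv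
    rw [LinearMap.mem_ker, apply_A, sub_eq_zero] at ha hb
    have : (a - b) • v = 0 := by rw [sub_smul, ← ha, ← hb, sub_self]
    exact (Submodule.mem_bot K).2 ((smul_eq_zero.1 this).resolve_left (sub_ne_zero.2 hab))
  have hpair : ∀ a b, a ≠ b →
      finrank K (LinearMap.ker (A a)) + finrank K (LinearMap.ker (A b)) ≤ finrank K V :=
    fun a b hab => by
      rw [← Submodule.finrank_sup_add_finrank_inf_eq, hinf a b hab, finrank_bot, add_zero]
      exact Submodule.finrank_le _
  have htriple : ∀ a b d, a ≠ b → a ≠ d → b ≠ d → finrank K (LinearMap.ker (A a)) +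
      finrank K (LinearMap.ker (A b)) + finrank K (LinearMap.ker (A d)) ≤ finrank K V := by
    intro a b d hab had hbd
    have h0 : (LinearMap.ker (A a) ⊔ LinearMap.ker (A b)) ⊓ LinearMap.ker (A d) = ⊥ := by
      refine eq_bot_iff.2 fun v hv => ?_
      obtain ⟨hab', hd⟩ := Submodule.mem_inf.1 hv
      obtain ⟨x, hx, y, hy, rfl⟩ := Submodule.mem_sup.1 hab'
      rw [LinearMap.mem_ker, apply_A, sub_eq_zero] at hx hy hd
      have hz : (A a) ((A b) (x + y)) = 0 := by
        simp only [A, apply_A, map_add, map_sub, map_smul, hx, hy, smul_sub, smul_smul]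
        module
      have hz2 : (A a) ((A b) (x + y)) = ((d - a) * (d - b)) • (x + y) := by
        rw [apply_A N b, hd, map_sub, map_smul, map_smul, apply_A, hd]
        module
      rw [hz2, smul_eq_zero, mul_eq_zero] at hz
      refine (Submodule.mem_bot K).2 (hz.resolve_left ?_)
      exact not_or.2 ⟨sub_ne_zero.2 had.symm, sub_ne_zero.2 hbd.symm⟩
    have h1 := Submodule.finrank_sup_add_finrank_inf_eq (LinearMap.ker (A a) ⊔ LinearMap.ker (A b))
      (LinearMap.ker (A d))
    have h2 := Submodule.finrank_sup_add_finrank_inf_eq (LinearMap.ker (A a)) (LinearMap.ker (A b))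
    rw [h0, finrank_bot] at h1
    rw [hinf a b hab, finrank_bot] at h2
    have := Submodule.finrank_le (LinearMap.ker (A a) ⊔ LinearMap.ker (A b) ⊔ LinearMap.ker (A d))
    omega
  have honly : ∀ a b d, crit a → crit b → crit d → a ≠ b → d = a ∨ d = b := by
    intro a b d ha hb hd hab
    by_contra hc'
    obtain ⟨hda, hdb⟩ := not_or.1 hc'
    have := htriple a b d hab (Ne.symm hda) (Ne.symm hdb)
    have := hrk a
    have := hrk b
    have := hrk d
    have h2 : ∀ l, crit l → l ≠ 1 → (ran (A l)) ≤ 2 := fun l hl hl1 =>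
      hl.2.elim id fun h => absurd h.1 hl1
    rcases eq_or_ne a 1 with e | e
    · have := h2 b hb (fun h => hab (e.trans h.symm))
      have := h2 d hd (fun h => hda (h.trans e.symm))
      have := hcrit a ha
      omega
    · have := h2 a ha e
      rcases eq_or_ne b 1 with e' | e'
      · have := h2 d hd (fun h => hdb (h.trans e'.symm))
        have := hcrit b hb
        omega
      · have := h2 b hb e'
        have := hcrit d hd
        omega
  obtain ⟨P₁, P₂, hP1, hP2, hcov, hran⟩ : ∃ P₁ P₂ : Submodule K V, P₁ ≠ ⊤ ∧ P₂ ≠ ⊤ ∧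
      (∀ l : K, ∀ v, N v = l • v → v ∈ P₁ ∨ v ∈ P₂) ∧
      ∀ l, crit l → LinearMap.range (A l) ≤ P₁ ∨ LinearMap.range (A l) ≤ P₂ := by
    by_cases hex : ∃ a, crit a
    · obtain ⟨a, ha⟩ := hex
      have hpa : LinearMap.range (A a) ≠ ⊤ :=
        ker_ne_bot_of_rank_lt (by have := hcrit a ha; omega)
      by_cases hex2 : ∃ b, crit b ∧ b ≠ a
      · obtain ⟨b, hb, hba⟩ := hex2
        refine ⟨_, _, hpa, ker_ne_bot_of_rank_lt (A := A b) (by have := hcrit b hb; omega),
          fun l v hv => ?_, fun l hl => ?_⟩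
        · rcases eig_mem_range N (a := a) hv with h | h
          · exact Or.inl h
          · rcases eig_mem_range N (a := b) hv with h' | h'
            · exact Or.inr h'
            · have h0 : v ∈ LinearMap.ker (A a) ⊓ LinearMap.ker (A b) := ⟨h, h'⟩
              rw [hinf a b hba.symm, Submodule.mem_bot] at h0
              exact Or.inl (h0 ▸ Submodule.zero_mem _)
        · rcases honly a b l ha hb hl hba.symm with rfl | rfl
          · exact Or.inl le_rfl
          · exact Or.inr le_rfl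
      · push Not at hex2
        exact ⟨_, _, hpa, ker_proper hG a, fun l v hv => eig_mem_range N hv,
          fun l hl => Or.inl (by rw [hex2 l hl])⟩
    · push Not at hex
      obtain ⟨P₁, P₂, a, b, d⟩ := exists_cover_any N hG (by omega)
      exact ⟨P₁, P₂, a, b, d, fun l hl => absurd hl (hex l)⟩
  obtain ⟨e1, hρ1, he1, he2, hne, hce, hfix⟩ := exists_e1 hK N hG hc hρ P₁ P₂ hP1 hP2 hcov
  let fcrit : K → Prop := fun l => l ≠ 0 ∧ ((ran (A l)) = 1 ∨ l = 1 ∧ (ran (A l)) = 2)
  obtain ⟨U, hU, hUf⟩ : ∃ U : Submodule K V, 2 ≤ finrank K U ∧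
      ∀ l, fcrit l → U = LinearMap.ker (A l) := by
    by_cases hex : ∃ a, fcrit a
    · obtain ⟨a, ha⟩ := hex
      refine ⟨LinearMap.ker (A a), ?_, fun l hl => ?_⟩
      · have := hrk a
        rcases ha.2 with h | ⟨-, h⟩ <;> omega
      · by_contra hne'
        have hla : a ≠ l := fun e => hne' (by rw [e])
        have := hpair a l hla
        have := hrk a
        have := hrk l
        rcases ha.2 with h | ⟨e, h⟩ <;> rcases hl.2 with h' | ⟨e', h'⟩ <;>
          first | omega | exact hla (e.trans e'.symm)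
    · push Not at hex
      exact ⟨LinearMap.range (N - 1), hG.2, fun l hl => absurd hl (hex l)⟩
  obtain ⟨f, f1, f2, ⟨u, hu, hfu⟩, ⟨w, hw, hfw⟩, ⟨z, hz, hfz⟩⟩ :=
    exists_functional hK hne (K ∙ c) (LinearMap.range (N - 1)) U (not_span_le hce)
      (not_le_span hG.2 _) (not_le_span hU _)
  have hN1 := fN1_eq f1 f2
  refine ⟨e1, f, f1, hN1, hρ1, ?_, hfix, ?_, ?_⟩
  · obtain ⟨a, rfl⟩ := Submodule.mem_span_singleton.1 hu
    intro h
    rw [map_smul, h, smul_zero] at hfu
    exact hfu rfl
  · obtain ⟨v, rfl⟩ := hw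
    refine ⟨v, fun h => hfw ?_⟩
    rw [LinearMap.sub_apply, Module.End.one_apply, map_sub, h, sub_self]
  have hnot : ∀ l, crit l → e1 ∉ LinearMap.range (A l) := fun l hl h =>
    (hran l hl).elim (fun e => he1 (e h)) (fun e => he2 (e h))
  refine ⟨fun l => ?_, ?_⟩
  · rcases eq_or_ne l 0 with rfl | hl
    · exact det_ne (by rw [det_schur N f e1 f1 hN1, hdet])
        (by have := finrank_ker_add_one f1; omega)
    · refine ne_smul_one_of_rank ?_
      obtain ⟨ha, hb⟩ := schur_rank N f e1 f1 hN1 hl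
      have h1 := one_le_rank hG l
      by_cases h3 : 3 ≤ (ran (A l))
      · simp only [A] at h3; omega
      · have hcl : crit l := ⟨hl, Or.inl (by omega)⟩
        obtain ⟨hc1, hc2⟩ := hb (hnot l hcl)
        by_cases h2 : 2 ≤ (ran (A l))
        · simp only [A] at h2; omega
        · have := hc2 ⟨z, hUf l ⟨hl, Or.inl (by simp only [A] at h2 ⊢; omega)⟩ ▸ hz, hfz⟩
          omega
  · obtain ⟨ha, hb⟩ := schur_rank N f e1 f1 hN1 (one_ne_zero (α := K))
    rw [one_smul, one_smul] at ha hb
    rw [hA1] at h11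
    by_cases h4 : 4 ≤ (ran (N - 1))
    · omega
    · have hcl : crit 1 := ⟨one_ne_zero, Or.inr ⟨rfl, by rw [hA1]; omega⟩⟩
      have hn := hnot 1 hcl
      rw [hA1] at hn
      obtain ⟨hc1, hc2⟩ := hb hn
      by_cases h3 : 3 ≤ (ran (N - 1))
      · omega
      · have := hUf 1 ⟨one_ne_zero, Or.inr ⟨rfl, by rw [hA1]; omega⟩⟩
        rw [hA1] at this
        have := hc2 ⟨z, this ▸ hz, hfz⟩
        omega

end Cfsg.Agent.H55.Lev
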