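/-
The induction, and the passage to matrices.
-/
import Cfsg.Agent.H55.LevInduction

set_option autoImplicit false
set_option linter.unusedSectionVars false

namespace Cfsg.Agent.H55.Lev

open Module

universe u w

variable {K : Type u} [Field K]

section

variable {V : Type w} [AddCommGroup V] [Module K V] [FiniteDimensional K V]

theorem apply_sub_one (N : Module.End K V) (v : V) : (N - 1) v = N v - v := by simp

/-- The Schur complement is good in dimension two. -/
theorem good_schur_three (N : Module.End K V) (hG : Good N) (h3 : finrank K V = 3)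
    (hdet : LinearMap.det N = 1) {f : Dual K V} {e1 : V} (h1 : f e1 = 1) (hN1 : f (N e1) = 1)
    (hinj : ∀ v, f v = 0 → ∀ t : K, N v - v = t • N e1 → v = 0)
    {ran' : ℕ} (hR : ran' = finrank K (LinearMap.range (N - (-1 : K) • 1)))
    (hneg : (-1 : K) ≠ 1 → ran' ≤ 2 → e1 ∉ LinearMap.range (N - (-1 : K) • 1) ∧
      (ran' = 1 → ∃ u ∈ LinearMap.ker (N - (-1 : K) • 1), f u ≠ 0)) :
    Good (schur N f e1 hN1) := by
  have hk := finrank_ker_add_one h1
  have hker : LinearMap.ker (schur N f e1 hN1 - 1) = ⊥ := by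
    refine eq_bot_iff.2 fun v hv => ?_
    rw [LinearMap.mem_ker, apply_sub_one, sub_eq_zero] at hv
    have h := congrArg Subtype.val hv
    rw [schur_coe] at h
    refine (Submodule.mem_bot K).2 (Subtype.ext (hinj v (LinearMap.mem_ker.1 v.2) (f (N v)) ?_))
    conv_lhs => arg 2; rw [← h]
    abel
  have hrank : finrank K (LinearMap.range (schur N f e1 hN1 - 1)) = 2 := by
    have := (schur N f e1 hN1 - 1).finrank_range_add_finrank_ker
    rw [hker, finrank_bot] at this
    omega
  refine ⟨fun l hl => ?_, by omega⟩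
  have hd := det_schur N f e1 h1 hN1
  rw [hl, LinearMap.det_smul, map_one, mul_one, hdet,
    show finrank K (LinearMap.ker f) = 2 by omega] at hd
  rcases sq_eq_one_iff.1 hd with rfl | rfl
  · rw [hl, one_smul, sub_self, LinearMap.range_zero, finrank_bot] at hrank
    exact absurd hrank (by norm_num)
  rcases eq_or_ne (-1 : K) 1 with e | hne
  · rw [hl, e, one_smul, sub_self, LinearMap.range_zero, finrank_bot] at hrank
    exact absurd hrank (by norm_num)
  have h0 : finrank K (LinearMap.range (schur N f e1 hN1 - (-1 : K) • 1)) = 0 := by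
    rw [hl, sub_self, LinearMap.range_zero, finrank_bot]
  obtain ⟨ha, hb⟩ := schur_rank N f e1 h1 hN1 (l := (-1 : K)) (by simp)
  have hr1 := one_le_rank hG (-1)
  rw [← hR] at ha hb hr1
  obtain ⟨hc1, hc2⟩ := hb (hneg hne (by omega)).1
  have := hc2 ((hneg hne (by omega)).2 (by omega))
  omega

theorem exists_step_three (hK : Four K) (N : Module.End K V) (hG : Good N)
    (hdet : LinearMap.det N = 1) (h3 : finrank K V = 3) {c : V} (hc : c ≠ 0) {ρ : Dual K V}
    (hρ : ρ ≠ 0) :
    ∃ (e1 : V) (f : Dual K V) (_ : f e1 = 1) (hN1 : f (N e1) = 1), ρ e1 ≠ 0 ∧ f c ≠ 0 ∧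
      N e1 ≠ e1 ∧ (∃ u, f (N u) ≠ f u) ∧ Good (schur N f e1 hN1) := by
  classical
  set Ap : Module.End K V := N - (-1 : K) • 1 with hApdef
  have hAp : ∀ v, Ap v = N v + v := fun v => by simp [Ap]
  have hNinj : Function.Injective N := by
    rw [← LinearMap.ker_eq_bot]
    by_contra h
    exact one_ne_zero (hdet ▸ LinearMap.det_eq_zero_iff_ker_ne_bot.2 h)
  have hNsurj : Function.Surjective N := LinearMap.injective_iff_surjective.1 hNinj
  have hrkp := Ap.finrank_range_add_finrank_ker
  by_cases hk1 : LinearMap.ker (N - 1) = ⊥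
  · have hsurj : Function.Surjective (N - 1 : Module.End K V) :=
      LinearMap.injective_iff_surjective.1 (LinearMap.ker_eq_bot.1 hk1)
    let T : K → Module.End K V := fun t => (N - 1) * (N - 1) - t • N
    have hT : ∀ t v, T t v = (N - 1) ((N - 1) v) - t • N v := fun t v => by simp [T]
    have hTne : ∀ t, LinearMap.ker (T t) ≠ ⊤ := fun t h => by
      refine no_quadratic N h3 hdet hG hk1 (2 + t) ?_
      rw [← LinearMap.ker_eq_top.1 h]
      refine LinearMap.ext fun v => ?_
      simp only [T, Module.End.mul_apply, LinearMap.add_apply, LinearMap.sub_apply,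
        LinearMap.smul_apply, Module.End.one_apply, map_sub]
      module
    obtain ⟨P₁, P₂, hP1, hP2, hcov, hPA⟩ : ∃ P₁ P₂ : Submodule K V, P₁ ≠ ⊤ ∧ P₂ ≠ ⊤ ∧
        (∀ t : K, ∀ v, (N - 1) ((N - 1) v) = t • N v → v ∈ P₁ ∨ v ∈ P₂) ∧
        (LinearMap.ker Ap ≠ ⊥ → LinearMap.range Ap ≤ P₁) := by
      have hTsol : ∀ a t v, (N - 1) ((N - 1) v) = t • N v → t ≠ a →
          ∃ w, v = T a w := by
        intro a t v hv hta
        obtain ⟨w, hw⟩ := hNsurj ((t - a)⁻¹ • v)
        refine ⟨w, hNinj ?_⟩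
        have hcomm : N (T a w) = T a (N w) := by
          simp only [hT, apply_sub_one, map_sub, map_smul]
        rw [hcomm, hw, map_smul, hT, hv, ← sub_smul, inv_smul_smul₀ (sub_ne_zero.2 hta)]
      by_cases hp : LinearMap.ker Ap = ⊥
      swap
      · refine ⟨LinearMap.range Ap, LinearMap.ker (T (-4)),
          ker_ne_bot_of_rank_lt ?_, hTne _, fun t v hv => ?_, fun _ => le_rfl⟩
        · have : 1 ≤ finrank K (LinearMap.ker Ap) :=
            Nat.one_le_iff_ne_zero.2 fun h => hp (Submodule.finrank_eq_zero.1 h)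
          omega
        · rcases eq_or_ne t (-4) with rfl | ht
          · exact Or.inr (by rw [LinearMap.mem_ker, hT, hv, sub_self])
          · obtain ⟨w, rfl⟩ := hTsol _ _ v hv ht
            have hfac : T (-4) w = Ap (Ap w) := by
              simp only [hT, hAp, apply_sub_one, map_sub, map_add]
              module
            exact Or.inl ⟨Ap w, hfac.symm⟩
      · by_cases hex : ∃ t : K, ∃ v : V, v ≠ 0 ∧ (N - 1) ((N - 1) v) = t • N v
        · obtain ⟨a, v, hv0, hv⟩ := hex
          refine ⟨LinearMap.range (T a), LinearMap.ker (T a), fun htop => ?_, hTne a,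
            fun t x hx => ?_, fun h => absurd hp h⟩
          · have hi := LinearMap.injective_iff_surjective.2 (LinearMap.range_eq_top.1 htop)
            exact hv0 (hi (by rw [hT, hv, sub_self, map_zero]))
          · rcases eq_or_ne t a with rfl | ht
            · exact Or.inr (by rw [LinearMap.mem_ker, hT, hx, sub_self])
            · obtain ⟨w, rfl⟩ := hTsol _ _ x hx ht
              exact Or.inl (LinearMap.mem_range_self _ w)
        · push Not at hex
          have hnt : (⊥ : Submodule K V) ≠ ⊤ := fun h => by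
            have := finrank_top K V
            rw [← h, finrank_bot] at this
            omega
          refine ⟨⊥, ⊥, hnt, hnt, fun t v hv => Or.inl ?_, fun h => absurd hp h⟩
          by_contra h
          exact hex t v h hv
    have hcovN : ∀ l : K, ∀ v, N v = l • v → v ∈ P₁ ∨ v ∈ P₂ := fun l v hv => by
      rcases eq_or_ne l 0 with rfl | hl
      · exact Or.inl ((hNinj (by rw [hv, zero_smul, map_zero]) : v = 0) ▸ P₁.zero_mem)
      · refine hcov ((l - 1) * (l - 1) / l) v ?_
        rw [apply_sub_one, apply_sub_one, map_sub, hv, map_smul, hv,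
          show ((l - 1) * (l - 1) / l) • l • v = ((l - 1) * (l - 1)) • v by
            rw [smul_smul, div_mul_cancel₀ _ hl]]
        module
    obtain ⟨e1, hρ1, he1, he2, hne, hce, hfix⟩ := exists_e1 hK N hG hc hρ P₁ P₂ hP1 hP2 hcovN
    obtain ⟨z, hz⟩ := hsurj (N e1)
    have hNe : N e1 ≠ 0 := fun h => he1 ((hNinj (by rw [h, map_zero]) : e1 = 0) ▸ P₁.zero_mem)
    have hz2 : z ∉ K ∙ (N e1 - e1) := fun h => by
      obtain ⟨s, rfl⟩ := Submodule.mem_span_singleton.1 h
      rw [map_smul, ← apply_sub_one] at hz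
      have hs : s ≠ 0 := fun h0 => hNe (by rw [← hz, h0, zero_smul])
      refine (hcov s⁻¹ e1 ?_).elim he1 he2
      rw [← hz, inv_smul_smul₀ hs]
    let U : Submodule K V :=
      if finrank K (LinearMap.range Ap) ≤ 1 then LinearMap.ker Ap else LinearMap.range Ap
    have hU : 2 ≤ finrank K U := by
      by_cases h : finrank K (LinearMap.range Ap) ≤ 1
      · rw [show U = LinearMap.ker Ap from if_pos h]; omega
      · rw [show U = LinearMap.range Ap from if_neg h]; omega
    obtain ⟨f, f1, f2, ⟨u, hu, hfu⟩, ⟨w, hw, hfw⟩, ⟨x, hx, hfx⟩⟩ :=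
      exists_functional hK hne (K ∙ c) (K ∙ z) U (not_span_le hce) (not_span_le hz2)
        (not_le_span hU _)
    have hN1 := fN1_eq f1 f2
    obtain ⟨a, rfl⟩ := Submodule.mem_span_singleton.1 hu
    obtain ⟨b, rfl⟩ := Submodule.mem_span_singleton.1 hw
    refine ⟨e1, f, f1, hN1, hρ1, fun h => hfu (by rw [map_smul, h, smul_zero]), hfix, ?_, ?_⟩
    · obtain ⟨v, hv⟩ := hsurj e1
      refine ⟨v, fun h => one_ne_zero (α := K) ?_⟩
      rw [← f1, ← hv, apply_sub_one, map_sub, h, sub_self]
    refine good_schur_three N hG h3 hdet f1 hN1 (fun v hfv t ht => ?_) rfl fun _ hr => ?_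
    · have hv : v = t • z := LinearMap.ker_eq_bot.1 hk1 (by rw [map_smul, hz, apply_sub_one, ht])
      rw [hv, map_smul, smul_eq_zero] at hfv
      rcases hfv with h | h
      · rw [hv, h, zero_smul]
      · exact absurd (by rw [map_smul, h, smul_zero]) hfw
    · rw [← hApdef] at hr ⊢
      have hp : LinearMap.ker Ap ≠ ⊥ := fun e => by rw [e, finrank_bot] at hrkp; omega
      refine ⟨fun h => he1 (hPA hp h), fun h1' => ⟨x, ?_, hfx⟩⟩
      simp only [U, if_pos h1'.le] at hx
      exact hx
  · obtain ⟨P₂, hP2, hker2, hP2A⟩ : ∃ P₂ : Submodule K V, P₂ ≠ ⊤ ∧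
        (∀ v, (N - 1) ((N - 1) v) = 0 → v ∈ P₂) ∧
        ((-1 : K) ≠ 1 → LinearMap.ker Ap ≠ ⊥ → LinearMap.range Ap ≤ P₂) := by
      by_cases hp : (-1 : K) ≠ 1 ∧ LinearMap.ker Ap ≠ ⊥
      · obtain ⟨h2, hp⟩ := hp
        refine ⟨LinearMap.range Ap, ker_ne_bot_of_rank_lt ?_, fun v hv => ?_, fun _ _ => le_rfl⟩
        · have : 1 ≤ finrank K (LinearMap.ker Ap) :=
            Nat.one_le_iff_ne_zero.2 fun h => hp (Submodule.finrank_eq_zero.1 h)
          omega
        · have h2' : (2 : K) ≠ 0 := fun h => h2 (by linear_combination -h)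
          have hmap : Ap ((3 : K) • v - N v) = ((2 : K) * 2) • v := by
            simp only [apply_sub_one, map_sub] at hv
            rw [hAp, map_sub, map_smul]
            have hv' : N (N v) = N v + N v - v := by
              rw [sub_sub, sub_eq_zero] at hv
              rw [hv]; abel
            rw [hv']
            module
          refine ⟨((2 : K) * 2)⁻¹ • ((3 : K) • v - N v), ?_⟩
          rw [map_smul, hmap, inv_smul_smul₀ (mul_ne_zero h2' h2')]
      · refine ⟨LinearMap.ker ((N - 1) * (N - 1)), fun h => ?_,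
          fun v hv => by rwa [LinearMap.mem_ker, Module.End.mul_apply],
          fun h2 hp' => absurd ⟨h2, hp'⟩ hp⟩
        have hle : LinearMap.range (N - 1) ≤ LinearMap.ker (N - 1) := by
          rintro _ ⟨v, rfl⟩
          exact LinearMap.congr_fun (LinearMap.ker_eq_top.1 h) v
        have := Submodule.finrank_mono hle
        have := (N - 1).finrank_range_add_finrank_ker
        have := hG.2
        omega
    have hk1r : 1 ≤ finrank K (LinearMap.ker (N - 1)) :=
      Nat.one_le_iff_ne_zero.2 fun h => hk1 (Submodule.finrank_eq_zero.1 h)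
    have hrk1 := (N - 1).finrank_range_add_finrank_ker
    have hP1 : LinearMap.range (N - 1) ≠ ⊤ := ker_ne_bot_of_rank_lt (by omega)
    obtain ⟨e1, hρ1, he1, he2, hne, hce, hfix⟩ := exists_e1 hK N hG hc hρ _ P₂ hP1 hP2
      fun l v hv => by
        rcases eig_mem_range N (a := (1 : K)) hv with h | h
        · exact Or.inl (by rwa [one_smul] at h)
        · rw [one_smul] at h
          exact Or.inr (hker2 v (by rw [LinearMap.mem_ker.1 h, map_zero]))
    obtain ⟨p, hp, hp0⟩ := Submodule.exists_mem_ne_zero_of_ne_bot hk1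
    have hp2 : p ∉ K ∙ (N e1 - e1) := fun h => by
      obtain ⟨s, rfl⟩ := Submodule.mem_span_singleton.1 h
      have hs : s ≠ 0 := fun h0 => hp0 (by rw [h0, zero_smul])
      refine he2 (hker2 e1 ?_)
      rw [LinearMap.mem_ker, map_smul, smul_eq_zero, ← apply_sub_one] at hp
      exact hp.resolve_left hs
    let U : Submodule K V :=
      if (-1 : K) ≠ 1 ∧ finrank K (LinearMap.range Ap) ≤ 1 then LinearMap.ker Ap
      else LinearMap.range (N - 1)
    have hU : 2 ≤ finrank K U := by
      by_cases h : (-1 : K) ≠ 1 ∧ finrank K (LinearMap.range Ap) ≤ 1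
      · rw [show U = LinearMap.ker Ap from if_pos h]; have := h.2; omega
      · rw [show U = LinearMap.range (N - 1) from if_neg h]; exact hG.2
    obtain ⟨f, f1, f2, ⟨u, hu, hfu⟩, ⟨w, hw, hfw⟩, ⟨x, hx, hfx⟩⟩ :=
      exists_functional hK hne (K ∙ c) (K ∙ p) U (not_span_le hce) (not_span_le hp2)
        (not_le_span hU _)
    have hN1 := fN1_eq f1 f2
    obtain ⟨a, rfl⟩ := Submodule.mem_span_singleton.1 hu
    obtain ⟨b, rfl⟩ := Submodule.mem_span_singleton.1 hw
    refine ⟨e1, f, f1, hN1, hρ1, fun h => hfu (by rw [map_smul, h, smul_zero]), hfix, ?_, ?_⟩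
    · by_cases hcase : (-1 : K) ≠ 1 ∧ finrank K (LinearMap.range Ap) ≤ 1
      · simp only [U, if_pos hcase] at hx
        refine ⟨x, fun h => hfx ?_⟩
        have hxe : N x = -x := eq_neg_of_add_eq_zero_left (by
          rw [← hAp]; exact LinearMap.mem_ker.1 hx)
        rw [hxe, map_neg] at h
        have h2' : (2 : K) ≠ 0 := fun e => hcase.1 (by linear_combination -e)
        exact (mul_eq_zero.1 (show (2 : K) * f x = 0 by linear_combination -h)).resolve_left h2'
      · simp only [U, if_neg hcase] at hx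
        obtain ⟨v, rfl⟩ := hx
        exact ⟨v, fun h => hfx (by rw [apply_sub_one, map_sub, h, sub_self])⟩
    refine good_schur_three N hG h3 hdet f1 hN1 (fun v hfv t ht => ?_) rfl fun hne' hr => ?_
    · have ht0 : t = 0 := by
        by_contra ht0
        refine he1 ?_
        have hmem : N e1 ∈ LinearMap.range (N - 1) := ⟨t⁻¹ • v, by
          rw [map_smul, apply_sub_one, ht, inv_smul_smul₀ ht0]⟩
        have := Submodule.sub_mem _ hmem (LinearMap.mem_range_self (N - 1) e1)
        rwa [apply_sub_one, sub_sub_cancel] at this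
      rw [ht0, zero_smul, ← apply_sub_one] at ht
      have hle : K ∙ p = LinearMap.ker (N - 1) :=
        Submodule.eq_of_le_of_finrank_le ((Submodule.span_singleton_le_iff_mem _ _).2 hp)
          (by rw [finrank_span_singleton hp0]; have := hG.2; omega)
      obtain ⟨s, rfl⟩ := Submodule.mem_span_singleton.1 (hle ▸ LinearMap.mem_ker.2 ht : v ∈ K ∙ p)
      rw [map_smul, smul_eq_zero] at hfv
      rcases hfv with h | h
      · rw [h, zero_smul]
      · exact absurd (by rw [map_smul, h, smul_zero]) hfw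
    · rw [← hApdef] at hr ⊢
      have hpk : LinearMap.ker Ap ≠ ⊥ := fun e => by rw [e, finrank_bot] at hrkp; omega
      refine ⟨fun h => he2 (hP2A hne' hpk h), fun h1' => ⟨x, ?_, hfx⟩⟩
      simp only [U, if_pos (show _ ∧ _ from ⟨hne', h1'.le⟩)] at hx
      exact hx

theorem exists_step_two (hK : Four K) (N : Module.End K V) (hG : Good N)
    (h2 : finrank K V = 2) {c : V} (hc : c ≠ 0) {ρ : Dual K V} (hρ : ρ ≠ 0) :
    ∃ (e1 : V) (f : Dual K V) (_ : f e1 = 1) (_ : f (N e1) = 1), ρ e1 ≠ 0 ∧ f c ≠ 0 ∧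
      N e1 ≠ e1 ∧ ∃ u, f (N u) ≠ f u := by
  obtain ⟨P₁, P₂, hP1, hP2, hcov⟩ := exists_cover_any N hG (by omega)
  obtain ⟨e1, hρ1, -, -, hne, hce, hfix⟩ := exists_e1 hK N hG hc hρ P₁ P₂ hP1 hP2 hcov
  obtain ⟨f, f1, f2, ⟨u, hu, hfu⟩, ⟨w, hw, hfw⟩, -⟩ :=
    exists_functional hK hne (K ∙ c) (LinearMap.range (N - 1)) (LinearMap.range (N - 1))
      (not_span_le hce) (not_le_span hG.2 _) (not_le_span hG.2 _)
  obtain ⟨a, rfl⟩ := Submodule.mem_span_singleton.1 hu
  obtain ⟨v, rfl⟩ := hw
  exact ⟨e1, f, f1, fN1_eq f1 f2, hρ1, fun h => hfu (by rw [map_smul, h, smul_zero]), hfix, v,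
    fun h => hfw (by rw [apply_sub_one, map_sub, h, sub_self])⟩

end

theorem eq_one_of_finrank_one {V : Type w} [AddCommGroup V] [Module K V] [FiniteDimensional K V]
    (h1 : finrank K V = 1) (N : Module.End K V) (hdet : LinearMap.det N = 1) : N = 1 := by
  obtain ⟨v, hv⟩ : ∃ v : V, v ≠ 0 := by
    have : Nontrivial V := Module.finrank_pos_iff.1 (by omega : 0 < finrank K V)
    exact exists_ne 0
  have hspan := (finrank_eq_one_iff_of_nonzero' v hv).1 h1
  obtain ⟨l, hl⟩ := hspan (N v)
  have hN : N = l • 1 := LinearMap.ext fun x => by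
    obtain ⟨a, rfl⟩ := hspan x
    rw [map_smul, ← hl, LinearMap.smul_apply, Module.End.one_apply, smul_comm]
  rw [hN, LinearMap.det_smul, h1, pow_one, map_one, mul_one] at hdet
  rw [hN, hdet, one_smul]

theorem fac_exists (hK : Four K) : ∀ (m : ℕ) {V : Type w} [AddCommGroup V] [Module K V]
    [FiniteDimensional K V], finrank K V = m → 1 ≤ m → ∀ N : Module.End K V,
    LinearMap.det N = 1 → (2 ≤ m → Good N) → ∀ (c : V) (ρ : Dual K V), c ≠ 0 → ρ ≠ 0 →
    Fac N c ρ := by
  intro m
  induction m with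
  | zero => intro V _ _ _ _ h; omega
  | succ m ih =>
    intro V _ _ _ hm _ N hdet hGood c ρ hc hρ
    rcases Nat.eq_zero_or_pos m with rfl | hpos
    · refine ⟨1, 1, ?_, by simp [hm], by simpa [hm] using hc, by simp [hm], ?_⟩
      · rw [one_mul]; exact eq_one_of_finrank_one hm N hdet
      · obtain ⟨v, hv⟩ := DFunLike.ne_iff.1 hρ
        exact ⟨v, by simpa [hm] using hv⟩
    have hG := hGood (by omega)
    obtain ⟨e1, f, h1, hN1, hρ1, hfc, hfix, hu, hS⟩ : ∃ (e1 : V) (f : Dual K V) (_ : f e1 = 1)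
        (hN1 : f (N e1) = 1), ρ e1 ≠ 0 ∧ f c ≠ 0 ∧ N e1 ≠ e1 ∧ (∃ u, f (N u) ≠ f u) ∧
          (2 ≤ m → Good (schur N f e1 hN1)) := by
      rcases Nat.lt_or_ge (m + 1) 3 with h | h
      · obtain ⟨e1, f, a, b, d, e, x, g⟩ := exists_step_two hK N hG (by omega) hc hρ
        exact ⟨e1, f, a, b, d, e, x, g, fun hm2 => by omega⟩
      · rcases Nat.lt_or_ge (m + 1) 4 with h4 | h4
        · obtain ⟨e1, f, a, b, d, e, x, g, g'⟩ := exists_step_three hK N hG hdet (by omega) hc hρ
          exact ⟨e1, f, a, b, d, e, x, g, fun _ => g'⟩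
        · obtain ⟨e1, f, a, b, d, e, x, g, g'⟩ := exists_step_large hK N hG hdet (by omega) hc hρ
          exact ⟨e1, f, a, b, d, e, x, g, fun _ => g'⟩
    have hk := finrank_ker_add_one h1
    refine fac_of_schur N f e1 h1 hN1 c ρ hfc hρ1 (by omega) (ih (by omega) hpos _
      (by rw [det_schur N f e1 h1 hN1, hdet]) hS _ _ ?_ ?_)
    · exact fun h => hfix (sub_eq_zero.1 (congrArg Subtype.val h))
    · intro h
      obtain ⟨u, hu⟩ := hu
      have hv : f (u - f u • e1) = 0 := by simp [h1]
      have h' := LinearMap.congr_fun h ⟨_, hv⟩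
      simp only [LinearMap.comp_apply, Submodule.subtype_apply, map_sub, map_smul, hN1,
        smul_eq_mul, mul_one, LinearMap.zero_apply, sub_eq_zero] at h'
      exact hu h'

end Cfsg.Agent.H55.Lev
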