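/-
Products of two regular unipotent matrices.
-/
import Cfsg.Agent.H55.LevMain

set_option autoImplicit false
set_option linter.unusedSectionVars false

namespace Cfsg.Agent.H55.Lev

open Module Matrix

universe u

variable {K : Type u} [Field K] {n : ℕ}

/-- The regular unipotent Jordan block. -/
def jordan (K : Type u) [Field K] (n : ℕ) : Matrix (Fin n) (Fin n) K :=
  fun i j => if i = j then 1 else if j.val = i.val + 1 then 1 else 0

theorem exists_conj_jordan (X : Matrix (Fin n) (Fin n) K) (h0 : (X - 1) ^ n = 0) (v : Fin n → K)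
    (hv : ((X - 1) ^ (n - 1)) *ᵥ v ≠ 0) :
    ∃ P : GL (Fin n) K, X * (P : Matrix (Fin n) (Fin n) K) = P * jordan K n := by
  classical
  set M := X - 1 with hM
  let b : Fin n → Fin n → K := fun j => (M ^ (n - 1 - j.val)) *ᵥ v
  have hzero : ∀ k : ℕ, n ≤ k → M ^ k *ᵥ v = 0 := fun k hk => by
    rw [show k = n + (k - n) by omega, pow_add, h0, zero_mul, Matrix.zero_mulVec]
  have hli : LinearIndependent K b := by
    rw [Fintype.linearIndependent_iff]
    intro a ha
    by_contra hne
    push Not at hne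
    obtain ⟨i₁, hi₁⟩ := hne
    obtain ⟨i, hi, hmax⟩ := Finset.exists_max_image (Finset.univ.filter fun j => a j ≠ 0)
      (fun j => j.val) ⟨i₁, by simp [hi₁]⟩
    have hi0 : a i ≠ 0 := (Finset.mem_filter.1 hi).2
    have h1 := congrArg (fun w => M ^ i.val *ᵥ w) ha
    simp only [Matrix.mulVec_sum, Matrix.mulVec_zero, Matrix.mulVec_smul, b, Matrix.mulVec_mulVec,
      ← pow_add] at h1
    rw [Finset.sum_eq_single i] at h1
    · rw [show i.val + (n - 1 - i.val) = n - 1 by omega, smul_eq_zero] at h1
      exact h1.elim hi0 hv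
    · intro j _ hji
      by_cases hj : a j = 0
      · rw [hj, zero_smul]
      · have h2 : j.val ≤ i.val := hmax j (by simp [hj])
        have h3 : j.val ≠ i.val := fun e => hji (Fin.ext e)
        rw [hzero _ (by omega), smul_zero]
    · simp
  let P : Matrix (Fin n) (Fin n) K := Matrix.of fun i j => b j i
  have hu : IsUnit P := Matrix.linearIndependent_cols_iff_isUnit.1 hli
  refine ⟨hu.unit, ?_⟩
  rw [IsUnit.unit_spec]
  ext i j
  have hl : (X * P) i j = b j i + (M *ᵥ b j) i := by
    rw [show X = 1 + M by rw [hM]; abel, add_mul, one_mul, Matrix.add_apply]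
    rfl
  rw [hl, Matrix.mul_apply]
  simp only [jordan, P, Matrix.of_apply]
  have hs : ∀ k, b k i * (if k = j then (1 : K) else if j.val = k.val + 1 then 1 else 0) =
      (if k = j then b j i else 0) + (if j.val = k.val + 1 then b k i else 0) := by
    intro k
    by_cases hkj : k = j
    · subst hkj; simp
    · by_cases hk : j.val = k.val + 1 <;> simp [hkj, hk]
  rw [Finset.sum_congr rfl fun k _ => hs k, Finset.sum_add_distrib, Finset.sum_ite_eq',
    if_pos (Finset.mem_univ j)]
  congr 1
  simp only [b, Matrix.mulVec_mulVec, ← pow_succ']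
  rcases Nat.eq_zero_or_pos j.val with hj | hj
  · rw [hzero _ (by omega), Finset.sum_eq_zero fun k _ => if_neg (by omega)]
    rfl
  · rw [Finset.sum_eq_single (⟨j.val - 1, by omega⟩ : Fin n)]
    · rw [if_pos (by simp only; omega)]
      congr 2
      simp only
      omega
    · intro k _ hk
      exact if_neg fun h => hk (Fin.ext (by simp only; omega))
    · simp

/-- A transvection is a product of two regular unipotent maps. -/
theorem exists_fac_transvection {V : Type u} [AddCommGroup V] [Module K V] [FiniteDimensional K V]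
    (hn : 3 ≤ finrank K V) (g : Module.End K V) (hdet : LinearMap.det g = 1) (hne : g ≠ 1)
    (hrk : finrank K (LinearMap.range (g - 1)) ≤ 1) :
    ∃ x y : Module.End K V, g = x * y ∧ (x - 1) ^ finrank K V = 0 ∧
      (x - 1) ^ (finrank K V - 1) ≠ 0 ∧ (y - 1) ^ finrank K V = 0 ∧
      (y - 1) ^ (finrank K V - 1) ≠ 0 := by
  classical
  obtain ⟨u, hu⟩ : ∃ u, (g - 1) u ≠ 0 := by
    by_contra h
    push Not at h
    exact hne (sub_eq_zero.1 (LinearMap.ext h))
  set a := (g - 1) u with ha
  have hspan : LinearMap.range (g - 1) = K ∙ a :=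
    (Submodule.eq_of_le_of_finrank_le
      ((Submodule.span_singleton_le_iff_mem _ _).2 (LinearMap.mem_range_self _ u))
      (by rw [finrank_span_singleton hu]; exact hrk)).symm
  obtain ⟨φ, hφ⟩ : ∃ φ : Dual K V, ∀ v, (g - 1) v = φ v • a := by
    let e := LinearEquiv.toSpanNonzeroSingleton K V a hu
    let φ : Dual K V := e.symm.toLinearMap.comp
      ((g - 1).codRestrict (K ∙ a) fun v => hspan ▸ LinearMap.mem_range_self _ v)
    refine ⟨φ, fun v => ?_⟩
    exact (congrArg Subtype.val (e.apply_symm_apply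
      ⟨(g - 1) v, hspan ▸ LinearMap.mem_range_self _ v⟩)).symm
  have hg : g = LinearMap.transvection φ a := LinearMap.ext fun v => by
    rw [LinearMap.transvection.apply, ← hφ, LinearMap.sub_apply, Module.End.one_apply]
    abel
  have hφa : φ a = 0 := by
    rw [hg, LinearMap.transvection.det] at hdet
    linear_combination hdet
  obtain ⟨w, hw, hwa⟩ : ∃ w, φ w = 0 ∧ w ∉ K ∙ a := by
    by_contra h
    push Not at h
    have := Submodule.finrank_mono (fun v hv => h v (LinearMap.mem_ker.1 hv) :
      LinearMap.ker φ ≤ K ∙ a)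
    rw [finrank_span_singleton hu] at this
    have := φ.finrank_range_add_finrank_ker
    have := Submodule.finrank_le (LinearMap.range φ)
    rw [finrank_self] at this
    omega
  set d := finrank K V with hd
  obtain ⟨b, hb0, hb1⟩ : ∃ b : Basis (Fin d) K V, b ⟨0, by omega⟩ = a ∧ b ⟨1, by omega⟩ = w := by
    have hli : LinearIndepOn K id ({a, w} : Set V) := by
      have hne' : a ≠ w := fun e => hwa (e ▸ Submodule.mem_span_singleton_self a)
      refine (LinearIndepOn.pair_iff id hne').2 fun s t hst => ?_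
      simp only [id_eq] at hst
      have ht : t = 0 := by
        by_contra ht
        refine hwa (Submodule.mem_span_singleton.2 ⟨-(t⁻¹ * s), ?_⟩)
        rw [neg_smul, mul_smul, ← smul_neg, ← eq_neg_of_add_eq_zero_right hst, inv_smul_smul₀ ht]
      rw [ht, zero_smul, add_zero, smul_eq_zero] at hst
      exact ⟨hst.resolve_right hu, ht⟩
    let B := Basis.extend hli
    have : Fintype (hli.extend (Set.subset_univ ({a, w} : Set V))) :=
      FiniteDimensional.fintypeBasisIndex B
    let e : hli.extend (Set.subset_univ ({a, w} : Set V)) ≃ Fin d :=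
      Fintype.equivFinOfCardEq (finrank_eq_card_basis B).symm
    have hsub := hli.subset_extend (Set.subset_univ ({a, w} : Set V))
    set ia : hli.extend (Set.subset_univ ({a, w} : Set V)) := ⟨a, hsub (by simp)⟩
    set iw : hli.extend (Set.subset_univ ({a, w} : Set V)) := ⟨w, hsub (by simp)⟩
    have hiaw : ia ≠ iw := fun e' =>
      hwa (by
        rw [← (show a = w from congrArg Subtype.val e')]
        exact Submodule.mem_span_singleton_self a)
    let s1 : Fin d ≃ Fin d := Equiv.swap (e ia) ⟨0, by omega⟩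
    let s2 : Fin d ≃ Fin d := Equiv.swap (s1 (e iw)) ⟨1, by omega⟩
    let E := (e.trans s1).trans s2
    have hEa : E ia = ⟨0, by omega⟩ := by
      show s2 (s1 (e ia)) = _
      rw [show s1 (e ia) = ⟨0, by omega⟩ from Equiv.swap_apply_left _ _]
      refine Equiv.swap_apply_of_ne_of_ne (fun h => hiaw ?_) (by simp)
      refine e.injective (s1.injective ?_)
      rw [show s1 (e ia) = ⟨0, by omega⟩ from Equiv.swap_apply_left _ _]
      exact h
    have hEw : E iw = ⟨1, by omega⟩ := Equiv.swap_apply_left _ _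
    refine ⟨B.reindex E, ?_, ?_⟩
    · rw [Basis.reindex_apply, ← hEa, E.symm_apply_apply]; simp [B, ia]
    · rw [Basis.reindex_apply, ← hEw, E.symm_apply_apply]; simp [B, iw]
  let M : Module.End K V := b.constr K fun j =>
    if j.val = 0 then 0 else b ⟨j.val - 1, by omega⟩
  have hMb : ∀ j, M (b j) = if j.val = 0 then 0 else b ⟨j.val - 1, by omega⟩ := fun j =>
    b.constr_basis K _ j
  have hMpow : ∀ (k : ℕ) (j : Fin d), (M ^ k) (b j) =
      if h : k ≤ j.val then b ⟨j.val - k, by omega⟩ else 0 := by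
    intro k
    induction k with
    | zero => intro j; simp
    | succ k ih =>
      intro j
      rw [pow_succ', Module.End.mul_apply, ih]
      by_cases h : k ≤ j.val
      · rw [dif_pos h, hMb]
        by_cases h' : k + 1 ≤ j.val
        · rw [dif_pos h', if_neg (by simp only; omega)]
          congr 1
        · rw [dif_neg h', if_pos (by simp only; omega)]
      · rw [dif_neg h, map_zero, dif_neg (by omega)]
  have hMd : M ^ d = 0 := b.ext fun j => by
    rw [hMpow, dif_neg (by omega)]; rfl
  have hlast : (M ^ (d - 1)) (b ⟨d - 1, by omega⟩) = a := by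
    rw [hMpow, dif_pos le_rfl, ← hb0]
    congr 1
    simp
  have hMa : M a = 0 := by rw [← hb0, hMb, if_pos rfl]
  let U : Module.End K V := 1 + M
  let ψ : Dual K V := φ.comp U
  have hψa : ψ a = 0 := by simp [ψ, U, hMa, hφa]
  let x : Module.End K V := g * U
  have hxM : x - 1 = M + ψ.smulRight a := LinearMap.ext fun v => by
    simp only [x, LinearMap.sub_apply, Module.End.mul_apply, Module.End.one_apply,
      LinearMap.add_apply, LinearMap.smulRight_apply, ψ, LinearMap.comp_apply]
    rw [hg, LinearMap.transvection.apply]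
    simp only [U, LinearMap.add_apply, Module.End.one_apply]
    abel
  have hxpow : ∀ k, ∀ v, ((x - 1) ^ (k + 1)) v = (M ^ (k + 1)) v + ψ ((M ^ k) v) • a := by
    intro k
    induction k with
    | zero => intro v; rw [zero_add, pow_one, pow_one, hxM]; rfl
    | succ k ih =>
      intro v
      rw [pow_succ' (x - 1), Module.End.mul_apply, ih, hxM, LinearMap.add_apply,
        LinearMap.smulRight_apply, map_add, map_add, map_smul, map_smul, hMa, hψa, smul_zero,
        smul_zero, add_zero, add_zero, pow_succ' M (k + 1), Module.End.mul_apply]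
  obtain ⟨d', hd'⟩ : ∃ d', d = d' + 2 := ⟨d - 2, by omega⟩
  have hUu : IsUnit U := by
    refine IsNilpotent.isUnit_one_add ⟨d, hMd⟩
  obtain ⟨Uu, hUu⟩ := hUu
  refine ⟨x, (Uu⁻¹ : (Module.End K V)ˣ), ?_, ?_, ?_, ?_, ?_⟩
  · simp only [x, ← hUu, mul_assoc, Units.mul_inv, mul_one]
  · refine LinearMap.ext fun v => ?_
    rw [hd', hxpow, ← hd', hMd]
    have hker : ∀ v, ψ ((M ^ (d' + 1)) v) = 0 := fun v => by
      refine LinearMap.congr_fun (b.ext fun j => ?_ : ψ.comp (M ^ (d' + 1)) = 0) v
      rw [LinearMap.comp_apply, hMpow]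
      by_cases h : d' + 1 ≤ j.val
      · rw [dif_pos h, show (⟨j.val - (d' + 1), by omega⟩ : Fin d) = ⟨0, by omega⟩ from
          Fin.ext (by simp only; omega), hb0, hψa]
        rfl
      · rw [dif_neg h, map_zero]; rfl
    simp [hker]
  · intro h
    obtain ⟨vl, hvl⟩ : ∃ vl, vl = b ⟨d - 1, by omega⟩ := ⟨_, rfl⟩
    have h1 := LinearMap.congr_fun h vl
    rw [← hvl] at hlast
    rw [show d - 1 = d' + 1 by omega] at hlast h1
    rw [hxpow, hlast] at h1
    have hψ1 : (M ^ d') vl = w := by
      rw [hvl, hMpow, dif_pos (by simp only; omega), ← hb1]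
      congr 1
      exact Fin.ext (by simp only; omega)
    rw [hψ1] at h1
    have hψw : ψ w = 0 := by
      simp only [ψ, LinearMap.comp_apply, U, LinearMap.add_apply, Module.End.one_apply]
      rw [← hb1, hMb, if_neg (by simp), map_add, hb1, hw, zero_add,
        show (⟨1 - 1, by omega⟩ : Fin d) = ⟨0, by omega⟩ from rfl, hb0, hφa]
    rw [hψw, zero_smul, add_zero] at h1
    exact hu h1
  all_goals
    have hy : ((Uu⁻¹ : (Module.End K V)ˣ) : Module.End K V) - 1 =
        -((Uu⁻¹ : (Module.End K V)ˣ) : Module.End K V) * M := by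
      have : M = (Uu : Module.End K V) - 1 := by rw [hUu]; simp [U]
      rw [this, neg_mul, mul_sub, Units.inv_mul, mul_one, neg_sub]
    have hcomm : Commute (-((Uu⁻¹ : (Module.End K V)ˣ) : Module.End K V)) M := by
      refine (Commute.units_inv_left ?_).neg_left
      rw [hUu]
      exact (Commute.one_left M).add_left (Commute.refl M)
    rw [hy, hcomm.mul_pow]
  · rw [hMd, mul_zero]
  · intro h
    have hun : IsUnit ((-((Uu⁻¹ : (Module.End K V)ˣ) : Module.End K V)) ^ (d - 1)) :=
      ((Units.isUnit _).neg).pow _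
    exact hu (by rw [← hlast, hun.mul_right_eq_zero.1 h]; rfl)

/-- The main theorem on matrices. -/
theorem exists_jordan_factorisation (hK : Four K) (hn : 3 ≤ n) (G : Matrix (Fin n) (Fin n) K)
    (hdet : G.det = 1) (hns : ∀ l : K, G ≠ l • 1) :
    ∃ P Q : GL (Fin n) K, ∃ X Y : Matrix (Fin n) (Fin n) K, G = X * Y ∧
      X * (P : Matrix (Fin n) (Fin n) K) = P * jordan K n ∧
      Y * (Q : Matrix (Fin n) (Fin n) K) = Q * jordan K n := by
  classical
  set L := Matrix.toLinAlgEquiv' (R := K) (n := Fin n)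
  have hL : ∀ (A : Matrix (Fin n) (Fin n) K) v, L A v = A *ᵥ v := fun A v =>
    Matrix.toLinAlgEquiv'_apply A v
  have hfin : finrank K (Fin n → K) = n := Module.finrank_fin_fun K
  set g : Module.End K (Fin n → K) := L G
  have hgdet : LinearMap.det g = 1 := by
    rw [← hdet]
    exact LinearMap.det_toLin' G
  have hgns : ∀ l : K, g ≠ l • 1 := fun l h => hns l (L.injective (by
    rw [map_smul, map_one]; exact h))
  obtain ⟨x, y, hxy, hx0, ⟨v, hv⟩, hy0, ⟨w, hw⟩⟩ : ∃ x y : Module.End K (Fin n → K), g = x * y ∧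
      (x - 1) ^ n = 0 ∧ (∃ v, ((x - 1) ^ (n - 1)) v ≠ 0) ∧ (y - 1) ^ n = 0 ∧
      ∃ v, ((y - 1) ^ (n - 1)) v ≠ 0 := by
    by_cases hrk : 2 ≤ finrank K (LinearMap.range (g - 1))
    · have : Nontrivial (Fin n → K) := Module.finrank_pos_iff.1 (by omega : 0 < finrank K _)
      obtain ⟨c, hc⟩ := exists_ne (0 : Fin n → K)
      obtain ⟨ρ, hρ⟩ := exists_ne (0 : Dual K (Fin n → K))
      obtain ⟨x, y, hxy, hx0, hxc, hy0, v, hv⟩ :=
        fac_exists hK n hfin (by omega) g hgdet (fun _ => ⟨hgns, hrk⟩) c ρ hc hρ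
      rw [hfin] at hx0 hxc hy0 hv
      exact ⟨x, y, hxy, hx0, ⟨c, hxc⟩, hy0, v, fun h => hv (by rw [h, map_zero])⟩
    · obtain ⟨x, y, hxy, hx0, hx1, hy0, hy1⟩ := exists_fac_transvection (by omega) g hgdet
        (fun h => hgns 1 (by rw [one_smul]; exact h)) (by omega)
      rw [hfin] at hx0 hx1 hy0 hy1
      exact ⟨x, y, hxy, hx0, DFunLike.ne_iff.1 hx1, hy0, DFunLike.ne_iff.1 hy1⟩
  have htr : ∀ (z : Module.End K (Fin n → K)) (k : ℕ), (L.symm z - 1) ^ k = L.symm ((z - 1) ^ k) :=
    fun z k => by rw [map_pow, map_sub, map_one]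
  have htv : ∀ (z : Module.End K (Fin n → K)) (k : ℕ) u,
      ((L.symm z - 1) ^ k) *ᵥ u = ((z - 1) ^ k) u := fun z k u => by
    rw [htr, ← hL, AlgEquiv.apply_symm_apply]
  obtain ⟨P, hP⟩ := exists_conj_jordan (L.symm x) (by rw [htr, hx0, map_zero]) v
    (by rw [htv]; exact hv)
  obtain ⟨Q, hQ⟩ := exists_conj_jordan (L.symm y) (by rw [htr, hy0, map_zero]) w
    (by rw [htv]; exact hw)
  exact ⟨P, Q, L.symm x, L.symm y, by rw [← map_mul, ← hxy, AlgEquiv.symm_apply_apply], hP, hQ⟩

end Cfsg.Agent.H55.Lev
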