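import Mathlib
import Cfsg.Agent.H54.RegularClasses

/-!
Bounds for the class number of the general linear group over a finite field: a class is determined
by the isomorphism type of the associated polynomial module, hence by a tuple of monic polynomials
`g 1, ..., g n` with non-zero constant term and `∑ k * deg (g k) = n`.
-/

set_option autoImplicit false

namespace Cfsg.Agent.H55.GLClassNumber

open Polynomial Module
open scoped MatrixGroups DirectSum

section Count

/-- `wt r k` bounds the number of monic polynomials of degree `k` with non-zero constant term. -/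
def wt (r : ℕ) : ℕ → ℕ
  | 0 => 1
  | k + 1 => r * (r + 1) ^ k

/-- The number of tuples. -/
def cnt (r : ℕ) : ℕ → ℕ → ℕ
  | 0, m => if m = 0 then 1 else 0
  | J + 1, m => ∑ k ∈ Finset.range (m / (J + 1) + 1), wt r k * cnt r J (m - (J + 1) * k)

/-- The terms with `k ≥ 1`. -/
def dif (r J m : ℕ) : ℕ :=
  ∑ k ∈ Finset.range (m / (J + 1)), wt r (k + 1) * cnt r J (m - (J + 1) * (k + 1))

lemma cnt_succ (r J m : ℕ) : cnt r (J + 1) m = cnt r J m + dif r J m := by
  rw [cnt, Finset.sum_range_succ']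
  simp [wt, dif, Nat.add_comm]

lemma cnt_zero (r : ℕ) : ∀ J, cnt r J 0 = 1
  | 0 => by simp [cnt]
  | J + 1 => by simp [cnt_succ, cnt_zero r J, dif]

lemma dif_step (r J m : ℕ) : dif r J (m + (J + 1)) = r * cnt r J m + (r + 1) * dif r J m := by
  rw [dif, dif, Nat.add_div_right _ (Nat.succ_pos J), Finset.sum_range_succ', Finset.mul_sum, Nat.add_comm]
  congr 1
  · simp [wt]
  · refine Finset.sum_congr rfl fun k _ => ?_
    have h : m + (J + 1) - (J + 1) * (k + 1 + 1) = m - (J + 1) * (k + 1) := by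
      rw [Nat.mul_succ (J + 1) (k + 1)]; exact Nat.add_sub_add_right _ _ _
    rw [h]
    simp only [wt, pow_succ]
    ring

lemma cnt_le (r : ℕ) : ∀ J m, 1 ≤ m →
    (r + 1) ^ J * cnt r J m + (r + 1) ^ m ≤ (r + 1) ^ J * (r + 1) ^ m
  | 0, m, hm => by simp [cnt, show m ≠ 0 by omega]
  | J + 1, m, hm => by
    have ih := cnt_le r J
    have hD : ∀ m, (r + 1) ^ (J + 1) * dif r J m ≤ r * (r + 1) ^ m := by
      intro m
      induction m using Nat.strong_induction_on with
      | h m hrec =>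
        rcases Nat.lt_or_ge m (J + 1) with hlt | hge
        · simp [dif, Nat.div_eq_of_lt hlt]
        · obtain ⟨m', rfl⟩ : ∃ m', m = m' + (J + 1) := ⟨m - (J + 1), by omega⟩
          rw [dif_step]
          rcases Nat.eq_zero_or_pos m' with h0 | h0
          · subst h0
            simp [dif, cnt_zero, mul_comm]
          · have h1 := Nat.mul_le_mul_left (r * (r + 1)) (ih m' h0)
            have h2 := Nat.mul_le_mul_left (r + 1) (hrec m' (by omega))
            calc (r + 1) ^ (J + 1) * (r * cnt r J m' + (r + 1) * dif r J m')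
                = r * (r + 1) * ((r + 1) ^ J * cnt r J m') +
                  (r + 1) * ((r + 1) ^ (J + 1) * dif r J m') := by ring
              _ ≤ r * (r + 1) * ((r + 1) ^ J * cnt r J m') + (r + 1) * (r * (r + 1) ^ m') :=
                  Nat.add_le_add_left h2 _
              _ = r * (r + 1) * ((r + 1) ^ J * cnt r J m' + (r + 1) ^ m') := by ring
              _ ≤ r * (r + 1) * ((r + 1) ^ J * (r + 1) ^ m') := h1
              _ = r * (r + 1) ^ (m' + (J + 1)) := by ring
    have h1 := Nat.mul_le_mul_left (r + 1) (ih m hm)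
    have h2 := hD m
    have e1 : (r + 1) ^ (J + 1) * cnt r (J + 1) m =
        (r + 1) * ((r + 1) ^ J * cnt r J m) + (r + 1) ^ (J + 1) * dif r J m := by
      rw [cnt_succ]; ring
    have e2 : (r + 1) ^ (J + 1) * (r + 1) ^ m = (r + 1) * ((r + 1) ^ J * (r + 1) ^ m) := by ring
    rw [Nat.mul_add] at h1
    have e3 : (r + 1) * (r + 1) ^ m = r * (r + 1) ^ m + (r + 1) ^ m := by ring
    omega

lemma cnt_self_le (r n : ℕ) : cnt r n n ≤ (r + 1) ^ n := by
  rcases Nat.eq_zero_or_pos n with rfl | h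
  · simp [cnt]
  · exact Nat.le_of_mul_le_mul_left ((Nat.le_add_right _ _).trans (cnt_le r n n h)) (by positivity)

end Count

section Tuples

variable (F : Type*) [Field F] [Finite F]

lemma finite_monic (k : ℕ) :
    {f : F[X] | f.Monic ∧ f.natDegree = k ∧ f.coeff 0 ≠ 0}.Finite ∧
      {f : F[X] | f.Monic ∧ f.natDegree = k ∧ f.coeff 0 ≠ 0}.ncard ≤ wt (Nat.card F - 1) k := by
  cases k with
  | zero =>
    have h : {f : F[X] | f.Monic ∧ f.natDegree = 0 ∧ f.coeff 0 ≠ 0} ⊆ {1} := fun f hf =>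
      Polynomial.eq_one_of_monic_natDegree_zero hf.1 hf.2.1
    exact ⟨(Set.finite_singleton _).subset h,
      (Set.ncard_le_ncard h (Set.finite_singleton _)).trans_eq (Set.ncard_singleton _)⟩
  | succ m =>
    have h := H54.card_monic (F := F) m ({0}ᶜ : Set F)
    rw [Nat.card_coe_set_eq, Set.ncard_compl, Set.ncard_singleton] at h
    have hq : 1 < Nat.card F := Finite.one_lt_card
    change Nat.card {f : F[X] | f.Monic ∧ f.natDegree = m + 1 ∧ f.coeff 0 ≠ 0} = _ at h
    rw [Nat.card_coe_set_eq] at h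
    refine ⟨Set.finite_of_ncard_ne_zero ?_, le_of_eq ?_⟩
    · rw [h]
      exact Nat.mul_ne_zero (by omega) (pow_ne_zero _ (by omega))
    · rw [h, wt, Nat.sub_add_cancel hq.le]

/-- Monic polynomials of given degree with non-zero constant term. -/
noncomputable def monicSet (k : ℕ) : Finset F[X] := (finite_monic F k).1.toFinset

/-- The admissible tuples, as lists. -/
noncomputable def tuples : ℕ → ℕ → Finset (List F[X])
  | 0, m => if m = 0 then {[]} else ∅
  | J + 1, m => by
    classical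
    exact (Finset.range (m / (J + 1) + 1)).biUnion fun k =>
      (monicSet F k ×ˢ tuples J (m - (J + 1) * k)).image fun gl => gl.1 :: gl.2

lemma card_tuples : ∀ J m, (tuples F J m).card ≤ cnt (Nat.card F - 1) J m
  | 0, m => by
    rw [tuples, cnt]
    split_ifs <;> simp
  | J + 1, m => by
    classical
    rw [tuples, cnt]
    refine Finset.card_biUnion_le.trans (Finset.sum_le_sum fun k _ => ?_)
    refine Finset.card_image_le.trans ?_
    rw [Finset.card_product]
    refine Nat.mul_le_mul ?_ (card_tuples J _)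
    rw [monicSet, ← Set.ncard_eq_toFinset_card _ (finite_monic F k).1]
    exact (finite_monic F k).2

variable {F}

/-- The list `[g J, ..., g 1]`. -/
def toList (g : ℕ → F[X]) : ℕ → List F[X]
  | 0 => []
  | J + 1 => g (J + 1) :: toList g J

omit [Finite F] in
lemma toList_inj {g g' : ℕ → F[X]} :
    ∀ {J}, toList g J = toList g' J → ∀ k ∈ Finset.Icc 1 J, g k = g' k
  | 0, _, k, hk => by simp at hk
  | J + 1, h, k, hk => by
    rw [toList, toList, List.cons.injEq] at h
    rw [Finset.mem_Icc] at hk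
    rcases hk.2.eq_or_lt with rfl | hlt
    · exact h.1
    · exact toList_inj h.2 k (Finset.mem_Icc.2 ⟨hk.1, by omega⟩)

lemma toList_mem {g : ℕ → F[X]} (hg : ∀ k, (g k).Monic ∧ (g k).coeff 0 ≠ 0) :
    ∀ J m, ∑ k ∈ Finset.range J, (k + 1) * (g (k + 1)).natDegree = m → toList g J ∈ tuples F J m
  | 0, m, h => by
    simp only [Finset.range_zero, Finset.sum_empty] at h
    subst h
    simp [toList, tuples]
  | J + 1, m, h => by
    classical
    rw [Finset.sum_range_succ] at h
    have ih := toList_mem hg J _ rfl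
    rw [toList, tuples]
    simp only [Finset.mem_biUnion, Finset.mem_range, Finset.mem_image, Finset.mem_product, Prod.exists]
    refine ⟨(g (J + 1)).natDegree, ?_, g (J + 1), toList g J, ⟨?_, ?_⟩, rfl⟩
    · rw [Nat.lt_succ_iff, Nat.le_div_iff_mul_le (by omega : 0 < J + 1), mul_comm]
      omega
    · simp [monicSet, (hg (J + 1)).1, (hg (J + 1)).2]
    · have : m - (J + 1) * (g (J + 1)).natDegree =
          ∑ k ∈ Finset.range J, (k + 1) * (g (k + 1)).natDegree := by omega
      rw [this]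
      exact ih

end Tuples

section Decomp

variable {F : Type*} [Field F] {n : ℕ}

/-- The polynomial module of an invertible matrix. -/
abbrev Mdl (A : GL (Fin n) F) : Type _ := Module.AEval' (Matrix.toLin' (A : Matrix (Fin n) (Fin n) F))

lemma finrank_mdl (A : GL (Fin n) F) : finrank F (Mdl A) = n := by
  rw [← (Module.AEval'.of (Matrix.toLin' (A : Matrix (Fin n) (Fin n) F))).finrank_eq,
    Module.finrank_fin_fun]

lemma isTorsion_mdl (A : GL (Fin n) F) : Module.IsTorsion F[X] (Mdl A) := by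
  intro x
  let T := Matrix.toLin' (A : Matrix (Fin n) (Fin n) F)
  refine ⟨⟨T.charpoly, mem_nonZeroDivisors_of_ne_zero T.charpoly_monic.ne_zero⟩, ?_⟩
  obtain ⟨v, rfl⟩ := (Module.AEval'.of T).surjective x
  show T.charpoly • _ = (0 : Mdl A)
  rw [← Module.AEval.of_aeval_smul, LinearMap.aeval_self_charpoly, zero_smul, map_zero]

/-- `X` acts injectively. -/
lemma eq_zero_of_X_smul {A : GL (Fin n) F} {x : Mdl A} (h : (X : F[X]) • x = 0) : x = 0 := by
  obtain ⟨v, rfl⟩ := (Module.AEval'.of (Matrix.toLin' (A : Matrix (Fin n) (Fin n) F))).surjective x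
  rw [Module.AEval'.X_smul_of, LinearEquiv.map_eq_zero_iff, Matrix.toLin'_apply] at h
  have h2 := congrArg (Matrix.mulVec ((A⁻¹ : GL (Fin n) F) : Matrix (Fin n) (Fin n) F)) h
  rw [Matrix.mulVec_mulVec, ← Units.val_mul, inv_mul_cancel, Units.val_one, Matrix.one_mulVec,
    Matrix.mulVec_zero] at h2
  rw [h2, map_zero]

/-- The quotient attached to a prime power. -/
abbrev Piece (a : F[X] × ℕ) : Type _ := F[X] ⧸ (Ideal.span {a.1 ^ a.2})

lemma exists_decomp (A : GL (Fin n) F) :
    ∃ (m : ℕ) (f : Fin m → F[X] × ℕ),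
      (∀ i, (f i).1.Monic ∧ Irreducible (f i).1 ∧ (f i).2 ≠ 0 ∧ (f i).1.coeff 0 ≠ 0) ∧
      ∑ i, (f i).2 * (f i).1.natDegree = n ∧
      Nonempty (Mdl A ≃ₗ[F[X]] ∀ i, Piece (f i)) := by
  classical
  obtain ⟨ι, hι, p, hp, e, ⟨φ⟩⟩ := Module.equiv_directSum_of_isTorsion (isTorsion_mdl A)
  let s : Finset ι := Finset.univ.filter fun i => e i ≠ 0
  let σ : Fin s.card ≃ {i // i ∈ s} := s.equivFin.symm
  have hs : ∀ j, e (σ j).1 ≠ 0 := fun j => (Finset.mem_filter.1 (σ j).2).2
  let f : Fin s.card → F[X] × ℕ := fun j => (normalize (p (σ j).1), e (σ j).1)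
  have hmon : ∀ j, (f j).1.Monic := fun j => Polynomial.monic_normalize (hp _).ne_zero
  have hspan : ∀ j, (Ideal.span {p (σ j).1 ^ e (σ j).1} : Ideal F[X]) =
      Ideal.span {(f j).1 ^ (f j).2} := fun j =>
    Ideal.span_singleton_eq_span_singleton.2 ((associated_normalize _).pow_pow)
  let res : (⨁ i : ι, F[X] ⧸ F[X] ∙ p i ^ e i) →ₗ[F[X]] ∀ j, Piece (f j) :=
    LinearMap.pi fun j => (Submodule.quotEquivOfEq _ _ (hspan j)).toLinearMap.comp
      (DirectSum.component F[X] ι (fun i => F[X] ⧸ F[X] ∙ p i ^ e i) (σ j).1)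
  have hres : Function.Bijective res := by
    refine ⟨?_, ?_⟩
    · intro x y h
      refine DirectSum.ext_component F[X] fun i => ?_
      by_cases hi : e i = 0
      · have : Subsingleton (F[X] ⧸ F[X] ∙ p i ^ e i) := by
          rw [Submodule.Quotient.subsingleton_iff, hi, pow_zero]
          exact Ideal.span_singleton_one
        exact Subsingleton.elim _ _
      · obtain ⟨j, hj⟩ := σ.surjective ⟨i, Finset.mem_filter.2 ⟨Finset.mem_univ i, hi⟩⟩
        have h1 := (Submodule.quotEquivOfEq _ _ (hspan j)).injective (congrFun h j)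
        rw [hj] at h1
        exact h1
    · intro y
      refine ⟨∑ j, DirectSum.lof F[X] ι (fun i => F[X] ⧸ F[X] ∙ p i ^ e i) (σ j).1
        ((Submodule.quotEquivOfEq _ _ (hspan j)).symm (y j)), funext fun j => ?_⟩
      rw [map_sum, Finset.sum_apply, Finset.sum_eq_single j]
      · show Submodule.quotEquivOfEq _ _ (hspan j) (DirectSum.component F[X] ι
          (fun i => F[X] ⧸ F[X] ∙ p i ^ e i) (σ j).1 (DirectSum.lof F[X] ι _ (σ j).1 _)) = y j
        rw [DirectSum.component.lof_self, LinearEquiv.apply_symm_apply]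
      · intro k _ hk
        show Submodule.quotEquivOfEq _ _ (hspan j) (DirectSum.component F[X] ι
          (fun i => F[X] ⧸ F[X] ∙ p i ^ e i) (σ j).1 (DirectSum.lof F[X] ι _ (σ k).1 _)) = 0
        rw [DirectSum.component.of, dif_neg (fun h => hk (σ.injective (Subtype.ext h))), map_zero]
      · intro h; exact absurd (Finset.mem_univ j) h
  let ψ : Mdl A ≃ₗ[F[X]] ∀ j, Piece (f j) := φ.trans (LinearEquiv.ofBijective res hres)
  refine ⟨s.card, f, fun j => ⟨hmon j, ?_, hs j, ?_⟩, ?_, ⟨ψ⟩⟩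
  · exact (associated_normalize (p (σ j).1)).irreducible (hp _)
  · intro h0
    have hX : (X : F[X]) ∣ (f j).1 := Polynomial.X_dvd_iff.2 h0
    have hirr : Irreducible (f j).1 := (associated_normalize (p (σ j).1)).irreducible (hp _)
    have hfX : (f j).1 = X :=
      eq_of_monic_of_associated (hmon j) monic_X
        (Polynomial.irreducible_X.associated_of_dvd hirr hX).symm
    obtain ⟨k, hk⟩ : ∃ k, (f j).2 = k + 1 := Nat.exists_eq_succ_of_ne_zero (hs j)
    let y : ∀ i, Piece (f i) := Pi.single j (Submodule.Quotient.mk ((X : F[X]) ^ k))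
    have hy : (X : F[X]) • y = 0 := by
      show (X : F[X]) • (Pi.single j (Submodule.Quotient.mk ((X : F[X]) ^ k)) : ∀ i, Piece (f i)) = 0
      rw [← Pi.single_smul, ← Submodule.Quotient.mk_smul, smul_eq_mul, Pi.single_eq_zero_iff,
        Submodule.Quotient.mk_eq_zero, Ideal.mem_span_singleton, hfX, hk, pow_succ']
    have h1 : ψ.symm y = 0 := eq_zero_of_X_smul (by rw [← map_smul, hy, map_zero])
    rw [LinearEquiv.map_eq_zero_iff, Pi.single_eq_zero_iff, Submodule.Quotient.mk_eq_zero,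
      Ideal.mem_span_singleton, hfX, hk] at h1
    have h2 := Polynomial.natDegree_le_of_dvd h1 (pow_ne_zero _ X_ne_zero)
    simp at h2
  · let ψF : Mdl A ≃ₗ[F] ∀ j, Piece (f j) := ψ.restrictScalars F
    haveI : Module.Finite F (∀ j, Piece (f j)) := Module.Finite.equiv ψF
    haveI : ∀ j, Module.Finite F (Piece (f j)) := fun j =>
      Module.Finite.of_surjective (LinearMap.proj j : (∀ i, Piece (f i)) →ₗ[F] Piece (f j))
        (Function.surjective_eval j)
    have h := ψF.finrank_eq
    rw [finrank_mdl, Module.finrank_pi_fintype] at h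
    calc _ = ∑ j, finrank F (Piece (f j)) := Finset.sum_congr rfl fun j _ => by
            rw [finrank_quotient_span_eq_natDegree, Polynomial.natDegree_pow]
      _ = n := h.symm

/-- The product of the primes with exponent `k`. -/
noncomputable def gOf {m : ℕ} (f : Fin m → F[X] × ℕ) (k : ℕ) : F[X] :=
  ∏ i ∈ Finset.univ.filter (fun i => (f i).2 = k), (f i).1

lemma fiber_card_eq {m m' : ℕ} {f : Fin m → F[X] × ℕ} {f' : Fin m' → F[X] × ℕ}
    (hf : ∀ i, (f i).1.Monic ∧ Irreducible (f i).1) (hf' : ∀ i, (f' i).1.Monic ∧ Irreducible (f' i).1)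
    {a : F[X] × ℕ} (h : gOf f a.2 = gOf f' a.2) :
    Nat.card {i // f i = a} = Nat.card {i // f' i = a} := by
  classical
  have key : ∀ {M : ℕ} (g : Fin M → F[X] × ℕ), (∀ i, (g i).1.Monic ∧ Irreducible (g i).1) →
      Nat.card {i // g i = a} =
        Multiset.count a.1 (UniqueFactorizationMonoid.normalizedFactors (gOf g a.2)) := by
    intro M g hg
    rw [gOf, Finset.prod_eq_multiset_prod, UniqueFactorizationMonoid.normalizedFactors_prod_eq _
      (fun x hx => by obtain ⟨i, -, rfl⟩ := Multiset.mem_map.1 hx; exact (hg i).2),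
      Multiset.map_map, Nat.card_eq_fintype_card, Fintype.card_subtype, Multiset.count_map]
    rw [Finset.card_def, ← Finset.filter_val, Finset.filter_filter]
    congr 2
    ext i
    simp only [Finset.mem_filter, Finset.mem_univ, true_and, Function.comp_apply,
      (hg i).1.normalize_eq_self, Prod.ext_iff]
    tauto
  rw [key f hf, key f' hf', h]

lemma gOf_spec {m : ℕ} {f : Fin m → F[X] × ℕ}
    (hf : ∀ i, (f i).1.Monic ∧ Irreducible (f i).1 ∧ (f i).2 ≠ 0 ∧ (f i).1.coeff 0 ≠ 0) :
    (∀ k, (gOf f k).Monic ∧ (gOf f k).coeff 0 ≠ 0) ∧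
    (∑ i, (f i).2 * (f i).1.natDegree = n →
      ∑ k ∈ Finset.range n, (k + 1) * (gOf f (k + 1)).natDegree = n ∧ ∀ i, (f i).2 ≤ n) := by
  classical
  refine ⟨fun k => ⟨Polynomial.monic_prod_of_monic _ _ fun i _ => (hf i).1, ?_⟩, fun hsum => ?_⟩
  · rw [gOf, Polynomial.coeff_zero_eq_eval_zero, Polynomial.eval_prod, Finset.prod_ne_zero_iff]
    intro i _
    rw [← Polynomial.coeff_zero_eq_eval_zero]
    exact (hf i).2.2.2
  have hle : ∀ i, (f i).2 ≤ n := fun i => by
    have h1 := Finset.single_le_sum (f := fun j => (f j).2 * (f j).1.natDegree)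
      (fun j _ => Nat.zero_le _) (Finset.mem_univ i)
    have h2 : 1 ≤ (f i).1.natDegree := (hf i).2.1.natDegree_pos
    calc (f i).2 = (f i).2 * 1 := (mul_one _).symm
      _ ≤ (f i).2 * (f i).1.natDegree := Nat.mul_le_mul_left _ h2
      _ ≤ n := h1.trans_eq hsum
  refine ⟨?_, hle⟩
  refine Eq.trans ?_ hsum
  rw [← Finset.sum_fiberwise_of_maps_to (t := Finset.range n) (g := fun i => (f i).2 - 1)
    (fun i _ => Finset.mem_range.2 (by have := hle i; have := (hf i).2.2.1; omega))]
  refine Finset.sum_congr rfl fun k _ => ?_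
  rw [gOf, Polynomial.natDegree_prod_of_monic _ _ (fun i _ => (hf i).1), Finset.mul_sum]
  refine Finset.sum_congr (Finset.filter_congr fun i _ => ?_) fun i hi => ?_
  · have := (hf i).2.2.1
    omega
  · have := (hf i).2.2.1
    rw [Finset.mem_filter] at hi
    rw [show (f i).2 = k + 1 by omega]

lemma isConj_of_equiv {A B : GL (Fin n) F} (φ : Mdl A ≃ₗ[F[X]] Mdl B) : IsConj A B := by
  classical
  let a := Matrix.toLin' (A : Matrix (Fin n) (Fin n) F)
  let b := Matrix.toLin' (B : Matrix (Fin n) (Fin n) F)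
  let E : (Fin n → F) ≃ₗ[F] (Fin n → F) :=
    (Module.AEval'.of a).trans ((φ.restrictScalars F).trans (Module.AEval'.of b).symm)
  have hE : E.toLinearMap.comp a = b.comp E.toLinearMap := by
    refine LinearMap.ext fun v => ?_
    show (Module.AEval'.of b).symm (φ (Module.AEval'.of a (a v))) =
      b ((Module.AEval'.of b).symm (φ (Module.AEval'.of a v)))
    rw [← Module.AEval'.X_smul_of, map_smul, Module.AEval'.of_symm_X_smul]
  have hPu : IsUnit (LinearMap.toMatrix' E.toLinearMap) := by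
    rw [Matrix.isUnit_iff_isUnit_det, LinearMap.det_toMatrix']
    exact E.isUnit_det'
  refine ⟨toUnits hPu.unit, ?_⟩
  rw [SemiconjBy]
  apply Units.ext
  apply Matrix.toLin'.injective
  simp only [val_toUnits_apply, Units.val_mul, IsUnit.unit_spec, Matrix.toLin'_mul, Matrix.toLin'_toMatrix']
  exact hE

lemma isConj_of_gOf {A B : GL (Fin n) F} {m m' : ℕ} {f : Fin m → F[X] × ℕ} {f' : Fin m' → F[X] × ℕ}
    (hf : ∀ i, (f i).1.Monic ∧ Irreducible (f i).1 ∧ (f i).2 ≠ 0 ∧ (f i).1.coeff 0 ≠ 0)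
    (hsum : ∑ i, (f i).2 * (f i).1.natDegree = n) (φ : Mdl A ≃ₗ[F[X]] ∀ i, Piece (f i))
    (hf' : ∀ i, (f' i).1.Monic ∧ Irreducible (f' i).1 ∧ (f' i).2 ≠ 0 ∧ (f' i).1.coeff 0 ≠ 0)
    (hsum' : ∑ i, (f' i).2 * (f' i).1.natDegree = n) (φ' : Mdl B ≃ₗ[F[X]] ∀ i, Piece (f' i))
    (h : ∀ k ∈ Finset.Icc 1 n, gOf f k = gOf f' k) : IsConj A B := by
  classical
  have hfib : ∀ a : F[X] × ℕ, Nat.card {i // f i = a} = Nat.card {i // f' i = a} := by
    intro a
    by_cases ha : a.2 ∈ Finset.Icc 1 n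
    · exact fiber_card_eq (fun i => ⟨(hf i).1, (hf i).2.1⟩)
        (fun i => ⟨(hf' i).1, (hf' i).2.1⟩) (h a.2 ha)
    · have he : ∀ {M : ℕ} (g : Fin M → F[X] × ℕ),
          (∀ i, (g i).1.Monic ∧ Irreducible (g i).1 ∧ (g i).2 ≠ 0 ∧ (g i).1.coeff 0 ≠ 0) →
          ∑ i, (g i).2 * (g i).1.natDegree = n → Nat.card {i // g i = a} = 0 := fun g hg hs => by
        haveI : IsEmpty {i // g i = a} := ⟨fun i => ha (Finset.mem_Icc.2 (by
          rw [← i.2]
          exact ⟨Nat.one_le_iff_ne_zero.2 (hg i.1).2.2.1, ((gOf_spec hg).2 hs).2 i.1⟩))⟩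
        exact Nat.card_of_isEmpty
      rw [he f hf hsum, he f' hf' hsum']
  let E : ∀ a, {i // f i = a} ≃ {i // f' i = a} := fun a => (Finite.card_eq.1 (hfib a)).some
  let σ : Fin m ≃ Fin m' := Equiv.ofFiberEquiv E
  have hσ : ∀ i, f' (σ i) = f i := Equiv.ofFiberEquiv_map E
  let R : (∀ i, Piece (f i)) ≃ₗ[F[X]] ∀ j, Piece (f' j) :=
    (LinearEquiv.piCongrRight fun i => Submodule.quotEquivOfEq _ _ (by rw [hσ i])).trans
      (LinearEquiv.piCongrLeft F[X] (fun j => Piece (f' j)) σ)
  exact isConj_of_equiv (φ.trans (R.trans φ'.symm))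

end Decomp

section Bounds

variable {F : Type*} [Field F] [Finite F]

theorem classNumber_le (n : ℕ) : Nat.card (ConjClasses (GL (Fin n) F)) ≤ Nat.card F ^ n := by
  classical
  choose rep hrep using (ConjClasses.exists_rep : ∀ c : ConjClasses (GL (Fin n) F), _)
  choose m f hf hsum hequiv using fun c => exists_decomp (rep c)
  have hmem : ∀ c, toList (gOf (f c)) n ∈ tuples F n n := fun c =>
    toList_mem (gOf_spec (n := n) (hf c)).1 n n ((gOf_spec (hf c)).2 (hsum c)).1
  have hinj : Function.Injective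
      (fun c => (⟨toList (gOf (f c)) n, hmem c⟩ : {l // l ∈ tuples F n n})) := by
    intro c d h
    rw [← hrep c, ← hrep d, ConjClasses.mk_eq_mk_iff_isConj]
    obtain ⟨φc⟩ := hequiv c
    obtain ⟨φd⟩ := hequiv d
    exact isConj_of_gOf (hf c) (hsum c) φc (hf d) (hsum d) φd (toList_inj (congrArg Subtype.val h))
  refine (Nat.card_le_card_of_injective _ hinj).trans ?_
  rw [Nat.card_eq_fintype_card, Fintype.card_coe]
  refine ((card_tuples F n n).trans (cnt_self_le _ _)).trans_eq ?_
  rw [Nat.sub_add_cancel (Finite.one_lt_card (α := F)).le]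

theorem le_classNumber {n : ℕ} (hn : 1 ≤ n) :
    Nat.card F ^ n - Nat.card F ^ (n - 1) ≤ Nat.card (ConjClasses (GL (Fin n) F)) := by
  classical
  obtain ⟨m, rfl⟩ : ∃ m, n = m + 1 := ⟨n - 1, by omega⟩
  have hc := H54.card_monic (F := F) m ({0}ᶜ : Set F)
  rw [Nat.card_coe_set_eq, Set.ncard_compl, Set.ncard_singleton] at hc
  rw [Nat.add_sub_cancel, pow_succ', ← Nat.sub_one_mul, ← hc]
  haveI : Finite (GL (Fin (m + 1)) F) := inferInstance
  have key : ∀ g : GL (Fin (m + 1)) F, (g : Matrix (Fin (m + 1)) (Fin (m + 1)) F).charpoly.Monic ∧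
      (g : Matrix (Fin (m + 1)) (Fin (m + 1)) F).charpoly.natDegree = m + 1 ∧
      (g : Matrix (Fin (m + 1)) (Fin (m + 1)) F).charpoly.coeff 0 ∈ ({0}ᶜ : Set F) := fun g =>
    ⟨Matrix.charpoly_monic _, by simp, fun h => by
      have h1 := Matrix.det_eq_sign_charpoly_coeff (g : Matrix (Fin (m + 1)) (Fin (m + 1)) F)
      rw [Set.mem_singleton_iff.1 h, mul_zero] at h1
      exact (Units.ne_zero (Matrix.GeneralLinearGroup.det g)) (by simpa using h1)⟩
  refine Nat.card_le_card_of_surjective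
    (Quotient.lift (fun g => (⟨_, key g⟩ : {f : F[X] // f.Monic ∧ f.natDegree = m + 1 ∧ f.coeff 0 ∈ ({0}ᶜ : Set F)}))
      fun g h hgh => Subtype.ext (H54.charpoly_eq_of_isConj hgh)) ?_
  rintro ⟨f, hf, hd, h0⟩
  obtain ⟨M, hM⟩ := H54.exists_charpoly (n := m + 1) hf hd
  have hMu : IsUnit M := by
    rw [Matrix.isUnit_iff_isUnit_det, Matrix.det_eq_sign_charpoly_coeff, hM, isUnit_iff_ne_zero]
    exact mul_ne_zero (pow_ne_zero _ (neg_ne_zero.2 one_ne_zero)) (by simpa using h0)
  exact ⟨ConjClasses.mk hMu.unit, Subtype.ext hM⟩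

end Bounds

end Cfsg.Agent.H55.GLClassNumber
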