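/-
Abelian subgroups of maximal order of alternating groups.
-/
import Cfsg.Agent.S2505

set_option autoImplicit false
set_option linter.unusedSectionVars false

namespace Cfsg.Agent.H55.AltAb

open Cfsg.Agent.S2505 Equiv

/-- The largest order of an abelian group of even permutations. -/
def h : ℕ → ℕ
  | 0 => 1
  | 1 => 1
  | 2 => 1
  | 3 => 3
  | 4 => 4
  | 5 => 5
  | 6 => 9
  | 7 => 12
  | 8 => 16
  | n + 9 => 3 * h (n + 6)

theorem h_step {n : ℕ} (hn : 6 ≤ n) : h (n + 3) = 3 * h n := by
  obtain ⟨m, rfl⟩ : ∃ m, n = m + 6 := ⟨n - 6, by omega⟩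
  show h (m + 9) = _
  rw [h]

theorem h_back {n : ℕ} (hn : 9 ≤ n) : h n = 3 * h (n - 3) := by
  rw [← h_step (by omega), Nat.sub_add_cancel (by omega)]

theorem g_back {n : ℕ} (hn : 5 ≤ n) : g n = 3 * g (n - 3) := by
  rw [← g_step (by omega), Nat.sub_add_cancel (by omega)]

theorem h_pos : ∀ n, 0 < h n := by
  intro n
  induction n using Nat.strong_induction_on with
  | _ n ih =>
    by_cases hn : n < 9
    · interval_cases n <;> simp [h]
    · rw [h_back (by omega)]; exact Nat.mul_pos (by norm_num) (ih _ (by omega))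

theorem small_mul_h : ∀ b a, a ≤ 7 → a ≠ 2 → a * h b ≤ h (a + b) := by
  intro b
  induction b using Nat.strong_induction_on with
  | _ b ih =>
    intro a ha ha2
    by_cases hb : b < 9
    · interval_cases b <;> interval_cases a <;> simp_all [h]
    · rw [h_back (n := b) (by omega), h_back (n := a + b) (by omega), Nat.mul_left_comm,
        show a + b - 3 = a + (b - 3) by omega]
      exact Nat.mul_le_mul_left _ (ih _ (by omega) a ha ha2)

theorem mul_h : ∀ a b, a ≠ 2 → a * h b ≤ h (a + b) := by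
  intro a
  induction a using Nat.strong_induction_on with
  | _ a ih =>
    intro b ha2
    by_cases ha : a ≤ 7
    · exact small_mul_h b a ha ha2
    · calc a * h b ≤ 3 * (a - 3) * h b := Nat.mul_le_mul_right _ (by omega)
        _ ≤ 3 * h (a - 3 + b) := by
          rw [mul_assoc]; exact Nat.mul_le_mul_left _ (ih _ (by omega) b (by omega))
        _ ≤ h (3 + (a - 3 + b)) := small_mul_h _ 3 (by norm_num) (by norm_num)
        _ = h (a + b) := by congr 1; omega

theorem mul_h_lt {a b : ℕ} (ha : 6 ≤ a) : a * h b < h (a + b) := by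
  calc a * h b < 3 * (a - 3) * h b := Nat.mul_lt_mul_of_pos_right (by omega) (h_pos b)
    _ ≤ 3 * h (a - 3 + b) := by
      rw [mul_assoc]; exact Nat.mul_le_mul_left _ (mul_h _ _ (by omega))
    _ ≤ h (3 + (a - 3 + b)) := small_mul_h _ 3 (by norm_num) (by norm_num)
    _ = h (a + b) := by congr 1; omega

theorem g_le_two_h : ∀ k, g k ≤ 2 * h k := by
  intro k
  induction k using Nat.strong_induction_on with
  | _ k ih =>
    by_cases hk : k < 9
    · interval_cases k <;> simp [g, h]
    · rw [g_back (by omega), h_back (by omega)]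
      have := ih (k - 3) (by omega)
      omega

theorem g_lt_two_h : ∀ k, k ≠ 2 → g k < 2 * h k := by
  intro k
  induction k using Nat.strong_induction_on with
  | _ k ih =>
    intro hk2
    by_cases hk : k < 9
    · interval_cases k <;> simp_all [g, h]
    · rw [g_back (by omega), h_back (by omega)]
      have := ih (k - 3) (by omega) (by omega)
      omega

theorem g_lt_h_two : ∀ k, 1 ≤ k → g k < h (k + 2) := by
  intro k
  induction k using Nat.strong_induction_on with
  | _ k ih =>
    intro hk1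
    by_cases hk : k < 9
    · interval_cases k <;> simp [g, h]
    · rw [g_back (by omega), h_back (by omega), show k + 2 - 3 = k - 3 + 2 by omega]
      have := ih (k - 3) (by omega) (by omega)
      omega

theorem half_le {m k : ℕ} (hm : m % 4 = 2) : m / 2 * g k ≤ h (m + k) := by
  rcases eq_or_ne m 2 with rfl | h2
  · rcases Nat.eq_zero_or_pos k with rfl | hk
    · simp [g, h]
    · rw [add_comm]; simpa using (g_lt_h_two k hk).le
  · calc m / 2 * g k ≤ m / 2 * (2 * h k) := Nat.mul_le_mul_left _ (g_le_two_h k)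
      _ = m * h k := by rw [← mul_assoc, Nat.div_mul_cancel (by omega)]
      _ ≤ h (m + k) := mul_h m k h2

theorem half_lt {m k : ℕ} (hm : m % 4 = 2) (hn : 3 ≤ m + k) : m / 2 * g k < h (m + k) := by
  rcases eq_or_ne m 2 with rfl | h2
  · rw [add_comm]; simpa using g_lt_h_two k (by omega)
  · calc m / 2 * g k ≤ m / 2 * (2 * h k) := Nat.mul_le_mul_left _ (g_le_two_h k)
      _ = m * h k := by rw [← mul_assoc, Nat.div_mul_cancel (by omega)]
      _ < h (m + k) := mul_h_lt (by omega)

theorem h_strict : ∀ k, 2 ≤ k → h k < h (k + 1) := by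
  intro k
  induction k using Nat.strong_induction_on with
  | _ k ih =>
    intro hk1
    by_cases hk : k < 9
    · interval_cases k <;> simp [h]
    · rw [h_back (n := k) (by omega), h_back (n := k + 1) (by omega),
        show k + 1 - 3 = k - 3 + 1 by omega]
      have := ih (k - 3) (by omega) (by omega)
      omega

theorem five_lt : ∀ k, 1 ≤ k → 5 * h k < h (5 + k) := by
  intro k
  induction k using Nat.strong_induction_on with
  | _ k ih =>
    intro hk1
    by_cases hk : k < 9
    · interval_cases k <;> simp [h]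
    · rw [h_back (n := k) (by omega), h_back (n := 5 + k) (by omega),
        show 5 + k - 3 = 5 + (k - 3) by omega]
      have := ih (k - 3) (by omega) (by omega)
      omega

theorem four_lt : ∀ k, k % 3 = 2 → 4 * h k < h (4 + k) := by
  intro k
  induction k using Nat.strong_induction_on with
  | _ k ih =>
    intro hk3
    by_cases hk : k < 9
    · interval_cases k <;> simp_all [h]
    · rw [h_back (n := k) (by omega), h_back (n := 4 + k) (by omega),
        show 4 + k - 3 = 4 + (k - 3) by omega]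
      have := ih (k - 3) (by omega) (by omega)
      omega

theorem eq_cases {m k : ℕ} (hm : 1 ≤ m) (hm4 : m % 4 ≠ 2) (hn : 3 ≤ m + k) (hn5 : m + k ≠ 5)
    (he : m * h k = h (m + k)) :
    (m = 3 ∨ m = 4 ∧ (m + k) % 3 ≠ 0) ∧ (k = 0 ∨ 3 ≤ k ∧ k ≠ 5) := by
  rcases Nat.lt_or_ge m 6 with h6 | h6
  · interval_cases m
    · exfalso
      have := h_strict k (by omega)
      rw [add_comm] at he
      omega
    · omega
    · refine ⟨Or.inl rfl, ?_⟩
      by_contra hc
      have : k = 1 ∨ k = 2 ∨ k = 5 := by omega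
      rcases this with rfl | rfl | rfl
      · simp [h] at he
      · omega
      · simp [h] at he
    · refine ⟨Or.inr ⟨rfl, fun h3 => ?_⟩, ?_⟩
      · exact absurd he (four_lt k (by omega)).ne
      · by_contra hc
        have : k = 1 ∨ k = 2 ∨ k = 5 := by omega
        rcases this with rfl | rfl | rfl
        · omega
        · simp [h] at he
        · simp [h] at he
    · rcases Nat.eq_zero_or_pos k with rfl | hk
      · omega
      · exact absurd he (five_lt k hk).ne
  · exact absurd he (mul_h_lt h6).ne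

theorem h_closed : ∀ a b, b ≤ 2 → h (3 * a + 4 * b) = 3 ^ a * 4 ^ b := by
  intro a
  induction a with
  | zero => intro b hb; interval_cases b <;> simp [h]
  | succ a ih =>
    intro b hb
    by_cases ha : 6 ≤ 3 * a + 4 * b
    · rw [show 3 * (a + 1) + 4 * b = 3 * a + 4 * b + 3 by ring, h_step ha, ih b hb, pow_succ]
      ring
    · have ha' : a ≤ 1 := by omega
      have hb' : b ≤ 1 := by omega
      interval_cases a <;> interval_cases b <;> simp_all [h]

variable {α : Type*} [Fintype α] [DecidableEq α]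

/-- The even permutations supported on `O`, fixed point free there, and the identity. -/
def evenFree (O : Finset α) : Set (Perm α) :=
  {σ | (∀ y ∉ O, σ y = y) ∧ Perm.sign σ = 1 ∧ (σ = 1 ∨ ∀ y ∈ O, σ y ≠ y)}

theorem evenFree_ncard_le {O : Finset α} (hO : O.card = 3 ∨ O.card = 4) :
    Nat.card (evenFree O) ≤ O.card := by
  classical
  let e : O ≃ Fin O.card := O.equivFin
  have key : ∀ σ : evenFree O, ∀ y, σ.1 y ∈ O ↔ y ∈ O := fun σ y => by
    by_cases hy : y ∈ O
    · refine iff_of_true ?_ hy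
      by_contra hn
      exact hn ((σ.1.injective (σ.2.1 _ hn)).symm ▸ hy)
    · rw [σ.2.1 y hy]
  let f : evenFree O → {π : Perm (Fin O.card) // Perm.sign π = 1 ∧ (π = 1 ∨ ∀ i, π i ≠ i)} :=
    fun σ => ⟨e.permCongr (σ.1.subtypePerm (key σ)), by
      refine ⟨?_, ?_⟩
      · rw [Perm.sign_permCongr]
        convert (Perm.sign_subtypePerm σ.1 (key σ)
          fun y hy => by_contra fun hn => hy (σ.2.1 y hn)).trans σ.2.2.1 using 4
      · rcases σ.2.2.2 with h1 | h1
        · left
          ext i
          simp [Equiv.permCongr_apply, h1]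
        · right
          intro i hi
          have := congrArg (fun j => (e.symm j : α)) hi
          simp [Equiv.permCongr_apply] at this
          exact h1 _ (e.symm i).2 this⟩
  have hf : Function.Injective f := by
    intro σ τ hst
    refine Subtype.ext (Equiv.ext fun y => ?_)
    by_cases hy : y ∈ O
    · have h1 := e.permCongr.injective (congrArg Subtype.val hst)
      exact congrArg Subtype.val (Equiv.congr_fun h1 ⟨y, hy⟩)
    · rw [σ.2.1 y hy, τ.2.1 y hy]
  refine (Nat.card_le_card_of_injective f hf).trans ?_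
  rw [Nat.card_eq_fintype_card]
  rcases hO with h3 | h4
  · rw [h3]; decide
  · rw [h4]; decide

theorem sign_one_of_supp_free {σ : Perm α} {O : Finset α} (h2 : σ ^ 2 = 1)
    (hs : ∀ y ∉ O, σ y = y) (hf : ∀ y ∈ O, σ y ≠ y) :
    Perm.sign σ = (-1) ^ (O.card / 2) := by
  classical
  rw [Perm.sign_of_pow_two_eq_one h2]
  congr 2
  have : Fintype.card (Function.fixedPoints σ) = Oᶜ.card := by
    rw [← Set.toFinset_card]
    congr 1
    ext y
    simp only [Set.mem_toFinset, Function.mem_fixedPoints, Function.IsFixedPt, Finset.mem_compl]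
    exact ⟨fun e hy => hf y hy e, hs y⟩
  rw [this, Finset.card_compl]
  have := O.card_le_univ
  omega

/-- An abelian group of even permutations supported on `T`. -/
structure Good (T : Finset α) (A : Subgroup (Perm α)) : Prop where
  comm : ∀ a ∈ A, ∀ b ∈ A, a * b = b * a
  supp : ∀ a ∈ A, ∀ y ∉ T, a y = y
  even : ∀ a ∈ A, Perm.sign a = 1

/-- What one orbit says about an abelian group of even permutations. -/
structure Step (T : Finset α) (A : Subgroup (Perm α)) (x : α) (O : Finset α)
    (K B : Subgroup (Perm α)) : Prop where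
  orb : ∀ y, y ∈ O ↔ ∃ a ∈ A, a x = y
  sub : O ⊆ T
  memx : x ∈ O
  K_le : K ≤ A
  B_le : B ≤ A
  K_evenFree : ∀ k ∈ K, k ∈ evenFree O
  B_good : Good (T \ O) B
  card_B : Nat.card A = O.card * Nat.card B
  card_K : Nat.card K ∣ O.card
  half : O.card % 4 = 2 → Nat.card A ≤ O.card / 2 * g (T \ O).card
  full : g (T \ O).card < 2 * Nat.card B →
    Nat.card K = O.card ∧ ∀ a ∈ A, ∃ k ∈ K, ∃ b ∈ B, a = k * b

theorem exists_step {T : Finset α} {A : Subgroup (Perm α)} (hA : Good T A) {x : α} (hx : x ∈ T) :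
    ∃ (O : Finset α) (K B : Subgroup (Perm α)), Step T A x O K B := by
  classical
  let O : Finset α := (MulAction.orbit A x).toFinset
  have hO : ∀ y, y ∈ O ↔ ∃ a ∈ A, a x = y := fun y => by
    simp [O, MulAction.mem_orbit_iff, Subgroup.smul_def]
  have hxO : x ∈ O := (hO x).2 ⟨1, A.one_mem, rfl⟩
  have hmap : ∀ a ∈ A, ∀ y, a y ∈ O ↔ y ∈ O := fun a ha y => by
    constructor
    · intro hy
      obtain ⟨b, hb, hbx⟩ := (hO _).1 hy
      exact (hO y).2 ⟨a⁻¹ * b, A.mul_mem (A.inv_mem ha) hb, by simp [hbx]⟩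
    · intro hy
      obtain ⟨b, hb, rfl⟩ := (hO y).1 hy
      exact (hO _).2 ⟨a * b, A.mul_mem ha hb, rfl⟩
  have hsub : O ⊆ T := by
    intro y hy
    obtain ⟨a, ha, rfl⟩ := (hO y).1 hy
    by_contra hn
    exact hn ((a.injective (hA.supp a ha _ hn)).symm ▸ hx)
  set S := T \ O with hS
  have hSinv : ∀ a ∈ A, ∀ y, a y ∈ S ↔ y ∈ S := fun a ha y => by
    have : a y ∈ T ↔ y ∈ T := by
      by_cases hy : y ∈ T
      · refine iff_of_true ?_ hy
        by_contra hn
        exact hn ((a.injective (hA.supp a ha _ hn)).symm ▸ hy)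
      · rw [hA.supp a ha y hy]
    simp only [hS, Finset.mem_sdiff, this, hmap a ha y]
  let r : A →* Perm α := MonoidHom.mk'
    (fun a => Perm.ofSubtype ((a : Perm α).subtypePerm (hSinv a a.2))) fun a b => by
      rw [← map_mul]
      congr 1
  have hr : ∀ (a : A) y, r a y = if y ∈ S then (a : Perm α) y else y := fun a y => by
    show Perm.ofSubtype _ y = _
    split_ifs with hy
    · rw [Perm.ofSubtype_apply_of_mem _ hy]; rfl
    · exact Perm.ofSubtype_apply_of_not_mem _ hy
  let K : Subgroup (Perm α) := r.ker.map A.subtype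
  let B : Subgroup (Perm α) := (MulAction.stabilizer A x).map A.subtype
  have hKle : K ≤ A := by rintro _ ⟨a, -, rfl⟩; exact a.2
  have hBle : B ≤ A := by rintro _ ⟨a, -, rfl⟩; exact a.2
  have hfixO : ∀ a ∈ A, a x = x → ∀ y ∈ O, a y = y := fun a ha hax y hy => by
    obtain ⟨b, hb, rfl⟩ := (hO y).1 hy
    show (a * b) x = b x
    rw [hA.comm a ha b hb, Perm.mul_apply, hax]
  have hBg : Good S B := ⟨fun a ha b hb => hA.comm a (hBle ha) b (hBle hb), by
    rintro _ ⟨a, ha, rfl⟩ y hy
    by_cases hyT : y ∈ T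
    · exact hfixO a a.2 ha y (by_contra fun hn => hy (Finset.mem_sdiff.2 ⟨hyT, hn⟩))
    · exact hA.supp a a.2 y hyT, fun a ha => hA.even a (hBle ha)⟩
  have hKsupp : ∀ k ∈ K, ∀ y ∉ O, k y = y := by
    rintro _ ⟨a, ha, rfl⟩ y hy
    by_cases hyT : y ∈ T
    · have := congrArg (fun s : Perm α => s y) (MonoidHom.mem_ker.1 ha)
      simpa [hr, hS, hyT, hy] using this
    · exact hA.supp a a.2 y hyT
  have hKfree : ∀ k ∈ K, ∀ y ∈ O, k y = y → k = 1 := fun k hk y hy hky => Equiv.ext fun z => by
    obtain ⟨b, hb, rfl⟩ := (hO y).1 hy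
    by_cases hz : z ∈ O
    · refine hfixO k (hKle hk) (b.injective ?_) z hz
      show (b * k) x = b x
      rw [hA.comm b hb k (hKle hk)]
      exact hky
    · exact hKsupp k hk z hz
  have hKe : ∀ k ∈ K, k ∈ evenFree O := fun k hk => ⟨hKsupp k hk, hA.even k (hKle hk),
    or_iff_not_imp_left.2 fun h1 y hy hky => h1 (hKfree k hk y hy hky)⟩
  have hcardB : Nat.card A = O.card * Nat.card B := by
    have hidx := MulAction.index_stabilizer A x
    rw [show Nat.card B = Nat.card (MulAction.stabilizer A x) from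
        Subgroup.card_map_of_injective A.subtype_injective,
      ← (MulAction.stabilizer A x).card_mul_index, hidx, mul_comm]
    congr 1
    rw [Set.ncard_eq_toFinset_card' (MulAction.orbit A x)]
  have hKcard : Nat.card K = Nat.card r.ker := Subgroup.card_map_of_injective A.subtype_injective
  have hrange : Nat.card A = Nat.card K * Nat.card r.range := by
    rw [hKcard, ← r.ker.card_mul_index, Subgroup.index_ker]
  have hBr : B ≤ r.range := by
    rintro b hb
    refine ⟨⟨b, hBle hb⟩, Equiv.ext fun y => ?_⟩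
    rw [hr]
    split_ifs with hy
    · rfl
    · exact (hBg.supp b hb y hy).symm
  obtain ⟨c, hc⟩ := Subgroup.card_dvd_of_le hBr
  have hBpos : 0 < Nat.card B := Nat.card_pos
  have hKc : Nat.card K * c = O.card := by
    refine Nat.eq_of_mul_eq_mul_right hBpos ?_
    rw [← hcardB, hrange, hc]; ring
  have hrg : Nat.card r.range ≤ g S.card := by
    refine card_le_g S r.range ⟨⟨?_⟩⟩ ?_
    · rintro ⟨_, a, rfl⟩ ⟨_, b, rfl⟩
      refine Subtype.ext ?_
      show r a * r b = r b * r a
      rw [← map_mul, ← map_mul, show a * b = b * a from Subtype.ext (hA.comm _ a.2 _ b.2)]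
    · rintro _ ⟨a, rfl⟩ y hy
      rw [hr, if_neg hy]
  refine ⟨O, K, B, hO, hsub, hxO, hKle, hBle, hKe, hBg, hcardB, ⟨c, hKc.symm⟩, fun hm => ?_,
    fun hlt => ?_⟩
  · have hne : Nat.card K ≠ O.card := by
      intro e
      have : Fact (Nat.Prime 2) := ⟨Nat.prime_two⟩
      obtain ⟨k, hk⟩ := exists_prime_orderOf_dvd_card' (G := K) 2 (by rw [e]; omega)
      have h2 : (k : Perm α) ^ 2 = 1 := by
        rw [← Subgroup.coe_pow, ← hk, pow_orderOf_eq_one]; rfl
      obtain ⟨hs, he, h1 | hf⟩ := hKe k k.2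
      · rw [show k = 1 from Subtype.ext h1, orderOf_one] at hk; omega
      · rw [sign_one_of_supp_free h2 hs hf, (Nat.odd_iff.2 (by omega) : Odd (O.card / 2)).neg_one_pow]
          at he
        exact absurd he (by decide)
    have hle : Nat.card K ≤ O.card / 2 := by
      rcases Nat.lt_or_ge c 2 with hc2 | hc2
      · interval_cases c
        · rw [mul_zero] at hKc; omega
        · exact absurd (by simpa using hKc) hne
      · rw [Nat.le_div_iff_mul_le (by norm_num), ← hKc]
        exact Nat.mul_le_mul_left _ hc2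
    rw [hrange]
    exact Nat.mul_le_mul hle hrg
  · have hc1 : c = 1 := by
      have hlt' : g S.card < 2 * Nat.card B := hlt
      have h1 : Nat.card B * c < Nat.card B * 2 := by
        rw [← hc, mul_comm _ 2]; omega
      have h2 := Nat.lt_of_mul_lt_mul_left h1
      rcases Nat.eq_zero_or_pos c with rfl | h3
      · have : 0 < O.card := Finset.card_pos.2 ⟨x, hxO⟩
        omega
      · omega
    subst hc1
    refine ⟨by simpa using hKc, fun a ha => ?_⟩
    have hEq : B = r.range := Subgroup.eq_of_le_of_card_ge hBr (by rw [hc, mul_one])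
    have hb : r ⟨a, ha⟩ ∈ B := hEq ▸ ⟨_, rfl⟩
    refine ⟨a * (r ⟨a, ha⟩)⁻¹, ⟨⟨a, ha⟩ * ⟨r ⟨a, ha⟩, hBle hb⟩⁻¹, ?_, rfl⟩, _, hb,
      (inv_mul_cancel_right _ _).symm⟩
    refine MonoidHom.mem_ker.2 ?_
    rw [map_mul, map_inv, mul_inv_eq_one]
    refine Equiv.ext fun y => ?_
    rw [hr ⟨r ⟨a, ha⟩, hBle hb⟩]
    split_ifs with hy
    · rfl
    · rw [hr, if_neg hy]

/-- The bound. -/
theorem card_le_h : ∀ {T : Finset α} {A : Subgroup (Perm α)}, Good T A → Nat.card A ≤ h T.card := by
  intro T
  induction hT : T.card using Nat.strong_induction_on generalizing T with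
  | _ n ih =>
    intro A hA
    subst hT
    rcases T.eq_empty_or_nonempty with rfl | ⟨x, hx⟩
    · have : A = ⊥ := (Subgroup.eq_bot_iff_forall A).2 fun a ha =>
        Equiv.ext fun y => hA.supp a ha y (Finset.notMem_empty y)
      simp [this, h]
    obtain ⟨O, K, B, st⟩ := exists_step hA hx
    have hcard : O.card + (T \ O).card = T.card := by
      rw [add_comm]; exact Finset.card_sdiff_add_card_eq_card st.sub
    have hpos : 0 < O.card := Finset.card_pos.2 ⟨x, st.memx⟩
    rw [← hcard]
    by_cases hm : O.card % 4 = 2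
    · exact (st.half hm).trans (half_le hm)
    · rw [st.card_B]
      exact (Nat.mul_le_mul_left _ (ih _ (by omega) rfl st.B_good)).trans (mul_h _ _ (by omega))

/-- The equality case at one point. -/
theorem step_eq {T : Finset α} {A : Subgroup (Perm α)} (hA : Good T A) (hn : 3 ≤ T.card)
    (hn5 : T.card ≠ 5) (he : Nat.card A = h T.card) {x : α} (hx : x ∈ T) :
    ∃ (O : Finset α) (K B : Subgroup (Perm α)), Step T A x O K B ∧
      (O.card = 3 ∨ O.card = 4 ∧ T.card % 3 ≠ 0) ∧
      ((T \ O).card = 0 ∨ 3 ≤ (T \ O).card ∧ (T \ O).card ≠ 5) ∧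
      O.card + (T \ O).card = T.card ∧ Nat.card B = h (T \ O).card ∧
      (∀ σ ∈ evenFree O, σ ∈ A) ∧ ∀ a ∈ A, ∃ k ∈ evenFree O, ∃ b ∈ B, a = k * b := by
  classical
  obtain ⟨O, K, B, st⟩ := exists_step hA hx
  have hcard : O.card + (T \ O).card = T.card := by
    rw [add_comm]; exact Finset.card_sdiff_add_card_eq_card st.sub
  have hpos : 0 < O.card := Finset.card_pos.2 ⟨x, st.memx⟩
  have hm : O.card % 4 ≠ 2 := fun hm => by
    have := (st.half hm).trans_lt (half_lt hm (by omega))
    rw [he, hcard] at this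
    exact lt_irrefl _ this
  have hB : Nat.card B = h (T \ O).card := by
    refine le_antisymm (card_le_h st.B_good) (Nat.le_of_mul_le_mul_left ?_ hpos)
    rw [← st.card_B, he, ← hcard]
    exact mul_h _ _ (by omega)
  obtain ⟨hcases, hk⟩ := eq_cases (k := (T \ O).card) hpos hm (by omega) (by omega)
    (by rw [hcard, ← he, st.card_B, hB])
  rw [hcard] at hcases
  obtain ⟨hKO, hdec⟩ := st.full (by rw [hB]; exact g_lt_two_h (T \ O).card (by omega))
  have hKset : (K : Set (Perm α)) = evenFree O := by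
    refine Set.eq_of_subset_of_ncard_le st.K_evenFree ?_ (Set.toFinite _)
    rw [← Nat.card_coe_set_eq, ← Nat.card_coe_set_eq]
    exact (evenFree_ncard_le (hcases.imp id (·.1))).trans hKO.ge
  refine ⟨O, K, B, st, hcases, hk, hcard, hB, fun σ hσ => st.K_le ?_, fun a ha => ?_⟩
  · rw [← SetLike.mem_coe, hKset]; exact hσ
  · obtain ⟨k, hk', b, hb, rfl⟩ := hdec a ha
    exact ⟨k, st.K_evenFree k hk', b, hb, rfl⟩

/-- The orbit size chosen for the induction. -/
def mu (n : ℕ) : ℕ := if n % 3 = 0 then 3 else 4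

theorem exists_orbit_mu : ∀ {T : Finset α} {A : Subgroup (Perm α)}, Good T A → 3 ≤ T.card →
    T.card ≠ 5 → Nat.card A = h T.card → ∃ (x : α) (O : Finset α), x ∈ T ∧
      O.card = mu T.card ∧ ∀ y, y ∈ O ↔ ∃ a ∈ A, a x = y := by
  intro T
  induction hT : T.card using Nat.strong_induction_on generalizing T with
  | _ n ih =>
    intro A hA hn hn5 he
    subst hT
    obtain ⟨x, hx⟩ : T.Nonempty := Finset.card_pos.1 (by omega)
    obtain ⟨O, K, B, st, hcases, hk, hcard, hB, -, -⟩ := step_eq hA hn hn5 he hx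
    rcases hcases with h3 | ⟨h4, h30⟩
    · by_cases h30 : T.card % 3 = 0
      · exact ⟨x, O, hx, by rw [mu, if_pos h30, h3], st.orb⟩
      · obtain ⟨y, O', hy, hO', horb⟩ := ih _ (show (T \ O).card < T.card by omega) rfl st.B_good
          (by omega) (by omega) hB
        have hyT : y ∈ T := (Finset.mem_sdiff.1 hy).1
        obtain ⟨O'', K', B', st', hcases', -⟩ := step_eq hA hn hn5 he hyT
        refine ⟨y, O'', hyT, ?_, st'.orb⟩
        have hsub : O' ⊆ O'' := fun z hz => by
          obtain ⟨b, hb, hbz⟩ := (horb z).1 hz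
          exact (st'.orb z).2 ⟨b, st.B_le hb, hbz⟩
        have := Finset.card_le_card hsub
        rw [hO', mu, if_neg (by omega)] at this
        rw [mu, if_neg h30]
        rcases hcases' with h | ⟨h, -⟩ <;> omega
    · exact ⟨x, O, hx, by rw [mu, if_neg h30, h4], st.orb⟩

theorem conj_evenFree {O : Finset α} {σ k : Perm α} (hk : k ∈ evenFree O) :
    σ * k * σ⁻¹ ∈ evenFree (O.image σ) := by
  obtain ⟨hs, he, hf⟩ := hk
  refine ⟨fun y hy => ?_, ?_, ?_⟩
  · have : σ⁻¹ y ∉ O := fun h => hy (Finset.mem_image.2 ⟨_, h, by simp⟩)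
    rw [Perm.mul_apply, Perm.mul_apply, hs _ this]
    simp
  · simp [he, mul_comm]
  · rcases hf with rfl | hf
    · exact Or.inl (by simp)
    · refine Or.inr fun y hy e => ?_
      obtain ⟨z, hz, rfl⟩ := Finset.mem_image.1 hy
      exact hf z hz (σ.injective (by simpa using e))

theorem exists_orbit_step {T : Finset α} {A : Subgroup (Perm α)} (hA : Good T A) (hn : 3 ≤ T.card)
    (hn5 : T.card ≠ 5) (he : Nat.card A = h T.card) :
    ∃ (O : Finset α) (B : Subgroup (Perm α)), O ⊆ T ∧ O.card = mu T.card ∧ Good (T \ O) B ∧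
      Nat.card B = h (T \ O).card ∧ B ≤ A ∧
      ((T \ O).card = 0 ∨ 3 ≤ (T \ O).card ∧ (T \ O).card ≠ 5) ∧
      (∀ σ ∈ evenFree O, σ ∈ A) ∧ ∀ a ∈ A, ∃ k ∈ evenFree O, ∃ b ∈ B, a = k * b := by
  obtain ⟨x, O, hx, hO, horb⟩ := exists_orbit_mu hA hn hn5 he
  obtain ⟨O', K, B, st, -, hk, -, hB, hin, hdec⟩ := step_eq hA hn hn5 he hx
  have : O' = O := Finset.ext fun y => (st.orb y).trans (horb y).symm
  subst this
  exact ⟨O', B, st.sub, hO, st.B_good, hB, st.B_le, hk, hin, hdec⟩

/-- Extend an identification of parts to a permutation. -/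
theorem exists_perm_glue {O O' S S' : Finset α} (hd : Disjoint O S) (hd' : Disjoint O' S')
    (hc : O.card = O'.card) {σ : Perm α} (hσ : S.image σ = S') :
    ∃ ρ : Perm α, O.image ρ = O' ∧ ∀ y ∈ S, ρ y = σ y := by
  classical
  let e : O ≃ O' := Finset.equivOfCardEq hc
  let f : α → α := fun y => if hy : y ∈ O then (e ⟨y, hy⟩ : α) else σ y
  let p : α → Prop := fun y => y ∈ O ∨ y ∈ S
  let q : α → Prop := fun y => y ∈ O' ∨ y ∈ S'
  have hmem : ∀ y : {y // p y}, q (f y) := fun y => by
    by_cases hy : (y : α) ∈ O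
    · simp only [f, dif_pos hy]; exact Or.inl (e ⟨_, hy⟩).2
    · simp only [f, dif_neg hy]
      exact Or.inr (hσ ▸ Finset.mem_image_of_mem σ (y.2.resolve_left hy))
  have hinj : Function.Injective fun y : {y // p y} => (⟨f y, hmem y⟩ : {y // q y}) := by
    intro a b hab
    have h' : f a = f b := congrArg Subtype.val hab
    have key : ∀ a b : {y // p y}, (a : α) ∈ O → (b : α) ∉ O → f a ≠ f b := fun a b ha hb h' => by
      simp only [f, dif_pos ha, dif_neg hb] at h'
      exact Finset.disjoint_left.1 hd' (e ⟨_, ha⟩).2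
        (h' ▸ hσ ▸ Finset.mem_image_of_mem σ (b.2.resolve_left hb))
    by_cases ha : (a : α) ∈ O <;> by_cases hb : (b : α) ∈ O
    · simp only [f, dif_pos ha, dif_pos hb] at h'
      exact Subtype.ext (congrArg Subtype.val (e.injective (Subtype.ext h')) :)
    · exact absurd h' (key a b ha hb)
    · exact absurd h'.symm (key b a hb ha)
    · simp only [f, dif_neg ha, dif_neg hb] at h'
      exact Subtype.ext (σ.injective h')
  have hcard : Fintype.card {y // p y} = Fintype.card {y // q y} := by
    rw [Fintype.card_subtype, Fintype.card_subtype]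
    have h1 : (Finset.univ.filter p) = O ∪ S := by ext; simp [p]
    have h2 : (Finset.univ.filter q) = O' ∪ S' := by ext; simp [q]
    rw [h1, h2, Finset.card_union_of_disjoint hd, Finset.card_union_of_disjoint hd', hc, ← hσ,
      Finset.card_image_of_injective _ σ.injective]
  let E : {y // p y} ≃ {y // q y} :=
    Equiv.ofBijective _ ((Fintype.bijective_iff_injective_and_card _).2 ⟨hinj, hcard⟩)
  have hE : ∀ y (hy : p y), E.extendSubtype y = f y := fun y hy => by
    rw [Equiv.extendSubtype_apply_of_mem _ _ hy]; rfl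
  refine ⟨E.extendSubtype, Finset.eq_of_subset_of_card_le (fun z hz => ?_) ?_, fun y hy => ?_⟩
  · obtain ⟨y, hy, rfl⟩ := Finset.mem_image.1 hz
    rw [hE y (Or.inl hy)]
    simp only [f, dif_pos hy]
    exact (e ⟨y, hy⟩).2
  · rw [Finset.card_image_of_injective _ (Equiv.injective _), hc]
  · rw [hE y (Or.inr hy)]
    simp only [f, dif_neg (Finset.disjoint_right.1 hd hy)]

/-- Maximal groups are conjugate in the symmetric group. -/
theorem exists_conj : ∀ {T T' : Finset α} {A A' : Subgroup (Perm α)}, Good T A → Good T' A' →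
    T.card = T'.card → (T.card = 0 ∨ 3 ≤ T.card ∧ T.card ≠ 5) → Nat.card A = h T.card →
    Nat.card A' = h T.card → ∃ σ : Perm α, T.image σ = T' ∧ ∀ a ∈ A, σ * a * σ⁻¹ ∈ A' := by
  classical
  intro T
  induction hT : T.card using Nat.strong_induction_on generalizing T with
  | _ n ih =>
    intro T' A A' hA hA' hc hn he he'
    subst hT
    rcases hn with h0 | ⟨hn, hn5⟩
    · have hT0 := Finset.card_eq_zero.1 h0
      have hT'0 := Finset.card_eq_zero.1 (hc ▸ h0)
      refine ⟨1, by simp [hT0, hT'0], fun a ha => ?_⟩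
      have : a = 1 := Equiv.ext fun y => hA.supp a ha y (by simp [hT0])
      simp [this]
    obtain ⟨O, B, hO, hOc, hB, hBc, -, hk, -, hdec⟩ := exists_orbit_step hA hn hn5 he
    obtain ⟨O', B', hO', hOc', hB', hBc', hBle', -, hin', -⟩ :=
      exists_orbit_step hA' (hc ▸ hn) (hc ▸ hn5) (hc ▸ he')
    rw [← hc] at hOc'
    have hOO : O.card = O'.card := hOc.trans hOc'.symm
    have hpos : 0 < O.card := by rw [hOc, mu]; split_ifs <;> omega
    have e1 := Finset.card_sdiff_add_card_eq_card hO
    have e2 := Finset.card_sdiff_add_card_eq_card hO'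
    have hSS : (T \ O).card = (T' \ O').card := by omega
    obtain ⟨σ, hσS, hσ⟩ := ih _ (show (T \ O).card < T.card by omega) rfl hB hB' hSS hk hBc
      (hSS ▸ hBc')
    obtain ⟨ρ, hρO, hρS⟩ := exists_perm_glue Finset.disjoint_sdiff Finset.disjoint_sdiff hOO hσS
    have hρim : (T \ O).image ρ = T' \ O' := by
      rw [← hσS]; exact Finset.image_congr fun y hy => hρS y hy
    refine ⟨ρ, ?_, fun a ha => ?_⟩
    · rw [← Finset.union_sdiff_of_subset hO, Finset.image_union, hρO, hρim,
        Finset.union_sdiff_of_subset hO']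
    obtain ⟨k, hk', b, hb, rfl⟩ := hdec a ha
    rw [show ρ * (k * b) * ρ⁻¹ = (ρ * k * ρ⁻¹) * (ρ * b * ρ⁻¹) by group]
    refine A'.mul_mem (hin' _ (hρO ▸ conj_evenFree hk')) (hBle' ?_)
    have hbb : ρ * b * ρ⁻¹ = σ * b * σ⁻¹ := by
      refine Equiv.ext fun y => ?_
      obtain ⟨z, rfl⟩ := ρ.surjective y
      show ρ (b (ρ.symm (ρ z))) = σ (b (σ.symm (ρ z)))
      rw [Equiv.symm_apply_apply]
      by_cases hz : z ∈ T \ O
      · rw [hρS z hz, Equiv.symm_apply_apply]
        refine hρS _ ?_
        by_contra hn'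
        exact hn' ((b.injective (hB.supp b hb _ hn')).symm ▸ hz)
      · have hw : σ.symm (ρ z) ∉ T \ O := by
          intro hw
          have h1 := hρS _ hw
          rw [Equiv.apply_symm_apply] at h1
          exact hz (ρ.injective h1 ▸ hw)
        rw [hB.supp b hb z hz, hB.supp b hb _ hw, Equiv.apply_symm_apply]
    rw [hbb]
    exact hσ b hb

/-- Some odd permutation normalises a maximal group. -/
theorem exists_odd_normalizing {A : Subgroup (Perm α)} (hA : Good Finset.univ A)
    (hn : 3 ≤ Fintype.card α) (hn5 : Fintype.card α ≠ 5) (he : Nat.card A = h (Fintype.card α)) :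
    ∃ τ : Perm α, Perm.sign τ = -1 ∧ ∀ a ∈ A, τ * a * τ⁻¹ ∈ A := by
  classical
  obtain ⟨O, B, -, hOc, hB, -, hBle, -, hin, hdec⟩ :=
    exists_orbit_step hA (by simpa using hn) (by simpa using hn5) (by simpa using he)
  obtain ⟨x, hx, y, hy, hxy⟩ :=
    Finset.one_lt_card.1 (show 1 < O.card by rw [hOc, mu]; split_ifs <;> omega)
  refine ⟨Equiv.swap x y, Perm.sign_swap hxy, fun a ha => ?_⟩
  obtain ⟨k, hk, b, hb, rfl⟩ := hdec a ha
  rw [show swap x y * (k * b) * (swap x y)⁻¹ =
      (swap x y * k * (swap x y)⁻¹) * (swap x y * b * (swap x y)⁻¹) by group]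
  have himg : O.image (swap x y) = O := by
    refine Finset.eq_of_subset_of_card_le (fun z hz => ?_)
      (Finset.card_image_of_injective _ (Equiv.injective _)).ge
    obtain ⟨w, hw, rfl⟩ := Finset.mem_image.1 hz
    rw [Equiv.swap_apply_def]
    split_ifs <;> assumption
  refine A.mul_mem (hin _ ?_) (hBle ?_)
  · have := conj_evenFree (σ := swap x y) hk
    rwa [himg] at this
  · convert hb using 1
    rw [Equiv.swap_inv, mul_assoc, Equiv.mul_swap_eq_swap_mul,
      hB.supp b hb x (fun h => (Finset.mem_sdiff.1 h).2 hx),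
      hB.supp b hb y (fun h => (Finset.mem_sdiff.1 h).2 hy), ← mul_assoc, Equiv.swap_mul_self,
      one_mul]

/-- Three-cycles and Klein groups side by side. -/
theorem exists_even_abelian {ι : Type*} [Fintype ι] [DecidableEq ι] (a b : ℕ)
    (hc : Fintype.card ι = 3 * a + 4 * b) :
    ∃ A : Subgroup (Perm ι), Good Finset.univ A ∧ Nat.card A = 3 ^ a * 4 ^ b := by
  classical
  let V := ZMod 2 × ZMod 2
  let X := (Fin a × ZMod 3) ⊕ (Fin b × V)
  let f : Multiplicative ((Fin a → ZMod 3) × (Fin b → V)) →* Perm X := MonoidHom.mk'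
    (fun u => Equiv.sumCongr (Equiv.prodCongrRight fun i => Equiv.addRight (u.toAdd.1 i))
      (Equiv.prodCongrRight fun i => Equiv.addRight (u.toAdd.2 i))) fun u v => by
      refine Equiv.ext fun z => ?_
      rcases z with ⟨i, w⟩ | ⟨i, w⟩
      · show (Sum.inl (i, w + (u.toAdd.1 i + v.toAdd.1 i)) : X) =
          Sum.inl (i, w + v.toAdd.1 i + u.toAdd.1 i)
        rw [add_comm (u.toAdd.1 i), add_assoc]
      · show (Sum.inr (i, w + (u.toAdd.2 i + v.toAdd.2 i)) : X) =
          Sum.inr (i, w + v.toAdd.2 i + u.toAdd.2 i)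
        rw [add_comm (u.toAdd.2 i), add_assoc]
  have hf : Function.Injective f := by
    intro u v h
    apply Multiplicative.toAdd.injective
    refine Prod.ext (funext fun i => ?_) (funext fun i => ?_)
    · have h1 : (Sum.inl (i, 0 + u.toAdd.1 i) : X) = Sum.inl (i, 0 + v.toAdd.1 i) :=
        congrArg (fun s : Perm X => s (Sum.inl (i, 0))) h
      simpa using h1
    · have h1 : (Sum.inr (i, 0 + u.toAdd.2 i) : X) = Sum.inr (i, 0 + v.toAdd.2 i) :=
        congrArg (fun s : Perm X => s (Sum.inr (i, 0))) h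
      simpa using h1
  let e : X ≃ ι := Fintype.equivOfCardEq (by
    simp [X, V, hc, Fintype.card_sum, Fintype.card_prod, ZMod.card, mul_comm])
  let F' : Multiplicative ((Fin a → ZMod 3) × (Fin b → V)) →* Perm ι :=
    e.permCongrHom.toMonoidHom.comp f
  have hF : Function.Injective F' := e.permCongrHom.injective.comp hf
  refine ⟨F'.range, ⟨?_, fun g _ y hy => absurd (Finset.mem_univ y) hy, ?_⟩, ?_⟩
  · rintro _ ⟨u, rfl⟩ _ ⟨v, rfl⟩
    rw [← map_mul, ← map_mul, mul_comm]
  · rintro _ ⟨u, rfl⟩
    show Perm.sign (e.permCongr (f u)) = 1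
    rw [Perm.sign_permCongr]
    show Perm.sign (Equiv.sumCongr _ _) = 1
    rw [Perm.sign_sumCongr, Perm.sign_prodCongrRight, Perm.sign_prodCongrRight,
      Finset.prod_eq_one fun i _ => (by decide : ∀ c : ZMod 3, Perm.sign (Equiv.addRight c) = 1) _,
      Finset.prod_eq_one fun i _ => (by decide : ∀ c : V, Perm.sign (Equiv.addRight c) = 1) _,
      one_mul]
  · rw [← Nat.card_congr (MonoidHom.ofInjective hF).toEquiv,
      Nat.card_congr Multiplicative.toAdd]
    simp [V, Nat.card_prod, Nat.card_pi]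

end Cfsg.Agent.H55.AltAb
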