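/-
Abelian subgroups of the alternating group as groups of even permutations.
-/
import Cfsg.Agent.H55.AltAbelian

set_option autoImplicit false

namespace Cfsg.Agent.H55.AltAb

open Equiv

variable {n : ℕ}

theorem good_map {A : Subgroup (alternatingGroup (Fin n))} (hA : IsMulCommutative A) :
    Good Finset.univ (A.map (alternatingGroup (Fin n)).subtype) := by
  refine ⟨?_, fun _ _ y hy => absurd (Finset.mem_univ y) hy, ?_⟩
  · rintro _ ⟨a, ha, rfl⟩ _ ⟨b, hb, rfl⟩
    rw [← map_mul, ← map_mul]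
    exact congrArg (fun t : A => ((t : alternatingGroup (Fin n)) : Perm (Fin n)))
      (hA.is_comm.comm ⟨a, ha⟩ ⟨b, hb⟩)
  · rintro _ ⟨a, -, rfl⟩
    exact Perm.mem_alternatingGroup.1 a.2

theorem card_map_alt (A : Subgroup (alternatingGroup (Fin n))) :
    Nat.card (A.map (alternatingGroup (Fin n)).subtype) = Nat.card A :=
  Subgroup.card_map_of_injective (alternatingGroup (Fin n)).subtype_injective

theorem card_le_alt {A : Subgroup (alternatingGroup (Fin n))} (hA : IsMulCommutative A) :
    Nat.card A ≤ h n := by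
  rw [← card_map_alt A]
  simpa using card_le_h (good_map hA)

theorem exists_alt (a b : ℕ) (hn : n = 3 * a + 4 * b) :
    ∃ A : Subgroup (alternatingGroup (Fin n)), IsMulCommutative A ∧
      Nat.card A = 3 ^ a * 4 ^ b := by
  obtain ⟨A', hA', hc⟩ := exists_even_abelian (ι := Fin n) a b (by simpa using hn)
  refine ⟨A'.subgroupOf (alternatingGroup (Fin n)), ⟨⟨fun p q => ?_⟩⟩, ?_⟩
  · exact Subtype.ext (Subtype.ext (hA'.comm _ p.2 _ q.2))
  · rw [← hc]
    exact Nat.card_congr (Subgroup.subgroupOfEquivOfLe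
      (fun x hx => Perm.mem_alternatingGroup.2 (hA'.even x hx))).toEquiv

theorem max_eq_h (hn : 3 ≤ n) (hn5 : n ≠ 5) {A : Subgroup (alternatingGroup (Fin n))}
    (hA : IsMulCommutative A)
    (hmax : ∀ C : Subgroup (alternatingGroup (Fin n)), IsMulCommutative C →
      Nat.card C ≤ Nat.card A) : Nat.card A = h n := by
  refine le_antisymm (card_le_alt hA) ?_
  have hsum : n = 3 * ((n - 4 * (n % 3)) / 3) + 4 * (n % 3) := by omega
  obtain ⟨C, hC, hc⟩ := exists_alt _ _ hsum
  have hcl := h_closed ((n - 4 * (n % 3)) / 3) (n % 3) (by omega)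
  rw [← hsum] at hcl
  rw [hcl, ← hc]
  exact hmax C hC

end Cfsg.Agent.H55.AltAb
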