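/-
Element orders in alternating groups from cycle types.
-/
import Mathlib

set_option autoImplicit false

namespace Cfsg.Agent.H55

open Equiv

/-- An even cycle type gives an element of the alternating group. -/
theorem exists_alt_of_type {n : ℕ} (m : Multiset ℕ) (h2 : ∀ a ∈ m, 2 ≤ a) (hs : m.sum ≤ n)
    (he : Even (m.sum + Multiset.card m)) :
    ∃ σ : alternatingGroup (Fin n), orderOf σ = m.lcm := by
  obtain ⟨σ, hσ⟩ := (Perm.exists_with_cycleType_iff (Fin n)).2 ⟨by simpa using hs, h2⟩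
  have hmem : σ ∈ alternatingGroup (Fin n) := by
    rw [Equiv.Perm.mem_alternatingGroup, Perm.sign_of_cycleType, hσ, he.neg_one_pow]
  exact ⟨⟨σ, hmem⟩, by rw [← Subgroup.orderOf_coe, ← hσ, Perm.lcm_cycleType]⟩

/-- The cycle type of an element of the alternating group. -/
theorem type_of_alt {n : ℕ} (σ : alternatingGroup (Fin n)) :
    ∃ m : Multiset ℕ, (∀ a ∈ m, 2 ≤ a) ∧ m.sum ≤ n ∧ Even (m.sum + Multiset.card m) ∧
      m.lcm = orderOf σ := by
  refine ⟨(σ : Perm (Fin n)).cycleType, fun a ha => Perm.two_le_of_mem_cycleType ha, ?_, ?_, ?_⟩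
  · simpa using Perm.sum_cycleType_le (σ : Perm (Fin n))
  · have h := Equiv.Perm.mem_alternatingGroup.1 σ.2
    rw [Perm.sign_of_cycleType] at h
    exact (neg_one_pow_eq_one_iff_even (by decide : (-1 : ℤˣ) ≠ 1)).1 h
  · rw [Perm.lcm_cycleType, Subgroup.orderOf_coe]

/-- Some member is divisible by the prime `r` when the lcm is. -/
theorem exists_dvd_of_dvd_lcm {r : ℕ} (hr : r.Prime) (m : Multiset ℕ) (h : r ∣ m.lcm) :
    ∃ a ∈ m, r ∣ a := by
  induction m using Multiset.induction_on with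
  | empty => simp [hr.ne_one] at h
  | cons a s ih =>
    rw [Multiset.lcm_cons] at h
    have : r ∣ a * s.lcm := h.trans (Nat.lcm_dvd_mul _ _)
    rcases hr.dvd_mul.1 this with h' | h'
    · exact ⟨a, Multiset.mem_cons_self _ _, h'⟩
    · obtain ⟨b, hb, hb'⟩ := ih h'
      exact ⟨b, Multiset.mem_cons_of_mem hb, hb'⟩

theorem sum_ge_two {m : Multiset ℕ} (h2 : ∀ a ∈ m, 2 ≤ a) : 2 * Multiset.card m ≤ m.sum := by
  have := Multiset.card_nsmul_le_sum h2
  rw [smul_eq_mul] at this
  omega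

end Cfsg.Agent.H55
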