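/-
Prime graph conditions from minimal polynomials of isometries.
-/
import Cfsg.Agent.H55.SpPrimeGraph

set_option autoImplicit false
set_option linter.unusedSectionVars false

namespace Cfsg.Agent.H55

open Polynomial

variable {F : Type*} [Field F] [Finite F] {ι : Type*} [Fintype ι] [DecidableEq ι]

/-- Whatever annihilates `A` annihilates its inverse. -/
def InvClosed (A : Matrix ι ι F) : Prop :=
  ∀ N : ℕ, 0 < N → A ^ N = 1 → ∀ s : F[X], aeval A s = 0 → aeval (A ^ (N - 1)) s = 0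

theorem InvClosed.of_form {A B : Matrix ι ι F} (hB : IsUnit B) (hAB : A.transpose * B * A = B) :
    InvClosed A := by
  intro N hN hA s hs
  have hgen : B * A ^ (N - 1) = A.transpose * B := by
    calc B * A ^ (N - 1) = A.transpose * B * (A * A ^ (N - 1)) := by rw [← mul_assoc, hAB]
      _ = A.transpose * B := by rw [← pow_succ', Nat.sub_add_cancel hN, hA, mul_one]
  have key : B * aeval (A ^ (N - 1)) s = (aeval A s).transpose * B := by
    clear hs
    induction s using Polynomial.induction_on' with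
    | add a b ha hb => rw [map_add, mul_add, ha, hb, map_add, Matrix.transpose_add, add_mul]
    | monomial k c =>
      rw [aeval_monomial, aeval_monomial, ← Algebra.smul_def, ← Algebra.smul_def,
        Matrix.transpose_smul, Algebra.mul_smul_comm, Algebra.smul_mul_assoc, Matrix.transpose_pow]
      congr 1
      exact ((show SemiconjBy B (A ^ (N - 1)) A.transpose from hgen).pow_right k).eq
  rw [hs, Matrix.transpose_zero, zero_mul] at key
  exact hB.mul_right_eq_zero.1 key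

theorem minpoly_natDegree_le_card (A : Matrix ι ι F) :
    (minpoly F A).natDegree ≤ Fintype.card ι := by
  have h := natDegree_le_of_dvd (Matrix.minpoly_dvd_charpoly A) A.charpoly_monic.ne_zero
  rwa [Matrix.charpoly_natDegree_eq_dim] at h

section

variable (p : ℕ) [Fact p.Prime] [CharP F p]

/-- Existence of a factor whose roots have order divisible by `r`. -/
theorem exists_factor_ff {r s : ℕ} (hr : r.Prime) (hrp : r ≠ p) (A : Matrix ι ι F)
    (hA : A ^ (r * s) = 1) (hs : A ^ s ≠ 1) :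
    ∃ f : F[X], f.Monic ∧ Irreducible f ∧ f ∣ minpoly F A ∧ f ∣ X ^ (r * s) - 1 ∧
      ¬ f ∣ X ^ s - 1 := by
  have hp1 : 1 < p := (Fact.out : p.Prime).one_lt
  obtain ⟨f, hfm, hf, hfμ, hfs⟩ : ∃ f : F[X], f.Monic ∧ Irreducible f ∧ f ∣ minpoly F A ∧
      ¬ f ∣ X ^ s - 1 := by
    by_contra hc
    push Not at hc
    set L := Nat.clog p (minpoly F A).natDegree
    have hd : minpoly F A ∣ (X ^ s - 1) ^ p ^ L := by
      refine dvd_pow_natDegree_of_factors (minpoly.monic (Matrix.isIntegral A))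
        (Nat.le_pow_clog hp1 _) fun f hf hfd => ?_
      have hassoc : Associated (f * C f.leadingCoeff⁻¹) f :=
        associated_mul_unit_left _ _
          (isUnit_C.2 (isUnit_iff_ne_zero.2 (inv_ne_zero (leadingCoeff_ne_zero.2 hf.ne_zero))))
      exact hassoc.dvd_iff_dvd_left.1 (hc _ (monic_mul_leadingCoeff_inv hf.ne_zero)
        (hassoc.irreducible_iff.2 hf) (hassoc.dvd_iff_dvd_left.2 hfd))
    rcases isEmpty_or_nonempty ι with he | hne'
    · exact hs (Subsingleton.elim _ _)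
    obtain ⟨w, hw⟩ := hd
    have h1 := congrArg (aeval A) hw
    rw [map_mul, minpoly.aeval, zero_mul, sub_pow_char_pow, one_pow, ← pow_mul, map_sub, map_pow,
      aeval_X, map_one, sub_eq_zero] at h1
    have h2 : (A ^ s) ^ r = 1 := by rw [← pow_mul, mul_comm, hA]
    have h3 : (A ^ s) ^ p ^ L = 1 := by rw [← pow_mul, h1]
    have h4 := pow_gcd_eq_one.2 ⟨h2, h3⟩
    have hco : Nat.Coprime r (p ^ L) :=
      Nat.Coprime.pow_right _ ((Nat.coprime_primes hr Fact.out).2 hrp)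
    rw [hco.gcd_eq_one, pow_one] at h4
    exact hs h4
  exact ⟨f, hfm, hf, hfμ, hfμ.trans (minpoly.dvd F A (by simp [hA])), hfs⟩

/-- The reciprocal partner of a factor of the minimal polynomial of a symplectic matrix. -/
theorem exists_partner_ff (A : Matrix ι ι F) {N : ℕ} (hN : 0 < N)
    (hA : A ^ N = 1) (hinv : InvClosed A) {f : F[X]} (hfm : f.Monic) (hf : Irreducible f)
    (hfμ : f ∣ minpoly F A) :
    f ∣ X ^ (Nat.card F ^ f.natDegree - 1) - 1 ∧
    ∃ f' : F[X], f'.Monic ∧ Irreducible f' ∧ f' ∣ minpoly F A ∧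
      f'.natDegree = f.natDegree ∧ (∀ j : ℕ, f ∣ X ^ j - 1 ↔ f' ∣ X ^ j - 1) ∧
      (f' = f → f ∣ X ^ 2 - 1 ∨
        ∃ e, 0 < e ∧ f.natDegree = 2 * e ∧ f ∣ X ^ (Nat.card F ^ e + 1) - 1) := by
  obtain ⟨p', hp'F⟩ := CharP.exists F
  have : Fact p'.Prime := ⟨CharP.char_is_prime F p'⟩
  set AM : Matrix ι ι F := A with hAM
  have hμμ : minpoly F AM ∣ (minpoly F AM).comp (X ^ (N - 1)) := by
    refine minpoly.dvd F AM ?_
    rw [aeval_comp, map_pow, aeval_X]
    exact hinv N hN hA _ (minpoly.aeval F A)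
  have : Fact (Irreducible f) := ⟨hf⟩
  have : Module.Finite F (AdjoinRoot f) := (AdjoinRoot.powerBasis hf.ne_zero).finite
  have : Finite (AdjoinRoot f) := Module.finite_of_finite F
  have : Fintype (AdjoinRoot f) := Fintype.ofFinite _
  set α := AdjoinRoot.root f with hα
  set d := f.natDegree with hd
  have hcardK : Nat.card (AdjoinRoot f) = Nat.card F ^ d := by
    rw [Module.natCard_eq_pow_finrank (K := F), (AdjoinRoot.powerBasis hf.ne_zero).finrank,
      AdjoinRoot.powerBasis_dim]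
  have hdvdα : ∀ s : F[X], aeval α s = 0 ↔ f ∣ s := fun s => by
    rw [hα, AdjoinRoot.aeval_eq, AdjoinRoot.mk_eq_zero]
  have key : ∀ j, f ∣ X ^ j - 1 ↔ α ^ j = 1 := fun j => by
    rw [← hdvdα, map_sub, map_pow, aeval_X, map_one, sub_eq_zero]
  have hαN : α ^ N = 1 := (key N).1 (hfμ.trans (minpoly.dvd F AM (by simp [hA])))
  have hα0 : α ≠ 0 := fun h => by rw [h, zero_pow hN.ne'] at hαN; exact zero_ne_one hαN
  have hper : ∀ (x : AdjoinRoot f) (c : ℕ), x ^ (Nat.card F ^ (d * c)) = x := by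
    intro x c
    rw [pow_mul, ← hcardK, Nat.card_eq_fintype_card, FiniteField.pow_card_pow]
  refine ⟨(key _).2 (by
    rw [← hcardK, Nat.card_eq_fintype_card, FiniteField.pow_card_sub_one_eq_one α hα0]), ?_⟩
  set β := α ^ (N - 1) with hβ
  have hαβ : β * α = 1 := by rw [hβ, ← pow_succ, Nat.sub_add_cancel hN, hαN]
  have hβμ : aeval β (minpoly F AM) = 0 := by
    have h := (hdvdα _).2 (hfμ.trans hμμ)
    rwa [aeval_comp, map_pow, aeval_X] at h
  have hintβ : IsIntegral F β := Algebra.IsIntegral.isIntegral β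
  set f' := minpoly F β with hf'def
  have hf'm : f'.Monic := minpoly.monic hintβ
  have hf' : Irreducible f' := minpoly.irreducible hintβ
  have hkey' : ∀ j, f' ∣ X ^ j - 1 ↔ α ^ j = 1 := fun j => by
    rw [hf'def, minpoly.dvd_iff, map_sub, map_pow, aeval_X, map_one, sub_eq_zero,
      eq_inv_of_mul_eq_one_left hαβ, inv_pow, inv_eq_one]
  have hdd : f'.natDegree = d := by
    refine le_antisymm ?_ (Nat.le_of_dvd hf'.natDegree_pos ?_)
    · have h := minpoly.natDegree_le (A := F) β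
      rw [(AdjoinRoot.powerBasis hf.ne_zero).finrank, AdjoinRoot.powerBasis_dim] at h
      exact h
    · have h1 : f' ∣ X ^ (Nat.card F) ^ f'.natDegree - X :=
        (hf'.natDegree_dvd_iff_dvd_X_pow_card_pow_sub_X).1 dvd_rfl
      rw [hf'def, minpoly.dvd_iff, map_sub, map_pow, aeval_X, sub_eq_zero] at h1
      refine hf.natDegree_dvd_of_dvd_X_pow_card_pow_sub_X ((hdvdα _).1 ?_)
      rw [map_sub, map_pow, aeval_X, sub_eq_zero]
      rw [← hf'def] at h1
      rw [eq_inv_of_mul_eq_one_left hαβ, inv_pow] at h1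
      exact inv_injective h1
  refine ⟨f', hf'm, hf', minpoly.dvd F β hβμ, hdd, fun j => (key j).trans (hkey' j).symm,
    fun hff => ?_⟩
  have hβf : aeval β f = 0 := by
    have h0 := minpoly.aeval F β
    rwa [← hf'def, hff] at h0
  let τ : AdjoinRoot f →ₐ[F] AdjoinRoot f := AdjoinRoot.liftAlgHom f (Algebra.ofId F _) β hβf
  have hτ : τ α = β := AdjoinRoot.liftAlgHom_root _ _ _ _
  obtain ⟨i, hi⟩ := FiniteField.exists_forall_apply_eq_pow F p' (AdjoinRoot f)
    (AlgEquiv.ofBijective τ ⟨τ.toRingHom.injective,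
      Finite.injective_iff_surjective.1 τ.toRingHom.injective⟩)
  set ρ := i % d with hρ
  have hβr : β = α ^ (Nat.card F ^ ρ) := by
    rw [← hτ]
    have : τ α = α ^ (Nat.card F ^ i) := hi α
    rw [this, ← Nat.mod_add_div i d, pow_add, pow_mul, hper]
  have hαr : α ^ (Nat.card F ^ ρ + 1) = 1 := by rw [pow_succ, ← hβr, hαβ]
  have hαα : α ^ (Nat.card F ^ (2 * ρ)) = α := by
    have h1 : β ^ (Nat.card F ^ ρ + 1) = 1 := by
      rw [eq_inv_of_mul_eq_one_left hαβ, inv_pow, hαr, inv_one]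
    rw [two_mul, pow_add, pow_mul, ← hβr]
    rw [pow_succ] at h1
    calc β ^ Nat.card F ^ ρ = β ^ Nat.card F ^ ρ * (β * α) := by rw [hαβ, mul_one]
      _ = α := by rw [← mul_assoc, h1, one_mul]
  have hd2r : d ∣ 2 * ρ := hf.natDegree_dvd_of_dvd_X_pow_card_pow_sub_X ((hdvdα _).1 (by
    rw [map_sub, map_pow, aeval_X, hαα, sub_self]))
  have hrd : ρ < d := Nat.mod_lt _ hf.natDegree_pos
  rcases Nat.eq_zero_or_pos ρ with h0 | h0
  · rw [h0, pow_zero] at hαr
    exact Or.inl ((key 2).2 hαr)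
  · refine Or.inr ⟨ρ, h0, ?_, (key _).2 hαr⟩
    obtain ⟨c, hc⟩ := hd2r
    rcases c with _ | _ | c
    · omega
    · omega
    · rw [Nat.mul_succ, Nat.mul_succ] at hc; omega

/-- All data attached to one prime `r`. -/
theorem factor_data_ff {r s D : ℕ} (hr : r.Prime) (hr2 : r ≠ 2) (hrp : r ≠ p)
    (hs0 : 0 < s) (A : Matrix ι ι F) (hD : Fintype.card ι ≤ D) (hinv : InvClosed A)
    (hA : A ^ (r * s) = 1) (hs : A ^ s ≠ 1) :
    ∃ (f f' G : F[X]) (d : ℕ), f.Monic ∧ Irreducible f ∧ f'.Monic ∧ Irreducible f' ∧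
      f.natDegree = d ∧ f'.natDegree = d ∧
      f ∣ minpoly F A ∧ f' ∣ minpoly F A ∧
      ¬ f ∣ X ^ s - 1 ∧ ¬ f' ∣ X ^ s - 1 ∧
      G.Monic ∧ G ∣ minpoly F A ∧
      (∀ P : F[X], f ∣ P → f' ∣ P → G ∣ P) ∧
      ((f' = f ∧ G = f ∧ ∃ e, 0 < e ∧ d = 2 * e ∧ f ∣ X ^ (Nat.card F ^ e + 1) - 1 ∧
          r ∣ Nat.card F ^ e + 1) ∨
        (f' ≠ f ∧ G = f * f' ∧ 2 * d ≤ D ∧ f ∣ X ^ (Nat.card F ^ d - 1) - 1 ∧
          r ∣ Nat.card F ^ d - 1)) := by
  obtain ⟨f, hfm, hf, hfμ, hfrs, hfs⟩ := exists_factor_ff p hr hrp _ hA hs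
  obtain ⟨hq, f', hf'm, hf', hf'μ, hdd, hiff, hself⟩ :=
    exists_partner_ff A (Nat.mul_pos hr.pos hs0) hA hinv hfm hf hfμ
  have hs' : ¬ f' ∣ X ^ s - 1 := fun h => hfs ((hiff s).2 h)
  by_cases hff : f' = f
  · rcases hself hff with h2 | ⟨e, he, hde, hfe⟩
    · exact absurd ((Nat.prime_dvd_prime_iff_eq hr Nat.prime_two).1 (root_dvd hr hfrs hfs h2)) hr2
    · exact ⟨f, f', f, _, hfm, hf, hf'm, hf', rfl, hdd, hfμ, hf'μ, hfs, hs', hfm, hfμ,
        fun P h _ => h, Or.inl ⟨hff, rfl, e, he, hde, hfe, root_dvd hr hfrs hfs hfe⟩⟩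
  · have hco : IsCoprime f f' := hf.coprime_iff_not_dvd.2 fun hd =>
      hff (eq_of_monic_of_associated hfm hf'm (hf.associated_of_dvd hf' hd)).symm
    have hG : f * f' ∣ minpoly F A := hco.mul_dvd hfμ hf'μ
    refine ⟨f, f', f * f', _, hfm, hf, hf'm, hf', rfl, hdd, hfμ, hf'μ, hfs, hs', hfm.mul hf'm, hG,
      fun P h h' => hco.mul_dvd h h', Or.inr ⟨hff, rfl, ?_, hq, root_dvd hr hfrs hfs hq⟩⟩
    have h := (natDegree_le_of_dvd hG (minpoly.ne_zero (Matrix.isIntegral _))).trans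
      ((minpoly_natDegree_le_card _).trans hD)
    rw [natDegree_mul hf.ne_zero hf'.ne_zero, hdd] at h
    omega

/-- The parameter `η`. -/
noncomputable def etaOf (q r : ℕ) : ℕ :=
  if Even (orderOf (q : ZMod r)) then orderOf (q : ZMod r) / 2 else orderOf (q : ZMod r)

theorem etaOf_isEta (q r : ℕ) : IsEta (orderOf (q : ZMod r)) (etaOf q r) := by
  unfold etaOf IsEta
  split_ifs with h
  · exact Or.inr ⟨h, Nat.two_mul_div_two_of_even h⟩
  · exact Or.inl ⟨Nat.not_even_iff_odd.1 h, rfl⟩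

include p in
theorem etaOf_spec {r : ℕ} (hr : r.Prime) (hrp : r ≠ p) :
    0 < etaOf (Nat.card F) r ∧
      (r ∣ Nat.card F ^ etaOf (Nat.card F) r + 1 ∨ r ∣ Nat.card F ^ etaOf (Nat.card F) r - 1) := by
  have := Fact.mk hr
  have hk : 0 < orderOf ((Nat.card F : ℕ) : ZMod r) := by
    refine orderOf_pos_iff.2 (isOfFinOrder_iff_pow_eq_one.2
      ⟨r - 1, by have := hr.two_le; omega, ZMod.pow_card_sub_one_eq_one ?_⟩)
    rw [Ne, ZMod.natCast_eq_zero_iff]
    exact not_dvd_card p hr hrp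
  refine ⟨?_, ?_⟩
  · rcases etaOf_isEta (Nat.card F) r with ⟨-, h⟩ | ⟨-, h⟩ <;> omega
  · rcases dvd_torus hr rfl (etaOf_isEta _ r) hk with ⟨-, h⟩ | ⟨-, h⟩
    · exact Or.inr h
    · exact Or.inl h

theorem etaOf_le {r e : ℕ} (he : 0 < e)
    (h : r ∣ Nat.card F ^ e + 1 ∨ r ∣ Nat.card F ^ e - 1) : etaOf (Nat.card F) r ≤ e := by
  refine (etaOf_isEta _ r).le_of_dvd he (dvd_pow_sub_one_iff_ord.1 ?_)
  rw [sq_pow_sub_one]
  exact h.elim (fun h => h.mul_right _) (fun h => h.mul_left _)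

/-- Odd primes `r`, `s` are adjacent. -/
def CondA (q n r s : ℕ) : Prop :=
  etaOf q r + etaOf q s ≤ n ∨ ∃ e, 0 < e ∧ e ≤ n ∧ (r * s ∣ q ^ e + 1 ∨ r * s ∣ q ^ e - 1)

theorem condA_of_matrix {n r s : ℕ} (hr : r.Prime) (hs : s.Prime) (hr2 : r ≠ 2) (hs2 : s ≠ 2)
    (hrp : r ≠ p) (hsp : s ≠ p) (hrs : r ≠ s) (A : Matrix ι ι F)
    (hι : Fintype.card ι ≤ 2 * n + 1) (hinv : InvClosed A) (hA : A ^ (r * s) = 1)
    (hAs : A ^ s ≠ 1) (hAr : A ^ r ≠ 1) : CondA (Nat.card F) n r s := by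
  have hco : Nat.Coprime r s := (Nat.coprime_primes hr hs).2 hrs
  have hN : 0 < r * s := Nat.mul_pos hr.pos hs.pos
  obtain ⟨f, f', G, d, hfm, hf, hf'm, hf', hd, hd', hfμ, hf'μ, -, -, hGm, hGμ, -, hcase⟩ :=
    factor_data_ff p hr hr2 hrp hs.pos A hι hinv hA hAs
  obtain ⟨g, g', H, c, hgm, hg, hg'm, hg', hc, hc', hgμ, hg'μ, hgs, hgs', hHm, hHμ, -, hcase2⟩ :=
    factor_data_ff p hs hs2 hsp hr.pos A hι hinv (show A ^ (s * r) = 1 by rwa [mul_comm]) hAr
  have hμd := (minpoly_natDegree_le_card A).trans hι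
  have hμ0 := minpoly.ne_zero (Matrix.isIntegral (R := F) A)
  by_cases hmeet : ¬ f ∣ X ^ r - 1 ∨ ¬ f' ∣ X ^ r - 1
  · right
    have key : ∀ φ : F[X], φ ∣ minpoly F A → ¬ φ ∣ X ^ r - 1 →
        ∀ N, φ ∣ X ^ N - 1 → s ∣ N := by
      intro φ hφμ hφr N hN
      refine root_dvd hs (hφμ.trans (minpoly.dvd F _ ?_)) hφr hN
      rw [mul_comm, map_sub, map_pow, aeval_X, hA, map_one, sub_self]
    rcases hcase with ⟨hff, -, e, he, hde, hfe, hre⟩ | ⟨hff, -, hdn, hfe, hre⟩
    · rw [hff, or_self] at hmeet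
      have := (natDegree_le_of_dvd hfμ hμ0).trans hμd
      exact ⟨e, he, by omega,
        Or.inl (hco.mul_dvd_of_dvd_of_dvd hre (key f hfμ hmeet _ hfe))⟩
    · refine ⟨d, hd ▸ hf.natDegree_pos, by omega, Or.inr (hco.mul_dvd_of_dvd_of_dvd hre ?_)⟩
      rcases hmeet with h | h
      · exact key f hfμ h _ hfe
      · obtain ⟨hq', -⟩ := exists_partner_ff A hN hA hinv hf'm hf' hf'μ
        rw [hd'] at hq'
        exact key f' hf'μ h _ hq'
  · left
    push Not at hmeet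
    obtain ⟨hfr, hfr'⟩ := hmeet
    have hsep : ∀ φ ψ : F[X], φ.Monic → Irreducible φ → φ ∣ X ^ r - 1 → ψ.Monic → Irreducible ψ →
        ¬ ψ ∣ X ^ r - 1 → IsCoprime φ ψ := fun φ ψ h1 h2 h3 h4 h5 h6 =>
      h2.coprime_iff_not_dvd.2 fun h =>
        h6 (eq_of_monic_of_associated h1 h4 (h2.associated_of_dvd h5 h) ▸ h3)
    have hco' : IsCoprime G H := by
      have c1 := hsep f g hfm hf hfr hgm hg hgs
      have c2 := hsep f g' hfm hf hfr hg'm hg' hgs'
      have c3 := hsep f' g hf'm hf' hfr' hgm hg hgs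
      have c4 := hsep f' g' hf'm hf' hfr' hg'm hg' hgs'
      rcases hcase with ⟨-, rfl, -⟩ | ⟨-, rfl, -⟩ <;> rcases hcase2 with ⟨-, rfl, -⟩ | ⟨-, rfl, -⟩
      · exact c1
      · exact c1.mul_right c2
      · exact c1.mul_left c3
      · exact (c1.mul_right c2).mul_left (c3.mul_right c4)
    have hdeg := (natDegree_le_of_dvd (hco'.mul_dvd hGμ hHμ) hμ0).trans hμd
    rw [natDegree_mul hGm.ne_zero hHm.ne_zero] at hdeg
    have b1 : 2 * etaOf (Nat.card F) r ≤ G.natDegree := by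
      rcases hcase with ⟨-, rfl, e, he, hde, -, hre⟩ | ⟨-, rfl, -, -, hre⟩
      · have := etaOf_le he (Or.inl hre)
        omega
      · have := etaOf_le (hd ▸ hf.natDegree_pos) (Or.inr hre)
        rw [natDegree_mul hf.ne_zero hf'.ne_zero, hd, hd']
        omega
    have b2 : 2 * etaOf (Nat.card F) s ≤ H.natDegree := by
      rcases hcase2 with ⟨-, rfl, e, he, hde, -, hre⟩ | ⟨-, rfl, -, -, hre⟩
      · have := etaOf_le he (Or.inl hre)
        omega
      · have := etaOf_le (hc ▸ hg.natDegree_pos) (Or.inr hre)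
        rw [natDegree_mul hg.ne_zero hg'.ne_zero, hc, hc']
        omega
    omega

/-- An element of order `r * p` leaves room for a unipotent part. -/
theorem condB_of_matrix {n r : ℕ} (hn : 2 ≤ n) (hr : r.Prime) (hr2 : r ≠ 2) (hrp : r ≠ p)
    (A : Matrix ι ι F)
    (hι : Fintype.card ι ≤ 2 * n + 1) (hinv : InvClosed A) (hA : A ^ (r * p) = 1)
    (hAp : A ^ p ≠ 1) (hAr : A ^ r ≠ 1) : etaOf (Nat.card F) r ≤ n - 1 := by
  have hp : p.Prime := Fact.out
  by_contra hlt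
  obtain ⟨f, f', G, d, hfm, hf, hf'm, hf', hd, hd', hfμ, hf'μ, -, -, hGm, hGμ, hG, hcase⟩ :=
    factor_data_ff p hr hr2 hrp hp.pos A hι hinv hA hAp
  have hμd := (minpoly_natDegree_le_card A).trans hι
  have hint := Matrix.isIntegral (R := F) A
  have hdeg : 2 * n ≤ G.natDegree ∧ 2 ≤ d := by
    rcases hcase with ⟨-, rfl, e, he, hde, -, hre⟩ | ⟨-, rfl, -, -, hre⟩
    · have := etaOf_le he (Or.inl hre)
      omega
    · have := etaOf_le (hd ▸ hf.natDegree_pos) (Or.inr hre)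
      rw [natDegree_mul hf.ne_zero hf'.ne_zero, hd, hd']
      omega
  have hμX : minpoly F A ∣ (X ^ r - 1) ^ p := by
    refine minpoly.dvd F _ ?_
    rw [sub_pow_char, one_pow, ← pow_mul, map_sub, map_pow, aeval_X, hA, map_one, sub_self]
  obtain ⟨h, hh⟩ := hGμ
  have hh0 : h ≠ 0 := by
    rintro rfl
    rw [mul_zero] at hh
    exact minpoly.ne_zero hint hh
  rw [hh, natDegree_mul hGm.ne_zero hh0] at hμd
  have hGX : G ∣ X ^ r - 1 := hG _ (hf.prime.dvd_of_dvd_pow (hfμ.trans hμX))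
    (hf'.prime.dvd_of_dvd_pow (hf'μ.trans hμX))
  have hdvd : minpoly F A ∣ X ^ r - 1 := by
    rw [hh]
    rcases Nat.eq_zero_or_pos h.natDegree with h0 | h0
    · have hu : IsUnit h := isUnit_iff_degree_eq_zero.2 (by
        rw [degree_eq_natDegree hh0, h0]; rfl)
      exact hu.mul_right_dvd.2 hGX
    · have hhi : Irreducible h := irreducible_of_degree_eq_one (by
        rw [degree_eq_natDegree hh0]; norm_cast; omega)
      refine (IsCoprime.symm (hhi.coprime_iff_not_dvd.2 fun hd0 => ?_)).mul_dvd hGX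
        (hhi.prime.dvd_of_dvd_pow ((hh ▸ dvd_mul_left h G).trans hμX))
      have key : ∀ φ : F[X], Irreducible φ → φ.natDegree = d → ¬ h ∣ φ := fun φ hφ hφd hdv => by
        have := natDegree_eq_of_degree_eq
          (degree_eq_degree_of_associated (hhi.associated_of_dvd hφ hdv))
        omega
      rcases hcase with ⟨-, rfl, -⟩ | ⟨-, rfl, -⟩
      · exact key _ hf hd hd0
      · rcases hhi.prime.dvd_or_dvd hd0 with h1 | h1
        · exact key _ hf hd h1
        · exact key _ hf' hd' h1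
  obtain ⟨w, hw⟩ := hdvd
  have h1 := congrArg (aeval A) hw
  rw [map_mul, minpoly.aeval, zero_mul, map_sub, map_pow, aeval_X, map_one, sub_eq_zero] at h1
  exact hAr h1

end

end Cfsg.Agent.H55
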