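/-
Elements of Omega(2n+1, q), q odd, from commutative algebras with involution.
-/
import Cfsg.Agent.Orthogonal.Spinor
import Cfsg.Agent.Orthogonal.StdForms
import Cfsg.Agent.H58.OrthoAut
import Cfsg.Agent.H55.PSLPrimeGraph

set_option autoImplicit false
set_option linter.unusedSectionVars false

namespace Cfsg.Agent.H55

open Cfsg.Agent.Orthogonal QuadraticMap Module

section

variable {F : Type*} [Field F]

/-- A symmetric non-degenerate pairing `(a, b) ↦ φ (a * σ b)`. -/
structure OrthAlg (F R : Type*) [Field F] [CommRing R] [Algebra F R] where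
  /-- the involution -/
  σ : R →ₐ[F] R
  /-- the functional -/
  φ : R →ₗ[F] F
  inv : ∀ a, σ (σ a) = a
  even : ∀ a, φ (σ a) = φ a
  nondeg : ∀ a, (∀ b, φ (a * b) = 0) → a = 0

/-- The product. -/
def OrthAlg.prod {R S : Type*} [CommRing R] [Algebra F R] [CommRing S] [Algebra F S]
    (P : OrthAlg F R) (Q : OrthAlg F S) : OrthAlg F (R × S) where
  σ := (P.σ.comp (AlgHom.fst F R S)).prod (Q.σ.comp (AlgHom.snd F R S))
  φ := P.φ.comp (LinearMap.fst F R S) + Q.φ.comp (LinearMap.snd F R S)
  inv a := by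
    obtain ⟨a, b⟩ := a
    simp [P.inv, Q.inv]
  even a := by
    obtain ⟨a, b⟩ := a
    simp [P.even, Q.even]
  nondeg := by
    rintro ⟨a, b⟩ h
    refine Prod.ext (P.nondeg a fun c => ?_) (Q.nondeg b fun c => ?_)
    · simpa using h (c, 0)
    · simpa using h (0, c)

/-- The sum of squares. -/
noncomputable def OrthAlg.pad (F : Type*) [Field F] (j : ℕ) : OrthAlg F (Fin j → F) where
  σ := AlgHom.id F _
  φ := ∑ i : Fin j, LinearMap.proj i
  inv a := rfl
  even a := rfl
  nondeg a h := by
    classical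
    funext i
    simpa [Pi.single_apply] using h (Pi.single i 1)

/-- The bilinear form. -/
noncomputable def OrthAlg.bil {R : Type*} [CommRing R] [Algebra F R] (P : OrthAlg F R) :
    LinearMap.BilinMap F R F :=
  (LinearMap.mul F R).compr₂ P.φ |>.compl₂ P.σ.toLinearMap

theorem exists_O_of_alg [Finite F] (n : ℕ) {R : Type*} [CommRing R] [Algebra F R]
    [FiniteDimensional F R] (P : OrthAlg F R) (h2 : (2 : F) ≠ 0)
    (hfin : finrank F R = 2 * n + 1) (u : R) (hu : u * P.σ u = 1) :
    ∃ G : O (formOdd F n), ∀ h : ℕ, G ^ h = 1 ↔ u ^ h = 1 := by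
  set Q : QuadraticForm F R := LinearMap.BilinMap.toQuadraticMap P.bil with hQdef
  have hQa : ∀ a, Q a = P.φ (a * P.σ a) := fun a => rfl
  have hsym : ∀ a b, P.φ (b * P.σ a) = P.φ (a * P.σ b) := fun a b => by
    rw [← P.even (a * P.σ b), map_mul P.σ, P.inv, mul_comm b]
  have hQ : Nondeg Q := by
    intro x hx
    refine P.nondeg x fun b => ?_
    have h := hx (P.σ b)
    rw [hQdef, LinearMap.BilinMap.polar_toQuadraticMap] at h
    change P.φ (x * P.σ (P.σ b)) + P.φ (P.σ b * P.σ x) = 0 at h
    rw [P.inv, ← map_mul P.σ, P.even, mul_comm b] at h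
    exact (mul_eq_zero.1 (show (2 : F) * P.φ (x * b) = 0 by linear_combination h)).resolve_left h2
  obtain ⟨-, α, E, hα, hE⟩ := hQ.classify_odd hfin
  have hunit : P.σ u * u = 1 := by rw [mul_comm, hu]
  let g0 : R ≃ₗ[F] R :=
    LinearEquiv.ofLinearMap (LinearMap.mulLeft F u) (LinearMap.mulLeft F (P.σ u))
      (LinearMap.ext fun v => by simp [← mul_assoc, hu])
      (LinearMap.ext fun v => by simp [← mul_assoc, hunit])
  have hg0 : ∀ v, g0 v = u * v := fun v => rfl
  have hmem : (E.trans g0).trans E.symm ∈ O (formOdd F n) := by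
    intro x
    apply mul_left_cancel₀ hα
    rw [← hE, ← hE, LinearEquiv.trans_apply, LinearEquiv.trans_apply, LinearEquiv.apply_symm_apply,
      hg0, hQa, hQa, map_mul P.σ]
    congr 1
    linear_combination (E x * P.σ (E x)) * hu
  refine ⟨⟨_, hmem⟩, fun h => ?_⟩
  set G : O (formOdd F n) := ⟨_, hmem⟩
  have hpow : ∀ j : ℕ, ∀ x, ((G ^ j : O (formOdd F n)) : _ ≃ₗ[F] _) x = E.symm (u ^ j * E x) := by
    intro j
    induction j with
    | zero =>
      intro x
      rw [pow_zero, pow_zero, one_mul, LinearEquiv.symm_apply_apply]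
      rfl
    | succ j ih =>
      intro x
      rw [pow_succ, Subgroup.coe_mul, mul_app, ih]
      show E.symm (u ^ j * E (E.symm (g0 (E x)))) = _
      rw [LinearEquiv.apply_symm_apply, hg0, pow_succ, mul_assoc]
  constructor
  · intro e
    have h1 := hpow h (E.symm 1)
    rw [e, LinearEquiv.apply_symm_apply, mul_one] at h1
    exact (E.symm.injective h1).symm
  · intro e
    refine O.ext_app fun x => ?_
    rw [hpow, e, one_mul, LinearEquiv.symm_apply_apply]
    rfl

end

section

variable {F : Type*} [Field F] [Fintype F] {n : ℕ}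

/-- The standard identification, with the concrete form on the left. -/
noncomputable def toOdd (F : Type*) [Field F] (n : ℕ) :
    Cfsg.isometryGroup F (Cfsg.quadFormOdd n F) ≃* O (formOdd F n) :=
  toO (formOdd F n)

theorem toOdd_apply (g : Cfsg.isometryGroup F (Cfsg.quadFormOdd n F))
    (x : Unit ⊕ (Fin n ⊕ Fin n) → F) :
    (toOdd F n g : _ ≃ₗ[F] _) x = ((g : Matrix.GeneralLinearGroup (Unit ⊕ (Fin n ⊕ Fin n)) F) :
      Matrix (Unit ⊕ (Fin n ⊕ Fin n)) (Unit ⊕ (Fin n ⊕ Fin n)) F).mulVec x :=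
  toO_apply (formOdd F n) g x

theorem mem_omega_odd (g : Cfsg.isometryGroup F (Cfsg.quadFormOdd n F)) :
    g ∈ Cfsg.Omega F (Cfsg.quadFormOdd n F) ↔ toOdd F n g ∈ commutator (O (formOdd F n)) :=
  mem_omega_iff (formOdd F n) g

theorem sq_mem_omega (h2 : (2 : F) ≠ 0) (g : Cfsg.isometryGroup F (Cfsg.quadFormOdd n F)) :
    g ^ 2 ∈ Cfsg.Omega F (Cfsg.quadFormOdd n F) := by
  refine (mem_omega_odd (g ^ 2)).2 ?_
  rw [map_pow, mem_commutator_iff (formOdd_nondeg F n h2) h2, map_pow, map_pow, Int.units_sq,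
    Int.units_sq]
  exact ⟨rfl, rfl⟩

theorem center_omega_eq_bot (h2 : (2 : F) ≠ 0) (hn : 2 ≤ n) :
    Subgroup.center (Cfsg.Omega F (Cfsg.quadFormOdd n F)) = ⊥ := by
  rw [Subgroup.eq_bot_iff_forall]
  intro z hz
  obtain ⟨l, hl⟩ := Cfsg.Agent.H58.OrthoAut.eq_smul_of_mem_center (Q := formOdd F n)
    (formOdd_nondeg F n h2) (by simp; omega) hz
  have happ : ∀ x : Unit ⊕ (Fin n ⊕ Fin n) → F,
      (toOdd F n z.1 : _ ≃ₗ[F] _) x = l • x := fun x => by
    rw [toOdd_apply]; exact hl x
  have hmap : ((toOdd F n z.1 :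
      (Unit ⊕ (Fin n ⊕ Fin n) → F) ≃ₗ[F] (Unit ⊕ (Fin n ⊕ Fin n) → F)) :
      (Unit ⊕ (Fin n ⊕ Fin n) → F) →ₗ[F] (Unit ⊕ (Fin n ⊕ Fin n) → F)) = l • LinearMap.id :=
    LinearMap.ext fun x => happ x
  have hl2 : l * l = 1 := by
    obtain ⟨v, hv⟩ : ∃ v, formOdd F n v = 1 :=
      ⟨Pi.single (.inl ()) 1, by simp [formOdd_coe, Cfsg.quadFormOdd]⟩
    have h := O.map_app (toOdd F n z.1) v
    rw [happ, qmap_smul, hv, mul_one, pow_two] at h
    exact h
  have hdet := ((mem_commutator_iff (formOdd_nondeg F n h2) h2 _).1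
    ((mem_omega_odd z.1).1 z.2)).1
  rw [detSign_eq_one_iff, hmap, LinearMap.det_smul, LinearMap.det_id, mul_one,
    finrank_formOdd, pow_succ, pow_mul, pow_two, hl2, one_pow, one_mul] at hdet
  refine Subtype.ext ((toOdd F n).injective (O.ext_app fun x => ?_))
  rw [happ, hdet, one_smul, OneMemClass.coe_one, map_one]
  rfl

theorem orderOf_pomega_mk (h2 : (2 : F) ≠ 0) (hn : 2 ≤ n)
    (z : Cfsg.Omega F (Cfsg.quadFormOdd n F)) :
    orderOf (QuotientGroup.mk' (Subgroup.center (Cfsg.Omega F (Cfsg.quadFormOdd n F))) z) =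
      orderOf z := by
  refine orderOf_injective _ ?_ z
  rw [← MonoidHom.ker_eq_bot_iff, QuotientGroup.ker_mk', center_omega_eq_bot h2 hn]

/-- A unit gives an element of POmega whose order is a multiple of the order of its square. -/
theorem exists_pomega_of_alg {R : Type*} [CommRing R] [Algebra F R] [FiniteDimensional F R]
    (P : OrthAlg F R) (h2 : (2 : F) ≠ 0) (hn : 2 ≤ n) (hfin : finrank F R ≤ 2 * n + 1) (u : R)
    (hu : u * P.σ u = 1) :
    ∃ y : Cfsg.POmega F (Cfsg.quadFormOdd n F), orderOf (u ^ 2) ∣ orderOf y := by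
  set j := 2 * n + 1 - finrank F R
  have hfin' : finrank F (R × (Fin j → F)) = 2 * n + 1 := by
    rw [Module.finrank_prod, Module.finrank_fin_fun]; omega
  obtain ⟨G, hG⟩ := exists_O_of_alg n (P.prod (OrthAlg.pad F j)) h2 hfin' (u, 1) (by
    show (u * P.σ u, 1 * (OrthAlg.pad F j).σ 1) = 1
    rw [hu, map_one, mul_one]; rfl)
  let g : Cfsg.isometryGroup F (Cfsg.quadFormOdd n F) := (toOdd F n).symm G
  let z : Cfsg.Omega F (Cfsg.quadFormOdd n F) := ⟨g ^ 2, sq_mem_omega h2 g⟩
  refine ⟨QuotientGroup.mk' _ z, ?_⟩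
  rw [orderOf_pomega_mk h2 hn]
  apply orderOf_dvd_of_pow_eq_one
  have h1 : z ^ orderOf z = 1 := pow_orderOf_eq_one z
  have h3 : G ^ (2 * orderOf z) = 1 := by
    have h4 : (g ^ 2) ^ orderOf z = 1 := congrArg Subtype.val h1
    rw [← pow_mul] at h4
    have := congrArg (toOdd F n) h4
    rwa [map_pow, map_one, MulEquiv.apply_symm_apply] at this
  rw [← pow_mul]
  exact congrArg Prod.fst ((hG _).1 h3)

end

/-- `GO(2e, q)` has a torus element of order `M`. -/
def HasOrthTorus (F : Type*) [Field F] (e M : ℕ) : Prop :=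
  ∃ (R : Type) (_ : CommRing R) (_ : Algebra F R) (_ : FiniteDimensional F R) (P : OrthAlg F R)
    (u : R), Module.finrank F R = 2 * e ∧ u * P.σ u = 1 ∧ orderOf u = M

section

universe u

variable {F : Type u} [Field F]

theorem HasOrthTorus.prod {a b M N : ℕ} (h1 : HasOrthTorus F a M) (h2 : HasOrthTorus F b N) :
    HasOrthTorus F (a + b) (Nat.lcm M N) := by
  obtain ⟨R, _, _, _, P, u, hR, hu, hM⟩ := h1
  obtain ⟨S, _, _, _, Q, v, hS, hv, hN⟩ := h2
  refine ⟨R × S, inferInstance, inferInstance, inferInstance, P.prod Q, (u, v),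
    by rw [Module.finrank_prod, hR, hS]; ring, ?_, by rw [Prod.orderOf, hM, hN]⟩
  show (u * P.σ u, v * Q.σ v) = 1
  rw [hu, hv]; rfl

variable [Finite F] (p : ℕ) [Fact p.Prime] [CharP F p]

include p in
theorem hasOrthTorus {e M : ℕ} (he : 1 ≤ e)
    (hM : M ∣ Nat.card F ^ e + 1 ∨ M ∣ Nat.card F ^ e - 1) : HasOrthTorus F e M := by
  cases nonempty_fintype F
  have hq : 1 < Nat.card F := Finite.one_lt_card
  have hqe : 1 < Nat.card F ^ e := Nat.one_lt_pow (by omega) hq
  have down : ∀ {R : Type} [CommRing R] (σ : R →+* R) (w : R) (N : ℕ), 0 < N → w * σ w = 1 →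
      orderOf w = N → M ∣ N → ∃ u : R, u * σ u = 1 ∧ orderOf u = M := by
    intro R _ σ w N hN hw hord hd
    have hM0 : M ≠ 0 := fun h => hN.ne' (Nat.eq_zero_of_zero_dvd (h ▸ hd))
    refine ⟨w ^ (N / M), by rw [map_pow, ← mul_pow, hw, one_pow], ?_⟩
    rw [orderOf_pow_of_dvd (Nat.div_ne_zero_iff.2 ⟨hM0, Nat.le_of_dvd hN hd⟩)
      (by rw [hord]; exact Nat.div_dvd_of_dvd hd), hord, Nat.div_div_self hd hN.ne']
  have key : ∀ (K : Type) [Field K] [Algebra F K] [FiniteDimensional F K] (x : K),
      (∀ c, Algebra.trace F K (x * c) = 0) → x = 0 := fun K _ _ _ x hx =>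
    (traceForm_nondegenerate F K).1 x (fun c => by rw [Algebra.traceForm_apply]; exact hx c)
  rcases hM with hM | hM
  · have : NeZero (2 * e) := ⟨by omega⟩
    set K := FiniteField.Extension F p (2 * e)
    have hK : Nat.card K = Nat.card F ^ (2 * e) := FiniteField.natCard_extension F p (2 * e)
    let σ : K ≃ₐ[F] K := FiniteField.Extension.frob F p (2 * e) ^ e
    have hσ : ∀ x, σ x = x ^ (Nat.card F ^ e) := fun x =>
      FiniteField.Extension.frob_iterate_apply F p (2 * e) e
    let P : OrthAlg F K :=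
      { σ := σ.toAlgHom
        φ := Algebra.trace F K
        inv := fun x => by
          have : Fintype K := Fintype.ofFinite _
          show σ (σ x) = x
          rw [hσ, hσ, ← pow_mul, ← pow_add, ← two_mul, ← hK, Nat.card_eq_fintype_card,
            FiniteField.pow_card]
        even := fun a => Algebra.trace_eq_of_algEquiv σ a
        nondeg := key K }
    have hNq : (Nat.card F ^ e - 1) * (Nat.card F ^ e + 1) = Nat.card F ^ (2 * e) - 1 := by
      rw [mul_comm, pow_mul']
      simpa using (Nat.sq_sub_sq (Nat.card F ^ e) 1).symm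
    obtain ⟨g, hg⟩ := IsCyclic.exists_ofOrder_eq_natCard (α := Kˣ)
    rw [Nat.card_units, hK] at hg
    have hord : orderOf ((g : K) ^ (Nat.card F ^ e - 1)) = Nat.card F ^ e + 1 := by
      rw [orderOf_pow_of_dvd (by omega) (by rw [orderOf_units, hg, ← hNq]; exact dvd_mul_right _ _),
        orderOf_units, hg, ← hNq, Nat.mul_div_cancel_left _ (by omega)]
    obtain ⟨u, hu1, hu2⟩ := down σ.toAlgHom.toRingHom ((g : K) ^ (Nat.card F ^ e - 1)) _
      (by omega) (by show _ * σ _ = 1; rw [hσ, ← pow_succ', ← hord, pow_orderOf_eq_one]) hord hM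
    exact ⟨K, inferInstance, inferInstance, inferInstance, P, u,
      FiniteField.finrank_extension F p (2 * e), hu1, hu2⟩
  · have : NeZero e := ⟨by omega⟩
    set K := FiniteField.Extension F p e
    obtain ⟨g, hg⟩ := IsCyclic.exists_ofOrder_eq_natCard (α := Kˣ)
    rw [Nat.card_units, FiniteField.natCard_extension] at hg
    let P : OrthAlg F (K × K) :=
      { σ := (AlgHom.snd F K K).prod (AlgHom.fst F K K)
        φ := (Algebra.trace F K).comp (LinearMap.fst F K K) +
          (Algebra.trace F K).comp (LinearMap.snd F K K)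
        inv := fun a => rfl
        even := fun a => by simp [add_comm]
        nondeg := by
          rintro ⟨a, b⟩ h
          exact Prod.ext (key K a fun c => by simpa using h (c, 0))
            (key K b fun c => by simpa using h (0, c)) }
    obtain ⟨u, hu1, hu2⟩ := down P.σ.toRingHom
      (((g : K), ((g⁻¹ : Kˣ) : K))) (Nat.card F ^ e - 1) (by omega)
      (by show ((g : K), ((g⁻¹ : Kˣ) : K)) * (((g⁻¹ : Kˣ) : K), (g : K)) = 1; simp)
      (by rw [Prod.orderOf, orderOf_units, orderOf_units, orderOf_inv, Nat.lcm_self, hg]) hM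
    exact ⟨K × K, inferInstance, inferInstance, inferInstance, P, u,
      by rw [Module.finrank_prod, FiniteField.finrank_extension]; ring, hu1, hu2⟩

include p in
/-- A three-dimensional algebra with a unipotent element of order `p`. -/
theorem exists_unipotent_three (h2 : (2 : F) ≠ 0) :
    ∃ (R : Type u) (_ : CommRing R) (_ : Algebra F R) (_ : FiniteDimensional F R) (P : OrthAlg F R)
      (u : R), Module.finrank F R = 3 ∧ u * P.σ u = 1 ∧ orderOf u = p := by
  open Polynomial in
  set f : F[X] := (X : F[X]) ^ 3 with hf0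
  open Polynomial in
  have hf : f.Monic := monic_X_pow _
  let pb := AdjoinRoot.powerBasis' hf
  have hdim : pb.dim = 3 := by simp [pb, f]
  set t := AdjoinRoot.root f with ht
  have ht0 : t ^ 3 = 0 := by
    rw [ht, ← AdjoinRoot.mk_X, ← map_pow, AdjoinRoot.mk_self]
  let σ : AdjoinRoot f →ₐ[F] AdjoinRoot f :=
    AdjoinRoot.liftAlgHom f (Algebra.ofId F _) (-t) (by
      simp only [f, Polynomial.eval₂_pow, Polynomial.eval₂_X]
      rw [neg_pow, ht0, mul_zero])
  have hσt : σ t = -t := AdjoinRoot.liftAlgHom_root _ _ _ _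
  have hσσ : ∀ a, σ (σ a) = a := fun a => by
    have : σ.comp σ = AlgHom.id F _ := AdjoinRoot.algHom_ext (by
      rw [AlgHom.comp_apply, ← ht, hσt, map_neg, hσt, neg_neg, AlgHom.id_apply])
    exact AlgHom.congr_fun this a
  let φ : AdjoinRoot f →ₗ[F] F := pb.basis.coord ⟨2, by omega⟩
  have hb : ∀ i, pb.basis i = t ^ (i : ℕ) := fun i => by rw [pb.coe_basis]; rfl
  have hφb : ∀ i, φ (pb.basis i) = if (i : ℕ) = 2 then 1 else 0 := fun i => by
    show pb.basis.coord _ _ = _
    rw [Module.Basis.coord_apply, Module.Basis.repr_self, Finsupp.single_apply]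
    simp [Fin.ext_iff, eq_comm]
  have heven : ∀ a, φ (σ a) = φ a := by
    intro a
    have : φ.comp σ.toLinearMap = φ := pb.basis.ext fun i => by
      rw [LinearMap.comp_apply, AlgHom.toLinearMap_apply, hb, map_pow, hσt, neg_pow]
      rcases neg_one_pow_eq_or (AdjoinRoot f) (i : ℕ) with e | e
      · rw [e, one_mul]
      · rw [e, neg_one_mul, map_neg, ← hb, hφb]
        split_ifs with h
        · rw [h] at e
          rw [neg_one_sq] at e
          have h1 : (2 : F) • (1 : AdjoinRoot f) = 0 := by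
            rw [two_smul]
            conv_lhs => arg 2; rw [e]
            rw [add_neg_cancel]
          exfalso
          apply h2
          have hone : (1 : AdjoinRoot f) = pb.basis ⟨0, by omega⟩ := by rw [hb]; simp
          rw [hone] at h1
          exact (smul_eq_zero.1 h1).resolve_right (pb.basis.ne_zero _)
        · rw [neg_zero]
    exact LinearMap.congr_fun this a
  have hnd : ∀ a, (∀ b, φ (a * b) = 0) → a = 0 := by
    intro a ha
    apply pb.basis.repr.injective
    rw [map_zero]
    ext i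
    rw [Finsupp.zero_apply]
    induction hi : (i : ℕ) using Nat.strong_induction_on generalizing i with
    | _ j ih =>
      have h := ha (t ^ (2 - j))
      rw [← pb.basis.sum_repr a, Finset.sum_mul, map_sum, Finset.sum_eq_single i] at h
      · rw [Algebra.smul_mul_assoc, map_smul, hb, ← pow_add,
          show (i : ℕ) + (2 - j) = ((⟨2, by omega⟩ : Fin pb.dim) : ℕ) by
            have := i.isLt; simp only; omega, ← hb, hφb] at h
        simpa using h
      · intro i' _ hne
        rw [Algebra.smul_mul_assoc, map_smul, hb, ← pow_add]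
        by_cases hlt : (i' : ℕ) < j
        · rw [ih _ hlt i' rfl, zero_smul]
        · have : (i' : ℕ) ≠ j := fun e => hne (Fin.ext (e.trans hi.symm))
          have := i.isLt
          rw [show (i' : ℕ) + (2 - j) = 3 + ((i' : ℕ) + (2 - j) - 3) by omega, pow_add, ht0,
            zero_mul, map_zero, smul_zero]
      · simp
  let c : F := (2 : F)⁻¹
  let u : AdjoinRoot f := 1 + t + algebraMap F _ c * t ^ 2
  have hc : algebraMap F (AdjoinRoot f) c * 2 = 1 := by
    rw [← map_ofNat (algebraMap F (AdjoinRoot f)) 2, ← map_mul, inv_mul_cancel₀ h2, map_one]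
  refine ⟨AdjoinRoot f, inferInstance, inferInstance, pb.finite, ⟨σ, φ, hσσ, heven, hnd⟩, u,
    by rw [pb.finrank, hdim], ?_, ?_⟩
  · show u * σ u = 1
    simp only [u, map_add, map_one, map_mul, map_pow, hσt, AlgHom.commutes]
    linear_combination (t ^ 2) * hc + (algebraMap F (AdjoinRoot f) c ^ 2 * t) * ht0
  · have : Nontrivial (AdjoinRoot f) := Module.nontrivial_of_finrank_pos (R := F)
      (by rw [pb.finrank, hdim]; norm_num)
    have : CharP (AdjoinRoot f) p :=
      charP_of_injective_algebraMap (algebraMap F (AdjoinRoot f)).injective p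
    refine orderOf_eq_prime ?_ ?_
    · have hp3 : 3 ≤ p := by
        have hp := (Fact.out : p.Prime).two_le
        rcases Nat.lt_or_ge p 3 with h | h
        · obtain rfl : p = 2 := by omega
          exact absurd (by simpa using CharP.cast_eq_zero F 2) h2
        · exact h
      simp only [u]
      rw [add_pow_char, add_pow_char, one_pow, mul_pow, ← pow_mul,
        show p = 3 + (p - 3) by omega, pow_add t, ht0,
        show 2 * (3 + (p - 3)) = 3 + (3 + 2 * (p - 3)) by omega, pow_add t 3, ht0]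
      simp
    · intro h
      have h1 : φ (t * (u - 1)) = 0 := by rw [h, sub_self, mul_zero, map_zero]
      have h2' : t * (u - 1) = pb.basis ⟨2, by omega⟩ := by
        rw [hb]
        simp only [u]
        linear_combination (algebraMap F (AdjoinRoot f) c) * ht0
      rw [h2', hφb] at h1
      simp at h1

end

end Cfsg.Agent.H55
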