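/-
Adjacency criteria in the prime graph of PSp(2n, q), q odd.
-/
import Cfsg.Agent.H55.FormFactor
import Cfsg.Agent.H55.SpOrders
import Cfsg.Agent.H55.PSLPrimeGraph

set_option autoImplicit false
set_option linter.unusedSectionVars false

namespace Cfsg.Agent.H55

open Polynomial Cfsg.Agent.Symplectic

variable {F : Type*} [Field F] [Fintype F] {n : ℕ} (p : ℕ) [Fact p.Prime] [CharP F p]

theorem four_dvd_torus {q : ℕ} (hq : Odd q) : 4 ∣ q ^ 1 + 1 ∨ 4 ∣ q ^ 1 - 1 := by
  obtain ⟨a, rfl⟩ := hq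
  rw [pow_one]
  omega

/-- `2` and the odd prime `r` are adjacent. -/
def CondD (q n r : ℕ) : Prop :=
  etaOf q r ≤ n - 1 ∨ (4 * r ∣ q ^ n + 1 ∨ 4 * r ∣ q ^ n - 1)

/-- An element of odd order is never minus one. -/
theorem pow_ne_neg_one {R : Type*} [CommRing R] [Algebra F R] (h2 : (2 : F) ≠ 0) {w : R} {r : ℕ}
    (hodd : Odd r) (hr : r ≠ 1) (hw : orderOf w = r) (h : ℕ) : w ^ h ≠ -1 := by
  intro e
  have : Nontrivial R := by
    by_contra hc
    rw [not_nontrivial_iff_subsingleton] at hc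
    exact hr (by rw [← hw, Subsingleton.elim w 1, orderOf_one])
  have e3 : (-1 : R) ^ r = 1 := by
    rw [← e, ← pow_mul, mul_comm, pow_mul, ← hw, pow_orderOf_eq_one, one_pow]
  rw [hodd.neg_one_pow] at e3
  refine h2 ((algebraMap F R).injective ?_)
  rw [map_ofNat, map_zero]
  linear_combination -e3

/-- A unit none of whose powers is `-1` keeps its order in PSp. -/
theorem exists_psp_of_alg_no_neg {R : Type*} [CommRing R] [Algebra F R] [FiniteDimensional F R]
    (P : SpAlg F R) (hP : P.Alt) {e M : ℕ} (hen : e ≤ n) (hn : 1 ≤ n)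
    (hfin : Module.finrank F R = 2 * e) (u : R) (hu : u * P.σ u = 1) (hord : orderOf u = M)
    (hneg : ∀ h : ℕ, u ^ h ≠ -1) : ∃ y : Cfsg.PSp n F, M ∣ orderOf y := by
  have hfin' : Module.finrank F (R × ((Fin (n - e) → F) × (Fin (n - e) → F))) = 2 * n := by
    rw [Module.finrank_prod, Module.finrank_prod, Module.finrank_fin_fun, hfin]; omega
  obtain ⟨g, hg⟩ := exists_spOf' (P.prod (SpAlg.pad F (n - e))) (hP.prod (SpAlg.pad_alt _)) hfin'
    (u, 1) (by
      show (u * P.σ u, 1 * (SpAlg.pad F (n - e)).σ 1) = 1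
      rw [hu, map_one, mul_one]; rfl)
  refine ⟨toPSp g, ?_⟩
  rw [← hord]
  apply orderOf_dvd_of_pow_eq_one
  rcases (toPSp_pow_eq_one_iff hn g _).1 (pow_orderOf_eq_one (toPSp g)) with e1 | e1
  · exact congrArg Prod.fst (((hg _).1).1 e1)
  · exact absurd (congrArg Prod.fst (((hg _).2).1 e1)) (hneg _)

theorem invClosed_sp (A : Matrix.symplecticGroup (Fin n) F) : InvClosed (A : Mat n F) :=
  InvClosed.of_form ((Matrix.isUnit_iff_isUnit_det _).2 (Matrix.isUnit_det_J _ _))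
    (SymplecticGroup.mem_iff'.1 A.2)

theorem exists_odd_matrix_sp {r s : ℕ} (hn : 1 ≤ n) (hr : r.Prime) (hs : s.Prime) (ho : Odd (r * s))
    (h : r * s ∈ Set.range (orderOf : Cfsg.PSp n F → ℕ)) :
    ∃ A : Matrix.symplecticGroup (Fin n) F, (A : Mat n F) ^ (r * s) = 1 ∧
      (A : Mat n F) ^ s ≠ 1 ∧ (A : Mat n F) ^ r ≠ 1 := by
  obtain ⟨y, hy⟩ := h
  obtain ⟨A, hA, hAM⟩ := exists_lift_sp hn y hy (Or.inl ho)
  refine ⟨A, hAM, ?_, ?_⟩ <;> intro e
  · have hd := hA ▸ orderOf_dvd_of_pow_eq_one ((toPSp_pow_eq_one_iff hn A s).2 (Or.inl e))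
    exact absurd (Nat.le_of_dvd hs.pos hd)
      (by have := Nat.mul_lt_mul_of_pos_right hr.one_lt hs.pos; omega)
  · have hd := hA ▸ orderOf_dvd_of_pow_eq_one ((toPSp_pow_eq_one_iff hn A r).2 (Or.inl e))
    exact absurd (Nat.le_of_dvd hr.pos hd)
      (by have := Nat.mul_lt_mul_of_pos_left hs.one_lt hr.pos; omega)

include p in
theorem sp_adj_odd_iff {r s : ℕ} (hn : 1 ≤ n) (hr : r.Prime) (hs : s.Prime) (hr2 : r ≠ 2)
    (hs2 : s ≠ 2) (hrp : r ≠ p) (hsp : s ≠ p) (hrs : r ≠ s) :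
    r * s ∈ Set.range (orderOf : Cfsg.PSp n F → ℕ) ↔ CondA (Nat.card F) n r s := by
  have ho : Odd (r * s) := (hr.odd_of_ne_two hr2).mul (hs.odd_of_ne_two hs2)
  constructor
  · intro h
    obtain ⟨A, hA, hAs, hAr⟩ := exists_odd_matrix_sp hn hr hs ho h
    exact condA_of_matrix p hr hs hr2 hs2 hrp hsp hrs (A : Mat n F) (by simp; omega)
      (invClosed_sp A) hA hAs hAr
  · rintro (h | ⟨e, he, hen, h⟩)
    · obtain ⟨hr0, hr'⟩ := etaOf_spec (F := F) p hr hrp
      obtain ⟨hs0, hs'⟩ := etaOf_spec (F := F) p hs hsp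
      obtain ⟨y, hy⟩ := ((hasTorus (F := F) p hr0 hr').prod (hasTorus (F := F) p hs0 hs')).exists_psp
        h hn (Or.inl (by rwa [((Nat.coprime_primes hr hs).2 hrs).lcm_eq_mul]))
      rw [((Nat.coprime_primes hr hs).2 hrs).lcm_eq_mul] at hy
      exact mem_range_orderOf_of_dvd hy
    · obtain ⟨y, hy⟩ := (hasTorus (F := F) p he h).exists_psp hen hn (Or.inl ho)
      exact mem_range_orderOf_of_dvd hy

include p in
theorem sp_adj_char_iff {r : ℕ} (hn : 2 ≤ n) (hp2 : p ≠ 2) (hr : r.Prime) (hr2 : r ≠ 2)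
    (hrp : r ≠ p) :
    r * p ∈ Set.range (orderOf : Cfsg.PSp n F → ℕ) ↔ etaOf (Nat.card F) r ≤ n - 1 := by
  have hp : p.Prime := Fact.out
  have ho : Odd (r * p) := (hr.odd_of_ne_two hr2).mul (hp.odd_of_ne_two hp2)
  constructor
  · intro h
    obtain ⟨A, hA, hAs, hAr⟩ := exists_odd_matrix_sp (by omega) hr hp ho h
    exact condB_of_matrix p hn hr hr2 hrp (A : Mat n F) (by simp; omega) (invClosed_sp A) hA hAs hAr
  · intro h
    obtain ⟨hr0, hr'⟩ := etaOf_spec (F := F) p hr hrp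
    obtain ⟨R, _, _, _, P, u, hP, hR, hu, hM⟩ := hasTorus (F := F) p hr0 hr'
    obtain ⟨v, hv, hvp⟩ := exists_dual_elem (F := F) p
    obtain ⟨y, hy⟩ := exists_psp_of_alg (n := n) (P.prod (SpAlg.dual F)) (hP.prod SpAlg.dual_alt)
      (e := etaOf (Nat.card F) r + 1) (M := r * p) (by omega) (by omega)
      (by rw [Module.finrank_prod, hR, finrank_dual]; ring) (u, v)
      (by show (u * P.σ u, v * (SpAlg.dual F).σ v) = 1; rw [hu, hv]; rfl)
      (by rw [Prod.orderOf, hM, hvp, ((Nat.coprime_primes hr hp).2 hrp).lcm_eq_mul]) (Or.inl ho)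
    exact mem_range_orderOf_of_dvd hy

include p in
theorem sp_adj_two_char (hn : 2 ≤ n) (hp2 : p ≠ 2) (h2 : (2 : F) ≠ 0)
    (hq : Odd (Nat.card F)) : 2 * p ∈ Set.range (orderOf : Cfsg.PSp n F → ℕ) := by
  have hp : p.Prime := Fact.out
  obtain ⟨R, _, _, _, P, u, hP, hR, hu, hM⟩ := hasTorus (F := F) p (M := 2) le_rfl
    ((four_dvd_torus hq).imp (Nat.dvd_trans (by norm_num)) (Nat.dvd_trans (by norm_num)))
  obtain ⟨v, hv, hvp⟩ := exists_dual_elem (F := F) p
  obtain ⟨y, hy⟩ := exists_psp_of_alg_no_neg (n := n) (P.prod (SpAlg.dual F))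
    (hP.prod SpAlg.dual_alt) (e := 2) (M := 2 * p) hn (by omega)
    (by rw [Module.finrank_prod, hR, finrank_dual]) (u, v)
    (by show (u * P.σ u, v * (SpAlg.dual F).σ v) = 1; rw [hu, hv]; rfl)
    (by rw [Prod.orderOf, hM, hvp,
      ((Nat.coprime_primes Nat.prime_two hp).2 (Ne.symm hp2)).lcm_eq_mul])
    (fun h e => pow_ne_neg_one (F := F) h2 (hp.odd_of_ne_two hp2) hp.ne_one hvp h
      (congrArg Prod.snd e))
  exact mem_range_orderOf_of_dvd hy

include p in
theorem sp_adj_two_iff {r : ℕ} (hn : 1 ≤ n) (h2 : (2 : F) ≠ 0) (hq : Odd (Nat.card F))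
    (hr : r.Prime) (hr2 : r ≠ 2) (hrp : r ≠ p) :
    2 * r ∈ Set.range (orderOf : Cfsg.PSp n F → ℕ) ↔ CondD (Nat.card F) n r := by
  have hro : Odd r := hr.odd_of_ne_two hr2
  constructor
  · rintro ⟨y, hy⟩
    by_contra hc
    obtain ⟨hlt, hno⟩ := not_or.1 hc
    obtain ⟨A, rfl⟩ := QuotientGroup.mk'_surjective _ y
    change orderOf (toPSp A) = 2 * r at hy
    set a : Mat n F := (A : Mat n F) with ha
    have hpm : ∀ j : ℕ, (a ^ j = 1 ∨ a ^ j = -1) → 2 * r ∣ j := fun j hj =>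
      hy ▸ orderOf_dvd_of_pow_eq_one ((toPSp_pow_eq_one_iff hn A j).2 hj)
    have h2r : a ^ (2 * r) = 1 ∨ a ^ (2 * r) = -1 :=
      (toPSp_pow_eq_one_iff hn A _).1 (by rw [← hy]; exact pow_orderOf_eq_one _)
    have hA4 : a ^ (r * 4) = 1 := by
      rw [show r * 4 = (2 * r) * 2 by ring, pow_mul]
      rcases h2r with h | h <;> rw [h]
      · rw [one_pow]
      · rw [neg_one_sq]
    have hne : a ^ 4 ≠ 1 := by
      intro e
      obtain ⟨b, hb⟩ := hro
      have h' : a ^ (2 * r) = a ^ 2 := by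
        rw [show 2 * r = 4 * b + 2 by omega, pow_add, pow_mul, e, one_pow, one_mul]
      rw [h'] at h2r
      have := Nat.le_of_dvd (by norm_num) (hpm 2 h2r)
      have := hr.two_le
      omega
    obtain ⟨f, hfm, hf, hfμ, hfrs, hfs⟩ := exists_factor_ff p hr hrp a hA4 hne
    have hinv := invClosed_sp A
    obtain ⟨hfq, f', hf'm, hf', hf'μ, hdd, hiff, hself⟩ :=
      exists_partner_ff a (Nat.mul_pos hr.pos (by norm_num)) hA4 hinv hfm hf hfμ
    obtain ⟨hfq', -⟩ :=
      exists_partner_ff a (Nat.mul_pos hr.pos (by norm_num)) hA4 hinv hf'm hf' hf'μ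
    rw [hdd] at hfq'
    have hint := Matrix.isIntegral (R := F) a
    have hμd := minpoly_natDegree_le_sp a
    have hd0 : 0 < f.natDegree := hf.natDegree_pos
    have key : ∀ H : ℕ, 2 * H = Nat.card F ^ n + 1 ∨ 2 * H = Nat.card F ^ n - 1 →
        (minpoly F a ∣ X ^ H - 1 ∨ minpoly F a ∣ X ^ H + 1) → False := by
      intro H hH hμH
      have hd : 2 * r ∣ H := by
        refine hpm H ?_
        rcases hμH with hd | hd <;> obtain ⟨w, hw⟩ := hd <;> have h1 := congrArg (aeval a) hw <;>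
          rw [map_mul, minpoly.aeval, zero_mul] at h1
        · rw [map_sub, map_pow, aeval_X, map_one, sub_eq_zero] at h1
          exact Or.inl h1
        · rw [map_add, map_pow, aeval_X, map_one, add_eq_zero_iff_eq_neg] at h1
          exact Or.inr h1
      have := Nat.mul_dvd_mul_left 2 hd
      rw [show 2 * (2 * r) = 4 * r by ring] at this
      refine hno ?_
      rcases hH with e | e
      · exact Or.inl (by rwa [← e])
      · exact Or.inr (by rwa [← e])
    have hsplit : ∀ (φ : F[X]) (H : ℕ), Irreducible φ → φ ∣ X ^ (2 * H) - 1 →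
        φ ∣ X ^ H - 1 ∨ φ ∣ X ^ H + 1 := by
      intro φ H hφ h
      refine hφ.prime.dvd_or_dvd ?_
      rwa [show (X ^ H - 1) * (X ^ H + 1) = X ^ (2 * H) - (1 : F[X]) by ring]
    by_cases hff : f' = f
    · rcases hself hff with h | ⟨e, he, hde, hfe⟩
      · exact hr2 ((Nat.prime_dvd_prime_iff_eq hr Nat.prime_two).1 (root_dvd hr hfrs hfs h))
      · have h1 := etaOf_le (F := F) he (Or.inl (root_dvd hr hfrs hfs hfe))
        have h2' := (natDegree_le_of_dvd hfμ (minpoly.ne_zero hint)).trans hμd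
        obtain rfl : e = n := by omega
        have hμ : minpoly F a = f :=
          eq_of_monic_of_dvd_of_natDegree_le hfm (minpoly.monic hint) hfμ (by omega)
        obtain ⟨H, hH⟩ : ∃ H, 2 * H = Nat.card F ^ e + 1 := by
          obtain ⟨b, hb⟩ := hq.pow (n := e)
          exact ⟨b + 1, by omega⟩
        refine key H (Or.inl hH) ?_
        rw [hμ]
        exact hsplit f H hf (by rwa [hH])
    · have hco : IsCoprime f f' := hf.coprime_iff_not_dvd.2 fun hd =>
        hff (eq_of_monic_of_associated hfm hf'm (hf.associated_of_dvd hf' hd)).symm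
      have hG : f * f' ∣ minpoly F a := hco.mul_dvd hfμ hf'μ
      have h1 := etaOf_le (F := F) hd0 (Or.inr (root_dvd hr hfrs hfs hfq))
      have h2' := (natDegree_le_of_dvd hG (minpoly.ne_zero hint)).trans hμd
      rw [natDegree_mul hf.ne_zero hf'.ne_zero, hdd] at h2'
      have hdn : f.natDegree = n := by omega
      have hμ : minpoly F a = f * f' :=
        eq_of_monic_of_dvd_of_natDegree_le (hfm.mul hf'm) (minpoly.monic hint) hG
          (by rw [natDegree_mul hf.ne_zero hf'.ne_zero, hdd]; omega)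
      obtain ⟨H, hH⟩ : ∃ H, 2 * H = Nat.card F ^ n - 1 := by
        obtain ⟨b, hb⟩ := hq.pow (n := n)
        exact ⟨b, by omega⟩
      rw [hdn] at hfq hfq'
      refine key H (Or.inr hH) ?_
      rw [hμ]
      rcases hsplit f H hf (by rwa [hH]) with h | h
      · exact Or.inl (hco.mul_dvd h ((hiff H).1 h))
      · rcases hsplit f' H hf' (by rwa [hH]) with h' | h'
        · exfalso
          have h3 := dvd_sub h ((hiff H).2 h')
          rw [show X ^ H + 1 - (X ^ H - 1) = C (2 : F) by rw [map_ofNat]; ring] at h3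
          exact hf.not_isUnit (isUnit_of_dvd_unit h3 (isUnit_C.2 (isUnit_iff_ne_zero.2 h2)))
        · exact Or.inr (hco.mul_dvd h h')
  · rintro (h | h)
    · obtain ⟨hr0, hr'⟩ := etaOf_spec (F := F) p hr hrp
      obtain ⟨R, _, _, _, P, u, hP, hR, hu, hM⟩ := hasTorus (F := F) p hr0 hr'
      obtain ⟨S, _, _, _, Q, v, hQ, hS, hv, hN⟩ := hasTorus (F := F) p (M := 2) le_rfl
        ((four_dvd_torus hq).imp (Nat.dvd_trans (by norm_num)) (Nat.dvd_trans (by norm_num)))
      obtain ⟨y, hy⟩ := exists_psp_of_alg_no_neg (n := n) (P.prod Q) (hP.prod hQ)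
        (e := etaOf (Nat.card F) r + 1) (M := 2 * r) (by omega) hn
        (by rw [Module.finrank_prod, hR, hS]; ring) (u, v)
        (by show (u * P.σ u, v * Q.σ v) = 1; rw [hu, hv]; rfl)
        (by rw [Prod.orderOf, hM, hN, ((Nat.coprime_primes hr Nat.prime_two).2 hr2).lcm_eq_mul,
          mul_comm])
        (fun j e => pow_ne_neg_one (F := F) h2 hro hr.ne_one hM j (congrArg Prod.fst e))
      exact mem_range_orderOf_of_dvd hy
    · obtain ⟨R, _, _, _, P, u, -, hR, hu, hM⟩ := hasTorus (F := F) p hn h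
      obtain ⟨y, hy⟩ := half_dvd_orderOf P h2 hn hR u hu (4 * r) hM (by omega)
      rw [show 4 * r / 2 = 2 * r by omega] at hy
      exact mem_range_orderOf_of_dvd hy

end Cfsg.Agent.H55
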