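/-
Adjacency criteria in the prime graph of POmega(2n+1, q), q odd.
-/
import Cfsg.Agent.H55.SpGraphOdd
import Cfsg.Agent.H55.OrthAlg
import Cfsg.Agent.H52.OrthoRankForms

set_option autoImplicit false
set_option linter.unusedSectionVars false

namespace Cfsg.Agent.H55

open Cfsg.Agent.Orthogonal QuadraticMap Module Cfsg.Agent.H52.OrthoRank

section General

variable {F V : Type*} [Field F] [Finite F] [AddCommGroup V] [Module F V] [FiniteDimensional F V]
variable {Q : QuadraticForm F V}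

theorem spinor_extendO (hQ : Nondeg Q) (h2 : (2 : F) ≠ 0) {W : Submodule F V}
    (hW : Nondeg (restr Q W)) (g : O (restr Q W)) :
    spinor Q hQ h2 (extendO hQ hW g) = spinor (restr Q W) hW h2 g ∧
      detSign Q hQ h2 (extendO hQ hW g) = detSign (restr Q W) hW h2 g := by
  constructor
  · have h : (spinor Q hQ h2).comp (extendO hQ hW) = spinor (restr Q W) hW h2 :=
      hom_ext_rO hW h2 fun v hv => by
        rw [MonoidHom.comp_apply, extendO_rO, spinor_rO hW h2 hv, spinor_rO hQ h2 (show Q (v : V) ≠ 0 from hv)]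
        rfl
    exact DFunLike.congr_fun h g
  · have h : (detSign Q hQ h2).comp (extendO hQ hW) = detSign (restr Q W) hW h2 :=
      hom_ext_rO hW h2 fun v hv => by
        rw [MonoidHom.comp_apply, extendO_rO, detSign_rO hW h2 hv, detSign_rO hQ h2 (show Q (v : V) ≠ 0 from hv)]
    exact DFunLike.congr_fun h g

theorem negSign_congr {V' : Type*} [AddCommGroup V'] [Module F V'] [FiniteDimensional F V']
    {Q' : QuadraticForm F V'} (hQ : Nondeg Q) (hQ' : Nondeg Q') (h2 : (2 : F) ≠ 0) (e : V ≃ₗ[F] V')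
    (he : ∀ x, Q' (e x) = Q x) : negSign Q' hQ' h2 = negSign Q hQ h2 := by
  have h : (spinor Q' hQ' h2).comp (congrO e he).toMonoidHom = spinor Q hQ h2 :=
    hom_ext_rO hQ h2 fun v hv => by
      have hc : congrO e he (rO Q v) = rO Q' (e v) := O.ext_app fun x => by
        have hp : polar Q' (e v) x = polar Q v (e.symm x) := by
          simp only [polar, ← he, map_add, LinearEquiv.apply_symm_apply]
        rw [congrO_apply, rO_app, rO_app, map_sub, map_smul, LinearEquiv.apply_symm_apply, he, hp]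
      rw [MonoidHom.comp_apply, MulEquiv.coe_toMonoidHom, hc,
        spinor_rO hQ' h2 (by rwa [he]), spinor_rO hQ h2 hv, he]
  unfold negSign
  have h1 := DFunLike.congr_fun h ⟨LinearEquiv.neg F, fun x => QuadraticMap.map_neg Q x⟩
  rw [MonoidHom.comp_apply, MulEquiv.coe_toMonoidHom] at h1
  rw [← h1]
  congr 1
  exact O.ext_app fun x => by simp [congrO_apply]

theorem pow_restrictO_app (g : O Q) {W : Submodule F V} (hW : ∀ x ∈ W, (g : V ≃ₗ[F] V) x ∈ W)
    (j : ℕ) (x : W) :
    (((restrictO g hW) ^ j : O (restr Q W)) : W ≃ₗ[F] W) x =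
      ((g ^ j : O Q) : V ≃ₗ[F] V) (x : V) := by
  induction j generalizing x with
  | zero => rfl
  | succ j ih =>
    rw [pow_succ, pow_succ, Subgroup.coe_mul, Subgroup.coe_mul, mul_app, mul_app, ih]
    rfl

/-- A prime dividing the order of a small orthogonal group. -/
theorem eta_le_of_dvd_oprod {r : ℕ} (hr : r.Prime) {k : ℕ} (h : r ∣ oprod (Nat.card F) k) :
    etaOf (Nat.card F) r ≤ k := by
  rw [oprod_eq] at h
  obtain ⟨i, hi, hd⟩ := (hr.prime.dvd_finsetProd_iff _).1 h
  rw [Finset.mem_range] at hi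
  rw [sq_pow_sub_one] at hd
  have := etaOf_le (F := F) (Nat.succ_pos i) (hr.prime.dvd_mul.1 hd)
  omega

theorem not_dvd_two_pow (p : ℕ) [Fact p.Prime] [CharP F p] {r a : ℕ} (hr : r.Prime) (hr2 : r ≠ 2)
    (hrp : r ≠ p) : ¬ r ∣ 2 * Nat.card F ^ a := fun h => by
  rcases hr.prime.dvd_mul.1 h with h | h
  · exact hr2 ((Nat.prime_dvd_prime_iff_eq hr Nat.prime_two).1 h)
  · exact not_dvd_card (F := F) p hr hrp (hr.prime.dvd_of_dvd_pow h)

end General

section

variable {F : Type*} [Field F] [Fintype F] {V : Type*} [AddCommGroup V] [Module F V]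
  [FiniteDimensional F V] {Q : QuadraticForm F V} (p : ℕ) [Fact p.Prime] [CharP F p]

include p in
/-- An element of order `2r` in the commutator subgroup. -/
theorem condD_of_commutator (hQ : Nondeg Q) (h2 : (2 : F) ≠ 0) {n : ℕ}
    (hfin : finrank F V = 2 * n + 1) {r : ℕ} (hr : r.Prime) (hr2 : r ≠ 2) (hrp : r ≠ p)
    (G : O Q) (hG : orderOf G = 2 * r) (hc : G ∈ commutator (O Q)) :
    CondD (Nat.card F) n r := by
  by_contra hcon
  obtain ⟨hlt, hno⟩ := not_or.1 hcon
  have hro : Odd r := hr.odd_of_ne_two hr2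
  set t : O Q := G ^ r
  set A : O Q := G ^ 2
  have htt : t * t = 1 := by
    rw [← pow_add, ← two_mul, ← hG]; exact pow_orderOf_eq_one G
  have ht1 : t ≠ 1 := fun e => by
    have := Nat.le_of_dvd hr.pos (hG ▸ orderOf_dvd_of_pow_eq_one e)
    have := hr.pos; omega
  have hAr : A ^ r = 1 := by rw [← pow_mul, ← hG]; exact pow_orderOf_eq_one G
  have hA1 : A ≠ 1 := fun e => by
    have := Nat.le_of_dvd (by norm_num) (hG ▸ orderOf_dvd_of_pow_eq_one e)
    have := hr.two_le; omega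
  set τ : V ≃ₗ[F] V := (t : V ≃ₗ[F] V) with hτ
  have hinvo : ∀ x, τ (τ x) = x := fun x =>
    congrArg (fun g : O Q => (g : V ≃ₗ[F] V) x) htt
  set W : Submodule F V := LinearMap.ker ((τ : V →ₗ[F] V) + LinearMap.id) with hWdef
  have hW : ∀ x, x ∈ W ↔ τ x = -x := fun x => by
    rw [hWdef, LinearMap.mem_ker, LinearMap.add_apply, LinearMap.id_apply, add_eq_zero_iff_eq_neg]
    rfl
  have hsplit : ∀ y : V, (2 : F)⁻¹ • (y - τ y) ∈ W ∧
      τ ((2 : F)⁻¹ • (y + τ y)) = (2 : F)⁻¹ • (y + τ y) ∧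
      (2 : F)⁻¹ • (y - τ y) + (2 : F)⁻¹ • (y + τ y) = y := fun y => by
    refine ⟨(hW _).2 ?_, ?_, ?_⟩
    · rw [map_smul, map_sub, hinvo, ← smul_neg, neg_sub]
    · rw [map_smul, map_add, hinvo, add_comm (τ y)]
    · rw [← smul_add, show y - τ y + (y + τ y) = (2 : F) • y by rw [two_smul]; abel,
        inv_smul_smul₀ h2]
  have horth : ∀ x ∈ W, ∀ l, τ l = l → polar Q x l = 0 := fun x hx l hl => by
    have h := O.polar_app t x l
    rw [← hτ, (hW x).1 hx, hl, polar_neg_left] at h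
    exact (mul_eq_zero.1 (show (2 : F) * polar Q x l = 0 by linear_combination -h)).resolve_left h2
  have hWnd : Nondeg (restr Q W) := by
    intro x hx
    refine Subtype.ext (hQ _ fun y => ?_)
    obtain ⟨h1, h3, h4⟩ := hsplit y
    rw [← h4, polar_add_right, horth _ x.2 _ h3, add_zero]
    have := hx ⟨_, h1⟩
    rwa [polar_restr] at this
  have hfix : ∀ y ∈ perp Q W, τ y = y := fun y hy => by
    have hy' : τ y ∈ perp Q W := map_mem_perp t (fun x hx => by
      show τ x ∈ W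
      rw [(hW x).1 hx]; exact W.neg_mem hx) hy
    have h := (nondeg_restr_iff W).1 hWnd
    have hmem : y - τ y ∈ W ⊓ perp Q W :=
      ⟨(hW _).2 (by rw [map_sub, hinvo, neg_sub]), (perp Q W).sub_mem hy hy'⟩
    rw [h, Submodule.mem_bot, sub_eq_zero] at hmem
    exact hmem.symm
  have hneg : t = extendO hQ hWnd ⟨LinearEquiv.neg F, fun x => QuadraticMap.map_neg _ x⟩ := by
    refine O.ext_app fun v => ?_
    obtain ⟨w, hw, y, hy, rfl⟩ := Submodule.mem_sup.1
      ((hQ.isCompl_perp hWnd).sup_eq_top ▸ Submodule.mem_top : v ∈ W ⊔ perp Q W)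
    rw [map_add, map_add, ← hτ, (hW w).1 hw, hfix y hy, extendO_app_perp hQ hWnd _ hy]
    congr 1
    exact (extendO_app hQ hWnd ⟨LinearEquiv.neg F, fun x => QuadraticMap.map_neg _ x⟩
      ⟨w, hw⟩).symm
  obtain ⟨hdet, hsp⟩ := (mem_commutator_iff hQ h2 t).1 (pow_mem hc r)
  rw [hneg, (spinor_extendO hQ h2 hWnd _).1] at hsp
  rw [hneg, (spinor_extendO hQ h2 hWnd _).2, detSign_eq_one_iff,
    show ((LinearEquiv.neg F : W ≃ₗ[F] W) : W →ₗ[F] W) = (-1 : F) • LinearMap.id from
      LinearMap.ext fun x => by simp,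
    LinearMap.det_smul, LinearMap.det_id, mul_one] at hdet
  obtain ⟨m, hm⟩ := (neg_one_pow_eq_one_iff_even (fun h => h2 (by linear_combination -h))).1 hdet
  have hadd := hQ.finrank_add_perp W
  rcases m with _ | m
  · have : W = ⊥ := Submodule.finrank_eq_zero.1 hm
    refine ht1 (O.ext_app fun v => ?_)
    obtain ⟨h1, h3, h4⟩ := hsplit v
    rw [this, Submodule.mem_bot, smul_eq_zero] at h1
    exact (sub_eq_zero.1 (h1.resolve_left (inv_ne_zero h2))).symm
  have hcomm : ∀ x, τ ((A : V ≃ₗ[F] V) x) = (A : V ≃ₗ[F] V) (τ x) := fun x =>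
    congrArg (fun g : O Q => (g : V ≃ₗ[F] V) x) (Commute.pow_pow_self G r 2).eq
  have hAW : ∀ x ∈ W, (A : V ≃ₗ[F] V) x ∈ W := fun x hx =>
    (hW _).2 (by rw [hcomm, (hW x).1 hx, map_neg])
  have hAP : ∀ x ∈ perp Q W, (A : V ≃ₗ[F] V) x ∈ perp Q W := fun x hx => map_mem_perp A hAW hx
  have hrpow : ∀ (U : Submodule F V) (hU : ∀ x ∈ U, (A : V ≃ₗ[F] V) x ∈ U),
      restrictO A hU ≠ 1 → r ∣ Nat.card (O (restr Q U)) := by
    intro U hU hne
    have := Fact.mk hr
    have h1 : (restrictO A hU) ^ r = 1 := O.ext_app fun x => Subtype.ext (by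
      rw [pow_restrictO_app, hAr]; rfl)
    rw [← orderOf_eq_prime h1 hne]
    exact orderOf_dvd_natCard _
  by_cases hWA : restrictO A hAW = 1
  · have hne : restrictO A hAP ≠ 1 := by
      intro e
      refine hA1 (O.ext_app fun v => ?_)
      obtain ⟨w, hw, y, hy, rfl⟩ := Submodule.mem_sup.1
        ((hQ.isCompl_perp hWnd).sup_eq_top ▸ Submodule.mem_top : v ∈ W ⊔ perp Q W)
      rw [map_add, ← restrictO_app A hAW ⟨w, hw⟩, ← restrictO_app A hAP ⟨y, hy⟩, hWA, e]
      rfl
    have hP := hQ.nondeg_perp hWnd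
    obtain ⟨k, e, f, h, ha⟩ := hP.exists_frame
    have hk := h.finrank_kernel hP
    have hle := finrank_le_two_of_aniso (h.nondeg_kernel hP) ha
    have hd := hrpow _ hAP hne
    rw [card_O_odd k _ hP h ha (by omega)] at hd
    have := eta_le_of_dvd_oprod hr ((hr.prime.dvd_mul.1 hd).resolve_left
      (not_dvd_two_pow p hr hr2 hrp))
    omega
  have hd := hrpow W hAW hWA
  rcases hWnd.classify_even (m := m) (by omega) with ⟨E, hE⟩ | ⟨ζ, E, hζ, hE⟩
  · rw [← Nat.card_congr (congrO E hE).toEquiv,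
      card_O_plus m _ (formPlus_nondeg F (m + 1)) (formPlus_frame F (m + 1))
        (formPlus_aniso F (m + 1)) (finrank_formPlus F (m + 1))] at hd
    have hs : sqSign ((-1 : F) ^ (m + 1)) = 1 := by
      rw [← negSign_plus F (m + 1) h2, ← negSign_congr (formPlus_nondeg F _) hWnd h2 E hE]
      exact hsp
    rcases hr.prime.dvd_mul.1 hd with hd | hd
    · rcases hr.prime.dvd_mul.1 hd with hd | hd
      · exact not_dvd_two_pow p hr hr2 hrp hd
      · have := etaOf_le (F := F) (Nat.succ_pos m) (Or.inr hd)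
        obtain rfl : n = m + 1 := by omega
        rw [sqSign_eq_one_iff, isSquare_neg_one_pow Nat.card_eq_fintype_card.symm
          (odd_natCard_of_two_ne_zero h2)] at hs
        exact hno (Or.inr ((((Nat.coprime_primes Nat.prime_two hr).2 (Ne.symm hr2)).pow_left 2
          ).mul_dvd_of_dvd_of_dvd (by omega) hd))
    · have := eta_le_of_dvd_oprod (F := F) hr hd
      omega
  · have hab := aniso_of_no_root hζ
    rw [← Nat.card_congr (congrO E hE).toEquiv,
      card_O_minus m _ (formMinus_nondeg m hab) (formMinus_frame F m 1 ζ)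
        (formMinus_aniso F m hab) (finrank_formMinus F m)] at hd
    have hs : - sqSign ((-1 : F) ^ (m + 1)) = 1 := by
      rw [← negSign_minus F m h2 hab, ← negSign_congr (formMinus_nondeg m hab) hWnd h2 E hE]
      exact hsp
    rcases hr.prime.dvd_mul.1 hd with hd | hd
    · rcases hr.prime.dvd_mul.1 hd with hd | hd
      · exact not_dvd_two_pow p hr hr2 hrp hd
      · have := etaOf_le (F := F) (Nat.succ_pos m) (Or.inl hd)
        obtain rfl : n = m + 1 := by omega
        have hns : ¬ IsSquare ((-1 : F) ^ (m + 1)) := fun h => by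
          rw [sqSign_of_isSquare h] at hs
          exact absurd hs (by decide)
        rw [isSquare_neg_one_pow Nat.card_eq_fintype_card.symm
          (odd_natCard_of_two_ne_zero h2)] at hns
        have := q_pow_mod_four (odd_natCard_of_two_ne_zero (F := F) h2) (m + 1)
        exact hno (Or.inl ((((Nat.coprime_primes Nat.prime_two hr).2 (Ne.symm hr2)).pow_left 2
          ).mul_dvd_of_dvd_of_dvd (by omega) hd))
    · have := eta_le_of_dvd_oprod (F := F) hr hd
      omega

end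

section

variable {F : Type*} [Field F] [Fintype F] {n : ℕ} (p : ℕ) [Fact p.Prime] [CharP F p]

/-- The matrix of an element of Omega. -/
noncomputable def omegaMat : Cfsg.Omega F (Cfsg.quadFormOdd n F) →*
    Matrix (Unit ⊕ (Fin n ⊕ Fin n)) (Unit ⊕ (Fin n ⊕ Fin n)) F :=
  (Units.coeHom _).comp
    ((Subgroup.subtype _).comp (Cfsg.Omega F (Cfsg.quadFormOdd n F)).subtype)

theorem omegaMat_injective : Function.Injective (omegaMat (F := F) (n := n)) := fun _ _ h =>
  Subtype.ext (Subtype.ext (Units.ext h))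

theorem omegaMat_mulVec (z : Cfsg.Omega F (Cfsg.quadFormOdd n F))
    (x : Unit ⊕ (Fin n ⊕ Fin n) → F) :
    (omegaMat z).mulVec x = (toOdd F n z.1 :
      (Unit ⊕ (Fin n ⊕ Fin n) → F) ≃ₗ[F] (Unit ⊕ (Fin n ⊕ Fin n) → F)) x :=
  (toOdd_apply z.1 x).symm

theorem invClosed_omega (h2 : (2 : F) ≠ 0) (z : Cfsg.Omega F (Cfsg.quadFormOdd n F)) :
    InvClosed (omegaMat z) := by
  set B : Matrix (Unit ⊕ (Fin n ⊕ Fin n)) (Unit ⊕ (Fin n ⊕ Fin n)) F :=
    LinearMap.toMatrix₂' F (polarBilin (formOdd F n))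
  have hB : ∀ v w, dotProduct v (B.mulVec w) = polar (formOdd F n) v w := fun v w => by
    rw [← Matrix.toLinearMap₂'_apply']
    simp [B]
  refine InvClosed.of_form (B := B) ((Matrix.isUnit_iff_isUnit_det B).2 (isUnit_iff_ne_zero.2 ?_)) ?_
  · intro h
    obtain ⟨v, hv0, hv⟩ := Matrix.exists_mulVec_eq_zero_iff.2 h
    refine hv0 (formOdd_nondeg F n h2 v fun w => ?_)
    rw [polar_comm, ← hB, hv, dotProduct_zero]
  · have key : ∀ v w, dotProduct v (((omegaMat z).transpose * B * omegaMat z).mulVec w) =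
        dotProduct v (B.mulVec w) := fun v w => by
      rw [← Matrix.mulVec_mulVec, ← Matrix.mulVec_mulVec, Matrix.dotProduct_mulVec,
        Matrix.vecMul_transpose, hB, hB, omegaMat_mulVec, omegaMat_mulVec, O.polar_app]
    refine Matrix.ext_iff_mulVec.2 fun w => funext fun i => ?_
    have h := key (Pi.single i 1) w
    rwa [single_one_dotProduct, single_one_dotProduct] at h

theorem exists_omega_of_order (h2 : (2 : F) ≠ 0) (hn : 2 ≤ n) {M : ℕ}
    (h : M ∈ Set.range (orderOf : Cfsg.POmega F (Cfsg.quadFormOdd n F) → ℕ)) :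
    ∃ z : Cfsg.Omega F (Cfsg.quadFormOdd n F), orderOf z = M := by
  obtain ⟨y, rfl⟩ := h
  obtain ⟨z, rfl⟩ := QuotientGroup.mk'_surjective _ y
  exact ⟨z, (orderOf_pomega_mk h2 hn z).symm⟩

theorem exists_matrix_orth (h2 : (2 : F) ≠ 0) (hn : 2 ≤ n) {r s : ℕ} (hr : r.Prime) (hs : s.Prime)
    (h : r * s ∈ Set.range (orderOf : Cfsg.POmega F (Cfsg.quadFormOdd n F) → ℕ)) :
    ∃ z : Cfsg.Omega F (Cfsg.quadFormOdd n F), omegaMat z ^ (r * s) = 1 ∧
      omegaMat z ^ s ≠ 1 ∧ omegaMat z ^ r ≠ 1 := by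
  obtain ⟨z, hz⟩ := exists_omega_of_order h2 hn h
  rw [← orderOf_injective omegaMat omegaMat_injective] at hz
  refine ⟨z, by rw [← hz]; exact pow_orderOf_eq_one _, ?_, ?_⟩ <;> intro e
  · exact absurd (Nat.le_of_dvd hs.pos (hz ▸ orderOf_dvd_of_pow_eq_one e))
      (by have := Nat.mul_lt_mul_of_pos_right hr.one_lt hs.pos; omega)
  · exact absurd (Nat.le_of_dvd hr.pos (hz ▸ orderOf_dvd_of_pow_eq_one e))
      (by have := Nat.mul_lt_mul_of_pos_left hs.one_lt hr.pos; omega)

include p in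
theorem orth_adj_odd_iff {r s : ℕ} (h2 : (2 : F) ≠ 0) (hn : 2 ≤ n) (hr : r.Prime) (hs : s.Prime)
    (hr2 : r ≠ 2) (hs2 : s ≠ 2) (hrp : r ≠ p) (hsp : s ≠ p) (hrs : r ≠ s) :
    r * s ∈ Set.range (orderOf : Cfsg.POmega F (Cfsg.quadFormOdd n F) → ℕ) ↔
      CondA (Nat.card F) n r s := by
  have ho : Odd (r * s) := (hr.odd_of_ne_two hr2).mul (hs.odd_of_ne_two hs2)
  constructor
  · intro h
    obtain ⟨z, hA, hAs, hAr⟩ := exists_matrix_orth h2 hn hr hs h
    exact condA_of_matrix p hr hs hr2 hs2 hrp hsp hrs (omegaMat z) (by simp; omega)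
      (invClosed_omega h2 z) hA hAs hAr
  · intro h
    have key : ∀ e, e ≤ n → HasOrthTorus F e (r * s) →
        r * s ∈ Set.range (orderOf : Cfsg.POmega F (Cfsg.quadFormOdd n F) → ℕ) := by
      rintro e he ⟨R, _, _, _, P, u, hR, hu, hM⟩
      obtain ⟨y, hy⟩ := exists_pomega_of_alg P h2 hn (by omega) u hu
      rw [((by rw [hM]; exact Nat.coprime_two_right.2 ho) :
        Nat.Coprime (orderOf u) 2).orderOf_pow, hM] at hy
      exact mem_range_orderOf_of_dvd hy
    rcases h with h | ⟨e, he, hen, h⟩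
    · obtain ⟨hr0, hr'⟩ := etaOf_spec (F := F) p hr hrp
      obtain ⟨hs0, hs'⟩ := etaOf_spec (F := F) p hs hsp
      have := (hasOrthTorus (F := F) p hr0 hr').prod (hasOrthTorus (F := F) p hs0 hs')
      rw [((Nat.coprime_primes hr hs).2 hrs).lcm_eq_mul] at this
      exact key _ h this
    · exact key e hen (hasOrthTorus (F := F) p he h)

include p in
theorem orth_adj_char_iff {r : ℕ} (h2 : (2 : F) ≠ 0) (hn : 2 ≤ n) (hp2 : p ≠ 2) (hr : r.Prime)
    (hr2 : r ≠ 2) (hrp : r ≠ p) :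
    r * p ∈ Set.range (orderOf : Cfsg.POmega F (Cfsg.quadFormOdd n F) → ℕ) ↔
      etaOf (Nat.card F) r ≤ n - 1 := by
  have hp : p.Prime := Fact.out
  have ho : Odd (r * p) := (hr.odd_of_ne_two hr2).mul (hp.odd_of_ne_two hp2)
  constructor
  · intro h
    obtain ⟨z, hA, hAs, hAr⟩ := exists_matrix_orth h2 hn hr hp h
    exact condB_of_matrix p hn hr hr2 hrp (omegaMat z) (by simp; omega)
      (invClosed_omega h2 z) hA hAs hAr
  · intro h
    obtain ⟨hr0, hr'⟩ := etaOf_spec (F := F) p hr hrp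
    obtain ⟨R, _, _, _, P, u, hR, hu, hM⟩ := hasOrthTorus (F := F) p hr0 hr'
    obtain ⟨S, _, _, _, Q, v, hS, hv, hN⟩ := exists_unipotent_three (F := F) p h2
    have hord : orderOf ((u, v) : R × S) = r * p := by
      rw [Prod.orderOf, hM, hN, ((Nat.coprime_primes hr hp).2 hrp).lcm_eq_mul]
    obtain ⟨y, hy⟩ := exists_pomega_of_alg (P.prod Q) h2 hn
      (by rw [Module.finrank_prod, hR, hS]; omega) (u, v)
      (by show (u * P.σ u, v * Q.σ v) = 1; rw [hu, hv]; rfl)
    rw [((by rw [hord]; exact Nat.coprime_two_right.2 ho) :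
      Nat.Coprime (orderOf ((u, v) : R × S)) 2).orderOf_pow, hord] at hy
    exact mem_range_orderOf_of_dvd hy

include p in
theorem orth_adj_two_char (h2 : (2 : F) ≠ 0) (hn : 2 ≤ n) (hp2 : p ≠ 2)
    (hq : Odd (Nat.card F)) :
    2 * p ∈ Set.range (orderOf : Cfsg.POmega F (Cfsg.quadFormOdd n F) → ℕ) := by
  have hp : p.Prime := Fact.out
  obtain ⟨R, _, _, _, P, u, hR, hu, hM⟩ :=
    hasOrthTorus (F := F) p (M := 4) le_rfl (four_dvd_torus hq)
  obtain ⟨S, _, _, _, Q, v, hS, hv, hN⟩ := exists_unipotent_three (F := F) p h2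
  have hord : orderOf ((u, v) : R × S) = 4 * p := by
    rw [Prod.orderOf, hM, hN,
      (((Nat.coprime_primes Nat.prime_two hp).2 (Ne.symm hp2)).pow_left 2).lcm_eq_mul]
  obtain ⟨y, hy⟩ := exists_pomega_of_alg (P.prod Q) h2 hn
    (by rw [Module.finrank_prod, hR, hS]; omega) (u, v)
    (by show (u * P.σ u, v * Q.σ v) = 1; rw [hu, hv]; rfl)
  rw [orderOf_pow_of_dvd (by norm_num) (by rw [hord]; exact Dvd.dvd.mul_right (by norm_num) p),
    hord, show 4 * p / 2 = 2 * p by omega] at hy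
  exact mem_range_orderOf_of_dvd hy

include p in
theorem orth_adj_two_iff {r : ℕ} (h2 : (2 : F) ≠ 0) (hn : 2 ≤ n) (hq : Odd (Nat.card F))
    (hr : r.Prime) (hr2 : r ≠ 2) (hrp : r ≠ p) :
    2 * r ∈ Set.range (orderOf : Cfsg.POmega F (Cfsg.quadFormOdd n F) → ℕ) ↔
      CondD (Nat.card F) n r := by
  have hro : Odd r := hr.odd_of_ne_two hr2
  constructor
  · intro h
    obtain ⟨z, hz⟩ := exists_omega_of_order h2 hn h
    refine condD_of_commutator p (formOdd_nondeg F n h2) h2 (finrank_formOdd F n) hr hr2 hrp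
      (toOdd F n z.1) ?_ ((mem_omega_odd z.1).1 z.2)
    rw [MulEquiv.orderOf_eq, ← hz, ← orderOf_injective (Cfsg.Omega F (Cfsg.quadFormOdd n F)).subtype
        Subtype.coe_injective z]
    rfl
  · intro h
    have key : ∀ e, e ≤ n → HasOrthTorus F e (4 * r) →
        2 * r ∈ Set.range (orderOf : Cfsg.POmega F (Cfsg.quadFormOdd n F) → ℕ) := by
      rintro e he ⟨R, _, _, _, P, u, hR, hu, hM⟩
      obtain ⟨y, hy⟩ := exists_pomega_of_alg P h2 hn (by omega) u hu
      rw [orderOf_pow_of_dvd (by norm_num) (by rw [hM]; exact Dvd.dvd.mul_right (by norm_num) r),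
        hM, show 4 * r / 2 = 2 * r by omega] at hy
      exact mem_range_orderOf_of_dvd hy
    rcases h with h | h
    · obtain ⟨hr0, hr'⟩ := etaOf_spec (F := F) p hr hrp
      have := (hasOrthTorus (F := F) p (M := 4) le_rfl (four_dvd_torus hq)).prod
        (hasOrthTorus (F := F) p hr0 hr')
      rw [(((Nat.coprime_primes Nat.prime_two hr).2 (Ne.symm hr2)).pow_left 2).lcm_eq_mul] at this
      exact key _ (by omega) this
    · exact key n le_rfl (hasOrthTorus (F := F) p (by omega) h)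

end

end Cfsg.Agent.H55
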