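import Mathlib
import Cfsg.Agent.H55.GLClassNumber

/-!
Determinants on the polynomial module of an invertible matrix: the determinant of the matrix, and the
determinants of the matrices commuting with it.
-/

set_option autoImplicit false

namespace Cfsg.Agent.H55.SLClassNumber

open Polynomial Module
open scoped MatrixGroups
open Cfsg.Agent.H55.GLClassNumber

section PowSubgroup

variable {G : Type*} [CommGroup G] (H : Subgroup G)

/-- If all `m`-th powers lie in `H`, for all `m` in a finite set, so do all `gcd`-th powers. -/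
lemma pow_gcd_mem {e : ℕ} (he : ∀ a : G, a ^ e = 1) {s : Finset ℕ}
    (hs : ∀ k ∈ s, ∀ a : G, a ^ k ∈ H) (a : G) : a ^ Nat.gcd e (s.gcd id) ∈ H := by
  classical
  have hgcd : ∀ m k : ℕ, (∀ a : G, a ^ m ∈ H) → (∀ a : G, a ^ k ∈ H) → ∀ a : G, a ^ Nat.gcd m k ∈ H := by
    intro m k hm hk a
    rw [← zpow_natCast, Nat.gcd_eq_gcd_ab, zpow_add, zpow_mul, zpow_mul, zpow_natCast, zpow_natCast]
    exact H.mul_mem (H.zpow_mem (hm a) _) (H.zpow_mem (hk a) _)
  refine hgcd e _ (fun a => (he a).symm ▸ H.one_mem) ?_ a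
  induction s using Finset.induction_on with
  | empty => intro a; simp [H.one_mem]
  | insert k s hk ih =>
    rw [Finset.gcd_insert]
    exact hgcd k _ (hs k (Finset.mem_insert_self k s)) (ih fun j hj => hs j (Finset.mem_insert_of_mem hj))

end PowSubgroup

section PiDet

lemma det_blockDiagonal'_fintype {R : Type*} [CommRing R] {ι : Type*} [Fintype ι] [DecidableEq ι]
    {β : ι → Type*} [∀ i, Fintype (β i)] [∀ i, DecidableEq (β i)] (d : ∀ i, Matrix (β i) (β i) R) :
    (Matrix.blockDiagonal' d).det = ∏ i, (d i).det := by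
  letI : LinearOrder ι := LinearOrder.lift' (Fintype.equivFin ι) (Fintype.equivFin ι).injective
  rw [(Matrix.blockTriangular_blockDiagonal' d).det_fintype]
  refine Finset.prod_congr rfl fun k _ => ?_
  rw [← Matrix.det_reindex_self (Equiv.sigmaSubtype k) ((Matrix.blockDiagonal' d).toSquareBlock Sigma.fst k)]
  congr 1
  ext x y
  simp [Matrix.toSquareBlock_def, Equiv.sigmaSubtype, Matrix.blockDiagonal'_apply_eq]

lemma det_pi_map {R : Type*} [CommRing R] {ι : Type*} [Fintype ι] {M : ι → Type*}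
    [∀ i, AddCommGroup (M i)] [∀ i, Module R (M i)] [∀ i, Module.Free R (M i)] [∀ i, Module.Finite R (M i)]
    (f : ∀ i, M i →ₗ[R] M i) :
    LinearMap.det (LinearMap.pi fun i => (f i).comp (LinearMap.proj i)) = ∏ i, LinearMap.det (f i) := by
  classical
  let b := fun i => Module.Free.chooseBasis R (M i)
  simp_rw [← LinearMap.det_toMatrix (Pi.basis b), ← fun i => LinearMap.det_toMatrix (b i) (f i)]
  have hM : LinearMap.toMatrix (Pi.basis b) (Pi.basis b)
      (LinearMap.pi fun i => (f i).comp (LinearMap.proj i)) =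
      Matrix.blockDiagonal' (fun i => LinearMap.toMatrix (b i) (b i) (f i)) := by
    ext ⟨i, a⟩ ⟨j, c⟩
    rw [LinearMap.toMatrix_apply, Pi.basis_apply, Matrix.blockDiagonal'_apply, Pi.basis_repr]
    by_cases h : i = j
    · subst h
      simp [LinearMap.toMatrix_apply, b]
    · simp [h]
  rw [hM]
  exact det_blockDiagonal'_fintype _

end PiDet

variable {F : Type*} [Field F]

/-- Multiplication by `c` on a piece. -/
noncomputable def mulPiece (a : F[X] × ℕ) (c : F[X]) : Piece a →ₗ[F] Piece a :=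
  (LinearMap.lsmul F[X] (Piece a) c).restrictScalars F

lemma det_mulPiece (a : F[X] × ℕ) (c : F[X]) :
    LinearMap.det (mulPiece a c) = Algebra.norm F (Ideal.Quotient.mk (Ideal.span {a.1 ^ a.2}) c) := by
  rw [Algebra.norm_apply]
  congr 1

lemma finite_piece {a : F[X] × ℕ} (ha : a.1.Monic) : Module.Finite F (Piece a) :=
  (ha.pow a.2).finite_quotient

lemma det_mulPiece_X {a : F[X] × ℕ} (ha : a.1.Monic) :
    LinearMap.det (mulPiece a X) = (-1) ^ (a.2 * a.1.natDegree) * a.1.coeff 0 ^ a.2 := by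
  rw [det_mulPiece]
  have hg := ha.pow a.2
  let pb := AdjoinRoot.powerBasis hg.ne_zero
  have h := Algebra.PowerBasis.norm_gen_eq_coeff_zero_minpoly pb
  have hmin : minpoly F pb.gen = a.1 ^ a.2 := by
    show minpoly F (AdjoinRoot.root (a.1 ^ a.2)) = _
    rw [AdjoinRoot.minpoly_root hg.ne_zero, hg.leadingCoeff, inv_one, map_one, mul_one]
  rw [hmin, show pb.dim = (a.1 ^ a.2).natDegree from rfl, Polynomial.natDegree_pow,
    Polynomial.coeff_zero_eq_eval_zero, Polynomial.eval_pow, ← Polynomial.coeff_zero_eq_eval_zero] at h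
  exact h

variable [Finite F]

lemma aeval_pow_card {R : Type*} [CommRing R] [Algebra F R] (p : F[X]) (x : R) :
    ∀ N : ℕ, aeval (x ^ Nat.card F ^ N) p = aeval x p ^ Nat.card F ^ N
  | 0 => by simp
  | N + 1 => by
    haveI := Fintype.ofFinite F
    rw [pow_succ, pow_mul, pow_mul, ← aeval_pow_card p x N, ← map_pow, Nat.card_eq_fintype_card,
      ← FiniteField.expand_card, Polynomial.expand_aeval]

/-- Every `e`-th power in `F` is the determinant of a module endomorphism of `F[X] / (p ^ e)`. -/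
lemma exists_det_mulPiece {a : F[X] × ℕ} (ha : a.1.Monic) (hirr : Irreducible a.1) (x : Fˣ) :
    ∃ c : F[X], LinearMap.det (mulPiece a c) = (x : F) ^ a.2 := by
  classical
  haveI : Fact (Irreducible a.1) := ⟨hirr⟩
  haveI : Module.Finite F (AdjoinRoot a.1) := ha.finite_quotient
  haveI : Finite (AdjoinRoot a.1) := Module.finite_of_finite F
  haveI := finite_piece (a := a) ha
  let q := Nat.card F
  let y : Piece a := Ideal.Quotient.mk _ X
  let φ : AdjoinRoot a.1 →ₐ[F] Piece a := AdjoinRoot.liftAlgHom a.1 (Algebra.ofId F (Piece a)) (y ^ q ^ a.2) (by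
    show aeval (y ^ q ^ a.2) a.1 = 0
    rw [aeval_pow_card]
    have h1 : aeval y a.1 = Ideal.Quotient.mk (Ideal.span {a.1 ^ a.2}) a.1 := by
      show aeval (Ideal.Quotient.mkₐ F (Ideal.span {a.1 ^ a.2}) X) a.1 = _
      rw [Polynomial.aeval_algHom_apply, Polynomial.aeval_X_left_apply]
      rfl
    rw [h1, ← map_pow, Ideal.Quotient.eq_zero_iff_mem, Ideal.mem_span_singleton]
    exact pow_dvd_pow _ (Nat.lt_pow_self Finite.one_lt_card).le)
  letI : Algebra (AdjoinRoot a.1) (Piece a) := φ.toRingHom.toAlgebra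
  haveI : IsScalarTower F (AdjoinRoot a.1) (Piece a) := IsScalarTower.of_algebraMap_eq fun r => (φ.commutes r).symm
  haveI : Module.Finite (AdjoinRoot a.1) (Piece a) := Module.Finite.of_restrictScalars_finite F _ _
  obtain ⟨z, hz⟩ := FiniteField.norm_surjective F (AdjoinRoot a.1) (x : F)
  obtain ⟨c, hc⟩ := Ideal.Quotient.mk_surjective (algebraMap (AdjoinRoot a.1) (Piece a) z)
  refine ⟨c, ?_⟩
  rw [det_mulPiece, hc, ← Algebra.norm_norm (S := AdjoinRoot a.1), Algebra.norm_algebraMap, map_pow, hz]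
  congr 1
  have h1 := Module.finrank_mul_finrank F (AdjoinRoot a.1) (Piece a)
  have hK : finrank F (AdjoinRoot a.1) = a.1.natDegree := finrank_quotient_span_eq_natDegree
  have hR : finrank F (Piece a) = (a.1 ^ a.2).natDegree := finrank_quotient_span_eq_natDegree
  rw [hK, hR, Polynomial.natDegree_pow, mul_comm a.2] at h1
  exact Nat.eq_of_mul_eq_mul_left hirr.natDegree_pos h1

variable {n m : ℕ} {f : Fin m → F[X] × ℕ}

omit [Finite F] in
lemma det_conj_pieces {A : GL (Fin n) F} (hm : ∀ i, (f i).1.Monic) (φ : Mdl A ≃ₗ[F[X]] ∀ i, Piece (f i))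
    (c : Fin m → F[X]) :
    ∃ C : (Fin n → F) →ₗ[F] (Fin n → F),
      Commute C (Matrix.toLin' (A : Matrix (Fin n) (Fin n) F)) ∧
      LinearMap.det C = ∏ i, LinearMap.det (mulPiece (f i) (c i)) ∧
      ((∀ i, c i = X) → C = Matrix.toLin' (A : Matrix (Fin n) (Fin n) F)) := by
  classical
  haveI := fun i => finite_piece (hm i)
  let a := Matrix.toLin' (A : Matrix (Fin n) (Fin n) F)
  let ψ : (Fin n → F) ≃ₗ[F] ∀ i, Piece (f i) := (Module.AEval'.of a).trans (φ.restrictScalars F)
  let L : (∀ i, Piece (f i)) →ₗ[F] ∀ i, Piece (f i) :=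
    LinearMap.pi fun i => (mulPiece (f i) (c i)).comp (LinearMap.proj i)
  have hX : ∀ v, ψ (a v) = (X : F[X]) • ψ v := fun v => by
    show φ (Module.AEval'.of a (a v)) = (X : F[X]) • φ (Module.AEval'.of a v)
    rw [← Module.AEval'.X_smul_of, map_smul]
  refine ⟨ψ.symm.toLinearMap ∘ₗ L ∘ₗ ψ.toLinearMap, ?_, ?_, ?_⟩
  · refine LinearMap.ext fun v => ψ.injective ?_
    show ψ (ψ.symm (L (ψ (a v)))) = ψ (a (ψ.symm (L (ψ v))))
    rw [hX (ψ.symm _), LinearEquiv.apply_symm_apply, LinearEquiv.apply_symm_apply, hX v]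
    funext i
    show c i • ((X : F[X]) • ψ v i) = (X : F[X]) • (c i • ψ v i)
    exact smul_comm _ _ _
  · have h := LinearMap.det_conj L ψ.symm
    rw [LinearEquiv.symm_symm] at h
    rw [h, det_pi_map]
  · intro hc
    refine LinearMap.ext fun v => ψ.injective ?_
    show ψ (ψ.symm (L (ψ v))) = ψ (a v)
    rw [hX, LinearEquiv.apply_symm_apply]
    funext i
    show c i • ψ v i = (X : F[X]) • ψ v i
    rw [hc]

omit [Finite F] in
/-- The determinant of a matrix in terms of its elementary divisors. -/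
lemma det_eq_prod {A : GL (Fin n) F} (hm : ∀ i, (f i).1.Monic) (hsum : ∑ i, (f i).2 * (f i).1.natDegree = n)
    (φ : Mdl A ≃ₗ[F[X]] ∀ i, Piece (f i)) :
    (A : Matrix (Fin n) (Fin n) F).det = (-1) ^ n * ∏ i, (f i).1.coeff 0 ^ (f i).2 := by
  obtain ⟨C, -, hC, hCA⟩ := det_conj_pieces hm φ (fun _ => X)
  rw [hCA fun _ => rfl, LinearMap.det_toLin'] at hC
  rw [hC, Finset.prod_congr rfl (fun i _ => det_mulPiece_X (hm i)), Finset.prod_mul_distrib,
    Finset.prod_pow_eq_pow_sum, hsum]

/-- The determinants of the matrices commuting with `A`. -/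
def detCentralizer (A : GL (Fin n) F) : Subgroup Fˣ :=
  (Subgroup.centralizer {A}).map Matrix.GeneralLinearGroup.det

lemma pow_mem_detCentralizer {A : GL (Fin n) F} (hf : ∀ i, (f i).1.Monic ∧ Irreducible (f i).1)
    (φ : Mdl A ≃ₗ[F[X]] ∀ i, Piece (f i)) (i : Fin m) (x : Fˣ) : x ^ (f i).2 ∈ detCentralizer A := by
  classical
  obtain ⟨c, hc⟩ := exists_det_mulPiece (hf i).1 (hf i).2 x
  obtain ⟨C, hcomm, hdet, -⟩ := det_conj_pieces (fun j => (hf j).1) φ (Function.update 1 i c)
  have hd : LinearMap.det C = (x : F) ^ (f i).2 := by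
    rw [hdet, Finset.prod_eq_single i, Function.update_self, hc]
    · intro j _ hj
      rw [Function.update_of_ne hj, det_mulPiece, Pi.one_apply, map_one, map_one]
    · intro h; exact absurd (Finset.mem_univ i) h
  have hu : IsUnit (LinearMap.toMatrix' C) := by
    rw [Matrix.isUnit_iff_isUnit_det, LinearMap.det_toMatrix', hd, ← Units.val_pow_eq_pow_val]
    exact Units.isUnit _
  refine Subgroup.mem_map.2 ⟨hu.unit, ?_, Units.ext ?_⟩
  · rw [Subgroup.mem_centralizer_singleton_iff]
    apply Units.ext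
    apply Matrix.toLin'.injective
    rw [Units.val_mul, Units.val_mul, IsUnit.unit_spec, Matrix.toLin'_mul, Matrix.toLin'_mul,
      Matrix.toLin'_toMatrix']
    exact hcomm.eq
  · rw [Matrix.GeneralLinearGroup.val_det_apply, IsUnit.unit_spec, LinearMap.det_toMatrix', hd,
      Units.val_pow_eq_pow_val]

end Cfsg.Agent.H55.SLClassNumber
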