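import Mathlib
import Cfsg.Agent.H55.SLCentralizerDet

/-!
Tuples of monic polynomials with non-zero constant term and a prescribed product of constant terms,
weighted by the common divisor of `q - 1` and the indices of the non-constant members.
-/

set_option autoImplicit false

namespace Cfsg.Agent.H55.SLClassNumber

open Polynomial
open Cfsg.Agent.H55.GLClassNumber

section Tuples

variable (F : Type*) [Field F] [Finite F] (n : ℕ)

/-- The set of tuples. -/
def tupleSet : Set (ℕ → F[X]) :=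
  {g | (∀ k, (g k).Monic ∧ (g k).coeff 0 ≠ 0) ∧ (∀ k, k ∉ Finset.Icc 1 n → g k = 1) ∧
    ∑ k ∈ Finset.Icc 1 n, k * (g k).natDegree = n}

lemma sum_Icc_eq (g : ℕ → ℕ) : ∀ N, ∑ k ∈ Finset.Icc 1 N, g k = ∑ k ∈ Finset.range N, g (k + 1)
  | 0 => by simp
  | N + 1 => by rw [Finset.sum_Icc_succ_top (by omega), Finset.sum_range_succ, sum_Icc_eq g N]

lemma mapsTo_tupleSet : Set.MapsTo (fun g : ℕ → F[X] => toList g n) (tupleSet F n) (↑(tuples F n n) : Set (List F[X])) :=
  fun g hg => toList_mem hg.1 n n ((sum_Icc_eq (fun k => k * (g k).natDegree) n).symm.trans hg.2.2)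

lemma injOn_tupleSet : Set.InjOn (fun g : ℕ → F[X] => toList g n) (tupleSet F n) := by
  intro g hg g' hg' h
  funext k
  by_cases hk : k ∈ Finset.Icc 1 n
  · exact toList_inj h k hk
  · rw [hg.2.1 k hk, hg'.2.1 k hk]

lemma finite_tupleSet : (tupleSet F n).Finite :=
  Set.Finite.of_injOn (mapsTo_tupleSet F n) (injOn_tupleSet F n) (tuples F n n).finite_toSet

/-- The tuples, as a finset. -/
noncomputable def tupleFinset : Finset (ℕ → F[X]) := (finite_tupleSet F n).toFinset

lemma card_tupleFinset : (tupleFinset F n).card ≤ cnt (Nat.card F - 1) n n :=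
  (Finset.card_le_card_of_injOn (fun g : ℕ → F[X] => toList g n)
    (fun g hg => mapsTo_tupleSet F n ((finite_tupleSet F n).mem_toFinset.1 hg))
    (fun g hg g' hg' h => injOn_tupleSet F n ((finite_tupleSet F n).mem_toFinset.1 hg)
      ((finite_tupleSet F n).mem_toFinset.1 hg') h)).trans (card_tuples F n n)

variable {F}

/-- The indices of the non-constant members. -/
noncomputable def supp (g : ℕ → F[X]) : Finset ℕ :=
  (Finset.Icc 1 n).filter fun k => (g k).natDegree ≠ 0

/-- The weight of a tuple. -/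
noncomputable def idx (g : ℕ → F[X]) : ℕ := Nat.gcd (Nat.card F - 1) ((supp n g).gcd id)

/-- The product of the constant terms with exponents. -/
noncomputable def constProd (g : ℕ → F[X]) : F := ∏ k ∈ Finset.Icc 1 n, (g k).coeff 0 ^ k

lemma idx_pos (g : ℕ → F[X]) : 0 < idx n g :=
  Nat.gcd_pos_of_pos_left _ (Nat.sub_pos_of_lt Finite.one_lt_card)

lemma coeff_zero_eq_one {p : F[X]} (hp : p.Monic) (hd : p.natDegree = 0) : p.coeff 0 = 1 := by
  rw [Polynomial.eq_one_of_monic_natDegree_zero hp hd, Polynomial.coeff_one_zero]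

/-- Multiply the constant term. -/
noncomputable def twist (g : ℕ → F[X]) (S : Finset ℕ) (a : ℕ → Fˣ) : ℕ → F[X] := fun k =>
  if k ∈ S then g k + C (((a k : F) - 1) * (g k).coeff 0) else g k

/-- The subgroup of products of powers. -/
noncomputable def prodPow (S : Finset ℕ) : (ℕ → Fˣ) →* Fˣ where
  toFun a := ∏ k ∈ S, a k ^ k
  map_one' := by simp
  map_mul' a b := by simp [mul_pow, Finset.prod_mul_distrib]

lemma range_pow_le (g : ℕ → F[X]) :
    (powMonoidHom (idx n g) : Fˣ →* Fˣ).range ≤ (prodPow (supp n g)).range := by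
  classical
  rintro _ ⟨x, rfl⟩
  refine pow_gcd_mem _ ?_ ?_ x
  · intro a
    rw [← Nat.card_units, pow_card_eq_one']
  · intro k hk a
    refine ⟨Pi.mulSingle k a, ?_⟩
    show ∏ j ∈ supp n g, (Pi.mulSingle k a : ℕ → Fˣ) j ^ j = a ^ k
    rw [Finset.prod_eq_single k, Pi.mulSingle_eq_same]
    · intro j _ hj
      rw [Pi.mulSingle_eq_of_ne hj, one_pow]
    · intro h; exact absurd hk h

open scoped Classical in
lemma sum_idx_le (t : Fˣ) :
    (Nat.card F - 1) * ∑ g ∈ (tupleFinset F n).filter (fun g => constProd n g = (t : F)), idx n g ≤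
      ∑ g ∈ tupleFinset F n, idx n g ^ 2 := by
  classical
  haveI := Fintype.ofFinite F
  let R : (ℕ → F[X]) → Finset Fˣ := fun g =>
    Finset.univ.filter (fun b => b ∈ (powMonoidHom (idx n g) : Fˣ →* Fˣ).range)
  have hR : ∀ g, (R g).card * idx n g = Nat.card F - 1 := by
    intro g
    have h1 : (R g).card = Nat.card (powMonoidHom (idx n g) : Fˣ →* Fˣ).range := by
      rw [Nat.card_eq_fintype_card]
      exact (Fintype.card_subtype _).symm
    rw [h1, ← Subgroup.card_mul_index (powMonoidHom (idx n g) : Fˣ →* Fˣ).range |>.trans (Nat.card_units F),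
      IsCyclic.index_powMonoidHom_range, Nat.card_units]
    congr 1
    exact (Nat.gcd_eq_right (Nat.gcd_dvd_left _ _)).symm
  let sol : Finset ℕ → Fˣ → (ℕ → Fˣ) := fun S b =>
    if h : b ∈ (prodPow S).range then h.choose else 1
  let Φ : (Σ _ : ℕ → F[X], Fˣ) → (ℕ → F[X]) := fun x => twist x.1 (supp n x.1) (sol (supp n x.1) x.2)
  let C0 := (tupleFinset F n).filter (fun g => constProd n g = (t : F))
  have key : ∀ g ∈ C0, ∀ b ∈ R g, Φ ⟨g, b⟩ ∈ tupleFinset F n ∧ idx n (Φ ⟨g, b⟩) = idx n g ∧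
      supp n (Φ ⟨g, b⟩) = supp n g ∧ constProd n (Φ ⟨g, b⟩) = (b : F) * t ∧
      ∀ k ∈ supp n g, (Φ ⟨g, b⟩ k).coeff 0 = (sol (supp n g) b k : F) * (g k).coeff 0 := by
    intro g hg b hb
    obtain ⟨hg, hprod⟩ := Finset.mem_filter.1 hg
    obtain ⟨hmon, hone, hsum⟩ := (finite_tupleSet F n).mem_toFinset.1 hg
    have hb' : b ∈ (prodPow (supp n g)).range := range_pow_le n g (Finset.mem_filter.1 hb).2
    set a := sol (supp n g) b with hadef
    have ha : prodPow (supp n g) a = b := by
      rw [hadef]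
      simp only [sol, dif_pos hb']
      exact hb'.choose_spec
    have hpos : ∀ k ∈ supp n g, 0 < (g k).natDegree := fun k hk =>
      Nat.pos_of_ne_zero (Finset.mem_filter.1 hk).2
    have hdeg : ∀ k, (twist g (supp n g) a k).natDegree = (g k).natDegree := fun k => by
      unfold twist
      split_ifs
      · exact natDegree_add_C
      · rfl
    have hc : ∀ k ∈ supp n g, (twist g (supp n g) a k).coeff 0 = (a k : F) * (g k).coeff 0 := fun k hk => by
      simp only [twist, if_pos hk, coeff_add, coeff_C_zero]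
      ring
    have hsupp : supp n (twist g (supp n g) a) = supp n g := by
      exact Finset.filter_congr fun k _ => by rw [hdeg]
    refine ⟨(finite_tupleSet F n).mem_toFinset.2 ⟨fun k => ?_, fun k hk => ?_, ?_⟩, ?_, hsupp, ?_, hc⟩
    · by_cases hk : k ∈ supp n g
      · refine ⟨?_, ?_⟩
        · show (twist g (supp n g) a k).Monic
          simp only [twist, if_pos hk]
          exact (hmon k).1.add_of_left (degree_C_le.trans_lt (natDegree_pos_iff_degree_pos.1 (hpos k hk)))
        · show (twist g (supp n g) a k).coeff 0 ≠ 0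
          rw [hc k hk]
          exact mul_ne_zero (Units.ne_zero _) (hmon k).2
      · show (twist g (supp n g) a k).Monic ∧ _
        simp only [twist, if_neg hk, Φ, ← hadef]
        exact hmon k
    · show twist g (supp n g) a k = 1
      rw [twist, if_neg (fun h : k ∈ supp n g => hk (Finset.mem_of_mem_filter k h)), hone k hk]
    · refine Eq.trans (Finset.sum_congr rfl fun k _ => ?_) hsum
      show k * (twist g (supp n g) a k).natDegree = _
      rw [hdeg]
    · show idx n (twist g (supp n g) a) = _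
      rw [idx, idx, hsupp]
    · show constProd n (twist g (supp n g) a) = _
      have e : ∀ k ∈ Finset.Icc 1 n, (twist g (supp n g) a k).coeff 0 ^ k =
          (if k ∈ supp n g then (a k : F) ^ k else 1) * (g k).coeff 0 ^ k := fun k _ => by
        by_cases hk : k ∈ supp n g
        · rw [if_pos hk, hc k hk, mul_pow]
        · rw [if_neg hk, one_mul, twist, if_neg hk]
      rw [constProd, Finset.prod_congr rfl e, Finset.prod_mul_distrib, Finset.prod_ite_mem,
        Finset.inter_eq_right.2 (show supp n g ⊆ Finset.Icc 1 n from Finset.filter_subset _ _)]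
      show _ * constProd n g = _
      rw [hprod, ← ha]
      simp [prodPow]
  have hinj : Set.InjOn Φ (↑(C0.sigma R) : Set (Σ _ : ℕ → F[X], Fˣ)) := by
    rintro ⟨g, b⟩ hx ⟨g', b'⟩ hy h
    obtain ⟨hg, hb⟩ := Finset.mem_sigma.1 (Finset.mem_coe.1 hx)
    obtain ⟨hg', hb'⟩ := Finset.mem_sigma.1 (Finset.mem_coe.1 hy)
    obtain ⟨-, -, hs, hp, hc⟩ := key g hg b hb
    obtain ⟨-, -, hs', hp', hc'⟩ := key g' hg' b' hb'
    have hb : b = b' := by
      rw [h, hp'] at hp
      exact Units.ext (mul_right_cancel₀ t.ne_zero hp).symm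
    subst hb
    have hS : supp n g = supp n g' := by rw [← hs, ← hs', h]
    have hgg : g = g' := by
      funext k
      have hk' := congrFun h k
      by_cases hk : k ∈ supp n g
      · have h0 : (g k).coeff 0 = (g' k).coeff 0 := by
          have h1 := hc k hk
          rw [h, hc' k (hS ▸ hk), ← hS] at h1
          exact (mul_left_cancel₀ (Units.ne_zero _) h1).symm
        simp only [Φ, twist, ← hS, if_pos hk, h0] at hk'
        exact add_right_cancel hk'
      · simp only [Φ, twist, ← hS, if_neg hk] at hk'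
        exact hk'
    subst hgg
    rfl
  calc (Nat.card F - 1) * ∑ g ∈ C0, idx n g = ∑ g ∈ C0, ∑ _b ∈ R g, idx n g ^ 2 := by
        rw [Finset.mul_sum]
        refine Finset.sum_congr rfl fun g _ => ?_
        rw [Finset.sum_const, smul_eq_mul, ← hR g]
        ring
    _ = ∑ x ∈ C0.sigma R, idx n (Φ x) ^ 2 := by
        rw [Finset.sum_sigma]
        exact Finset.sum_congr rfl fun g hg => Finset.sum_congr rfl fun b hb => by rw [(key g hg b hb).2.1]
    _ = ∑ y ∈ (C0.sigma R).image Φ, idx n y ^ 2 := (Finset.sum_image (f := fun y => idx n y ^ 2) (fun x hx y hy => hinj hx hy)).symm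
    _ ≤ _ := by
        refine Finset.sum_le_sum_of_subset ?_
        rintro y hy
        obtain ⟨⟨g, b⟩, hx, rfl⟩ := Finset.mem_image.1 hy
        obtain ⟨hg, hb⟩ := Finset.mem_sigma.1 hx
        exact (key g hg b hb).1

lemma sum_idx_sq_le (hn : 1 ≤ n) :
    ∑ g ∈ tupleFinset F n, idx n g ^ 2 ≤ cnt (Nat.card F - 1) n n +
      ∑ d ∈ (Finset.Icc 2 n).filter (fun d => d ∣ n ∧ d ∣ Nat.card F - 1),
        (d ^ 2 - 1) * cnt (Nat.card F - 1) (n / d) (n / d) := by
  classical
  have hdvd : ∀ g ∈ tupleFinset F n, idx n g ∣ n ∧ ∀ k, (g k).natDegree ≠ 0 → k ∈ Finset.Icc 1 n → idx n g ∣ k := by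
    intro g hg
    obtain ⟨-, -, hsum⟩ := (finite_tupleSet F n).mem_toFinset.1 hg
    have hk : ∀ k, (g k).natDegree ≠ 0 → k ∈ Finset.Icc 1 n → idx n g ∣ k := fun k h1 h2 =>
      (Nat.gcd_dvd_right _ _).trans (Finset.gcd_dvd (f := id) (Finset.mem_filter.2 ⟨h2, h1⟩))
    refine ⟨?_, hk⟩
    conv_rhs => rw [← hsum]
    refine Finset.dvd_sum fun k hkI => ?_
    by_cases h : (g k).natDegree = 0
    · rw [h, mul_zero]; exact dvd_zero _
    · exact dvd_mul_of_dvd_left (hk k h hkI) _
  let D := (Finset.Icc 2 n).filter (fun d => d ∣ n ∧ d ∣ Nat.card F - 1)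
  have h1 : ∀ g ∈ tupleFinset F n,
      idx n g ^ 2 = 1 + ∑ d ∈ D, if idx n g = d then d ^ 2 - 1 else 0 := by
    intro g hg
    rw [Finset.sum_ite_eq]
    have h0 := idx_pos n g
    split_ifs with h
    · have := Nat.one_le_pow 2 _ h0
      omega
    · have : idx n g = 1 := by
        by_contra hne
        exact h (Finset.mem_filter.2 ⟨Finset.mem_Icc.2 ⟨by omega, Nat.le_of_dvd hn (hdvd g hg).1⟩,
          (hdvd g hg).1, Nat.gcd_dvd_left _ _⟩)
      rw [this]; rfl
  rw [Finset.sum_congr rfl h1, Finset.sum_add_distrib, ← Finset.card_eq_sum_ones, Finset.sum_comm]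
  refine Nat.add_le_add (card_tupleFinset F n) (Finset.sum_le_sum fun d hd => ?_)
  rw [← Finset.sum_filter, Finset.sum_const, smul_eq_mul, mul_comm]
  refine Nat.mul_le_mul_left _ ?_
  obtain ⟨hd2, hdn, -⟩ := Finset.mem_filter.1 hd
  have hd0 : 0 < d := by rw [Finset.mem_Icc] at hd2; omega
  let Ψ : (ℕ → F[X]) → (ℕ → F[X]) := fun g j => if j ∈ Finset.Icc 1 (n / d) then g (d * j) else 1
  have hz : ∀ g ∈ (tupleFinset F n).filter (fun g => idx n g = d), ∀ k, ¬ d ∣ k → g k = 1 := by
    intro g hg k hk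
    obtain ⟨hgT, hgd⟩ := Finset.mem_filter.1 hg
    obtain ⟨hmon, hone, -⟩ := (finite_tupleSet F n).mem_toFinset.1 hgT
    by_cases hkI : k ∈ Finset.Icc 1 n
    · refine Polynomial.eq_one_of_monic_natDegree_zero (hmon k).1 ?_
      by_contra h
      exact hk (hgd ▸ (hdvd g hgT).2 k h hkI)
    · exact hone k hkI
  have hmulI : ∀ j, j ∈ Finset.Icc 1 (n / d) ↔ d * j ∈ Finset.Icc 1 n := fun j => by
    simp only [Finset.mem_Icc, Nat.le_div_iff_mul_le hd0, mul_comm d j]
    constructor
    · rintro ⟨h1, h2⟩; exact ⟨Nat.mul_pos h1 hd0, h2⟩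
    · rintro ⟨h1, h2⟩
      exact ⟨Nat.pos_of_ne_zero (by rintro rfl; simp at h1), h2⟩
  refine le_trans (Finset.card_le_card_of_injOn Ψ ?_ ?_) (card_tupleFinset F (n / d))
  · intro g hg
    obtain ⟨hg', hgd⟩ := Finset.mem_filter.1 hg
    obtain ⟨hmon, hone, hsum⟩ := (finite_tupleSet F n).mem_toFinset.1 hg'
    refine (finite_tupleSet F (n / d)).mem_toFinset.2 ⟨fun j => ?_, fun j hj => if_neg hj, ?_⟩
    · by_cases hj : j ∈ Finset.Icc 1 (n / d)
      · rw [show Ψ g j = g (d * j) from if_pos hj]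
        exact hmon _
      · rw [show Ψ g j = 1 from if_neg hj]
        exact ⟨monic_one, by simp⟩
    · refine Nat.eq_of_mul_eq_mul_left hd0 ?_
      rw [Nat.mul_div_cancel' hdn, Finset.mul_sum]
      refine Eq.trans ?_ hsum
      refine Eq.trans ?_ (Finset.sum_subset (s₁ := (Finset.Icc 1 (n / d)).image (d * ·))
        (fun k hk => by obtain ⟨j, hj, rfl⟩ := Finset.mem_image.1 hk; exact (hmulI j).1 hj) ?_)
      · rw [Finset.sum_image (fun a _ b _ h => Nat.eq_of_mul_eq_mul_left hd0 h)]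
        refine Finset.sum_congr rfl fun j hj => ?_
        simp only [Ψ, if_pos hj]
        ring
      · intro k hk hk'
        have : ¬ d ∣ k := by
          rintro ⟨j, rfl⟩
          exact hk' (Finset.mem_image.2 ⟨j, (hmulI j).2 hk, rfl⟩)
        rw [hz g hg k this]; simp
  · intro g hg g' hg' h
    funext k
    by_cases hk : d ∣ k
    · obtain ⟨j, rfl⟩ := hk
      by_cases hj : j ∈ Finset.Icc 1 (n / d)
      · have := congrFun h j
        simpa only [Ψ, if_pos hj] using this
      · rw [((finite_tupleSet F n).mem_toFinset.1 (Finset.mem_filter.1 hg).1).2.1 _ (fun hh => hj ((hmulI j).2 hh)),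
          ((finite_tupleSet F n).mem_toFinset.1 (Finset.mem_filter.1 hg').1).2.1 _ (fun hh => hj ((hmulI j).2 hh))]
    · rw [hz g hg k hk, hz g' hg' k hk]

end Tuples

section Arith

lemma geom_le (r : ℕ) : ∀ M, r * ∑ j ∈ Finset.range M, (r + 1) ^ j + 1 = (r + 1) ^ M
  | 0 => by simp
  | M + 1 => by
    rw [Finset.sum_range_succ, Nat.mul_add, pow_succ, ← geom_le r M]
    have := geom_le r M
    nlinarith [this]

lemma arith_five {r n : ℕ} (hr : 0 < r) (hn : 5 ≤ n) :
    ∑ d ∈ (Finset.Icc 2 n).filter (fun d => d ∣ n ∧ d ∣ r), (d ^ 2 - 1) * cnt r (n / d) (n / d) ≤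
      r * (r + 1) ^ (n - 2) := by
  classical
  let D := (Finset.Icc 2 n).filter (fun d => d ∣ n ∧ d ∣ r)
  have h1 : ∀ d ∈ D, (d ^ 2 - 1) * cnt r (n / d) (n / d) ≤ r * (r * (r + 1) ^ (n / d)) := by
    intro d hd
    obtain ⟨hd2, -, hdr⟩ := Finset.mem_filter.1 hd
    have hdr' : d ≤ r := Nat.le_of_dvd hr hdr
    rw [← mul_assoc]
    exact Nat.mul_le_mul ((Nat.sub_le _ _).trans (by rw [sq]; exact Nat.mul_le_mul hdr' hdr')) (cnt_self_le _ _)
  refine (Finset.sum_le_sum h1).trans ?_
  rw [← Finset.mul_sum, ← Finset.mul_sum]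
  refine Nat.mul_le_mul_left _ ?_
  have h2 : ∑ d ∈ D, (r + 1) ^ (n / d) ≤ ∑ j ∈ Finset.range (n / 2 + 1), (r + 1) ^ j := by
    have hinj : Set.InjOn (fun d => n / d) (D : Set ℕ) := by
      intro a ha b hb h
      obtain ⟨ha2, han, -⟩ := Finset.mem_filter.1 (Finset.mem_coe.1 ha)
      obtain ⟨hb2, hbn, -⟩ := Finset.mem_filter.1 (Finset.mem_coe.1 hb)
      rw [← Nat.div_div_self han (by omega), ← Nat.div_div_self hbn (by omega)]
      exact congrArg (n / ·) h
    rw [← Finset.sum_image hinj]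
    refine Finset.sum_le_sum_of_subset fun j hj => ?_
    obtain ⟨d, hd, rfl⟩ := Finset.mem_image.1 hj
    have hd2 := (Finset.mem_Icc.1 (Finset.mem_filter.1 hd).1).1
    exact Finset.mem_range.2 (Nat.lt_succ_of_le (Nat.div_le_div_left hd2 (by norm_num)))
  refine (Nat.mul_le_mul_left r h2).trans ?_
  refine (Nat.le_add_right _ 1).trans ((geom_le r _).trans_le ?_)
  exact Nat.pow_le_pow_right (Nat.succ_pos r) (by omega)

/-- The arithmetic of the bound. -/
lemma class_bound {K r n : ℕ} (hr : 0 < r) (hn : 2 ≤ n)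
    (hK : r * K ≤ cnt r n n +
      ∑ d ∈ (Finset.Icc 2 n).filter (fun d => d ∣ n ∧ d ∣ r), (d ^ 2 - 1) * cnt r (n / d) (n / d)) :
    2 * K ≤ 5 * (r + 1) ^ (n - 1) ∧ (3 ≤ n → K ≤ (r + 1) ^ (n - 1) + 3 * (r + 1) ^ (n - 2)) := by
  classical
  have c11 : cnt r 1 1 = r := by simp [cnt, wt, Finset.sum_range_succ]
  have c22 : cnt r 2 2 = r * (r + 2) := by
    simp [cnt, wt, Finset.sum_range_succ]; ring
  have c33 : cnt r 3 3 = r * ((r + 1) ^ 2 + (r + 1)) := by
    simp [cnt, wt, Finset.sum_range_succ]; ring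
  have main : 3 ≤ n → K ≤ (r + 1) ^ (n - 1) + 3 * (r + 1) ^ (n - 2) := by
    intro h3
    refine Nat.le_of_mul_le_mul_left (hK.trans ?_) hr
    obtain ⟨j, rfl⟩ : ∃ j, n = j + 2 := ⟨n - 2, by omega⟩
    rw [show j + 2 - 1 = j + 1 by omega, show j + 2 - 2 = j by omega]
    have hq : (r + 1) * (r + 1) ^ (j + 1) ≤ r * (r + 1) ^ (j + 1) + 2 * r * (r + 1) ^ j := by
      rw [show (r + 1) ^ (j + 1) = (r + 1) * (r + 1) ^ j by ring]
      have : (r + 1) * (r + 1) ≤ r * (r + 1) + 2 * r := by nlinarith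
      nlinarith [Nat.mul_le_mul_right ((r + 1) ^ j) this]
    by_cases h5 : 3 ≤ j
    · have h1 := arith_five hr (n := j + 2) (by omega)
      rw [show j + 2 - 2 = j by omega] at h1
      refine (Nat.add_le_add (cnt_self_le r (j + 2)) h1).trans ?_
      rw [show (r + 1) ^ (j + 2) = (r + 1) * (r + 1) ^ (j + 1) by ring]
      nlinarith [hq]
    · obtain rfl | rfl : j = 1 ∨ j = 2 := by omega
      · rw [Finset.sum_filter, show (1 : ℕ) + 2 = 3 from rfl, show Finset.Icc 2 3 = {2, 3} from rfl,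
          Finset.sum_pair (by norm_num), if_neg (by rintro ⟨h, -⟩; revert h; decide), c33]
        split_ifs with hd
        · have : 3 ≤ r := Nat.le_of_dvd hr hd.2
          rw [show 3 / 3 = 1 from rfl, c11, show (3 : ℕ) ^ 2 - 1 = 8 from rfl]
          simp only [Nat.reduceAdd, pow_one]
          nlinarith [Nat.mul_le_mul_left r this]
        · simp only [Nat.reduceAdd, pow_one]
          nlinarith
      · rw [Finset.sum_filter, show (2 : ℕ) + 2 = 4 from rfl, show Finset.Icc 2 4 = {2, 3, 4} from rfl,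
          Finset.sum_insert (by decide), Finset.sum_pair (by norm_num),
          if_neg (by rintro ⟨h, -⟩; revert h; decide : ¬ (3 ∣ 4 ∧ 3 ∣ r))]
        refine le_trans (Nat.add_le_add_right (cnt_self_le r 4) _) ?_
        have e2 : 4 / 2 = 2 := rfl
        have e4 : 4 / 4 = 1 := rfl
        have s2 : (2 : ℕ) ^ 2 - 1 = 3 := rfl
        have s4 : (4 : ℕ) ^ 2 - 1 = 15 := rfl
        simp only [e2, e4, s2, s4, c11, c22]
        split_ifs with hd2 hd4
        · have : 4 ≤ r := Nat.le_of_dvd hr hd4.2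
          simp only [Nat.reduceAdd]
          nlinarith [Nat.mul_le_mul_left r (mul_le_mul' this this)]
        · have : 2 ≤ r := Nat.le_of_dvd hr hd2.2
          simp only [Nat.reduceAdd]
          nlinarith [Nat.mul_le_mul_left r (mul_le_mul' this this)]
        · exfalso
          rename_i hd4
          exact hd2 ⟨by norm_num, dvd_trans (by norm_num) hd4.2⟩
        · simp only [Nat.reduceAdd]
          nlinarith [Nat.mul_le_mul_left r (mul_le_mul' hr hr)]
  refine ⟨?_, main⟩
  by_cases h3 : 3 ≤ n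
  · obtain ⟨j, rfl⟩ : ∃ j, n = j + 2 := ⟨n - 2, by omega⟩
    have h := main h3
    rw [show j + 2 - 1 = j + 1 by omega, show j + 2 - 2 = j by omega] at h
    rw [show j + 2 - 1 = j + 1 by omega]
    have : 2 * (3 * (r + 1) ^ j) ≤ 3 * (r + 1) ^ (j + 1) := by
      rw [pow_succ]
      nlinarith [Nat.one_le_pow j (r + 1) (Nat.succ_pos r)]
    omega
  · obtain rfl : n = 2 := by omega
    rw [Finset.sum_filter, show Finset.Icc 2 2 = {2} from rfl, Finset.sum_singleton, c22] at hK
    rw [show (2 : ℕ) - 1 = 1 from rfl, pow_one]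
    split_ifs at hK with hd
    · have : 2 ≤ r := Nat.le_of_dvd hr hd.2
      rw [show 2 / 2 = 1 from rfl, c11, show (2 : ℕ) ^ 2 - 1 = 3 from rfl] at hK
      have : K ≤ r + 5 := Nat.le_of_mul_le_mul_left (hK.trans (by nlinarith)) hr
      omega
    · have : K ≤ r + 2 := Nat.le_of_mul_le_mul_left (hK.trans (by nlinarith)) hr
      omega

end Arith

end Cfsg.Agent.H55.SLClassNumber
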