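import Mathlib
import Cfsg.Agent.H54.RegularClasses
import Cfsg.Agent.H55.SLTupleSum

/-!
Bounds for the class number of the special linear group over a finite field.
-/

set_option autoImplicit false

namespace Cfsg.Agent.H55.SLClassNumber

open Polynomial
open scoped MatrixGroups
open Cfsg.Agent.H55.GLClassNumber

variable {F : Type*} [Field F] [Finite F]

local notation "SLn" n:max => Matrix.SpecialLinearGroup (Fin n) F

lemma toList_icc {n : ℕ} {m : ℕ} {f : Fin m → F[X] × ℕ}
    (hf : ∀ i, (f i).1.Monic ∧ Irreducible (f i).1 ∧ (f i).2 ≠ 0 ∧ (f i).1.coeff 0 ≠ 0)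
    (hsum : ∑ i, (f i).2 * (f i).1.natDegree = n) :
    (fun k => if k ∈ Finset.Icc 1 n then gOf f k else 1) ∈ tupleFinset F n ∧
      constProd n (fun k => if k ∈ Finset.Icc 1 n then gOf f k else 1) =
        ∏ i, (f i).1.coeff 0 ^ (f i).2 := by
  classical
  obtain ⟨hg, hgs⟩ := gOf_spec (n := n) hf
  refine ⟨(finite_tupleSet F n).mem_toFinset.2 ⟨fun k => ?_, fun k hk => if_neg hk, ?_⟩, ?_⟩
  · show (if k ∈ Finset.Icc 1 n then gOf f k else 1).Monic ∧
      (if k ∈ Finset.Icc 1 n then gOf f k else 1 : F[X]).coeff 0 ≠ 0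
    split_ifs
    · exact hg k
    · exact ⟨monic_one, by simp⟩
  · rw [Finset.sum_congr rfl (g := fun k => k * (gOf f k).natDegree) (fun k hk => by simp only [if_pos hk]),
      sum_Icc_eq]
    exact (hgs hsum).1
  · rw [constProd, Finset.prod_congr rfl (g := fun k => (gOf f k).coeff 0 ^ k) (fun k hk => by simp only [if_pos hk])]
    rw [← Finset.prod_fiberwise_of_maps_to (t := Finset.Icc 1 n) (g := fun i => (f i).2)
      (fun i _ => Finset.mem_Icc.2 ⟨Nat.one_le_iff_ne_zero.2 (hf i).2.2.1, (hgs hsum).2 i⟩)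
      (fun i => (f i).1.coeff 0 ^ (f i).2)]
    refine Finset.prod_congr rfl fun k _ => ?_
    rw [gOf, Polynomial.coeff_zero_eq_eval_zero, Polynomial.eval_prod, ← Finset.prod_pow]
    refine Finset.prod_congr rfl fun i hi => ?_
    rw [← Polynomial.coeff_zero_eq_eval_zero, (Finset.mem_filter.1 hi).2]

/-- The tuple attached to a class. -/
theorem exists_classTuple (n : ℕ) :
    ∃ G : ConjClasses (SLn n) → (ℕ → F[X]),
      (∀ c, G c ∈ tupleFinset F n ∧ constProd n (G c) = (-1 : F) ^ n) ∧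
      (∀ g, Nat.card {c // G c = g} ≤ idx n g) ∧
      ∀ c, ∃ (g : SLn n) (m : ℕ) (f : Fin m → F[X] × ℕ), ConjClasses.mk g = c ∧
        (∀ i, (f i).1.Monic ∧ Irreducible (f i).1) ∧
        Nonempty (Mdl (Matrix.SpecialLinearGroup.toGL g) ≃ₗ[F[X]] ∀ i, Piece (f i)) ∧
        G c = fun k => if k ∈ Finset.Icc 1 n then gOf f k else 1 := by
  classical
  haveI := Fintype.ofFinite F
  haveI : Finite (ConjClasses (SLn n)) := inferInstance
  haveI := Fintype.ofFinite (ConjClasses (SLn n))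
  choose rep hrep using (ConjClasses.exists_rep : ∀ c : ConjClasses (SLn n), _)
  let A : ConjClasses (SLn n) → GL (Fin n) F := fun c => Matrix.SpecialLinearGroup.toGL (rep c)
  choose m f hf hsum hequiv using fun c => exists_decomp (A c)
  let G : ConjClasses (SLn n) → (ℕ → F[X]) := fun c k => if k ∈ Finset.Icc 1 n then gOf (f c) k else 1
  refine ⟨G, ?_, ?_, fun c => ⟨rep c, m c, f c, hrep c, fun i => ⟨(hf c i).1, (hf c i).2.1⟩, hequiv c, rfl⟩⟩
  swap
  · intro g
    rcases isEmpty_or_nonempty {c // G c = g} with he | ⟨⟨c0, hc0'⟩⟩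
    · rw [Nat.card_of_isEmpty]; exact Nat.zero_le _
    have hc0 : c0 ∈ Finset.univ ∧ G c0 = g := ⟨Finset.mem_univ _, hc0'⟩
    have hconj : ∀ c, G c = g → ∃ P : GL (Fin n) F, P * A c0 * P⁻¹ = A c := by
      intro c hc
      obtain ⟨φ⟩ := hequiv c0
      obtain ⟨φ'⟩ := hequiv c
      refine isConj_iff.1 (isConj_of_gOf (hf c0) (hsum c0) φ (hf c) (hsum c) φ' fun k hk => ?_)
      have h := congrFun (hc0.2.trans hc.symm) k
      simp only [G, if_pos hk] at h
      exact h
    let D := detCentralizer (A c0)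
    let H := (powMonoidHom (idx n g) : Fˣ →* Fˣ).range
    have hHD : H ≤ D := by
      rintro _ ⟨x, rfl⟩
      obtain ⟨φ⟩ := hequiv c0
      refine pow_gcd_mem D (fun a => by rw [← Nat.card_units, pow_card_eq_one']) (fun k hk a => ?_) x
      rw [← hc0.2, supp, Finset.mem_filter] at hk
      have hk2 : (gOf (f c0) k).natDegree ≠ 0 := by
        have h := hk.2
        simp only [G, if_pos hk.1] at h
        exact h
      obtain ⟨i, hi⟩ : ∃ i, (f c0 i).2 = k := by
        by_contra h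
        push Not at h
        refine hk2 ?_
        rw [gOf, Finset.filter_false_of_mem (fun i _ => h i)]
        simp
      exact hi ▸ pow_mem_detCentralizer (fun j => ⟨(hf c0 j).1, (hf c0 j).2.1⟩) φ i a
    choose P hP using hconj
    let Ξ : {c // G c = g} → Fˣ ⧸ D := fun c => QuotientGroup.mk (Matrix.GeneralLinearGroup.det (P c.1 c.2))
    have hinj : Function.Injective Ξ := by
      rintro ⟨c, hc⟩ ⟨d, hd⟩ h
      obtain ⟨C, hC, hCdet⟩ := Subgroup.mem_map.1 (QuotientGroup.eq.1 h)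
      rw [Subgroup.mem_centralizer_singleton_iff] at hC
      let X0 : GL (Fin n) F := P d hd * C⁻¹ * (P c hc)⁻¹
      have hX : Matrix.GeneralLinearGroup.det X0 = 1 := by
        simp only [X0, map_mul, map_inv, hCdet]
        rw [mul_comm ((Matrix.GeneralLinearGroup.det (P c hc))⁻¹) _, mul_inv_rev, inv_inv]
        simp [mul_comm, mul_left_comm]
      let S0 : SLn n := ⟨(X0 : Matrix (Fin n) (Fin n) F), congrArg Units.val hX⟩
      have hS : Matrix.SpecialLinearGroup.toGL S0 = X0 := Units.ext rfl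
      have hconjX : X0 * A c * X0⁻¹ = A d := by
        have hC' : C⁻¹ * A c0 * C = A c0 := by rw [mul_assoc, ← hC, inv_mul_cancel_left]
        rw [← hP c hc, ← hP d hd]
        simp only [X0, mul_inv_rev, inv_inv]
        calc _ = P d hd * (C⁻¹ * A c0 * C) * (P d hd)⁻¹ := by group
          _ = _ := by rw [hC']
      refine Subtype.ext ?_
      show c = d
      rw [← hrep c, ← hrep d, ConjClasses.mk_eq_mk_iff_isConj, isConj_iff]
      refine ⟨S0, Matrix.SpecialLinearGroup.toGL_injective ?_⟩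
      rw [map_mul, map_mul, map_inv, hS]
      exact hconjX
    refine (Nat.card_le_card_of_injective Ξ hinj).trans ?_
    rw [← Subgroup.index_eq_card]
    refine (Nat.le_of_dvd (Nat.pos_of_ne_zero Subgroup.index_ne_zero_of_finite)
      (Subgroup.index_dvd_of_le hHD)).trans_eq ?_
    rw [IsCyclic.index_powMonoidHom_range, Nat.card_units]
    exact Nat.gcd_eq_right (Nat.gcd_dvd_left _ _)
  · intro c
    obtain ⟨h1, h2⟩ := toList_icc (hf c) (hsum c)
    refine ⟨h1, ?_⟩
    rw [h2]
    obtain ⟨φ⟩ := hequiv c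
    have h3 := det_eq_prod (fun i => (hf c i).1) (hsum c) φ
    rw [show ((A c : GL (Fin n) F) : Matrix (Fin n) (Fin n) F).det = 1 from (rep c).2] at h3
    have h4 : ((-1 : F) ^ n) * (-1) ^ n = 1 := by rw [← mul_pow]; simp
    calc ∏ i, (f c i).1.coeff 0 ^ (f c i).2 = ((-1 : F) ^ n * (-1) ^ n) * ∏ i, (f c i).1.coeff 0 ^ (f c i).2 := by
          rw [h4, one_mul]
      _ = (-1) ^ n := by rw [mul_assoc, ← h3, mul_one]

/-- The upper bound, in terms of the counting function. -/
theorem classNumber_mul_le (n : ℕ) (hn : 1 ≤ n) :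
    (Nat.card F - 1) * Nat.card (ConjClasses (SLn n)) ≤ cnt (Nat.card F - 1) n n +
      ∑ d ∈ (Finset.Icc 2 n).filter (fun d => d ∣ n ∧ d ∣ Nat.card F - 1),
        (d ^ 2 - 1) * cnt (Nat.card F - 1) (n / d) (n / d) := by
  classical
  haveI : Finite (ConjClasses (SLn n)) := inferInstance
  haveI := Fintype.ofFinite (ConjClasses (SLn n))
  let t : Fˣ := (-1) ^ n
  obtain ⟨G, hG, hfib, -⟩ := exists_classTuple (F := F) n
  have hG' : ∀ c, G c ∈ (tupleFinset F n).filter (fun g => constProd n g = (t : F)) := fun c =>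
    Finset.mem_filter.2 ⟨(hG c).1, by simp [t, (hG c).2]⟩
  have hcount : Nat.card (ConjClasses (SLn n)) ≤
      ∑ g ∈ (tupleFinset F n).filter (fun g => constProd n g = (t : F)), idx n g := by
    rw [Nat.card_eq_fintype_card, ← Finset.card_univ,
      Finset.card_eq_sum_card_fiberwise (f := G) (fun c _ => hG' c)]
    refine Finset.sum_le_sum fun g _ => le_of_eq_of_le ?_ (hfib g)
    rw [Nat.card_eq_fintype_card, Fintype.card_subtype]
  exact (Nat.mul_le_mul_left _ hcount).trans ((sum_idx_le n t).trans (sum_idx_sq_le n hn))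

/-- The lower bound. -/
theorem lt_classNumber {n : ℕ} (hn : 2 ≤ n) :
    Nat.card F ^ (n - 1) < Nat.card (ConjClasses (SLn n)) := by
  classical
  obtain ⟨m, rfl⟩ : ∃ m, n = m + 1 := ⟨n - 1, by omega⟩
  let S : Set F := {((-1) ^ (m + 1) : F)}
  have hc := H54.card_monic (F := F) m S
  rw [Nat.card_coe_set_eq, Set.ncard_singleton, one_mul] at hc
  rw [Nat.add_sub_cancel]
  let β := {f : F[X] // f.Monic ∧ f.natDegree = m + 1 ∧ f.coeff 0 ∈ S}
  have h2 : ((-1 : F) ^ (m + 1)) * (-1) ^ (m + 1) = 1 := by rw [← mul_pow]; simp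
  have key : ∀ g : SLn (m + 1), (g : Matrix (Fin (m + 1)) (Fin (m + 1)) F).charpoly.Monic ∧
      (g : Matrix (Fin (m + 1)) (Fin (m + 1)) F).charpoly.natDegree = m + 1 ∧
      (g : Matrix (Fin (m + 1)) (Fin (m + 1)) F).charpoly.coeff 0 ∈ S := fun g =>
    ⟨Matrix.charpoly_monic _, by simp, by
      have h1 := Matrix.det_eq_sign_charpoly_coeff (g : Matrix (Fin (m + 1)) (Fin (m + 1)) F)
      rw [g.2, Fintype.card_fin] at h1
      rw [Set.mem_singleton_iff]
      calc _ = ((-1 : F) ^ (m + 1)) * (-1) ^ (m + 1) * _ := by rw [h2, one_mul]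
        _ = _ := by rw [mul_assoc, ← h1, mul_one]⟩
  let Φ : ConjClasses (SLn (m + 1)) → β :=
    Quotient.lift (fun g => (⟨_, key g⟩ : β)) fun g h hgh => Subtype.ext (by
      obtain ⟨x, hx⟩ := isConj_iff.1 (show IsConj g h from hgh)
      refine H54.charpoly_eq_of_isConj (g := Matrix.SpecialLinearGroup.toGL g)
        (h := Matrix.SpecialLinearGroup.toGL h) (isConj_iff.2 ⟨Matrix.SpecialLinearGroup.toGL x, ?_⟩)
      rw [← map_inv, ← map_mul, ← map_mul, hx])
  have hsurj : Function.Surjective Φ := by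
    rintro ⟨f, hf, hd, h0⟩
    obtain ⟨M, hM⟩ := H54.exists_charpoly (n := m + 1) hf hd
    have hdet : M.det = 1 := by
      rw [Matrix.det_eq_sign_charpoly_coeff, hM, Set.mem_singleton_iff.1 h0, Fintype.card_fin, h2]
    exact ⟨ConjClasses.mk ⟨M, hdet⟩, Subtype.ext hM⟩
  haveI : Finite (ConjClasses (SLn (m + 1))) := inferInstance
  rw [← hc]
  refine lt_of_le_of_ne (Nat.card_le_card_of_surjective Φ hsurj) fun he => ?_
  have hbij : Function.Bijective Φ := hsurj.bijective_of_nat_card_le he.ge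
  let i : Fin (m + 1) := ⟨0, by omega⟩
  let j : Fin (m + 1) := ⟨1, by omega⟩
  have hij : i ≠ j := by simp [i, j, Fin.ext_iff]
  let N : Matrix (Fin (m + 1)) (Fin (m + 1)) F := Matrix.single i j 1
  let T : SLn (m + 1) := ⟨1 + N, Matrix.det_transvection_of_ne i j hij (1 : F)⟩
  have hN : IsNilpotent N := ⟨2, by
    rw [pow_two]; exact Matrix.single_mul_single_of_ne (1 : F) i j i (Ne.symm hij) 1⟩
  have hΦ : Φ (ConjClasses.mk T) = Φ (ConjClasses.mk 1) :=
    Subtype.ext (H54.charpoly_add_nilpotent (Commute.one_left N) hN)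
  have hT : T = 1 := by
    obtain ⟨x, hx⟩ := isConj_iff.1 (ConjClasses.mk_eq_mk_iff_isConj.1 (hbij.1 hΦ)).symm
    rw [← hx]; simp
  have h3 := congrArg (fun g : SLn (m + 1) => (g : Matrix (Fin (m + 1)) (Fin (m + 1)) F) i j) hT
  simp [T, N, hij] at h3

end Cfsg.Agent.H55.SLClassNumber
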