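import Mathlib
import Cfsg.Agent.H55.GLClassNumber

/-!
If an invertible matrix is similar to a scalar multiple of itself, its tuple of polynomials is invariant
under the corresponding scaling of the roots.
-/

set_option autoImplicit false

namespace Cfsg.Agent.H55.SLClassNumber

open Polynomial Module
open scoped MatrixGroups
open Cfsg.Agent.H55.GLClassNumber

section Scale

variable {F : Type*} [Field F]

/-- Scale the roots of a monic polynomial by `ζ⁻¹`. -/
noncomputable def scaleMonic (ζ : Fˣ) (p : F[X]) : F[X] :=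
  C ((ζ : F) ^ p.natDegree)⁻¹ * p.comp (C (ζ : F) * X)

lemma comp_eq_scaleMonic (ζ : Fˣ) (p : F[X]) :
    p.comp (C (ζ : F) * X) = C ((ζ : F) ^ p.natDegree) * scaleMonic ζ p := by
  rw [scaleMonic, ← mul_assoc, ← C_mul, mul_inv_cancel₀ (pow_ne_zero _ ζ.ne_zero), C_1, one_mul]

lemma scaleMonic_coeff (ζ : Fˣ) (p : F[X]) (i : ℕ) :
    (scaleMonic ζ p).coeff i = ((ζ : F) ^ p.natDegree)⁻¹ * (p.coeff i * (ζ : F) ^ i) := by
  rw [scaleMonic, coeff_C_mul, comp_C_mul_X_coeff]

lemma natDegree_scaleMonic (ζ : Fˣ) (p : F[X]) : (scaleMonic ζ p).natDegree = p.natDegree := by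
  rw [scaleMonic, natDegree_C_mul (inv_ne_zero (pow_ne_zero _ ζ.ne_zero)), natDegree_comp,
    natDegree_C_mul_X _ ζ.ne_zero, mul_one]

lemma monic_scaleMonic (ζ : Fˣ) {p : F[X]} (hp : p.Monic) : (scaleMonic ζ p).Monic := by
  rw [Monic, leadingCoeff, natDegree_scaleMonic, scaleMonic_coeff, hp.coeff_natDegree, one_mul,
    inv_mul_cancel₀ (pow_ne_zero _ ζ.ne_zero)]

lemma scaleMonic_scaleMonic (ζ : Fˣ) (p : F[X]) : scaleMonic ζ⁻¹ (scaleMonic ζ p) = p := by
  ext i
  have h : ((ζ : F)⁻¹) ^ i * (ζ : F) ^ i = 1 := by rw [← mul_pow, inv_mul_cancel₀ ζ.ne_zero, one_pow]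
  rw [scaleMonic_coeff, natDegree_scaleMonic, scaleMonic_coeff, Units.val_inv_eq_inv_val, inv_pow, inv_inv]
  field_simp
  rw [mul_assoc, mul_comm ((ζ : F) ^ i), one_div, h, mul_one]

lemma scaleMonic_injective (ζ : Fˣ) : Function.Injective (scaleMonic (F := F) ζ) :=
  Function.LeftInverse.injective (g := scaleMonic ζ⁻¹) (fun p => scaleMonic_scaleMonic ζ p)

lemma scaleMonic_mul (ζ : Fˣ) {p r : F[X]} (hp : p ≠ 0) (hr : r ≠ 0) :
    scaleMonic ζ (p * r) = scaleMonic ζ p * scaleMonic ζ r := by
  rw [scaleMonic, scaleMonic, scaleMonic, natDegree_mul hp hr, pow_add, mul_inv, C_mul, mul_comp]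
  ring

lemma scaleMonic_multisetProd (ζ : Fˣ) (s : Multiset F[X]) (hs : ∀ p ∈ s, p.Monic) :
    scaleMonic ζ s.prod = (s.map (scaleMonic ζ)).prod := by
  induction s using Multiset.induction_on with
  | empty => simp [scaleMonic]
  | cons a s ih =>
    rw [Multiset.map_cons, Multiset.prod_cons, Multiset.prod_cons,
      scaleMonic_mul ζ (hs a (Multiset.mem_cons_self a s)).ne_zero
        (Polynomial.monic_multiset_prod_of_monic s id (fun p hp => hs p (Multiset.mem_cons_of_mem hp)) |>.ne_zero |>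
          fun h => by simpa using h),
      ih fun p hp => hs p (Multiset.mem_cons_of_mem hp)]

lemma irreducible_scaleMonic (ζ : Fˣ) {p : F[X]} (hp : p.Monic) (hirr : Irreducible p) :
    Irreducible (scaleMonic ζ p) := by
  have hne : scaleMonic ζ p ≠ 1 := fun h => by
    have h1 := natDegree_scaleMonic ζ p
    rw [h, natDegree_one] at h1
    exact hirr.natDegree_pos.ne h1
  refine (irreducible_of_monic (monic_scaleMonic ζ hp) hne).2 fun a b ha hb hab => ?_
  have hp1 : p ≠ 1 := hirr.ne_one
  have h1 : scaleMonic ζ⁻¹ a * scaleMonic ζ⁻¹ b = p := by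
    rw [← scaleMonic_mul _ ha.ne_zero hb.ne_zero, hab, scaleMonic_scaleMonic]
  rcases (irreducible_of_monic hp hp1).1 hirr _ _ (monic_scaleMonic _ ha) (monic_scaleMonic _ hb) h1 with h | h
  · exact Or.inl (eq_one_of_monic_natDegree_zero ha (by rw [← natDegree_scaleMonic ζ⁻¹ a, h, natDegree_one]))
  · exact Or.inr (eq_one_of_monic_natDegree_zero hb (by rw [← natDegree_scaleMonic ζ⁻¹ b, h, natDegree_one]))

/-- A polynomial fixed by scaling is a polynomial in `X ^ orderOf ζ`. -/
lemma eq_expand_of_scaleMonic {ζ : Fˣ} {g : F[X]} (hpos : 0 < orderOf ζ) (h0 : g.coeff 0 ≠ 0)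
    (h : scaleMonic ζ g = g) : g = expand F (orderOf ζ) (contract (orderOf ζ) g) := by
  have hc : ∀ i, g.coeff i ≠ 0 → (ζ : F) ^ i = (ζ : F) ^ g.natDegree := fun i hi => by
    have h1 := congrArg (fun r : F[X] => r.coeff i) h
    simp only [scaleMonic_coeff] at h1
    rw [mul_comm (g.coeff i), ← mul_assoc] at h1
    exact (inv_mul_eq_one₀ (pow_ne_zero _ ζ.ne_zero)).1 (mul_eq_right₀ hi |>.1 h1) |>.symm
  ext i
  rw [coeff_expand hpos]
  split_ifs with hd
  · rw [coeff_contract hpos.ne', Nat.div_mul_cancel hd]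
  · by_contra hi
    refine hd (orderOf_dvd_of_pow_eq_one (Units.ext ?_))
    rw [Units.val_pow_eq_pow_val, Units.val_one, hc i hi, ← hc 0 h0, pow_zero]

end Scale

section Invariance

variable {F : Type*} [Field F] [Finite F] {n : ℕ}

lemma card_ker_piece {a : F[X] × ℕ} (ha : a.1.Monic) (hai : Irreducible a.1) {p : F[X]} (hp : p.Monic)
    (hpi : Irreducible p) (j : ℕ) [Decidable (a.1 = p)] :
    Nat.card {y : Piece a // p ^ j • y = 0} =
      Nat.card F ^ (if a.1 = p then p.natDegree * min j a.2 else 0) := by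
  classical
  by_cases h : a.1 = p
  · rw [if_pos h]
    set s := min j a.2 with hs
    let Ψ : F[X] →ₗ[F[X]] Piece a :=
      (Submodule.mkQ (Ideal.span {a.1 ^ a.2} : Submodule F[X] F[X])).comp
        (LinearMap.mulLeft F[X] (p ^ (a.2 - s)))
    have he : p ^ a.2 = p ^ (a.2 - s) * p ^ s := by rw [← pow_add]; congr 1; omega
    have hker : LinearMap.ker Ψ = Ideal.span {p ^ s} := by
      ext z
      show Submodule.Quotient.mk (p ^ (a.2 - s) * z) = (0 : Piece a) ↔ _
      rw [Submodule.Quotient.mk_eq_zero, Ideal.mem_span_singleton, Ideal.mem_span_singleton, h, he,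
        mul_dvd_mul_iff_left (pow_ne_zero _ hp.ne_zero)]
    have hrange : ∀ y : Piece a, y ∈ LinearMap.range Ψ ↔ p ^ j • y = 0 := by
      intro y
      constructor
      · rintro ⟨z, rfl⟩
        show p ^ j • (Submodule.Quotient.mk (p ^ (a.2 - s) * z) : Piece a) = 0
        rw [← Submodule.Quotient.mk_smul, Submodule.Quotient.mk_eq_zero, Ideal.mem_span_singleton, h,
          smul_eq_mul, ← mul_assoc, ← pow_add]
        exact Dvd.dvd.mul_right (pow_dvd_pow _ (by omega)) _
      · intro hy
        obtain ⟨z, rfl⟩ := Submodule.Quotient.mk_surjective _ y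
        rw [← Submodule.Quotient.mk_smul, Submodule.Quotient.mk_eq_zero, Ideal.mem_span_singleton, h,
          smul_eq_mul] at hy
        obtain ⟨w, hw⟩ : p ^ (a.2 - s) ∣ z := by
          rcases Nat.le_total a.2 j with hle | hle
          · rw [show a.2 - s = 0 by omega, pow_zero]; exact one_dvd z
          · rw [show p ^ a.2 = p ^ j * p ^ (a.2 - s) by rw [← pow_add]; congr 1; omega,
              mul_dvd_mul_iff_left (pow_ne_zero _ hp.ne_zero)] at hy
            exact hy
        exact ⟨w, congrArg Submodule.Quotient.mk hw.symm⟩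
    rw [← Nat.card_congr ((Submodule.quotEquivOfEq _ _ hker.symm ≪≫ₗ Ψ.quotKerEquivRange).toEquiv.trans
      (Equiv.subtypeEquivRight hrange))]
    haveI : Module.Finite F (F[X] ⧸ Ideal.span {p ^ s}) := (hp.pow s).finite_quotient
    rw [Module.natCard_eq_pow_finrank (K := F) (V := F[X] ⧸ Ideal.span {p ^ s}),
      finrank_quotient_span_eq_natDegree, natDegree_pow, mul_comm]
  · rw [if_neg h, pow_zero, Nat.card_eq_one_iff_unique]
    refine ⟨⟨?_⟩, ⟨⟨0, smul_zero _⟩⟩⟩
    have key : ∀ y : Piece a, p ^ j • y = 0 → y = 0 := by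
      intro y hy
      obtain ⟨z, rfl⟩ := Submodule.Quotient.mk_surjective _ y
      rw [← Submodule.Quotient.mk_smul, Submodule.Quotient.mk_eq_zero, Ideal.mem_span_singleton,
        smul_eq_mul] at hy
      rw [Submodule.Quotient.mk_eq_zero, Ideal.mem_span_singleton]
      refine IsCoprime.dvd_of_dvd_mul_left ?_ hy
      refine IsCoprime.pow ((hai.coprime_iff_not_dvd).2 fun hd => h ?_)
      exact eq_of_monic_of_associated ha hp (hai.associated_of_dvd hpi hd)
    rintro ⟨y, hy⟩ ⟨y', hy'⟩
    exact Subtype.ext ((key y hy).trans (key y' hy').symm)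

open scoped Classical in
/-- The sum of the truncated exponents of the pieces of a given prime. -/
noncomputable def nullity {m : ℕ} (f : Fin m → F[X] × ℕ) (p : F[X]) (j : ℕ) : ℕ :=
  ∑ i ∈ Finset.univ.filter (fun i => (f i).1 = p), min j (f i).2

lemma card_ker_mdl {A : GL (Fin n) F} {m : ℕ} {f : Fin m → F[X] × ℕ}
    (hf : ∀ i, (f i).1.Monic ∧ Irreducible (f i).1) (φ : Mdl A ≃ₗ[F[X]] ∀ i, Piece (f i))
    {p : F[X]} (hp : p.Monic) (hpi : Irreducible p) (j : ℕ) :
    Nat.card {v : Mdl A // p ^ j • v = 0} = Nat.card F ^ (p.natDegree * nullity f p j) := by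
  classical
  have e : {v : Mdl A // p ^ j • v = 0} ≃ ∀ i, {y : Piece (f i) // p ^ j • y = 0} :=
    (φ.toEquiv.subtypeEquiv (q := fun y => ∀ i, p ^ j • y i = 0) fun v => by
      rw [← LinearEquiv.map_eq_zero_iff φ, map_smul, funext_iff]
      rfl).trans (Equiv.subtypePiEquivPi (p := fun i (y : Piece (f i)) => p ^ j • y = 0))
  rw [Nat.card_congr e, Nat.card_pi, nullity, Finset.mul_sum, Finset.sum_filter, ← Finset.prod_pow_eq_pow_sum]
  refine Finset.prod_congr rfl fun i _ => ?_
  convert card_ker_piece (hf i).1 (hf i).2 hp hpi j using 3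

omit [Finite F] in
open scoped Classical in
lemma fibre_formula {m : ℕ} (f : Fin m → F[X] × ℕ) (p : F[X]) {k : ℕ} (hk : 0 < k) :
    2 * nullity f p k = nullity f p (k + 1) + nullity f p (k - 1) +
      (Finset.univ.filter (fun i => (f i).1 = p ∧ (f i).2 = k)).card := by
  rw [nullity, nullity, nullity, Finset.card_filter, ← Finset.sum_filter_add_sum_filter_not
    Finset.univ (fun i => (f i).1 = p) (fun i => if (f i).1 = p ∧ (f i).2 = k then 1 else 0),
    Finset.sum_eq_zero (s := Finset.univ.filter fun i => ¬(f i).1 = p)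
      (fun i hi => if_neg fun h => (Finset.mem_filter.1 hi).2 h.1),
    add_zero, Finset.mul_sum, ← Finset.sum_add_distrib]
  rw [← Finset.sum_add_distrib]
  refine Finset.sum_congr (by congr) fun i hi => ?_
  have hip : (f i).1 = p := (Finset.mem_filter.1 hi).2
  simp only [hip, true_and]
  split_ifs with h <;> omega

/-- A matrix similar to its multiple by `ζ` has tuple invariant under scaling. -/
theorem scaleMonic_gOf {A : GL (Fin n) F} {ζ : Fˣ} (P : GL (Fin n) F)
    (hP : (P : Matrix (Fin n) (Fin n) F) * A = (ζ : F) • ((A : Matrix (Fin n) (Fin n) F) * P))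
    {m : ℕ} {f : Fin m → F[X] × ℕ} (hf : ∀ i, (f i).1.Monic ∧ Irreducible (f i).1)
    (φ : Mdl A ≃ₗ[F[X]] ∀ i, Piece (f i)) {k : ℕ} (hk : 0 < k) :
    scaleMonic ζ (gOf f k) = gOf f k := by
  classical
  let a := Matrix.toLin' (A : Matrix (Fin n) (Fin n) F)
  have hPu : IsUnit (P : Matrix (Fin n) (Fin n) F).det := (Matrix.isUnit_iff_isUnit_det _).1 P.isUnit
  let T : (Fin n → F) →ₗ[F] (Fin n → F) := Matrix.toLin' (P : Matrix (Fin n) (Fin n) F)
  have hT : Function.Bijective T := by
    refine (Module.End.isUnit_iff _).1 ?_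
    exact P.isUnit.map (Matrix.toLinAlgEquiv' (R := F) (n := Fin n))
  let τ : Mdl A ≃ₗ[F] Mdl A :=
    ((Module.AEval'.of a).symm.trans (LinearEquiv.ofBijective T hT)).trans (Module.AEval'.of a)
  have hτX : ∀ v, τ ((X : F[X]) • v) = (C (ζ : F) * X) • τ v := by
    intro v
    obtain ⟨w, rfl⟩ := (Module.AEval'.of a).surjective v
    rw [Module.AEval'.X_smul_of, mul_smul, Module.AEval.C_smul]
    show Module.AEval'.of a (T ((Module.AEval'.of a).symm (Module.AEval'.of a (a w)))) =
      (ζ : F) • ((X : F[X]) • Module.AEval'.of a (T ((Module.AEval'.of a).symm (Module.AEval'.of a w))))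
    rw [LinearEquiv.symm_apply_apply, LinearEquiv.symm_apply_apply, Module.AEval'.X_smul_of, ← map_smul]
    congr 1
    show T (a w) = (ζ : F) • a (T w)
    have := congrArg (fun M => Matrix.toLin' M w) hP
    simpa [T, a, Matrix.toLin'_mul] using this
  have hτ : ∀ (c : F[X]) v, τ (c • v) = c.comp (C (ζ : F) * X) • τ v := by
    intro c
    induction c using Polynomial.induction_on with
    | C r => intro v; rw [C_comp, Module.AEval.C_smul, Module.AEval.C_smul, map_smul]
    | add c d hc hd => intro v; rw [add_smul, map_add, hc, hd, add_comp, add_smul]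
    | monomial i r ih =>
      intro v
      rw [pow_succ, ← mul_assoc, mul_smul, ih, hτX, ← mul_smul]
      simp only [mul_comp, X_comp]
  have hN : ∀ (p : F[X]), p.Monic → Irreducible p → ∀ j,
      nullity f (scaleMonic ζ p) j = nullity f p j := by
    intro p hp hpi j
    have h1 := card_ker_mdl hf φ hp hpi j
    have h2 := card_ker_mdl hf φ (monic_scaleMonic ζ hp) (irreducible_scaleMonic ζ hp hpi) j
    have e : {v : Mdl A // p ^ j • v = 0} ≃ {v : Mdl A // scaleMonic ζ p ^ j • v = 0} :=
      τ.toEquiv.subtypeEquiv fun v => by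
        show _ ↔ scaleMonic ζ p ^ j • τ v = 0
        rw [← LinearEquiv.map_eq_zero_iff τ, hτ, pow_comp, comp_eq_scaleMonic, mul_pow, ← C_pow, mul_smul,
          Module.AEval.C_smul, smul_eq_zero_iff_right (pow_ne_zero _ (pow_ne_zero _ ζ.ne_zero))]
    rw [Nat.card_congr e, h2, natDegree_scaleMonic] at h1
    exact Nat.eq_of_mul_eq_mul_left hpi.natDegree_pos (Nat.pow_right_injective Finite.one_lt_card h1)
  let M : Multiset F[X] := (Finset.univ.filter (fun i => (f i).2 = k)).val.map (fun i => (f i).1)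
  have hM : ∀ x ∈ M, x.Monic ∧ Irreducible x := fun x hx => by
    obtain ⟨i, -, rfl⟩ := Multiset.mem_map.1 hx
    exact hf i
  have hcount : ∀ x, M.count x = (Finset.univ.filter (fun i => (f i).1 = x ∧ (f i).2 = k)).card := fun x => by
    rw [Multiset.count_map, Finset.card_def, ← Finset.filter_val, Finset.filter_filter]
    congr 2
    ext i
    simp [eq_comm, and_comm]
  have hinv : M.map (scaleMonic ζ) = M := by
    refine Multiset.eq_of_le_of_card_le (Multiset.le_iff_count.2 fun y => ?_) (Multiset.card_map _ M).ge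
    by_cases hy : y ∈ M.map (scaleMonic ζ)
    · obtain ⟨x, hx, rfl⟩ := Multiset.mem_map.1 hy
      rw [Multiset.count_map_eq_count' _ _ (scaleMonic_injective ζ), hcount, hcount]
      have h1 := fibre_formula f x hk
      have h2 := fibre_formula f (scaleMonic ζ x) hk
      simp only [hN x (hM x hx).1 (hM x hx).2] at h2
      omega
    · rw [Multiset.count_eq_zero_of_notMem hy]; exact Nat.zero_le _
  rw [gOf, Finset.prod_eq_multiset_prod]
  show scaleMonic ζ M.prod = M.prod
  rw [scaleMonic_multisetProd ζ M (fun x hx => (hM x hx).1), hinv]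

end Invariance

end Cfsg.Agent.H55.SLClassNumber
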