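import Mathlib
import Cfsg.Agent.H55.SLClassNumber
import Cfsg.Agent.H55.SLScaleInvariant

/-!
Bounds for the class number of the projective special linear group over a finite field.
-/

set_option autoImplicit false

namespace Cfsg.Agent.H55.SLClassNumber

open Polynomial
open scoped MatrixGroups
open Cfsg.Agent.H55.GLClassNumber

section Quotient

variable {G : Type*} [Group G] [Finite G] (Z : Subgroup G) [Z.Normal]

lemma card_classes_le_mul (hZ : Z ≤ Subgroup.center G) :
    Nat.card (ConjClasses G) ≤ Nat.card Z * Nat.card (ConjClasses (G ⧸ Z)) := by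
  classical
  haveI : Finite (ConjClasses G) := inferInstance
  haveI : Finite (ConjClasses (G ⧸ Z)) := inferInstance
  have hsurj : Function.Surjective
      (fun zc : Z × ConjClasses (G ⧸ Z) => ConjClasses.mk ((zc.1 : G) * zc.2.exists_rep.choose.out)) := by
    intro c
    obtain ⟨g, rfl⟩ := ConjClasses.exists_rep c
    let d := ConjClasses.mk (QuotientGroup.mk g : G ⧸ Z)
    obtain ⟨x, hx⟩ := isConj_iff.1 (ConjClasses.mk_eq_mk_iff_isConj.1 d.exists_rep.choose_spec)
    obtain ⟨y, rfl⟩ := QuotientGroup.mk_surjective x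
    have hz : (y * d.exists_rep.choose.out * y⁻¹)⁻¹ * g ∈ Z := by
      apply QuotientGroup.eq.1
      rw [QuotientGroup.mk_mul, QuotientGroup.mk_mul, QuotientGroup.mk_inv, QuotientGroup.out_eq']
      exact hx
    refine ⟨(⟨_, hz⟩, d), ConjClasses.mk_eq_mk_iff_isConj.2 (isConj_iff.2 ⟨y, ?_⟩)⟩
    show y * (((y * d.exists_rep.choose.out * y⁻¹)⁻¹ * g) * d.exists_rep.choose.out) * y⁻¹ = g
    have hc1 := Subgroup.mem_center_iff.1 (hZ hz) y
    have hc2 := Subgroup.mem_center_iff.1 (hZ hz) (y * d.exists_rep.choose.out * y⁻¹)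
    generalize d.exists_rep.choose.out = h0 at hz hc1 hc2 ⊢
    rw [← mul_assoc y, hc1]
    calc (y * h0 * y⁻¹)⁻¹ * g * y * h0 * y⁻¹ = ((y * h0 * y⁻¹)⁻¹ * g) * (y * h0 * y⁻¹) := by group
      _ = (y * h0 * y⁻¹) * ((y * h0 * y⁻¹)⁻¹ * g) := hc2.symm
      _ = g := by group
  rw [← Nat.card_prod]
  exact Nat.card_le_card_of_surjective _ hsurj

lemma mul_card_classes_le (hZ : Z ≤ Subgroup.center G) [Fintype Z] :
    Nat.card Z * Nat.card (ConjClasses (G ⧸ Z)) ≤
      ∑ z : Z, Nat.card {c : ConjClasses G // ∃ g, ConjClasses.mk g = c ∧ IsConj ((z : G) * g) g} := by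
  classical
  have hwd : ∀ (z : Z) (g h : G), IsConj g h → IsConj ((z : G) * g) ((z : G) * h) := fun z g h hgh => by
    obtain ⟨x, rfl⟩ := isConj_iff.1 hgh
    refine isConj_iff.2 ⟨x, ?_⟩
    rw [← mul_assoc x, Subgroup.mem_center_iff.1 (hZ z.2) x]
    group
  letI : MulAction Z (ConjClasses G) :=
  { smul := fun z => Quotient.map (fun g => (z : G) * g) (fun g h hgh => hwd z g h hgh)
    one_smul := fun c => by
      obtain ⟨g, rfl⟩ := ConjClasses.exists_rep c
      show ConjClasses.mk (((1 : Z) : G) * g) = _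
      rw [Subgroup.coe_one, one_mul]
    mul_smul := fun a b c => by
      obtain ⟨g, rfl⟩ := ConjClasses.exists_rep c
      show ConjClasses.mk (((a * b : Z) : G) * g) = ConjClasses.mk ((a : G) * ((b : G) * g))
      rw [Subgroup.coe_mul, mul_assoc] }
  haveI := Fintype.ofFinite (ConjClasses G)
  haveI : Fintype (Quotient (MulAction.orbitRel Z (ConjClasses G))) := Fintype.ofFinite _
  have hfix : ∀ z : Z, Fintype.card (MulAction.fixedBy (ConjClasses G) z) ≤
      Nat.card {c : ConjClasses G // ∃ g, ConjClasses.mk g = c ∧ IsConj ((z : G) * g) g} := by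
    intro z
    rw [← Nat.card_eq_fintype_card]
    refine Nat.card_le_card_of_injective (fun c => ⟨c.1, ?_⟩) (fun a b h => Subtype.ext (congrArg (fun x => x.1) h))
    obtain ⟨c, hc⟩ := c
    obtain ⟨g, rfl⟩ := ConjClasses.exists_rep c
    exact ⟨g, rfl, ConjClasses.mk_eq_mk_iff_isConj.1 hc⟩
  refine le_trans ?_ (Finset.sum_le_sum fun z _ => hfix z)
  rw [MulAction.sum_card_fixedBy_eq_card_orbits_mul_card_group, mul_comm, Nat.card_eq_fintype_card (α := Z)]
  refine Nat.mul_le_mul_right _ ?_
  rw [← Nat.card_eq_fintype_card]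
  refine Nat.card_le_card_of_surjective
    (Quotient.lift (ConjClasses.map (QuotientGroup.mk' Z)) ?_) ?_
  · intro c c' h
    obtain ⟨z, rfl⟩ := MulAction.orbitRel_apply.1 h
    obtain ⟨g, rfl⟩ := ConjClasses.exists_rep c'
    show ConjClasses.mk (QuotientGroup.mk' Z ((z : G) * g)) = ConjClasses.mk (QuotientGroup.mk' Z g)
    rw [map_mul, show QuotientGroup.mk' Z (z : G) = 1 from (QuotientGroup.eq_one_iff _).2 z.2, one_mul]
  · intro c
    obtain ⟨x, rfl⟩ := ConjClasses.exists_rep c
    obtain ⟨g, rfl⟩ := QuotientGroup.mk_surjective x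
    exact ⟨Quotient.mk _ (ConjClasses.mk g), rfl⟩

end Quotient

variable {F : Type*} [Field F] [Finite F]

local notation "SLn" n:max => Matrix.SpecialLinearGroup (Fin n) F

lemma card_center (n : ℕ) (hn : 1 ≤ n) :
    Nat.card (Subgroup.center (SLn n)) = Nat.gcd n (Nat.card F - 1) := by
  rw [Nat.card_congr Matrix.SpecialLinearGroup.center_equiv_rootsOfUnity.toEquiv, Fintype.card_fin,
    max_eq_left hn, show rootsOfUnity n F = (powMonoidHom n : Fˣ →* Fˣ).ker by ext; simp [mem_rootsOfUnity],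
    IsCyclic.card_powMonoidHom_ker, Nat.card_units, Nat.gcd_comm]

/-- The number of classes fixed by a non-trivial central element. -/
lemma card_fixed_le (n : ℕ) (z : SLn n) (hz : z ∈ Subgroup.center (SLn n)) (hz1 : z ≠ 1) :
    ∃ o, 2 ≤ o ∧ o ∣ n ∧
      (Nat.card F - 1) * Nat.card {c : ConjClasses (SLn n) // ∃ g, ConjClasses.mk g = c ∧ IsConj (z * g) g} ≤
        ∑ h ∈ tupleFinset F (n / o), idx (n / o) h ^ 2 := by
  classical
  obtain ⟨r, hr, hrz⟩ := Matrix.SpecialLinearGroup.mem_center_iff.1 hz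
  rw [Fintype.card_fin] at hr
  rcases Nat.eq_zero_or_pos n with hn | hn
  · subst hn; exact absurd (Subsingleton.elim _ _) hz1
  have hr0 : r ≠ 0 := by
    intro h; rw [h, zero_pow hn.ne'] at hr; exact zero_ne_one hr
  let ζ : Fˣ := (Units.mk0 r hr0)⁻¹
  have hζn : ζ ^ n = 1 := Units.ext (by simp [ζ, hr])
  set o := orderOf ζ with ho
  have hopos : 0 < o := orderOf_pos ζ
  have hon : o ∣ n := orderOf_dvd_of_pow_eq_one hζn
  have ho2 : 2 ≤ o := by
    by_contra h
    have h1 : ζ = 1 := orderOf_eq_one_iff.1 (by omega)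
    refine hz1 (Subtype.ext ?_)
    rw [← hrz, show r = 1 by simpa [ζ, Units.ext_iff] using h1, map_one]
    rfl
  refine ⟨o, ho2, hon, ?_⟩
  set m := n / o with hm
  have hmn : m ≤ n := Nat.div_le_self _ _
  have hnm : m * o = n := Nat.div_mul_cancel hon
  haveI : Finite (ConjClasses (SLn n)) := inferInstance
  haveI := Fintype.ofFinite (ConjClasses (SLn n))
  obtain ⟨G, hG, hfib, hdec⟩ := exists_classTuple (F := F) n
  let P : ConjClasses (SLn n) → Prop := fun c => ∃ g, ConjClasses.mk g = c ∧ IsConj (z * g) g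
  have hinv : ∀ c, P c → ∀ k, scaleMonic ζ (G c k) = G c k := by
    intro c hc k
    obtain ⟨g0, hg0, hconj⟩ := hc
    obtain ⟨g, m', f, hg, hf, ⟨φ⟩, hGc⟩ := hdec c
    rw [hGc]
    show scaleMonic ζ (if k ∈ Finset.Icc 1 n then gOf f k else 1) = if k ∈ Finset.Icc 1 n then gOf f k else 1
    split_ifs with hk
    swap
    · simp [scaleMonic]
    obtain ⟨x, hx⟩ := isConj_iff.1 (ConjClasses.mk_eq_mk_iff_isConj.1 (hg0.trans hg.symm))
    have hzg : IsConj (z * g) g := by
      refine (isConj_iff.2 ⟨x⁻¹, ?_⟩ : IsConj (z * g) (z * g0)).trans (hconj.trans (isConj_iff.2 ⟨x, hx⟩))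
      rw [← hx, ← mul_assoc x⁻¹ z, Subgroup.mem_center_iff.1 hz x⁻¹]
      group
    obtain ⟨y, hy⟩ := isConj_iff.1 hzg
    refine scaleMonic_gOf (Matrix.SpecialLinearGroup.toGL y) ?_ hf φ (Finset.mem_Icc.1 hk).1
    have h1 : y * (z * g) = g * y := by rw [eq_mul_inv_iff_mul_eq.1 (by rw [hy] : g = y * (z * g) * y⁻¹)]
    have h2 := congrArg (fun a : SLn n => (a : Matrix (Fin n) (Fin n) F)) h1
    simp only [Matrix.SpecialLinearGroup.coe_mul, ← hrz] at h2
    rw [Matrix.scalar_apply, ← Matrix.smul_one_eq_diagonal, Matrix.smul_mul, one_mul, Matrix.mul_smul] at h2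
    show (y : Matrix (Fin n) (Fin n) F) * (g : Matrix (Fin n) (Fin n) F) =
      (ζ : F) • ((g : Matrix (Fin n) (Fin n) F) * (y : Matrix (Fin n) (Fin n) F))
    rw [← h2, smul_smul, show (ζ : F) * r = 1 by simp [ζ, hr0], one_smul]
  let K : ConjClasses (SLn n) → (ℕ → F[X]) := fun c k => contract o (G c k)
  let E : (ℕ → F[X]) → (ℕ → F[X]) := fun h k => expand F o (h k)
  have hKE : ∀ c, P c → G c = E (K c) := by
    intro c hc
    funext k
    exact eq_expand_of_scaleMonic hopos (((finite_tupleSet F n).mem_toFinset.1 (hG c).1).1 k).2 (hinv c hc k)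
  have hout : ∀ c, P c → ∀ k, k ∉ Finset.Icc 1 m → K c k = 1 := by
    intro c hc k hk
    obtain ⟨hmon, hone, hsum⟩ := (finite_tupleSet F n).mem_toFinset.1 (hG c).1
    have h1 : G c k = 1 := by
      by_cases hkI : k ∈ Finset.Icc 1 n
      · refine eq_one_of_monic_natDegree_zero (hmon k).1 ?_
        by_contra hd
        have hod : o ≤ (G c k).natDegree := by
          have h2 : (G c k).natDegree = (K c k).natDegree * o := by
            conv_lhs => rw [congrFun (hKE c hc) k]
            exact natDegree_expand _ _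
          rcases Nat.eq_zero_or_pos (K c k).natDegree with h0 | h0
          · rw [h0, zero_mul] at h2; exact absurd h2 hd
          · rw [h2]; exact Nat.le_mul_of_pos_left _ h0
        have hle : k * (G c k).natDegree ≤ n :=
          (Finset.single_le_sum (f := fun j => j * (G c j).natDegree) (fun j _ => Nat.zero_le _) hkI).trans_eq hsum
        refine hk (Finset.mem_Icc.2 ⟨(Finset.mem_Icc.1 hkI).1, ?_⟩)
        rw [hm, Nat.le_div_iff_mul_le hopos]
        exact (Nat.mul_le_mul_left k hod).trans hle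
      · exact hone k hkI
    show contract o (G c k) = 1
    rw [h1, ← C_1, contract_C]
  let t : Fˣ := (-1) ^ n
  have hKmem : ∀ c, P c → K c ∈ (tupleFinset F m).filter (fun h => constProd m h = (t : F)) := by
    intro c hc
    obtain ⟨hmon, hone, hsum⟩ := (finite_tupleSet F n).mem_toFinset.1 (hG c).1
    have h2 : ∀ k, (G c k).natDegree = (K c k).natDegree * o := fun k => by
      conv_lhs => rw [congrFun (hKE c hc) k]
      exact natDegree_expand _ _
    have h3 : ∀ k, (G c k).coeff 0 = (K c k).coeff 0 := fun k => by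
      show _ = (contract o (G c k)).coeff 0
      rw [coeff_contract hopos.ne', zero_mul]
    refine Finset.mem_filter.2 ⟨(finite_tupleSet F m).mem_toFinset.2 ⟨fun k => ⟨?_, ?_⟩, hout c hc, ?_⟩, ?_⟩
    · refine (monic_expand_iff hopos).1 ?_
      show (E (K c) k).Monic
      rw [← congrFun (hKE c hc) k]
      exact (hmon k).1
    · rw [← h3]; exact (hmon k).2
    · refine Nat.eq_of_mul_eq_mul_right hopos ?_
      rw [hnm, Finset.sum_mul]
      refine Eq.trans ?_ hsum
      refine Eq.trans ?_ (Finset.sum_subset (Finset.Icc_subset_Icc le_rfl hmn) ?_)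
      · exact Finset.sum_congr rfl fun k _ => by rw [h2, mul_assoc]
      · intro k _ hk
        rw [h2, hout c hc k hk]; simp
    · have ht : (t : F) = (-1) ^ n := by simp [t]
      rw [ht, ← (hG c).2, constProd, constProd]
      refine Eq.trans ?_ (Finset.prod_subset (Finset.Icc_subset_Icc le_rfl hmn) ?_)
      · exact Finset.prod_congr rfl fun k _ => by rw [h3]
      · intro k _ hk
        rw [h3, hout c hc k hk]; simp
  have hfib' : ∀ h ∈ (tupleFinset F m).filter (fun h => constProd m h = (t : F)),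
      ((Finset.univ.filter P).filter (fun c => K c = h)).card ≤ idx m h := by
    intro h hh
    obtain ⟨hmon, hone, -⟩ := (finite_tupleSet F m).mem_toFinset.1 (Finset.mem_filter.1 hh).1
    have hidx : idx n (E h) = idx m h := by
      have hs : supp n (E h) = supp m h := by
        ext k
        simp only [supp, Finset.mem_filter, E, natDegree_expand, mul_ne_zero_iff]
        constructor
        · rintro ⟨hkn, hk0, -⟩
          refine ⟨?_, hk0⟩
          by_contra hk
          exact hk0 (by rw [hone k hk, natDegree_one])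
        · rintro ⟨hkm, hk0⟩
          exact ⟨Finset.Icc_subset_Icc le_rfl hmn hkm, hk0, hopos.ne'⟩
      rw [idx, idx, hs]
    rw [← hidx]
    refine le_trans ?_ (hfib (E h))
    rw [Nat.card_eq_fintype_card, Fintype.card_subtype]
    refine Finset.card_le_card fun c hc => ?_
    simp only [Finset.mem_filter, Finset.mem_univ, true_and] at hc ⊢
    rw [hKE c hc.1, hc.2]
  have hcount : Nat.card {c // P c} ≤
      ∑ h ∈ (tupleFinset F m).filter (fun h => constProd m h = (t : F)), idx m h := by
    rw [Nat.card_eq_fintype_card, Fintype.card_subtype,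
      Finset.card_eq_sum_card_fiberwise (f := K) (fun c hc => hKmem c (Finset.mem_filter.1 hc).2)]
    exact Finset.sum_le_sum hfib'
  exact (Nat.mul_le_mul_left _ hcount).trans (sum_idx_le m t)

lemma small_bound {K r m : ℕ} (hr : 0 < r) (hm : 1 ≤ m)
    (hK : r * K ≤ cnt r m m +
      ∑ d ∈ (Finset.Icc 2 m).filter (fun d => d ∣ m ∧ d ∣ r), (d ^ 2 - 1) * cnt r (m / d) (m / d)) :
    2 * K ≤ 5 * (r + 1) ^ (m - 1) ∧ (m = 1 → K ≤ 1) ∧ (m = 2 → K ≤ r + 5) := by
  refine ⟨?_, ?_, ?_⟩
  · rcases Nat.lt_or_ge m 2 with h | h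
    · obtain rfl : m = 1 := by omega
      simp [cnt, wt, Finset.sum_range_succ] at hK
      have : K ≤ 1 := Nat.le_of_mul_le_mul_left (by simpa using hK) hr
      simp
      omega
    · exact (class_bound hr h hK).1
  · rintro rfl
    simp [cnt, wt, Finset.sum_range_succ] at hK
    exact Nat.le_of_mul_le_mul_left (by simpa using hK) hr
  · rintro rfl
    rw [Finset.sum_filter, show Finset.Icc 2 2 = {2} from rfl, Finset.sum_singleton] at hK
    refine Nat.le_of_mul_le_mul_left (hK.trans ?_) hr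
    split_ifs
    · simp [cnt, wt, Finset.sum_range_succ]; nlinarith
    · simp [cnt, wt, Finset.sum_range_succ]; nlinarith

theorem psl_bounds {n : ℕ} (hn : 2 ≤ n) :
    Nat.card F ^ (n - 1) ≤ Nat.gcd n (Nat.card F - 1) *
        Nat.card (ConjClasses (Matrix.ProjectiveSpecialLinearGroup (Fin n) F)) ∧
      Nat.gcd n (Nat.card F - 1) * Nat.card (ConjClasses (Matrix.ProjectiveSpecialLinearGroup (Fin n) F)) ≤
        Nat.card F ^ (n - 1) + 5 * Nat.card F ^ (n - 2) := by
  classical
  rw [← card_center (F := F) n (by omega)]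
  refine ⟨(lt_classNumber (F := F) hn).le.trans (card_classes_le_mul _ le_rfl), ?_⟩
  let Z := Subgroup.center (SLn n)
  haveI : Fintype Z := Fintype.ofFinite _
  obtain ⟨r, hr, hq⟩ : ∃ r, 0 < r ∧ Nat.card F = r + 1 :=
    ⟨Nat.card F - 1, Nat.sub_pos_of_lt Finite.one_lt_card, (Nat.sub_add_cancel Finite.one_lt_card.le).symm⟩
  have hr' : Nat.card F - 1 = r := by omega
  rw [hq]
  have hK := classNumber_mul_le (F := F) n (by omega)
  rw [hr'] at hK
  refine (mul_card_classes_le Z le_rfl).trans ?_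
  rw [← Finset.add_sum_erase _ _ (Finset.mem_univ (1 : Z))]
  have hone : Nat.card {c : ConjClasses (SLn n) // ∃ g, ConjClasses.mk g = c ∧ IsConj (((1 : Z) : SLn n) * g) g} ≤
      Nat.card (ConjClasses (SLn n)) := Nat.card_le_card_of_injective _ Subtype.val_injective
  let e := n / 2 - 1
  have hrest : ∀ z ∈ Finset.univ.erase (1 : Z),
      2 * Nat.card {c : ConjClasses (SLn n) // ∃ g, ConjClasses.mk g = c ∧ IsConj ((z : SLn n) * g) g} ≤
        (if n ≤ 3 then 2 else 5 * (r + 1) ^ e) := by
    intro z hz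
    have hz1 : (z : SLn n) ≠ 1 := fun h => (Finset.mem_erase.1 hz).1 (Subtype.ext h)
    obtain ⟨o, ho2, hon, hle⟩ := card_fixed_le n (z : SLn n) z.2 hz1
    have hm : 1 ≤ n / o := Nat.div_pos (Nat.le_of_dvd (by omega) hon) (by omega)
    have h2 := hle.trans (sum_idx_sq_le (n / o) hm)
    rw [hr'] at h2
    obtain ⟨b1, b2, -⟩ := small_bound hr hm h2
    split_ifs with h3
    · have : n / o = 1 := by
        obtain ⟨j, hj⟩ := hon
        have : j = 1 := by
          rcases Nat.lt_or_ge j 2 with h | h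
          · rcases Nat.eq_zero_or_pos j with rfl | h'
            · omega
            · omega
          · nlinarith
        rw [hj, this, mul_one, Nat.div_self (by omega)]
      have := b2 this
      omega
    · refine b1.trans (Nat.mul_le_mul_left 5 (Nat.pow_le_pow_right (Nat.succ_pos r) ?_))
      exact Nat.sub_le_sub_right (Nat.div_le_div_left ho2 (by norm_num)) 1
  have hsum := Finset.sum_le_sum hrest
  rw [← Finset.mul_sum, Finset.sum_const, smul_eq_mul, Finset.card_erase_of_mem (Finset.mem_univ _),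
    Finset.card_univ, ← Nat.card_eq_fintype_card, card_center n (by omega), hr'] at hsum
  refine (Nat.add_le_add_right hone _).trans ?_
  set S := ∑ z ∈ Finset.univ.erase (1 : Z),
    Nat.card {c : ConjClasses (SLn n) // ∃ g, ConjClasses.mk g = c ∧ IsConj ((z : SLn n) * g) g}
  set K0 := Nat.card (ConjClasses (SLn n))
  have hd1 : Nat.gcd n r ≤ n := Nat.le_of_dvd (by omega) (Nat.gcd_dvd_left _ _)
  have hd2 : Nat.gcd n r ≤ r := Nat.le_of_dvd hr (Nat.gcd_dvd_right _ _)
  by_cases h3 : n ≤ 3
  · rw [if_pos h3] at hsum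
    obtain rfl | rfl : n = 2 ∨ n = 3 := by omega
    · have := (small_bound hr (by norm_num) hK).2.2 rfl
      simp only [show 2 - 1 = 1 from rfl, show 2 - 2 = 0 from rfl, pow_one, pow_zero]
      omega
    · have h := (class_bound hr (by norm_num) hK).2 le_rfl
      simp only [show 3 - 1 = 2 from rfl, show 3 - 2 = 1 from rfl, pow_one] at h ⊢
      omega
  · rw [if_neg h3] at hsum
    have h := (class_bound hr hn hK).2 (by omega)
    have key : (Nat.gcd n r - 1) * (5 * (r + 1) ^ e) ≤ 4 * (r + 1) ^ (n - 2) := by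
      by_cases h4 : n = 4
      · subst h4
        rw [show e = 1 from rfl, pow_one, show (4 : ℕ) - 2 = 2 from rfl]
        have h5 : 5 * (Nat.gcd 4 r - 1) ≤ 4 * (r + 1) := by omega
        nlinarith [Nat.mul_le_mul_right (r + 1) h5]
      · have h5 : e + 2 ≤ n - 2 := by simp only [e]; omega
        refine le_trans ?_ (Nat.mul_le_mul_left 4 (Nat.pow_le_pow_right (Nat.succ_pos r) h5))
        have h6 : (Nat.gcd n r - 1) * 5 ≤ 4 * ((r + 1) * (r + 1)) := by
          have : Nat.gcd n r - 1 ≤ r := by omega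
          nlinarith
        calc (Nat.gcd n r - 1) * (5 * (r + 1) ^ e) = (Nat.gcd n r - 1) * 5 * (r + 1) ^ e := by ring
          _ ≤ 4 * ((r + 1) * (r + 1)) * (r + 1) ^ e := Nat.mul_le_mul_right _ h6
          _ = 4 * (r + 1) ^ (e + 2) := by ring
    omega

end Cfsg.Agent.H55.SLClassNumber
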