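/-
SL(3,3): every element in normal form is a product of two conjugates of an element of order 4
(a table of witnesses, checked by `decide`).
-/
import Mathlib

set_option autoImplicit false

namespace Cfsg.Agent.H55.SL3Three

/-- Explicit 3 × 3 product. -/
def mul9 (a b : Fin 9 → ZMod 3) : Fin 9 → ZMod 3 :=
  ![a 0 * b 0 + a 1 * b 3 + a 2 * b 6, a 0 * b 1 + a 1 * b 4 + a 2 * b 7, a 0 * b 2 + a 1 * b 5 + a 2 * b 8,
    a 3 * b 0 + a 4 * b 3 + a 5 * b 6, a 3 * b 1 + a 4 * b 4 + a 5 * b 7, a 3 * b 2 + a 4 * b 5 + a 5 * b 8,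
    a 6 * b 0 + a 7 * b 3 + a 8 * b 6, a 6 * b 1 + a 7 * b 4 + a 8 * b 7, a 6 * b 2 + a 7 * b 5 + a 8 * b 8]

/-- Adjugate. -/
def adj9 (a : Fin 9 → ZMod 3) : Fin 9 → ZMod 3 :=
  ![a 4 * a 8 - a 5 * a 7, a 2 * a 7 - a 1 * a 8, a 1 * a 5 - a 2 * a 4,
    a 5 * a 6 - a 3 * a 8, a 0 * a 8 - a 2 * a 6, a 2 * a 3 - a 0 * a 5,
    a 3 * a 7 - a 4 * a 6, a 1 * a 6 - a 0 * a 7, a 0 * a 4 - a 1 * a 3]

/-- Determinant. -/
def det9 (a : Fin 9 → ZMod 3) : ZMod 3 :=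
  a 0 * (a 4 * a 8 - a 5 * a 7) - a 1 * (a 3 * a 8 - a 5 * a 6) + a 2 * (a 3 * a 7 - a 4 * a 6)

/-- Base-3 decoding. -/
def dec9 (c : Nat) : Fin 9 → ZMod 3 := fun i => ((c / 3 ^ (i : Nat) % 3 : Nat) : ZMod 3)

/-- The chosen element of order 4. -/
def x9 : Fin 9 → ZMod 3 := ![1, 0, 0, 0, 0, 2, 0, 1, 0]

/-- Witnesses. -/
def table : List (Nat × Nat) := [
  (0, 0), (0, 0), (0, 0), (0, 0), (0, 0), (0, 0), (0, 0), (0, 0),
  (0, 0), (0, 0), (0, 0), (0, 0), (0, 0), (0, 0), (0, 0), (0, 0),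
  (0, 0), (0, 0), (0, 0), (0, 0), (0, 0), (0, 0), (0, 0), (0, 0),
  (0, 0), (0, 0), (0, 0), (0, 0), (0, 0), (0, 0), (10539, 5926), (6165, 5926),
  (14913, 5926), (0, 0), (0, 0), (0, 0), (0, 0), (0, 0), (0, 0), (8109, 12349),
  (3735, 12349), (19044, 12349), (0, 0), (0, 0), (0, 0), (0, 0), (0, 0), (0, 0),
  (5922, 17155), (14670, 17155), (10296, 17155), (0, 0), (0, 0), (0, 0), (0, 0), (0, 0),
  (0, 0), (0, 0), (0, 0), (0, 0), (19287, 18883), (3978, 18883), (8352, 18883), (0, 0),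
  (0, 0), (0, 0), (0, 0), (0, 0), (0, 0), (14670, 8140), (5922, 8140), (10296, 8140),
  (0, 0), (0, 0), (0, 0), (0, 0), (0, 0), (0, 0), (3735, 14080), (8109, 14080),
  (19044, 14080), (0, 0), (0, 0), (2709, 16726), (0, 0), (0, 0), (9108, 16132), (0, 0),
  (0, 0), (8784, 1903), (0, 0), (0, 0), (10242, 9108), (0, 0), (0, 0), (2223, 12024),
  (0, 0), (0, 0), (16074, 8379), (0, 0), (0, 0), (3681, 17806), (0, 0), (0, 0),
  (9513, 14890), (0, 0), (0, 0), (15345, 16348), (0, 0), (0, 0), (19287, 3739), (8352, 3739),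
  (0, 0), (0, 0), (0, 0), (3978, 3739), (0, 0), (0, 0), (0, 0), (8109, 13807),
  (3735, 13807), (0, 0), (0, 0), (0, 0), (19044, 13807), (0, 0), (0, 0), (0, 0),
  (5922, 6949), (14670, 6949), (0, 0), (0, 0), (0, 0), (10296, 6949), (0, 0), (0, 0),
  (0, 0), (10539, 10135), (0, 0), (6165, 10135), (0, 0), (14913, 10135), (0, 0), (0, 0),
  (0, 0), (0, 0), (14670, 8869), (0, 0), (10296, 8869), (0, 0), (5922, 8869), (0, 0),
  (0, 0), (0, 0), (0, 0), (3735, 17725), (0, 0), (19044, 17725), (0, 0), (8109, 17725),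
  (0, 0), (0, 0), (0, 0), (1791, 1386), (0, 0), (0, 0), (1791, 3573), (0, 0),
  (0, 0), (1791, 5760), (0, 0), (0, 0), (9513, 11322), (0, 0), (0, 0), (2223, 16425),
  (0, 0), (0, 0), (16803, 1845), (0, 0), (0, 0), (2709, 6355), (0, 0), (0, 0),
  (15507, 6490), (0, 0), (0, 0), (8784, 6463), (0, 0), (0, 0), (1791, 1552), (0, 0),
  (12726, 1552), (0, 0), (0, 0), (0, 0), (0, 0), (17100, 1552), (0, 0), (8109, 4330),
  (0, 0), (19044, 4330), (0, 0), (0, 0), (0, 0), (0, 0), (3735, 4330), (0, 0),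
  (5922, 5491), (0, 0), (10296, 5491), (0, 0), (0, 0), (0, 0), (0, 0), (14670, 5491),
  (0, 0), (1791, 1387), (0, 0), (0, 0), (0, 0), (12726, 1387), (17100, 1387), (0, 0),
  (0, 0), (0, 0), (14670, 11785), (0, 0), (0, 0), (0, 0), (5922, 11785), (10296, 11785),
  (0, 0), (0, 0), (0, 0), (3735, 16996), (0, 0), (0, 0), (0, 0), (8109, 16996),
  (19044, 16996), (0, 0), (0, 0)]

/-- The check of one entry. -/
def okEntry (x y z s t : ZMod 3) : Bool :=
  let w := table.getD (81 * x.val + 27 * y.val + 9 * z.val + 3 * s.val + t.val) (0, 0)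
  let p := dec9 w.1
  let q := dec9 w.2
  let m : Fin 9 → ZMod 3 := ![0, x, y, 1, z, 0, 0, s, t]
  decide (det9 m ≠ 1) ||
    (decide (det9 p = 1) && decide (det9 q = 1) &&
      decide (mul9 (mul9 (mul9 p x9) (adj9 p)) (mul9 (mul9 q x9) (adj9 q)) = m))

theorem okEntry_all : ∀ x y z s t : ZMod 3, okEntry x y z s t = true := by decide +kernel

/-- As a matrix. -/
def toMat (a : Fin 9 → ZMod 3) : Matrix (Fin 3) (Fin 3) (ZMod 3) :=
  !![a 0, a 1, a 2; a 3, a 4, a 5; a 6, a 7, a 8]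

theorem toMat_mul (a b : Fin 9 → ZMod 3) : toMat (mul9 a b) = toMat a * toMat b := by
  ext i j
  fin_cases i <;> fin_cases j <;>
    simp [toMat, mul9, Matrix.mul_apply, Fin.sum_univ_three]

theorem toMat_adj (a : Fin 9 → ZMod 3) : toMat (adj9 a) = (toMat a).adjugate := by
  rw [Matrix.adjugate_fin_three]
  ext i j
  fin_cases i <;> fin_cases j <;> simp [toMat, adj9] <;> ring

theorem det_toMat (a : Fin 9 → ZMod 3) : (toMat a).det = det9 a := by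
  simp [toMat, det9, Matrix.det_fin_three]
  ring

/-- The element of SL(3,3) used. -/
def X : Matrix.SpecialLinearGroup (Fin 3) (ZMod 3) :=
  ⟨toMat x9, by rw [det_toMat]; decide⟩

theorem covered (x y z s t : ZMod 3) (h : (!![0, x, y; 1, z, 0; 0, s, t]).det = 1) :
    ∃ P Q : Matrix.SpecialLinearGroup (Fin 3) (ZMod 3),
      !![0, x, y; 1, z, 0; 0, s, t] = ((P * X * P⁻¹) * (Q * X * Q⁻¹)).1 := by
  have hm : toMat ![0, x, y, 1, z, 0, 0, s, t] = !![0, x, y; 1, z, 0; 0, s, t] := by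
    simp [toMat]
  have h1 : det9 ![0, x, y, 1, z, 0, 0, s, t] = 1 := by rw [← det_toMat, hm, h]
  have h2 := okEntry_all x y z s t
  simp only [okEntry, Bool.or_eq_true, Bool.and_eq_true, decide_eq_true_eq, h1, ne_eq,
    not_true_eq_false, false_or] at h2
  obtain ⟨⟨hp, hq⟩, heq⟩ := h2
  refine ⟨⟨_, (det_toMat _).trans hp⟩, ⟨_, (det_toMat _).trans hq⟩, ?_⟩
  show _ = toMat _ * toMat x9 * (toMat _).adjugate * (toMat _ * toMat x9 * (toMat _).adjugate)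
  rw [← toMat_adj, ← toMat_adj, ← toMat_mul, ← toMat_mul, ← toMat_mul, ← toMat_mul, ← toMat_mul]
  rw [heq, hm]

end Cfsg.Agent.H55.SL3Three
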