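/-
Class sizes in PSL(2,q).
-/
import Cfsg.Agent.H55.SLTwoClasses

set_option autoImplicit false

namespace Cfsg.Agent.H55

open Matrix Cfsg.Agent.Linear

variable {F : Type*} [Field F]

local notation "M2" => Matrix (Fin 2) (Fin 2) F
local notation "S2" => Matrix.SpecialLinearGroup (Fin 2) F

/-- The size of the class of the image of `X`. -/
noncomputable def clsSize (X : S2) : ℕ :=
  (Subgroup.centralizer ({toPSL X} : Set (Matrix.ProjectiveSpecialLinearGroup (Fin 2) F))).index

theorem mem_preimage_centralizer (X Y : S2) :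
    toPSL Y ∈ Subgroup.centralizer ({toPSL X} : Set (Matrix.ProjectiveSpecialLinearGroup (Fin 2) F)) ↔
      Y * X * Y⁻¹ = X ∨ Y * X * Y⁻¹ = -X := by
  rw [Subgroup.mem_centralizer_singleton_iff, ← toPSL_two_eq_iff]
  unfold toPSL
  rw [map_mul, map_mul, map_inv, mul_inv_eq_iff_eq_mul]

theorem clsSize_mul [Fintype F] (X : S2) (N : ℕ)
    (hN : Nat.card ((Subgroup.centralizer ({toPSL X} : Set (Matrix.ProjectiveSpecialLinearGroup (Fin 2) F))).comap
      (QuotientGroup.mk' (Subgroup.center S2))) = N) :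
    clsSize X * N = Fintype.card F * (Fintype.card F ^ 2 - 1) := by
  rw [← hN, clsSize, ← Subgroup.index_comap_of_surjective (f := QuotientGroup.mk' (Subgroup.center S2))
    _ (QuotientGroup.mk'_surjective _), Subgroup.index_mul_card, card_SL_two]

theorem mem_centralizer_iff_conj {X Y : S2} :
    Y ∈ Subgroup.centralizer ({X} : Set S2) ↔ Y * X * Y⁻¹ = X := by
  rw [Subgroup.mem_centralizer_singleton_iff, mul_inv_eq_iff_eq_mul]

theorem comap_eq_centralizer {X : S2} (h : (X : M2).trace ≠ 0 ∨ (2 : F) = 0) :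
    (Subgroup.centralizer ({toPSL X} : Set (Matrix.ProjectiveSpecialLinearGroup (Fin 2) F))).comap
      (QuotientGroup.mk' (Subgroup.center S2)) = Subgroup.centralizer ({X} : Set S2) := by
  ext Y
  rw [Subgroup.mem_comap, mem_centralizer_iff_conj]
  refine (mem_preimage_centralizer X Y).trans ⟨?_, Or.inl⟩
  rintro (h' | h')
  · exact h'
  by_cases h2 : (2 : F) = 0
  · have : CharP F 2 := CharTwo.of_one_ne_zero_of_two_eq_zero one_ne_zero h2
    rw [h']
    apply Subtype.ext
    rw [Matrix.SpecialLinearGroup.coe_neg]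
    ext i j
    exact CharTwo.neg_eq _
  · exfalso
    apply h.resolve_right h2
    have ht : ((Y * X * Y⁻¹ : S2) : M2).trace = (X : M2).trace := Cfsg.Agent.Linear.trace_conj X Y
    rw [h', Matrix.SpecialLinearGroup.coe_neg, Matrix.trace_neg] at ht
    exact (mul_eq_zero.1 (show (2 : F) * (X : M2).trace = 0 by linear_combination -ht)).resolve_left h2

theorem card_comap_trace_zero [Fintype F] {X : S2} (h2 : (2 : F) ≠ 0) (ht : (X : M2).trace = 0) :
    Nat.card ((Subgroup.centralizer ({toPSL X} : Set (Matrix.ProjectiveSpecialLinearGroup (Fin 2) F))).comap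
      (QuotientGroup.mk' (Subgroup.center S2))) = 2 * Nat.card (Subgroup.centralizer ({X} : Set S2)) := by
  have h4 : (X : M2).trace ^ 2 ≠ 4 := by
    rw [ht]
    intro h
    have : (2 : F) * 2 = 0 := by linear_combination -h
    exact h2 (mul_self_eq_zero.1 this)
  have hns := not_isScalarTwo_of_trace h4
  have h4' : ((-X : S2) : M2).trace ^ 2 ≠ 4 := by
    rw [Matrix.SpecialLinearGroup.coe_neg, Matrix.trace_neg, neg_sq]; exact h4
  obtain ⟨W, hW⟩ := isConj_iff.1 (isConj_of_trace_eq hns (not_isScalarTwo_of_trace h4')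
    (by rw [Matrix.SpecialLinearGroup.coe_neg, Matrix.trace_neg, ht, neg_zero]) (Or.inr h4))
  have hne : (-X : S2) ≠ X := by
    intro h
    have h' := congrArg (fun Z : S2 => (Z : M2)) h
    apply hns
    have hz : ∀ i j, (X : M2) i j = 0 := by
      intro i j
      have := congrFun (congrFun h' i) j
      simp only [Matrix.SpecialLinearGroup.coe_neg, Matrix.neg_apply] at this
      exact (mul_eq_zero.1 (show (2 : F) * (X : M2) i j = 0 by linear_combination -this)).resolve_left h2
    exact ⟨hz _ _, hz _ _, by rw [hz, hz]⟩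
  set P := (Subgroup.centralizer ({toPSL X} : Set (Matrix.ProjectiveSpecialLinearGroup (Fin 2) F))).comap
      (QuotientGroup.mk' (Subgroup.center S2))
  have hmem : ∀ Y : S2, Y ∈ P ↔ Y * X * Y⁻¹ = X ∨ Y * X * Y⁻¹ = -X := fun Y =>
    mem_preimage_centralizer X Y
  have hle : Subgroup.centralizer ({X} : Set S2) ≤ P := fun Y hY =>
    (hmem Y).2 (Or.inl (mem_centralizer_iff_conj.1 hY))
  have hidx : (Subgroup.centralizer ({X} : Set S2)).relIndex P = 2 := by
    rw [Subgroup.relIndex, Subgroup.index_eq_two_iff]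
    refine ⟨⟨W, (hmem W).2 (Or.inr hW)⟩, fun ⟨b, hb⟩ => ?_⟩
    simp only [Subgroup.mem_subgroupOf, mem_centralizer_iff_conj, Subgroup.coe_mul]
    have e : b * W * X * (b * W)⁻¹ = -(b * X * b⁻¹) := by
      rw [show b * W * X * (b * W)⁻¹ = b * (W * X * W⁻¹) * b⁻¹ by group, hW, mul_neg, neg_mul]
    rcases (hmem b).1 hb with h | h
    · exact Or.inr ⟨h, by rw [e, h]; exact hne⟩
    · exact Or.inl ⟨by rw [e, h, neg_neg], by rw [h]; exact hne⟩
  have := Subgroup.card_mul_index ((Subgroup.centralizer ({X} : Set S2)).subgroupOf P)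
  rw [← Subgroup.relIndex, hidx, Nat.card_congr (Subgroup.subgroupOfEquivOfLe hle).toEquiv] at this
  rw [← this, mul_comm]

open scoped Classical in
theorem natCard_sq_eq_one [Fintype F] :
    Nat.card {u : F // u ^ 2 = 1} = if (2 : F) = 0 then 1 else 2 := by
  classical
  rw [Nat.card_congr (Equiv.subtypeEquivRight (q := fun u : F => u ∈ ({1, -1} : Finset F)) fun u => by
    simp), Nat.card_eq_fintype_card, Fintype.card_coe]
  by_cases h2 : (2 : F) = 0
  · have : CharP F 2 := CharTwo.of_one_ne_zero_of_two_eq_zero one_ne_zero h2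
    rw [if_pos h2, CharTwo.neg_eq, Finset.pair_eq_singleton, Finset.card_singleton]
  · rw [if_neg h2, Finset.card_pair]
    intro h
    exact h2 (by linear_combination h)

open scoped Classical in
theorem card_centralizer_unipotent [Fintype F] {X : S2} (hns : ¬ IsScalarTwo (X : M2))
    (ht : (X : M2).trace ^ 2 = 4) :
    Nat.card (Subgroup.centralizer ({X} : Set S2)) =
      (if (2 : F) = 0 then 1 else 2) * Fintype.card F := by
  obtain ⟨e, he, hte⟩ : ∃ e : F, e ^ 2 = 1 ∧ (X : M2).trace = 2 * e := by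
    by_cases h2 : (2 : F) = 0
    · exact ⟨1, one_pow 2, by
        rw [h2, zero_mul]
        exact pow_eq_zero_iff (n := 2) two_ne_zero |>.1 (by linear_combination ht + 2 * h2)⟩
    · refine ⟨(X : M2).trace / 2, ?_, (mul_div_cancel₀ _ h2).symm⟩
      rw [div_pow, ht, show (4 : F) = 2 ^ 2 by norm_num, div_self (pow_ne_zero 2 h2)]
  have hd : ∀ a b : F, (a • (1 : M2) + b • (X : M2)).det = (a + b * e) ^ 2 := by
    intro a b
    rw [det_smul_add_smul, X.2, hte]
    linear_combination -(b ^ 2) * he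
  rw [← natCard_sq_eq_one, ← Nat.card_eq_fintype_card (α := F), ← Nat.card_prod]
  refine (Nat.card_congr (Equiv.ofBijective (fun x : {u : F // u ^ 2 = 1} × F =>
    (⟨⟨(x.1.1 - x.2 * e) • (1 : M2) + x.2 • (X : M2), by rw [hd, sub_add_cancel, x.1.2]⟩,
      (mem_centralizer_SL_two hns).2 ⟨_, _, rfl⟩⟩ : Subgroup.centralizer ({X} : Set S2))) ⟨?_, ?_⟩)).symm
  · rintro ⟨⟨u, hu⟩, b⟩ ⟨⟨u', hu'⟩, b'⟩ h
    obtain ⟨h1, h2⟩ := smul_add_smul_injective hns (congrArg (fun Z => ((Z : Subgroup.centralizer ({X} : Set S2)).1 : M2)) h)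
    subst h2
    obtain rfl : u = u' := by linear_combination h1
    rfl
  · rintro ⟨Z, hZ⟩
    obtain ⟨a, b, hab⟩ := (mem_centralizer_SL_two hns).1 hZ
    refine ⟨⟨⟨a + b * e, by rw [← hd, ← hab]; exact Z.2⟩, b⟩, Subtype.ext (Subtype.ext ?_)⟩
    simp [hab]

theorem trace_sq_ne_four_of_order [Fintype F] (p : ℕ) [Fact p.Prime] [CharP F p] {X : S2}
    (h : ¬ orderOf (toPSL X) ∣ p) : (X : M2).trace ^ 2 ≠ 4 := fun e => h (trace_sq_cases p e)

theorem orderOf_toPSL_dvd_card [Fintype F] {X : S2} (N : ℕ)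
    (hN : Nat.card (Subgroup.centralizer ({X} : Set S2)) = N) : orderOf (toPSL X) ∣ N := by
  have h1 : (⟨X, Subgroup.mem_centralizer_singleton_iff.2 rfl⟩ : Subgroup.centralizer ({X} : Set S2)) ^ N = 1 :=
    hN ▸ pow_card_eq_one'
  apply orderOf_dvd_of_pow_eq_one
  rw [← map_pow, show X ^ N = 1 from congrArg Subtype.val h1, map_one]

theorem trace_zero_order [Fintype F] {X : S2} (h : (X : M2).trace = 0) : orderOf (toPSL X) ∣ 2 := by
  apply orderOf_dvd_of_pow_eq_one
  rw [← map_pow, toPSL_two_eq_one_iff]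
  right
  apply Subtype.ext
  rw [Matrix.SpecialLinearGroup.coe_pow, sq, SL_sq_eq, h, zero_smul, zero_sub,
    Matrix.SpecialLinearGroup.coe_neg, Matrix.SpecialLinearGroup.coe_one]

/-- The standard unipotent and trace-zero elements. -/
def uni : S2 := ⟨!![1, 1; 0, 1], by simp [Matrix.det_fin_two]⟩

/-- The standard trace-zero element. -/
def inv0 : S2 := ⟨!![0, 1; -1, 0], by simp [Matrix.det_fin_two]⟩

theorem uni_spec : ¬ IsScalarTwo ((uni : S2) : M2) ∧ ((uni : S2) : M2).trace ^ 2 = 4 :=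
  ⟨fun h => by simpa [uni] using h.1, by simp [uni, Matrix.trace_fin_two]; norm_num⟩

theorem inv0_trace : ((inv0 : S2) : M2).trace = 0 := by simp [inv0, Matrix.trace_fin_two]

theorem clsSize_one : clsSize (1 : S2) = 1 := by
  unfold clsSize toPSL
  rw [map_one, Subgroup.index_eq_one, eq_top_iff]
  intro x _
  rw [Subgroup.mem_centralizer_singleton_iff, mul_one, one_mul]

end Cfsg.Agent.H55

namespace Cfsg.Agent.H55

open Matrix Cfsg.Agent.Linear

variable {F : Type*} [Field F]

local notation "M2" => Matrix (Fin 2) (Fin 2) F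
local notation "S2" => Matrix.SpecialLinearGroup (Fin 2) F

theorem clsSize_semisimple [Fintype F] {X : S2} (ht : (X : M2).trace ^ 2 ≠ 4)
    (h : (X : M2).trace ≠ 0 ∨ (2 : F) = 0) :
    (Nat.card (Subgroup.centralizer ({X} : Set S2)) = Fintype.card F - 1 ∧
        clsSize X = Fintype.card F * (Fintype.card F + 1)) ∨
      (Nat.card (Subgroup.centralizer ({X} : Set S2)) = Fintype.card F + 1 ∧
        clsSize X = Fintype.card F * (Fintype.card F - 1)) := by
  have h1 := Fintype.one_lt_card (α := F)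
  have hsq : Fintype.card F ^ 2 - 1 = (Fintype.card F + 1) * (Fintype.card F - 1) := by
    simpa using Nat.sq_sub_sq (Fintype.card F) 1
  rcases card_centralizer_cases ht with hc | hc
  · left
    refine ⟨hc, Nat.eq_of_mul_eq_mul_right (show 0 < Fintype.card F - 1 by omega) ?_⟩
    rw [clsSize_mul X _ (by rw [comap_eq_centralizer h, hc]), hsq, mul_assoc]
  · right
    refine ⟨hc, Nat.eq_of_mul_eq_mul_right (show 0 < Fintype.card F + 1 by omega) ?_⟩
    rw [clsSize_mul X _ (by rw [comap_eq_centralizer h, hc]), hsq]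
    ring

theorem exists_semisimple [Fintype F] (p : ℕ) [Fact p.Prime] [CharP F p] (h4 : 4 ≤ Fintype.card F)
    (hq : ¬ (Fintype.card F = 5)) :
    (∃ X : S2, clsSize X = Fintype.card F * (Fintype.card F + 1)) ∧
    (∃ X : S2, clsSize X = Fintype.card F * (Fintype.card F - 1)) := by
  have hp : p.Prime := Fact.out
  obtain ⟨-, ⟨y, hy⟩, ⟨z, hz⟩⟩ := exists_torus_orders (F := F) p
  obtain ⟨Y, rfl⟩ := QuotientGroup.mk'_surjective _ y
  obtain ⟨Z, rfl⟩ := QuotientGroup.mk'_surjective _ z
  obtain ⟨k, -, hk⟩ := FiniteField.card F p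
  have hpq : p ∣ Fintype.card F := hk ▸ dvd_pow_self p k.ne_zero
  set d := Nat.gcd 2 (Fintype.card F - 1)
  have hd1 : d ∣ Fintype.card F - 1 := Nat.gcd_dvd_right _ _
  have hd2 : d ∣ Fintype.card F + 1 := by
    have := Nat.dvd_add hd1 (Nat.gcd_dvd_left 2 (Fintype.card F - 1))
    rwa [show Fintype.card F - 1 + 2 = Fintype.card F + 1 by omega] at this
  have hbig : 2 < (Fintype.card F - 1) / d ∧ 2 < (Fintype.card F + 1) / d := by
    rcases gcd_two_eq (F := F) with ⟨-, hg, -⟩ | ⟨-, hg, hodd⟩ <;>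
      simp only [d, hg] <;> omega
  have key : ∀ (X : S2) (M : ℕ), M ∣ orderOf (toPSL X) → 2 < M → Nat.Coprime M p →
      (X : M2).trace ^ 2 ≠ 4 ∧ (X : M2).trace ≠ 0 := by
    intro X M hM hM2 hco
    constructor
    · intro h
      have := hco.eq_one_of_dvd (hM.trans (trace_sq_cases p h))
      omega
    · intro h
      have := Nat.le_of_dvd two_pos (hM.trans (trace_zero_order h))
      omega
  have hco : ∀ M, M ∣ Fintype.card F - 1 ∨ M ∣ Fintype.card F + 1 → Nat.Coprime M p := by
    intro M hM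
    refine ((Nat.Prime.coprime_iff_not_dvd hp).2 fun h => ?_).symm
    rcases hM with hM | hM
    · have := Nat.dvd_sub hpq (h.trans hM)
      rw [Nat.sub_sub_self (by omega)] at this
      exact hp.one_lt.ne' (Nat.dvd_one.1 this)
    · have := Nat.dvd_sub (h.trans hM) hpq
      rw [Nat.add_sub_cancel_left] at this
      exact hp.one_lt.ne' (Nat.dvd_one.1 this)
  constructor
  · refine ⟨Y, ?_⟩
    have hdd := Nat.div_dvd_of_dvd hd1
    obtain ⟨ht4, ht0⟩ := key Y _ hy hbig.1 (hco _ (Or.inl hdd))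
    rcases clsSize_semisimple ht4 (Or.inl ht0) with ⟨-, h⟩ | ⟨hc, -⟩
    · exact h
    · exfalso
      have h2 := Nat.dvd_sub (hy.trans (orderOf_toPSL_dvd_card _ hc)) hdd
      rw [show Fintype.card F + 1 - (Fintype.card F - 1) = 2 by omega] at h2
      have := Nat.le_of_dvd two_pos h2
      omega
  · refine ⟨Z, ?_⟩
    have hdd := Nat.div_dvd_of_dvd hd2
    obtain ⟨ht4, ht0⟩ := key Z _ hz hbig.2 (hco _ (Or.inr hdd))
    rcases clsSize_semisimple ht4 (Or.inl ht0) with ⟨hc, -⟩ | ⟨-, h⟩
    · exfalso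
      have h2 := Nat.dvd_sub hdd (hz.trans (orderOf_toPSL_dvd_card _ hc))
      rw [show Fintype.card F + 1 - (Fintype.card F - 1) = 2 by omega] at h2
      have := Nat.le_of_dvd two_pos h2
      omega
    · exact h

theorem clsSize_range [Fintype F] :
    Set.range (fun g : Matrix.ProjectiveSpecialLinearGroup (Fin 2) F =>
      (Subgroup.centralizer ({g} : Set (Matrix.ProjectiveSpecialLinearGroup (Fin 2) F))).index) =
      Set.range (clsSize : S2 → ℕ) := by
  ext v
  constructor
  · rintro ⟨g, rfl⟩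
    obtain ⟨X, rfl⟩ := QuotientGroup.mk'_surjective _ g
    exact ⟨X, rfl⟩
  · rintro ⟨X, rfl⟩
    exact ⟨toPSL X, rfl⟩

theorem clsSize_scalar {X : S2} (h : IsScalarTwo (X : M2)) : clsSize X = 1 := by
  have : toPSL X = toPSL (1 : S2) := by
    rw [(toPSL_two_eq_one_iff X).2 (isScalarTwo_SL_iff.1 h), (toPSL_two_eq_one_iff 1).2 (Or.inl rfl)]
  rw [← clsSize_one (F := F), clsSize, clsSize, this]

theorem clsSize_unipotent [Fintype F] {X : S2} (hns : ¬ IsScalarTwo (X : M2))
    (ht : (X : M2).trace ^ 2 = 4) :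
    ((2 : F) = 0 → clsSize X = Fintype.card F ^ 2 - 1) ∧
    ((2 : F) ≠ 0 → clsSize X * 2 = Fintype.card F ^ 2 - 1) := by
  classical
  have hq : 0 < Fintype.card F := Fintype.card_pos
  have h : (X : M2).trace ≠ 0 ∨ (2 : F) = 0 := by
    by_cases h2 : (2 : F) = 0
    · exact Or.inr h2
    · left
      intro h0
      rw [h0] at ht
      exact h2 (mul_self_eq_zero.1 (show (2 : F) * 2 = 0 by linear_combination -ht))
  have hm := clsSize_mul X _ (by rw [comap_eq_centralizer h, card_centralizer_unipotent hns ht])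
  constructor <;> intro h2
  · rw [if_pos h2, one_mul, mul_comm (Fintype.card F)] at hm
    exact Nat.eq_of_mul_eq_mul_right hq hm
  · rw [if_neg h2, ← mul_assoc, mul_comm (Fintype.card F)] at hm
    exact Nat.eq_of_mul_eq_mul_right hq hm

end Cfsg.Agent.H55
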