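import Mathlib
import Cfsg.Agent.Unitary.Generation

/-!
Generation criteria for subgroups of `SU_n(q)` containing a transvection and an Eichler element.
-/

set_option autoImplicit false
set_option linter.unusedSectionVars false

namespace Cfsg.Agent.H55.SUEngine

open Cfsg Cfsg.Agent.Unitary

variable {F : Type*} [Field F] [Fintype F] {n q : ℕ}

local notation "V" => (Fin n → F)
local notation "H" => hermForm n F q

/-- The map of an Eichler element. -/
def ev (q : ℕ) (a w : V) (α : F) (x : V) : V :=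
  x + hermForm n F q x a • w - hermForm n F q x w • a + (α * hermForm n F q x a) • a

variable (G : Subgroup (SU n F q))

/-- The Eichler element with these parameters is in `G`. -/
def Ei (a w : V) (α : F) : Prop := ∃ A ∈ G, ∀ x, ap A x = ev q a w α x

/-- The transvection with these parameters is in `G`. -/
def InT (t : F) (y : V) : Prop := ∃ A ∈ G, ∀ x, ap A x = x + (t * hermForm n F q x y) • y

/-- All transvections with this centre are in `G`. -/
def InPi (y : V) : Prop := ∀ t : F, t + t ^ q = 0 → InT G t y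

variable {G}

lemma InT.conj {t : F} {y : V} (h : InT G t y) {g : SU n F q} (hg : g ∈ G) : InT G t (ap g y) := by
  obtain ⟨A, hA, hx⟩ := h
  refine ⟨g * A * g⁻¹, G.mul_mem (G.mul_mem hg hA) (G.inv_mem hg), fun x => ?_⟩
  rw [ap_mul, ap_mul, hx, ap_add, ap_ap_inv, ap_smul, herm_ap_right g x y]

lemma InPi.conj {y : V} (h : InPi G y) {g : SU n F q} (hg : g ∈ G) : InPi G (ap g y) :=
  fun t ht => (h t ht).conj hg

lemma Ei.conj {a w : V} {α : F} (h : Ei G a w α) {g : SU n F q} (hg : g ∈ G) :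
    Ei G (ap g a) (ap g w) α := by
  obtain ⟨A, hA, hx⟩ := h
  refine ⟨g * A * g⁻¹, G.mul_mem (G.mul_mem hg hA) (G.inv_mem hg), fun x => ?_⟩
  rw [ap_mul, ap_mul, hx]
  simp only [ev, ap_add, ap_sub, ap_smul, ap_ap_inv, herm_ap_right g x]

lemma InPi.smul (hF : Fintype.card F = q ^ 2) {y : V} (h : InPi G y) (r : F) : InPi G (r • y) := by
  intro t ht
  obtain ⟨A, hA, hx⟩ := h (t * (r * r ^ q)) (by
    rw [mul_pow, norm_pow_q hF]; linear_combination (r * r ^ q) * ht)
  refine ⟨A, hA, fun x => ?_⟩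
  rw [hx, herm_smul_right, smul_smul]
  congr 2
  ring

lemma Ei.mul (hF : Fintype.card F = q ^ 2) {a w w' : V} {α β : F} (ha : H a a = 0) (hw : H w a = 0)
    (hw' : H w' a = 0) (h : Ei G a w α) (h' : Ei G a w' β) :
    Ei G a (w + w') (α + β - H w' w) := by
  obtain ⟨A, hA, hx⟩ := h
  obtain ⟨B, hB, hy⟩ := h'
  have haw : H a w = 0 := (herm_eq_zero_symm hF).1 hw
  refine ⟨A * B, G.mul_mem hA hB, fun x => ?_⟩
  rw [ap_mul, hy, hx]
  simp only [ev, herm_sub_left, herm_add_left, herm_smul_left, herm_add_right hF, ha, hw', haw, mul_zero,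
    add_zero, sub_zero]
  module

lemma Ei.inv (hF : Fintype.card F = q ^ 2) {a w : V} {α : F} (hs : ESpec q a w α) (h : Ei G a w α) :
    Ei G a (-w) (α ^ q) := by
  obtain ⟨A, hA, hx⟩ := h
  have haw : H a w = 0 := (herm_eq_zero_symm hF).1 hs.orth
  refine ⟨A⁻¹, G.inv_mem hA, fun x => ap_injective A ?_⟩
  rw [ap_ap_inv, hx]
  simp only [ev, herm_sub_left, herm_add_left, herm_smul_left, herm_neg_left, herm_neg_right hF,
    hs.iso, hs.orth, haw, neg_zero, mul_zero, add_zero, sub_zero]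
  match_scalars
  · ring
  · ring
  · linear_combination -(H x a) * hs.tr

lemma Ei.toInT (hF : Fintype.card F = q ^ 2) {a : V} {τ α : F} (h : Ei G a (τ • a) α) :
    InT G (α + τ - τ ^ q) a := by
  obtain ⟨A, hA, hx⟩ := h
  refine ⟨A, hA, fun x => ?_⟩
  rw [hx]
  simp only [ev, herm_smul_right]
  module

lemma InT.toEi (hF : Fintype.card F = q ^ 2) {a : V} {τ α t : F} (h : InT G t a) (ht : t = α + τ - τ ^ q) :
    Ei G a (τ • a) α := by
  obtain ⟨A, hA, hx⟩ := h
  refine ⟨A, hA, fun x => ?_⟩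
  rw [hx, ht]
  simp only [ev, herm_smul_right]
  module

lemma Ei_zero (hF : Fintype.card F = q ^ 2) (a : V) : Ei G a 0 0 := by
  refine ⟨1, G.one_mem, fun x => ?_⟩
  simp [ev, herm_zero_right hF]

lemma InT.inv {t : F} {y : V} (hy : H y y = 0) (h : InT G t y) : InT G (-t) y := by
  obtain ⟨A, hA, hx⟩ := h
  refine ⟨A⁻¹, G.inv_mem hA, fun x => ap_injective A ?_⟩
  rw [ap_ap_inv, hx, herm_add_left, herm_smul_left, hy, mul_zero, add_zero]
  module

/-- The parameters of a pair of transvections with orthogonal centres. -/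
lemma Ei.of_pair (hF : Fintype.card F = q ^ 2) {a D : V} {c z : F} (hc : c + c ^ q = 0) (hD : H D D = 0)
    (hDa : H D a = 0) (h1 : InT G c (D + z • a)) (h2 : InT G c D) :
    Ei G a ((c * z ^ q) • D) (c * (z * z ^ q)) := by
  obtain ⟨A, hA, hx⟩ := h1
  obtain ⟨B, hB, hy⟩ := h2.inv hD
  refine ⟨A * B, G.mul_mem hA hB, fun x => ?_⟩
  rw [ap_mul, hy, hx]
  simp only [ev, herm_add_left, herm_smul_left, herm_add_right hF, herm_smul_right, mul_pow, pow_q_q hF,
    hD, hDa, mul_zero, add_zero]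
  rw [show c ^ q = -c from eq_neg_of_add_eq_zero_right hc]
  module

section Fields

/-- A skew parameter adapted to a given scalar. -/
lemma exists_param (hF : Fintype.card F = q ^ 2) {κ : F} (hκ : κ ≠ 0) :
    ∃ c : F, c ≠ 0 ∧ c + c ^ q = 0 ∧
      ∀ r : F, r ^ q = r → r ≠ 0 → ∃ k : ℕ, r ^ 2 = (c ^ 2 * (κ * κ ^ q)) ^ k := by
  classical
  obtain ⟨δ, hδ0, hδ⟩ := exists_skew hF
  obtain ⟨g0, hg0⟩ := IsCyclic.exists_generator (α := Fˣ)
  obtain ⟨ε, hε⟩ : ∃ ε : F, ε = (g0 : F) * (g0 : F) ^ q := ⟨_, rfl⟩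
  have hε0 : ε ≠ 0 := by rw [hε]; exact mul_ne_zero g0.ne_zero (pow_ne_zero _ g0.ne_zero)
  have hεq : ε ^ q = ε := by rw [hε]; exact norm_pow_q hF _
  have hε1 : ε ^ (q - 1) = 1 := by
    have h := hεq
    rw [← Nat.sub_add_cancel (q_pos hF), pow_succ] at h
    exact mul_right_cancel₀ hε0 (h.trans (one_mul ε).symm)
  have hgen : ∀ r : F, r ^ q = r → r ≠ 0 → ∃ k : ℕ, r = ε ^ k := by
    intro r hr hr0
    obtain ⟨x, hx⟩ := exists_norm_eq hF hr
    have hx0 : x ≠ 0 := fun h => hr0 (by rw [← hx, h, zero_mul])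
    obtain ⟨k, hk⟩ := mem_powers_iff_mem_zpowers.2 (hg0 (Units.mk0 x hx0))
    refine ⟨k, ?_⟩
    have hk' : (g0 : F) ^ k = x := by simpa using congrArg Units.val hk
    rw [← hx, ← hk', hε, mul_pow, ← pow_mul, ← pow_mul, mul_comm k q]
  have hA : (δ ^ 2 * (κ * κ ^ q)) ^ q = δ ^ 2 * (κ * κ ^ q) := by
    rw [mul_pow, norm_pow_q hF, ← pow_mul, mul_comm 2 q, pow_mul, hδ, neg_sq]
  obtain ⟨j, hj⟩ := hgen _ hA (mul_ne_zero (pow_ne_zero _ hδ0) (mul_ne_zero hκ (pow_ne_zero _ hκ)))
  have hskew : ∀ i : ℕ, δ * ε ^ i + (δ * ε ^ i) ^ q = 0 := by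
    intro i
    rw [mul_pow, ← pow_mul, mul_comm i q, pow_mul, hεq, hδ]; ring
  have hμ : ∀ i : ℕ, (δ * ε ^ i) ^ 2 * (κ * κ ^ q) = ε ^ (2 * i + j) := by
    intro i
    rw [pow_add, ← hj]; ring
  rcases Nat.even_or_odd' j with ⟨j', rfl | rfl⟩
  · refine ⟨δ * ε ^ ((q - 2) * j' + 1), mul_ne_zero hδ0 (pow_ne_zero _ hε0), hskew _, ?_⟩
    intro r hr hr0
    obtain ⟨k, hk⟩ := hgen r hr hr0
    refine ⟨k, ?_⟩
    have h2 : 2 * ((q - 2) * j' + 1) + 2 * j' = (q - 1) * (2 * j') + 2 := by
      have := two_le_q hF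
      obtain ⟨p, rfl⟩ := Nat.exists_eq_add_of_le this
      simp only [Nat.add_sub_cancel_left, show 2 + p - 1 = p + 1 by omega]
      ring
    rw [hμ, h2, pow_add ε, pow_mul ε (q - 1), hε1, one_pow, one_mul, hk, ← pow_mul, ← pow_mul, mul_comm]
  · refine ⟨δ * ε ^ ((q - 2) * j'), mul_ne_zero hδ0 (pow_ne_zero _ hε0), hskew _, ?_⟩
    intro r hr hr0
    obtain ⟨k, hk⟩ := hgen r hr hr0
    refine ⟨k * 2, ?_⟩
    have h2 : 2 * ((q - 2) * j') + (2 * j' + 1) = (q - 1) * (2 * j') + 1 := by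
      have := two_le_q hF
      obtain ⟨p, rfl⟩ := Nat.exists_eq_add_of_le this
      simp only [Nat.add_sub_cancel_left, show 2 + p - 1 = p + 1 by omega]
      ring
    rw [hμ, h2, pow_add ε, pow_mul ε (q - 1), hε1, one_pow, one_mul, hk, pow_one, ← pow_mul]

/-- An additive subgroup closed under a generator of the squares is closed under the fixed field. -/
lemma mul_fixed_mem (hF : Fintype.card F = q ^ 2) {μ : F}
    (hgen : ∀ r : F, r ^ q = r → r ≠ 0 → ∃ k : ℕ, r ^ 2 = μ ^ k) (R : AddSubgroup F)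
    (hR : ∀ s ∈ R, μ * s ∈ R) {s : F} (hs : s ∈ R) {r : F} (hr : r ^ q = r) : s * r ∈ R := by
  have hpow : ∀ k : ℕ, μ ^ k * s ∈ R := by
    intro k
    induction k with
    | zero => simpa using hs
    | succ k ih => rw [pow_succ', mul_assoc]; exact hR _ ih
  have hsq : ∀ y : F, y ^ q = y → y ^ 2 * s ∈ R := by
    intro y hy
    rcases eq_or_ne y 0 with rfl | hy0
    · simp
    · obtain ⟨k, hk⟩ := hgen y hy hy0
      rw [hk]; exact hpow k
  by_cases h2 : (2 : F) = 0
  · obtain ⟨p, k, hp, hk, hqp⟩ : ∃ p k, Nat.Prime p ∧ 0 < k ∧ CharP F p ∧ q = p ^ k := by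
      obtain ⟨p, hp⟩ := CharP.exists F
      haveI := hp
      have hpp : p.Prime := CharP.char_is_prime F p
      obtain ⟨k, -, hk⟩ := FiniteField.card F p
      rw [hF] at hk
      obtain ⟨i, -, hi⟩ := (Nat.dvd_prime_pow hpp).1 (hk ▸ dvd_pow_self q two_ne_zero)
      refine ⟨p, i, hpp, Nat.pos_of_ne_zero ?_, hp, hi⟩
      rintro rfl
      have := two_le_q hF
      simp at hi; omega
    obtain ⟨hchar, rfl⟩ := hqp
    haveI := hchar
    have hp2 : p = 2 := by
      have : ((2 : ℕ) : F) = 0 := by exact_mod_cast h2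
      exact (Nat.prime_dvd_prime_iff_eq hp Nat.prime_two).1 ((CharP.cast_eq_zero_iff F p 2).1 this)
    subst hp2
    obtain ⟨k', rfl⟩ := Nat.exists_eq_succ_of_ne_zero hk.ne'
    have := hsq (r ^ 2 ^ k') (by rw [← pow_mul, mul_comm, pow_mul, hr])
    rwa [← pow_mul, ← pow_succ, hr, mul_comm] at this
  · have h2q : (2 : F) ^ q = 2 := by exact_mod_cast natCast_pow_q hF 2
    have h := R.sub_mem (hsq ((r + 1) / 2) (by rw [div_pow, add_pow_q hF, one_pow, hr, h2q]))
      (hsq ((r - 1) / 2) (by rw [div_pow, sub_pow_q hF, one_pow, hr, h2q]))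
    convert h using 1
    field_simp
    ring

end Fields

/-- Full root groups from one line family, one Eichler element and one further transvection. -/
theorem step (hF : Fintype.card F = q ^ 2) {c σ0 : F} {a D W : V} (hc0 : c ≠ 0) (hc : c + c ^ q = 0)
    (hσ0 : σ0 + σ0 ^ q ≠ 0) (ha : H a a = 0) (hDD : H D D = 0) (hDa : H D a = 0) (haW : H a W = 0)
    (hWD : H W D ≠ 0) (hW : H W W = 0)
    (hgen : ∀ r : F, r ^ q = r → r ≠ 0 → ∃ k : ℕ, r ^ 2 = (c ^ 2 * (H W D * H W D ^ q)) ^ k)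
    (hD : InT G c D) (hD1 : InT G c (D + a)) (hWG : InT G c W) (hX : Ei G a (σ0 • D) 0) :
    InPi G a ∧ ∀ σ : F, Ei G a (σ • D) 0 := by
  set κ := H W D with hκ
  have hcq : c ^ q = -c := eq_neg_of_add_eq_zero_right hc
  have hsD : ∀ s : F, H (s • D) a = 0 := fun s => by rw [herm_smul_left, hDa, mul_zero]
  have hDs : ∀ s t : F, H (s • D) (t • D) = 0 := fun s t => by
    rw [herm_smul_left, herm_smul_right, hDD, mul_zero, mul_zero]
  let R : AddSubgroup F :=
    { carrier := {s | ∃ l, l + l ^ q = 0 ∧ Ei G a (s • D) l}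
      zero_mem' := ⟨0, by rw [zero_pow (q_ne_zero hF), add_zero], by rw [zero_smul]; exact Ei_zero hF a⟩
      add_mem' := fun {s t} ⟨l, hl, h⟩ ⟨l', hl', h'⟩ => ⟨l + l', by
        rw [add_pow_q hF]; linear_combination hl + hl', by
        have := Ei.mul hF ha (hsD s) (hsD t) h h'
        rwa [hDs, sub_zero, ← add_smul] at this⟩
      neg_mem' := fun {s} ⟨l, hl, h⟩ => ⟨l ^ q, by rw [pow_q_q hF, add_comm, hl], by
        have := Ei.inv hF ⟨ha, hsD s, by rw [hDs, add_zero, hl]⟩ h
        rwa [← neg_smul] at this⟩ }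
  have hWs : ∀ s ∈ R, InT G c (W + (-(s ^ q * κ)) • a) := by
    rintro s ⟨l, -, hl⟩
    obtain ⟨A, hA, hx⟩ := hl
    have := hWG.conj hA
    rw [hx, ev, (herm_eq_zero_symm hF).1 haW, herm_smul_right, ← hκ] at this
    convert this using 1
    module
  have hDz : ∀ x, InT G c (W + x • a) → InT G c (D + (c * κ ^ q * x) • a) := by
    intro x hx
    obtain ⟨A, hA, hA'⟩ := hx
    obtain ⟨B, hB, hB'⟩ := hWG.inv hW
    have := (hD.conj hA).conj hB
    convert this using 1
    have h1 : H D W = κ ^ q := by rw [hκ, herm_swap hF W D]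
    rw [hA', hB']
    simp only [herm_add_left, herm_smul_left, herm_add_right hF, herm_smul_right, hDa, h1, hW, haW, mul_zero,
      add_zero]
    module
  have hpair : ∀ z, InT G c (D + z • a) → c * z ^ q ∈ R := fun z hz =>
    ⟨c * (z * z ^ q), by rw [mul_pow, norm_pow_q hF, hcq]; ring, Ei.of_pair hF hc hDD hDa hz hD⟩
  have hcR : c ∈ R := by
    have := hpair 1 (by rwa [one_smul])
    simpa using this
  have hσR : σ0 ∈ R := ⟨0, by rw [zero_pow (q_ne_zero hF), add_zero], hX⟩
  have hclosed : ∀ s ∈ R, c ^ 2 * (κ * κ ^ q) * s ∈ R := fun s hs => by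
    have := hpair _ (hDz _ (hWs s hs))
    convert this using 1
    simp only [mul_pow, neg_pow_q hF, pow_q_q hF, hcq]
    ring
  have hall : ∀ x, x ∈ R := by
    intro x
    set r := (x + x ^ q) / (σ0 + σ0 ^ q) with hr
    have hrq : r ^ q = r := by rw [hr, div_pow, trace_pow_q hF, trace_pow_q hF]
    have hx0 : (x - σ0 * r) + (x - σ0 * r) ^ q = 0 := by
      rw [sub_pow_q hF, mul_pow, hrq]
      have : r * (σ0 + σ0 ^ q) = x + x ^ q := div_mul_cancel₀ _ hσ0
      linear_combination -this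
    have h1 := mul_fixed_mem hF hgen R hclosed hσR hrq
    have h2 := mul_fixed_mem hF hgen R hclosed hcR (r := (x - σ0 * r) / c) (by
      rw [div_pow, hcq, eq_neg_of_add_eq_zero_right hx0, neg_div_neg_eq])
    rw [mul_div_cancel₀ _ hc0] at h2
    have := R.add_mem h2 h1
    rwa [sub_add_cancel] at this
  have hDall : ∀ z : F, InT G c (D + z • a) := by
    intro z
    have := hDz _ (hWs _ (hall ((-(z / (c * (κ * κ ^ q)))) ^ q)))
    convert this using 4
    have hκq : κ ^ q ≠ 0 := pow_ne_zero _ hWD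
    rw [pow_q_q hF]
    field_simp
  have hE : ∀ z, Ei G a ((c * z ^ q) • D) (c * (z * z ^ q)) := fun z =>
    Ei.of_pair hF hc hDD hDa (hDall z) hD
  have hPi : InPi G a := by
    intro t ht
    have htq : t ^ q = -t := eq_neg_of_add_eq_zero_right ht
    obtain ⟨z, hz⟩ := exists_trace_eq hF (a := -(t / c)) (by
      rw [neg_pow_q hF, div_pow, htq, hcq, neg_div_neg_eq])
    have h3 := Ei.inv hF ⟨ha, hsD _, by
      rw [hDs, add_zero, mul_pow, norm_pow_q hF, hcq]; ring⟩ (hE (1 + z))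
    have h12 := Ei.mul hF ha (hsD _) (hsD _) (hE 1) (hE z)
    rw [← add_smul, hDs, sub_zero] at h12
    rw [← neg_smul] at h3
    have h := Ei.mul hF ha (hsD _) (hsD _) h12 h3
    rw [← add_smul, hDs, sub_zero] at h
    obtain ⟨A, hA, hx⟩ := h
    refine ⟨A, hA, fun x => ?_⟩
    rw [hx]
    have e1 : c * 1 ^ q + c * z ^ q + -(c * (1 + z) ^ q) = 0 := by
      rw [add_pow_q hF, one_pow]; ring
    have e2 : c * (1 * 1 ^ q) + c * (z * z ^ q) + (c * ((1 + z) * (1 + z) ^ q)) ^ q = t := by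
      rw [mul_pow, norm_pow_q hF, hcq, add_pow_q hF, one_pow]
      field_simp at hz
      linear_combination -hz
    rw [e1, e2]
    simp only [ev, zero_smul, herm_zero_right hF, smul_zero, add_zero, sub_zero]
  refine ⟨hPi, fun σ => ?_⟩
  obtain ⟨l, hl, hEl⟩ := hall σ
  have hT : Ei G a 0 (-l) := by
    have := (hPi (-l) (by rw [neg_pow_q hF]; linear_combination -hl)).toEi hF (τ := 0) (α := -l)
      (by rw [zero_pow (q_ne_zero hF)]; ring)
    rwa [zero_smul] at this
  have := Ei.mul hF ha (hsD σ) (herm_zero_left a) hEl hT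
  rwa [add_zero, herm_zero_left, sub_zero, add_neg_cancel] at this

/-- The vectors `w` with all `σ • w` giving Eichler elements of `G`. -/
def eichSub (hF : Fintype.card F = q ^ 2) (G : Subgroup (SU n F q)) {a : V} (ha : H a a = 0) :
    Submodule F V where
  carrier := {w | ∀ σ : F, ∃ α, ESpec q a (σ • w) α ∧ Ei G a (σ • w) α}
  zero_mem' σ := ⟨0, by
    rw [smul_zero]; exact ⟨ha, herm_zero_left a, by rw [herm_zero_left, zero_pow (q_ne_zero hF)]; ring⟩, by
    rw [smul_zero]; exact Ei_zero hF a⟩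
  add_mem' {w w'} h h' σ := by
    obtain ⟨α, hs, hA⟩ := h σ
    obtain ⟨β, hs', hB⟩ := h' σ
    rw [smul_add]
    exact ⟨_, eSpec_add hF hs hs', Ei.mul hF ha hs.orth hs'.orth hA hB⟩
  smul_mem' r w h σ := by rw [smul_smul]; exact h (σ * r)

lemma mem_eichSub (hF : Fintype.card F = q ^ 2) {a : V} (ha : H a a = 0) {w : V} :
    w ∈ eichSub hF G ha ↔ ∀ σ : F, ∃ α, ESpec q a (σ • w) α ∧ Ei G a (σ • w) α := Iff.rfl

/-- The criterion: full unipotent radical at `a`, full root group at a vector off `aᗮ`. -/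
theorem eq_top_of_radical (hF : Fintype.card F = q ^ 2) (hbig : 4 ≤ n ∨ (n = 3 ∧ 3 ≤ q)) {a f : V}
    (ha : H a a = 0) (hf : H f f = 0) (hfa : H f a ≠ 0) (hPa : InPi G a) (hPf : InPi G f)
    (hrad : ∀ w, H w a = 0 → w ∈ eichSub hF G ha) : G = ⊤ := by
  have main : ∀ y, H y y = 0 → H y a ≠ 0 → InPi G y := by
    intro x hx hxa
    set r := H f a / H x a with hr
    have hra : r * H x a = H f a := div_mul_cancel₀ _ hxa
    suffices InPi G (r • x) by
      have := this.smul hF r⁻¹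
      rwa [smul_smul, inv_mul_cancel₀ (div_ne_zero hfa hxa), one_smul] at this
    set η := H f a with hη
    have hy : H (r • x) (r • x) = 0 := by rw [herm_self_smul, hx, mul_zero]
    have hya : H (r • x) a = η := by rw [herm_smul_left, hra]
    generalize r • x = y at hy hya ⊢
    have hw : H (η⁻¹ • (y - f)) a = 0 := by rw [herm_smul_left, herm_sub_left, hya, ← hη, sub_self, mul_zero]
    obtain ⟨α, -, A, hA, hAx⟩ := hrad _ hw 1
    rw [one_smul] at hAx
    set β := -H f (η⁻¹ • (y - f)) + α * η with hβ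
    have hAf : ap A f = y + β • a := by
      rw [hAx, ev, ← hη, hβ, smul_smul, mul_inv_cancel₀ hfa, one_smul]
      module
    have hay : H a y = η ^ q := by rw [← hya, herm_swap hF]
    have hiso := herm_ap A f f
    rw [hAf, hf] at hiso
    simp only [herm_add_left, herm_add_right hF, herm_smul_left, herm_smul_right, hy, hay, hya, ha, mul_zero,
      add_zero, zero_add] at hiso
    have hηq : η ^ q ≠ 0 := pow_ne_zero _ hfa
    have ht : -(β / η) + (-(β / η)) ^ q = 0 := by
      rw [neg_pow_q hF, div_pow]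
      field_simp
      linear_combination -hiso
    obtain ⟨B, hB, hBx⟩ := hPa _ ht
    have h := (hPf.conj hA).conj hB
    rw [hAf, hBx] at h
    convert h using 1
    rw [herm_add_left, herm_smul_left, hya, ha, mul_zero, add_zero, neg_mul, div_mul_cancel₀ _ hfa]
    module
  obtain ⟨δ, hδ0, hδ⟩ := exists_skew hF
  have hδt : δ + δ ^ q = 0 := by rw [hδ, add_neg_cancel]
  have second : ∀ y, H y y = 0 → H y f ≠ 0 → InPi G y := by
    intro y hy hyf
    by_cases hya : H y a = 0
    · obtain ⟨B, hB, hBx⟩ := hPf δ hδt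
      have h1 : H (ap B y) a ≠ 0 := by
        rw [hBx, herm_add_left, hya, zero_add, herm_smul_left]
        exact mul_ne_zero (mul_ne_zero hδ0 hyf) hfa
      have := (main _ (by rw [herm_ap, hy]) h1).conj (G.inv_mem hB)
      rwa [ap_inv_ap] at this
    · exact main y hy hya
  have third : ∀ y, H y y = 0 → y ≠ 0 → InPi G y := by
    intro y hy hy0
    by_cases hya : H y a = 0
    swap
    · exact main y hy hya
    by_cases hyf : H y f = 0
    swap
    · exact second y hy hyf
    obtain ⟨z, hz⟩ : ∃ z, H y z ≠ 0 := by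
      by_contra h
      push Not at h
      exact hy0 (eq_zero_of_forall_right hF h)
    set w := z - (H z a / H f a) • f with hw
    have hwa : H w a = 0 := by rw [hw, herm_sub_left, herm_smul_left, div_mul_cancel₀ _ hfa, sub_self]
    have hyw : H y w ≠ 0 := by
      rw [hw, herm_sub_right hF, herm_smul_right, hyf, mul_zero, sub_zero]; exact hz
    obtain ⟨α, -, A, hA, hAx⟩ := hrad w hwa 1
    rw [one_smul] at hAx
    have h1 : H (ap A y) f ≠ 0 := by
      rw [hAx, ev, hya, zero_smul, add_zero, mul_zero, zero_smul, add_zero, herm_sub_left, hyf, zero_sub,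
        herm_smul_left]
      exact neg_ne_zero.2 (mul_ne_zero hyw fun h => hfa ((herm_eq_zero_symm hF).1 h))
    have := (second _ (by rw [herm_ap, hy]) h1).conj (G.inv_mem hA)
    rwa [ap_inv_ap] at this
  rw [← top_le_iff, ← tgroup_eq_top hF hbig, tgroup, Subgroup.closure_le]
  rintro A ⟨v, c, hv, hA⟩
  by_cases hv0 : v = 0
  · have : A = 1 := by
      refine ap_ext fun x => ?_
      rw [ap_def, hA, unitaryTransvection_mulVec, hv0, smul_zero, add_zero, ap_one]
    rw [this]
    exact G.one_mem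
  have hc : c + c ^ q = 0 := by
    obtain ⟨z, -, -, hz⟩ := exists_partner hF (nondeg_top hF) Submodule.mem_top hv0 hv
    have h := herm_ap A z z
    simp only [ap_def, hA, unitaryTransvection_mulVec, herm_add_left, herm_add_right hF,
      herm_smul_left, herm_smul_right, hv, hz, mul_one, mul_zero, add_zero] at h
    have hvz : H v z = 1 := by rw [← herm_swap hF z v, hz, one_pow]
    rw [hvz] at h
    linear_combination h
  obtain ⟨B, hB, hBx⟩ := third v hv hv0 c hc
  have : A = B := by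
    refine ap_ext fun x => ?_
    rw [ap_def, hA, unitaryTransvection_mulVec, hBx]
  rw [this]
  exact hB

end Cfsg.Agent.H55.SUEngine
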