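import Mathlib
import Cfsg.Agent.Unitary.Generation

/-!
A hyperbolic frame of `F^(2m+1)` and a regular unipotent element of `SU_{2m+1}(q)` adapted to it.
-/

set_option autoImplicit false
set_option linter.unusedSectionVars false

namespace Cfsg.Agent.H55.SUFrame

open Cfsg Cfsg.Agent.Unitary

variable {F : Type*} [Field F] [Fintype F] {n q m : ℕ}

local notation "V" => (Fin n → F)
local notation "H" => hermForm n F q

/-- A hyperbolic frame with one anisotropic vector. -/
structure Frame (F : Type*) [Field F] (n q m : ℕ) where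
  /-- first half -/
  e : ℕ → Fin n → F
  /-- second half -/
  f : ℕ → Fin n → F
  /-- middle vector -/
  w : Fin n → F
  ee : ∀ i j, i < m → j < m → hermForm n F q (e i) (e j) = 0
  ff : ∀ i j, i < m → j < m → hermForm n F q (f i) (f j) = 0
  fe : ∀ i j, i < m → j < m → hermForm n F q (f i) (e j) = if i = j then 1 else 0
  we : ∀ i, i < m → hermForm n F q w (e i) = 0
  wf : ∀ i, i < m → hermForm n F q w (f i) = 0
  ww : hermForm n F q w w = 1
  nondeg : ∀ x : Fin n → F, (∀ i, i < m → hermForm n F q x (e i) = 0) →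
    (∀ i, i < m → hermForm n F q x (f i) = 0) → hermForm n F q x w = 0 → x = 0

/-- Standard vectors indexed by natural numbers. -/
def st (k : ℕ) : V := fun j => if (j : ℕ) = k then 1 else 0

lemma herm_st_right (hF : Fintype.card F = q ^ 2) (x : V) {k : ℕ} (hk : k < n) :
    H x (st k) = x ⟨k, hk⟩ := by
  have : (st k : V) = Pi.single ⟨k, hk⟩ 1 := by
    funext j; simp [st, Pi.single_apply, Fin.ext_iff]
  rw [this, herm_single_right hF, one_pow, mul_one]

theorem exists_frame (hF : Fintype.card F = q ^ 2) (hn : n = 2 * m + 1) :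
    Nonempty (Frame F n q m) := by
  classical
  obtain ⟨ν, hν⟩ := exists_norm_eq_neg_one hF
  obtain ⟨⟨ρ, hρ⟩, hρ1⟩ : ∃ x : {x : F // x * x ^ q = 1}, (x : F) ≠ 1 := by
    by_contra h
    push Not at h
    have : Subsingleton {x : F // x * x ^ q = 1} := ⟨fun a b => Subtype.ext ((h a).trans (h b).symm)⟩
    have := card_norm_eq_one hF
    have h1 : Nat.card {x : F // x * x ^ q = 1} ≤ 1 := Finite.card_le_one_iff_subsingleton.2 inferInstance
    have := two_le_q hF
    omega
  set ν2 := ν * ρ with hν2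
  have hν2n : ν2 * ν2 ^ q = -1 := by
    rw [hν2, mul_pow, mul_mul_mul_comm, hν, hρ, mul_one]
  have hν0 : ν ≠ 0 := fun h => by rw [h, zero_mul] at hν; exact one_ne_zero (neg_eq_zero.1 hν.symm)
  have hνν : ν ≠ ν2 := fun h => hρ1 (by
    rw [hν2] at h
    exact mul_left_cancel₀ hν0 (h.symm.trans (mul_one ν).symm))
  have hd : 1 + ν2 * ν ^ q ≠ 0 := fun h => hνν (by
    have h' : ν * ν ^ q = ν2 * ν ^ q := by linear_combination hν - h
    exact mul_right_cancel₀ (pow_ne_zero _ hν0) h')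
  set p := (1 + ν2 * ν ^ q)⁻¹ with hp
  let e : ℕ → V := fun i => st (2 * i) + ν • st (2 * i + 1)
  let f : ℕ → V := fun i => p • (st (2 * i) + ν2 • st (2 * i + 1))
  let w : V := st (2 * m)
  have hst : ∀ (i k : ℕ), k < n → H (st i) (st k) = if i = k then 1 else 0 := by
    intro i k hk
    rw [herm_st_right hF _ hk]
    simp [st, eq_comm]
  have key : ∀ (a b : F) (i j : ℕ), i < m → j < m →
      H (st (2 * i) + a • st (2 * i + 1)) (st (2 * j) + b • st (2 * j + 1)) =
        if i = j then 1 + a * b ^ q else 0 := by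
    intro a b i j hi hj
    simp only [herm_add_left, herm_add_right hF, herm_smul_left, herm_smul_right,
      hst _ (2 * j) (by omega), hst _ (2 * j + 1) (by omega)]
    by_cases h : i = j
    · subst h; simp [mul_comm]
    · rw [if_neg (by omega), if_neg (by omega), if_neg (by omega), if_neg (by omega), if_neg h]
      simp
  have kw : ∀ (a : F) (i : ℕ), i < m → H w (st (2 * i) + a • st (2 * i + 1)) = 0 := by
    intro a i hi
    simp only [w, herm_add_right hF, herm_smul_right, hst _ (2 * i) (by omega),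
      hst _ (2 * i + 1) (by omega)]
    rw [if_neg (by omega), if_neg (by omega)]
    simp
  refine ⟨⟨e, f, w, ?_, ?_, ?_, ?_, ?_, ?_, ?_⟩⟩
  · intro i j hi hj
    rw [show H (e i) (e j) = _ from key ν ν i j hi hj, hν, add_neg_cancel, ite_self]
  · intro i j hi hj
    simp only [f, herm_smul_left, herm_smul_right, key ν2 ν2 i j hi hj, hν2n, add_neg_cancel, ite_self,
      mul_zero]
  · intro i j hi hj
    simp only [f, e, herm_smul_left, key ν2 ν i j hi hj]
    split_ifs
    · exact inv_mul_cancel₀ hd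
    · exact mul_zero _
  · exact kw ν
  · intro i hi
    simp only [f, herm_smul_right, kw ν2 i hi, mul_zero]
  · rw [show H w w = _ from hst (2 * m) (2 * m) (by omega), if_pos rfl]
  · intro x he hf hw
    funext ⟨k, hk⟩
    show x ⟨k, hk⟩ = 0
    rcases Nat.lt_or_ge k (2 * m) with hlt | hge
    · have hp0 : p ^ q ≠ 0 := pow_ne_zero _ (inv_ne_zero hd)
      have h1 := he (k / 2) (by omega)
      have h2 := hf (k / 2) (by omega)
      simp only [e, f, herm_add_right hF, herm_smul_right, herm_st_right hF x (show 2 * (k / 2) < n by omega),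
        herm_st_right hF x (show 2 * (k / 2) + 1 < n by omega), mul_eq_zero, hp0, false_or] at h1 h2
      have hb : x ⟨2 * (k / 2) + 1, by omega⟩ = 0 := by
        have h3 : (ν ^ q - ν2 ^ q) * x ⟨2 * (k / 2) + 1, by omega⟩ = 0 := by linear_combination h1 - h2
        exact (mul_eq_zero.1 h3).resolve_left (sub_ne_zero.2 fun h => hνν (pow_q_injective hF h))
      have ha : x ⟨2 * (k / 2), by omega⟩ = 0 := by
        rw [hb, mul_zero, add_zero] at h1; exact h1
      rcases Nat.mod_two_eq_zero_or_one k with h | h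
      · convert ha using 3; omega
      · convert hb using 3; omega
    · have : H x w = x ⟨2 * m, by omega⟩ := herm_st_right hF x _
      rw [hw] at this
      convert this.symm using 3
      omega

variable (hF : Fintype.card F = q ^ 2) (Φ : Frame F n q m)

include hF in
lemma Frame.ef {i j : ℕ} (hi : i < m) (hj : j < m) : H (Φ.e i) (Φ.f j) = if i = j then 1 else 0 := by
  rw [← herm_swap hF, Φ.fe j i hj hi]
  rcases eq_or_ne i j with rfl | h
  · simp
  · rw [if_neg h, if_neg h.symm, zero_pow (q_ne_zero hF)]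

include hF in
lemma Frame.ew {i : ℕ} (hi : i < m) : H (Φ.e i) Φ.w = 0 := (herm_eq_zero_symm hF).1 (Φ.we i hi)

include hF in
lemma Frame.fw {i : ℕ} (hi : i < m) : H (Φ.f i) Φ.w = 0 := (herm_eq_zero_symm hF).1 (Φ.wf i hi)

/-- The ordered basis `e_0, …, e_{m-1}, w, f_{m-1}, …, f_0`. -/
def Frame.b (k : ℕ) : V := if k < m then Φ.e k else if k = m then Φ.w else Φ.f (2 * m - k)

/-- The span of the first `k` vectors of the ordered basis. -/
def Frame.span (k : ℕ) : Submodule F V := Submodule.span F (Φ.b '' Set.Iio k)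

lemma Frame.b_mem {j k : ℕ} (h : j < k) : Φ.b j ∈ Φ.span k :=
  Submodule.subset_span ⟨j, h, rfl⟩

lemma Frame.span_mono {j k : ℕ} (h : j ≤ k) : Φ.span j ≤ Φ.span k :=
  Submodule.span_mono (Set.image_mono (Set.Iio_subset_Iio h))

lemma Frame.e_mem {i k : ℕ} (hi : i < m) (h : i < k) : Φ.e i ∈ Φ.span k := by
  have := Φ.b_mem h
  rwa [Frame.b, if_pos hi] at this

lemma Frame.w_mem {k : ℕ} (h : m < k) : Φ.w ∈ Φ.span k := by
  have := Φ.b_mem h
  rwa [Frame.b, if_neg (lt_irrefl m), if_pos rfl] at this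

lemma Frame.f_mem {i k : ℕ} (hi : i < m) (h : 2 * m - i < k) : Φ.f i ∈ Φ.span k := by
  have := Φ.b_mem h
  rwa [Frame.b, if_neg (by omega), if_neg (by omega), show 2 * m - (2 * m - i) = i by omega] at this

include hF in
theorem Frame.expand (x : V) :
    x = ∑ i ∈ Finset.range m, (H x (Φ.f i) • Φ.e i + H x (Φ.e i) • Φ.f i) + H x Φ.w • Φ.w := by
  refine sub_eq_zero.1 (Φ.nondeg _ ?_ ?_ ?_)
  · intro j hj
    rw [herm_sub_left, herm_add_left, herm_sum_left, Finset.sum_eq_single j, herm_smul_left _ Φ.w, Φ.we j hj]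
    · rw [herm_add_left, herm_smul_left, herm_smul_left, Φ.ee j j hj hj, Φ.fe j j hj hj, if_pos rfl]
      ring
    · intro i hi hij
      have hi' := Finset.mem_range.1 hi
      rw [herm_add_left, herm_smul_left, herm_smul_left, Φ.ee i j hi' hj, Φ.fe i j hi' hj, if_neg hij]
      ring
    · intro h; exact absurd (Finset.mem_range.2 hj) h
  · intro j hj
    rw [herm_sub_left, herm_add_left, herm_sum_left, Finset.sum_eq_single j, herm_smul_left _ Φ.w, Φ.wf j hj]
    · rw [herm_add_left, herm_smul_left, herm_smul_left, Φ.ff j j hj hj, Φ.ef hF hj hj, if_pos rfl]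
      ring
    · intro i hi hij
      have hi' := Finset.mem_range.1 hi
      rw [herm_add_left, herm_smul_left, herm_smul_left, Φ.ff i j hi' hj, Φ.ef hF hi' hj, if_neg hij]
      ring
    · intro h; exact absurd (Finset.mem_range.2 hj) h
  · rw [herm_sub_left, herm_add_left, herm_sum_left, Finset.sum_eq_zero, herm_smul_left _ Φ.w, Φ.ww]
    · ring
    · intro i hi
      have hi' := Finset.mem_range.1 hi
      rw [herm_add_left, herm_smul_left, herm_smul_left, Φ.ew hF hi', Φ.fw hF hi']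
      ring

include hF in
theorem Frame.span_top : Φ.span (2 * m + 1) = ⊤ := by
  refine Submodule.eq_top_iff'.2 fun x => ?_
  rw [Φ.expand hF x]
  refine add_mem (sum_mem fun i hi => ?_) (Submodule.smul_mem _ _ (Φ.w_mem (by omega)))
  have hi' := Finset.mem_range.1 hi
  exact add_mem (Submodule.smul_mem _ _ (Φ.e_mem hi' (by omega)))
    (Submodule.smul_mem _ _ (Φ.f_mem hi' (by omega)))

include hF in
/-- A vector orthogonal to `e 0` has leading coefficient `h(x, e 1)`. -/
theorem Frame.lead (hm : 2 ≤ m) {x : V} (hx : H x (Φ.e 0) = 0) :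
    x - H x (Φ.e 1) • Φ.f 1 ∈ Φ.span (2 * m - 1) := by
  rw [show x - H x (Φ.e 1) • Φ.f 1 =
      (∑ i ∈ Finset.range m, (H x (Φ.f i) • Φ.e i + H x (Φ.e i) • Φ.f i) + H x Φ.w • Φ.w)
        - H x (Φ.e 1) • Φ.f 1 from congrArg (· - H x (Φ.e 1) • Φ.f 1) (Φ.expand hF x),
    ← Finset.sum_erase_add _ _ (Finset.mem_range.2 (show 1 < m by omega))]
  rw [show ∀ A B C D : V, A + (B + C) + D - C = A + B + D from fun A B C D => by abel]
  refine add_mem (add_mem (sum_mem fun i hi => ?_)
    (Submodule.smul_mem _ _ (Φ.e_mem (by omega) (by omega)))) (Submodule.smul_mem _ _ (Φ.w_mem (by omega)))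
  simp only [Finset.mem_erase, Finset.mem_range] at hi
  refine add_mem (Submodule.smul_mem _ _ (Φ.e_mem hi.2 (by omega))) ?_
  by_cases h0 : i = 0
  · rw [h0, hx, zero_smul]; exact zero_mem _
  · exact Submodule.smul_mem _ _ (Φ.f_mem hi.2 (by omega))

include hF in
lemma Frame.el_spec {k : ℕ} (hk : k + 1 < m) : ESpec q (Φ.e k) (Φ.f (k + 1)) (0 : F) :=
  ⟨Φ.ee k k (by omega) (by omega), by rw [Φ.fe (k + 1) k hk (by omega), if_neg (by omega)],
    by rw [Φ.ff _ _ hk hk, zero_pow (q_ne_zero hF)]; ring⟩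

/-- The product `El_0 ⋯ El_{k-1}` of Eichler elements with axes `e_i`. -/
noncomputable def Frame.P : ℕ → SU n F q
  | 0 => 1
  | k + 1 => Frame.P k * (if h : k + 1 < m then eSU hF (Φ.el_spec hF h) else 1)

theorem Frame.P_spec : ∀ k, k < m →
    (∀ i, i < k → ap (Φ.P hF k) (Φ.f i) = Φ.f i + Φ.f (i + 1)) ∧
    (∀ i, k ≤ i → i < m → ap (Φ.P hF k) (Φ.f i) = Φ.f i) ∧
    (∀ i, i < k → ap (Φ.P hF k) (Φ.e i) + ap (Φ.P hF k) (Φ.e (i + 1)) = Φ.e (i + 1)) ∧
    (∀ i, k < i → i < m → ap (Φ.P hF k) (Φ.e i) = Φ.e i) ∧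
    ap (Φ.P hF k) (Φ.e 0) = Φ.e 0 ∧ ap (Φ.P hF k) Φ.w = Φ.w
  | 0, _ => by
    refine ⟨fun i h => absurd h (Nat.not_lt_zero i), fun i _ _ => ap_one _, fun i h => absurd h (Nat.not_lt_zero i),
      fun i _ _ => ap_one _, ap_one _, ap_one _⟩
  | k + 1, hk => by
    obtain ⟨h1, h2, h3, h4, h5, h6⟩ := Frame.P_spec k (by omega)
    have hk0 : k < m := by omega
    have E : ∀ x, ap (Φ.P hF (k + 1)) x = ap (Φ.P hF k) (x + H x (Φ.e k) • Φ.f (k + 1) - H x (Φ.f (k + 1)) • Φ.e k) := by
      intro x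
      rw [Frame.P, dif_pos hk, ap_mul, ap_eSU, zero_mul, zero_smul, add_zero]
    have hf : ∀ i, i < m → i ≠ k → ap (Φ.P hF (k + 1)) (Φ.f i) = ap (Φ.P hF k) (Φ.f i) := by
      intro i hi hik
      rw [E, Φ.fe i k hi hk0, Φ.ff i (k + 1) hi hk, if_neg hik, zero_smul, zero_smul, add_zero, sub_zero]
    have he : ∀ i, i < m → i ≠ k + 1 → ap (Φ.P hF (k + 1)) (Φ.e i) = ap (Φ.P hF k) (Φ.e i) := by
      intro i hi hik
      rw [E, Φ.ee i k hi hk0, Φ.ef hF hi hk, if_neg hik, zero_smul, zero_smul, add_zero, sub_zero]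
    refine ⟨?_, ?_, ?_, ?_, ?_, ?_⟩
    · intro i hi
      rcases eq_or_ne i k with rfl | hik
      · rw [E, Φ.fe i i hk0 hk0, Φ.ff i (i + 1) hk0 hk, if_pos rfl, zero_smul, sub_zero, one_smul, ap_add,
          h2 i le_rfl hk0, h2 (i + 1) (by omega) hk]
      · rw [hf i (by omega) hik, h1 i (by omega)]
    · intro i hi him
      rw [hf i him (by omega), h2 i (by omega) him]
    · intro i hi
      rcases eq_or_ne i k with rfl | hik
      · rw [he i hk0 (by omega), E (Φ.e (i + 1)), Φ.ee (i + 1) i hk hk0, Φ.ef hF hk hk, if_pos rfl, zero_smul,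
          add_zero, one_smul, ap_sub, h4 (i + 1) (by omega) hk]
        abel
      · rw [he i (by omega) (by omega), he (i + 1) (by omega) (by omega), h3 i (by omega)]
    · intro i hi him
      rw [he i him (by omega), h4 i (by omega) him]
    · rw [he 0 (by omega) (by omega), h5]
    · rw [E, Φ.we k hk0, Φ.wf (k + 1) hk, zero_smul, zero_smul, add_zero, sub_zero, h6]

variable (hm : 2 ≤ m) {α : F} (hα : α + α ^ q + 1 = 0)

include hm hα in
lemma Frame.last_spec : ESpec q (Φ.e (m - 1)) Φ.w α :=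
  ⟨Φ.ee _ _ (by omega) (by omega), Φ.we _ (by omega), by rw [Φ.ww]; exact hα⟩

/-- The regular unipotent element. -/
noncomputable def Frame.u : SU n F q := Φ.P hF (m - 1) * eSU hF (Φ.last_spec hm hα)

local notation "U" => Φ.u hF hm hα

include hF hm hα in
theorem Frame.u_spec :
    ap U (Φ.e 0) = Φ.e 0 ∧
    (∀ i, i + 1 < m → ap U (Φ.e i) + ap U (Φ.e (i + 1)) = Φ.e (i + 1)) ∧
    ap U Φ.w = Φ.w - ap U (Φ.e (m - 1)) ∧
    (∀ i, i + 1 < m → ap U (Φ.f i) = Φ.f i + Φ.f (i + 1)) ∧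
    ap U (Φ.f (m - 1)) = Φ.f (m - 1) + Φ.w + α • ap U (Φ.e (m - 1)) := by
  obtain ⟨h1, h2, h3, -, h5, h6⟩ := Φ.P_spec hF (m - 1) (by omega)
  have hl : m - 1 < m := by omega
  have E : ∀ x, ap U x = ap (Φ.P hF (m - 1)) (x + H x (Φ.e (m - 1)) • Φ.w - H x Φ.w • Φ.e (m - 1) +
      (α * H x (Φ.e (m - 1))) • Φ.e (m - 1)) := by
    intro x
    rw [Frame.u, ap_mul, ap_eSU]
  have he : ∀ i, i < m → ap U (Φ.e i) = ap (Φ.P hF (m - 1)) (Φ.e i) := by
    intro i hi
    rw [E, Φ.ee i _ hi hl, Φ.ew hF hi, mul_zero]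
    simp only [zero_smul, add_zero, sub_zero]
  refine ⟨?_, ?_, ?_, ?_, ?_⟩
  · rw [he 0 (by omega), h5]
  · intro i hi
    rw [he i (by omega), he (i + 1) hi, h3 i (by omega)]
  · rw [E, Φ.we _ hl, Φ.ww, mul_zero, zero_smul, zero_smul, add_zero, add_zero, one_smul, ap_sub, h6, he _ hl]
  · intro i hi
    rw [E, Φ.fe i _ (by omega) hl, Φ.fw hF (show i < m by omega), if_neg (by omega), mul_zero]
    simp only [zero_smul, add_zero, sub_zero]
    rw [h1 i (by omega)]
  · rw [E, Φ.fe _ _ hl hl, Φ.fw hF hl, if_pos rfl, mul_one, one_smul, zero_smul, sub_zero, ap_add, ap_add,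
      ap_smul, h6, h2 _ le_rfl hl, he _ hl]

/-- `u - 1` as a linear map. -/
noncomputable def Frame.N : V →ₗ[F] V := Matrix.mulVecLin (mat U - 1)

lemma Frame.N_apply (x : V) : Φ.N hF hm hα x = ap U x - x := by
  rw [Frame.N, Matrix.mulVecLin_apply, Matrix.sub_mulVec, Matrix.one_mulVec, ap_def]

local notation "N'" => Φ.N hF hm hα

include hF hm hα in
lemma Frame.u_e_sub : ∀ i, i < m → ap U (Φ.e i) - Φ.e i ∈ Φ.span i := by
  obtain ⟨h1, h2, -, -, -⟩ := Φ.u_spec hF hm hα
  intro i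
  induction i with
  | zero => intro _; rw [h1, sub_self]; exact zero_mem _
  | succ i ih =>
    intro hi
    have : ap U (Φ.e (i + 1)) - Φ.e (i + 1) = -((ap U (Φ.e i) - Φ.e i) + Φ.e i) := by
      conv_lhs => arg 2; rw [← h2 i hi]
      abel
    rw [this]
    exact neg_mem (add_mem (Φ.span_mono (Nat.le_succ i) (ih (by omega))) (Φ.e_mem (by omega) (by omega)))

include hF hm hα in
theorem Frame.N_lead : N' (Φ.b 0) = 0 ∧
    ∀ k, k < 2 * m → ∃ γ : F, γ ≠ 0 ∧ N' (Φ.b (k + 1)) - γ • Φ.b k ∈ Φ.span k := by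
  obtain ⟨h1, h2, h3, h4, h5⟩ := Φ.u_spec hF hm hα
  refine ⟨?_, fun k hk => ?_⟩
  · rw [Φ.N_apply, Frame.b, if_pos (by omega), h1, sub_self]
  rw [Φ.N_apply]
  rcases lt_trichotomy k (m - 1) with hlt | heq | hgt
  · refine ⟨-1, neg_ne_zero.2 one_ne_zero, ?_⟩
    rw [Frame.b, if_pos (by omega), Frame.b, if_pos (by omega), neg_one_smul]
    have : ap U (Φ.e (k + 1)) - Φ.e (k + 1) - -Φ.e k = -(ap U (Φ.e k) - Φ.e k) := by
      conv_lhs => arg 1; arg 2; rw [← h2 k (by omega)]
      abel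
    rw [this]
    exact neg_mem (Φ.u_e_sub hF hm hα k (by omega))
  · subst heq
    refine ⟨-1, neg_ne_zero.2 one_ne_zero, ?_⟩
    rw [show m - 1 + 1 = m by omega, Frame.b, if_neg (lt_irrefl m), if_pos rfl, Frame.b, if_pos (by omega), h3,
      neg_one_smul]
    rw [show ∀ A B C : V, A - B - A - -C = -(B - C) from fun A B C => by abel]
    exact neg_mem (Φ.u_e_sub hF hm hα _ (by omega))
  · rcases eq_or_ne k m with rfl | hkm
    · refine ⟨1, one_ne_zero, ?_⟩
      rw [Frame.b, if_neg (by omega), if_neg (by omega), show 2 * k - (k + 1) = k - 1 by omega, Frame.b,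
        if_neg (lt_irrefl k), if_pos rfl, one_smul, h5]
      rw [show ∀ A B C : V, A + B + C - A - B = C from fun A B C => by abel]
      refine Submodule.smul_mem _ _ ?_
      have := add_mem (Φ.span_mono (show k - 1 ≤ k by omega) (Φ.u_e_sub hF hm hα (k - 1) (by omega)))
        (Φ.e_mem (show k - 1 < k by omega) (show k - 1 < k by omega))
      rwa [sub_add_cancel] at this
    · refine ⟨1, one_ne_zero, ?_⟩
      rw [Frame.b, if_neg (by omega), if_neg (by omega), Frame.b, if_neg (by omega), if_neg (by omega),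
        h4 _ (by omega), show 2 * m - (k + 1) + 1 = 2 * m - k by omega, one_smul, add_sub_cancel_left, sub_self]
      exact zero_mem _

include hF hm hα in
theorem Frame.N_span {k : ℕ} (hk : k ≤ 2 * m) {x : V} (hx : x ∈ Φ.span (k + 1)) : N' x ∈ Φ.span k := by
  obtain ⟨h0, h⟩ := Φ.N_lead hF hm hα
  suffices hle : Φ.span (k + 1) ≤ (Φ.span k).comap (Φ.N hF hm hα) from hle hx
  conv_lhs => rw [Frame.span]
  rw [Submodule.span_le]
  rintro _ ⟨j, hj, rfl⟩
  show N' (Φ.b j) ∈ Φ.span k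
  rcases Nat.eq_zero_or_pos j with rfl | hj0
  · rw [h0]; exact zero_mem _
  · obtain ⟨j', rfl⟩ := Nat.exists_eq_succ_of_ne_zero hj0.ne'
    simp only [Set.mem_Iio] at hj
    obtain ⟨γ, -, hγ⟩ := h j' (by omega)
    have := add_mem (Φ.span_mono (show j' ≤ k by omega) hγ) (Submodule.smul_mem _ γ (Φ.b_mem (show j' < k by omega)))
    simpa using this

include hF hm hα in
theorem Frame.N_pow_lead (x : V) (k : ℕ) (hk : k ≤ 2 * m) {γ : F} (hγ : γ ≠ 0)
    (hx : x - γ • Φ.b k ∈ Φ.span k) :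
    ∀ j ≤ k, ∃ γ' : F, γ' ≠ 0 ∧ (N' ^ j) x - γ' • Φ.b (k - j) ∈ Φ.span (k - j)
  | 0, _ => ⟨γ, hγ, by simpa using hx⟩
  | j + 1, hj => by
    obtain ⟨γ', hγ', h'⟩ := Frame.N_pow_lead x k hk hγ hx j (by omega)
    obtain ⟨-, h⟩ := Φ.N_lead hF hm hα
    obtain ⟨δ, hδ, hd⟩ := h (k - (j + 1)) (by omega)
    refine ⟨γ' * δ, mul_ne_zero hγ' hδ, ?_⟩
    rw [show k - j = k - (j + 1) + 1 by omega] at h'
    have := add_mem (Φ.N_span hF hm hα (by omega) h') (Submodule.smul_mem _ γ' hd)
    rw [map_sub, map_smul, smul_sub, smul_smul] at this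
    rw [pow_succ', Module.End.mul_apply]
    rwa [show ∀ A B C : V, A - B + (B - C) = A - C from fun A B C => by abel] at this

include hF hm hα in
theorem Frame.regular (hn : n = 2 * m + 1) :
    IsNilpotent (mat U - 1) ∧ (mat U - 1) ^ (n - 1) ≠ 0 := by
  have hpow : ∀ j x, ((mat U - 1) ^ j).mulVec x = (N' ^ j) x := by
    intro j
    induction j with
    | zero => intro x; simp
    | succ j ih =>
      intro x
      rw [pow_succ', ← Matrix.mulVec_mulVec, ih, pow_succ', Module.End.mul_apply, Frame.N, Matrix.mulVecLin_apply]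
  refine ⟨⟨2 * m + 1, Matrix.ext_iff_mulVec.2 fun x => ?_⟩, fun h0 => ?_⟩
  · rw [hpow, Matrix.zero_mulVec]
    have : ∀ j ≤ 2 * m + 1, (N' ^ j) x ∈ Φ.span (2 * m + 1 - j) := by
      intro j
      induction j with
      | zero => intro _; rw [Nat.sub_zero, Φ.span_top hF]; trivial
      | succ j ih =>
        intro hj
        rw [pow_succ', Module.End.mul_apply]
        have := ih (by omega)
        rw [show 2 * m + 1 - j = 2 * m + 1 - (j + 1) + 1 by omega] at this
        exact Φ.N_span hF hm hα (by omega) this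
    have h := this _ le_rfl
    rw [Nat.sub_self, Frame.span, Set.Iio_eq_empty_iff.2 (by simp), Set.image_empty, Submodule.span_empty,
      Submodule.mem_bot] at h
    exact h
  · obtain ⟨γ, hγ, h⟩ := Φ.N_pow_lead hF hm hα (Φ.b (2 * m)) (2 * m) le_rfl one_ne_zero
      (by rw [one_smul, sub_self]; exact zero_mem _) (2 * m) le_rfl
    rw [Nat.sub_self, Frame.span, Set.Iio_eq_empty_iff.2 (by simp), Set.image_empty, Submodule.span_empty,
      Submodule.mem_bot, ← hpow, show 2 * m = n - 1 by omega, h0, Matrix.zero_mulVec, sub_eq_zero,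
      eq_comm, smul_eq_zero] at h
    have hb : Φ.e 0 = 0 := by
      have := h.resolve_left hγ
      rwa [Frame.b, if_pos (by omega)] at this
    have := Φ.fe 0 0 (by omega) (by omega)
    rw [hb, herm_zero_right hF, if_pos rfl] at this
    exact zero_ne_one this

include hF in
/-- A product of Weyl elements exchanging the two halves. -/
theorem Frame.exists_swap {δ : F} (hδ0 : δ ≠ 0) (hδ : δ + δ ^ q = 0) :
    ∀ k, k ≤ m → ∃ g : SU n F q,
      (∀ i, i < k → ap g (Φ.e i) = (-δ⁻¹) • Φ.f i ∧ ap g (Φ.f i) = δ • Φ.e i) ∧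
      ∀ i, k ≤ i → i < m → ap g (Φ.e i) = Φ.e i ∧ ap g (Φ.f i) = Φ.f i
  | 0, _ => ⟨1, fun i h => absurd h (Nat.not_lt_zero i), fun i _ _ => ⟨ap_one _, ap_one _⟩⟩
  | k + 1, hk => by
    obtain ⟨g, h1, h2⟩ := Frame.exists_swap hδ0 hδ k (by omega)
    have hk' : k < m := by omega
    obtain ⟨g', ⟨-, hfix⟩, he, hf⟩ := exists_weyl hF (Φ.ee k k hk' hk') (Φ.ff k k hk' hk')
      (by rw [Φ.fe k k hk' hk', if_pos rfl]) hδ0 hδ
    have hfix' : ∀ i, i < m → i ≠ k → ap g' (Φ.e i) = Φ.e i ∧ ap g' (Φ.f i) = Φ.f i := by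
      intro i hi hik
      refine ⟨hfix _ ?_, hfix _ ?_⟩
      · show Φ.e i ∈ perp q _
        rw [mem_perp_pair]
        exact ⟨Φ.ee i k hi hk', by rw [Φ.ef hF hi hk', if_neg hik]⟩
      · show Φ.f i ∈ perp q _
        rw [mem_perp_pair]
        exact ⟨by rw [Φ.fe i k hi hk', if_neg hik], Φ.ff i k hi hk'⟩
    refine ⟨g * g', fun i hi => ?_, fun i hi him => ?_⟩
    · rcases eq_or_ne i k with rfl | hik
      · rw [ap_mul, ap_mul, he, hf, ap_smul, ap_smul, (h2 i le_rfl hk').1, (h2 i le_rfl hk').2]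
        exact ⟨rfl, rfl⟩
      · rw [ap_mul, ap_mul, (hfix' i (by omega) hik).1, (hfix' i (by omega) hik).2]
        exact h1 i (by omega)
    · rw [ap_mul, ap_mul, (hfix' i him (by omega)).1, (hfix' i him (by omega)).2]
      exact h2 i (by omega) him

end Cfsg.Agent.H55.SUFrame
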