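import Mathlib
import Cfsg.Agent.H55.SUEngine
import Cfsg.Agent.H55.SUFrame

/-!
`SU_{2m+1}(q)` is generated by three conjugates of a regular unipotent element, `m ≥ 2`.
-/

set_option autoImplicit false
set_option linter.unusedSectionVars false

namespace Cfsg.Agent.H55.SUThree

open Cfsg Cfsg.Agent.Unitary Cfsg.Agent.H55.SUEngine Cfsg.Agent.H55.SUFrame

variable {F : Type*} [Field F] [Fintype F] {n q m : ℕ}

local notation "V" => (Fin n → F)
local notation "H" => hermForm n F q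

lemma exists_sigma (hF : Fintype.card F = q ^ 2) {c : F} (hc0 : c ≠ 0) (hc : c + c ^ q = 0) :
    ∃ σ : F, σ ^ q - σ = c ∧ σ + σ ^ q ≠ 0 := by
  obtain ⟨z, hz⟩ := exists_trace_eq hF (one_pow q : (1 : F) ^ q = 1)
  have hcq : c ^ q = -c := eq_neg_of_add_eq_zero_right hc
  have h1 : (-(c * z)) ^ q - -(c * z) = c := by
    rw [neg_pow_q hF, mul_pow, hcq]; linear_combination c * hz
  by_cases hT : -(c * z) + (-(c * z)) ^ q = 0
  · refine ⟨-(c * z) + 1, by rw [add_pow_q hF, one_pow]; linear_combination h1, fun h => ?_⟩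
    rw [add_pow_q hF, one_pow] at h
    have h2 : (2 : F) = 0 := by linear_combination h - hT
    apply hc0
    linear_combination hT - h1 - (-(c * z)) * h2
  · exact ⟨_, h1, hT⟩

theorem exists_three (hF : Fintype.card F = q ^ 2) (hn : n = 2 * m + 1) (hm : 2 ≤ m) :
    ∃ u g h : SU n F q, (IsNilpotent (mat u - 1) ∧ (mat u - 1) ^ (n - 1) ≠ 0) ∧
      Subgroup.closure ({u, g * u * g⁻¹, h * u * h⁻¹} : Set (SU n F q)) = ⊤ := by
  classical
  obtain ⟨Φ⟩ := exists_frame (F := F) hF hn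
  obtain ⟨α, hα'⟩ := exists_trace_eq hF (a := (-1 : F)) (by rw [neg_pow_q hF, one_pow])
  have hα : α + α ^ q + 1 = 0 := by rw [hα']; exact neg_add_cancel 1
  have hα0 : α ≠ 0 := fun h => by
    rw [h, zero_pow (q_ne_zero hF), add_zero, zero_add] at hα; exact one_ne_zero hα
  obtain ⟨δ, hδ0, hδ'⟩ := exists_skew hF
  have hδ : δ + δ ^ q = 0 := by rw [hδ', add_neg_cancel]
  set U : SU n F q := Φ.u hF hm hα
  obtain ⟨hU0, hUe, hUw, hUf, hUl⟩ := Φ.u_spec hF hm hα
  obtain ⟨g, hg, -⟩ := Φ.exists_swap hF hδ0 hδ m le_rfl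
  set v : SU n F q := g * U * g⁻¹ with hv
  have hl : m - 1 < m := by omega
  have hginv : ∀ i, i < m → ap g⁻¹ (Φ.e i) = δ⁻¹ • Φ.f i := by
    intro i hi
    refine ap_injective g ?_
    rw [ap_ap_inv, ap_smul, (hg i hi).2, smul_smul, inv_mul_cancel₀ hδ0, one_smul]
  have hve : ∀ i, i + 1 < m → ap v (Φ.e i) = Φ.e i + Φ.e (i + 1) := by
    intro i hi
    rw [hv, ap_mul, ap_mul, hginv i (by omega), ap_smul, ap_smul, hUf i hi, ap_add, (hg i (by omega)).2,
      (hg (i + 1) hi).2, ← smul_add, smul_smul, inv_mul_cancel₀ hδ0, one_smul]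
  have hUef : ∀ i j, i ≤ j → j < m → H (ap U (Φ.e i)) (Φ.f j) = if i = j then 1 else 0 := by
    intro i
    induction i with
    | zero => intro j _ hj; rw [hU0, Φ.ef hF (by omega) hj]
    | succ i ih =>
      intro j hij hj
      rw [eq_sub_of_add_eq' (hUe i (by omega)), herm_sub_left, Φ.ef hF (by omega) hj, ih j (by omega) hj,
        if_neg (show i ≠ j by omega), sub_zero]
  set κ0 : F := H (ap v (Φ.e (m - 1))) (Φ.e (m - 1)) with hκ0
  have hκ00 : κ0 ≠ 0 := by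
    have e : κ0 = δ⁻¹ * (δ⁻¹) ^ q * α := by
      rw [hκ0, hv, ap_mul, ap_mul, ← herm_ap g⁻¹, ap_inv_ap, hginv _ hl, ap_smul, herm_smul_left, herm_smul_right,
        hUl, herm_add_left, herm_add_left, herm_smul_left, Φ.ff _ _ hl hl, Φ.wf _ hl, hUef _ _ le_rfl hl,
        if_pos rfl]
      ring
    rw [e]
    exact mul_ne_zero (mul_ne_zero (inv_ne_zero hδ0) (pow_ne_zero _ (inv_ne_zero hδ0))) hα0
  have pair : ∀ j i, i < m → (i + j < m → H (ap (v ^ j) (Φ.e i)) (Φ.e (m - 1)) = 0) ∧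
      (i + j = m → H (ap (v ^ j) (Φ.e i)) (Φ.e (m - 1)) = κ0) := by
    intro j
    induction j with
    | zero =>
      intro i hi
      refine ⟨fun _ => ?_, fun h => by omega⟩
      rw [pow_zero, ap_one, Φ.ee i _ hi hl]
    | succ j ih =>
      intro i hi
      by_cases hi' : i + 1 < m
      · rw [pow_succ, ap_mul, hve i hi', ap_add, herm_add_left]
        refine ⟨fun h => ?_, fun h => ?_⟩
        · rw [(ih i hi).1 (by omega), (ih (i + 1) hi').1 (by omega), add_zero]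
        · rw [(ih i hi).1 (by omega), (ih (i + 1) hi').2 (by omega), zero_add]
      · refine ⟨fun h => by omega, fun h => ?_⟩
        obtain rfl : j = 0 := by omega
        rw [zero_add, pow_one, show i = m - 1 by omega]
  set W : V := ap (v ^ (m - 1))⁻¹ (Φ.e (m - 1)) with hW
  set f' : V := ap (v ^ m)⁻¹ (Φ.e (m - 1)) with hf'
  have hpy : ∀ j i, H (ap (v ^ j)⁻¹ (Φ.e (m - 1))) (Φ.e i) = H (ap (v ^ j) (Φ.e i)) (Φ.e (m - 1)) ^ q := by
    intro j i
    rw [herm_swap hF (ap (v ^ j) (Φ.e i)), herm_ap_right]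
  have hWa : H W (Φ.e 0) = 0 := by
    rw [hW, hpy, (pair _ 0 (by omega)).1 (by omega), zero_pow (q_ne_zero hF)]
  have hWD : H W (Φ.e 1) = κ0 ^ q := by rw [hW, hpy, (pair _ 1 (by omega)).2 (by omega)]
  have hfa : H f' (Φ.e 0) = κ0 ^ q := by rw [hf', hpy, (pair _ 0 (by omega)).2 (by omega)]
  have hWW : H W W = 0 := by rw [hW, herm_ap, Φ.ee _ _ hl hl]
  have hff : H f' f' = 0 := by rw [hf', herm_ap, Φ.ee _ _ hl hl]
  set κ : F := H W (Φ.e 1) with hκ
  have hκne : κ ≠ 0 := by rw [hWD]; exact pow_ne_zero _ hκ00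
  -- parameters
  obtain ⟨c, hc0, hc, hgen⟩ := exists_param hF hκne
  obtain ⟨σ, hσc, hσ⟩ := exists_sigma hF hc0 hc
  have e00 : H (Φ.e 0) (Φ.e 0) = 0 := Φ.ee 0 0 (by omega) (by omega)
  have e10 : H (Φ.e 1) (Φ.e 0) = 0 := Φ.ee 1 0 (by omega) (by omega)
  have e11 : H (Φ.e 1) (Φ.e 1) = 0 := Φ.ee 1 1 (by omega) (by omega)
  have e01 : H (Φ.e 0) (Φ.e 1) = 0 := Φ.ee 0 1 (by omega) (by omega)
  have hspec1 : ∀ s : F, ESpec q (Φ.e 0) (s • Φ.e 1) 0 := fun s =>
    ⟨e00, by rw [herm_smul_left, e10, mul_zero],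
      by rw [herm_self_smul, e11, zero_pow (q_ne_zero hF), mul_zero]; ring⟩
  set b2 : V := Φ.b 2 with hb2
  have hb2e : H b2 (Φ.e 0) = 0 ∧ H (Φ.e 1) b2 = 0 ∧ ap U b2 + ap U (Φ.e 1) = b2 := by
    rcases Nat.lt_or_ge 2 m with h2 | h2
    · rw [hb2, Frame.b, if_pos h2]
      exact ⟨Φ.ee 2 0 h2 (by omega), Φ.ee 1 2 (by omega) h2, by rw [add_comm]; exact hUe 1 h2⟩
    · obtain rfl : m = 2 := by omega
      rw [hb2, Frame.b, if_neg (lt_irrefl _), if_pos rfl]
      exact ⟨Φ.we 0 (by omega), Φ.ew hF (by omega), by rw [hUw]; exact sub_add_cancel _ _⟩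
  obtain ⟨β, hβ⟩ := exists_alpha hF (w := σ • b2) e00 (by rw [herm_smul_left, hb2e.1, mul_zero])
  set h : SU n F q := eSU hF hβ with hh
  set X : SU n F q := eSU hF (hspec1 σ) with hX
  have hUinv0 : ap U⁻¹ (Φ.e 0) = Φ.e 0 := by
    refine ap_injective U ?_; rw [ap_ap_inv, hU0]
  have hUinvb : ap U⁻¹ b2 = b2 + Φ.e 1 := by
    refine ap_injective U ?_; rw [ap_ap_inv, ap_add, hb2e.2.2]
  have hkey : U⁻¹ * h * U = h * X := by
    refine ap_ext fun x => ?_
    have hUx : ∀ y, H (ap U x) y = H x (ap U⁻¹ y) := fun y => by rw [herm_ap_right, inv_inv]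
    simp only [ap_mul, hh, hX, ap_eSU, hUx, ap_add, ap_sub, ap_smul, ap_inv_ap, hUinv0, hUinvb,
      herm_add_right hF, herm_smul_right, herm_add_left, herm_sub_left, herm_smul_left, e00, e10, hb2e.2.1,
      (herm_eq_zero_symm hF).1 hb2e.1, mul_zero, zero_mul, add_zero, sub_zero, zero_smul]
    module
  set G := Subgroup.closure ({U, g * U * g⁻¹, h⁻¹ * U * h⁻¹⁻¹} : Set (SU n F q))
  refine ⟨U, g, h⁻¹, Φ.regular hF hm hα hn, ?_⟩
  show G = ⊤
  have hUG : U ∈ G := Subgroup.subset_closure (Set.mem_insert _ _)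
  have hvG : v ∈ G := Subgroup.subset_closure (Set.mem_insert_of_mem _ (Set.mem_insert _ _))
  have hXG : X ∈ G := by
    have hwG : h⁻¹ * U * h⁻¹⁻¹ ∈ G :=
      Subgroup.subset_closure (Set.mem_insert_of_mem _ (Set.mem_insert_of_mem _ rfl))
    have := G.mul_mem (G.inv_mem hwG) hUG
    rwa [show (h⁻¹ * U * h⁻¹⁻¹)⁻¹ * U = h⁻¹ * (U⁻¹ * h * U) by group, hkey, inv_mul_cancel_left] at this
  have hEX : Ei G (Φ.e 0) (σ • Φ.e 1) 0 := ⟨X, hXG, fun x => by rw [hX, ap_eSU]; rfl⟩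
  have hU1 : ap U (Φ.e 1) = Φ.e 1 - Φ.e 0 := by
    have := hUe 0 (by omega)
    rw [hU0] at this
    exact eq_sub_of_add_eq' this
  have hT0 : InT G c (Φ.e 0) := by
    have h1 := hEX.conj hUG
    rw [hU0, ap_smul, hU1] at h1
    have h2 := Ei.inv hF (hspec1 σ) hEX
    have h3 := Ei.mul hF e00 (by rw [herm_smul_left, herm_sub_left, e10, e00, sub_zero, mul_zero])
      (by rw [← neg_smul, herm_smul_left, e10, mul_zero]) h1 h2
    rw [show σ • (Φ.e 1 - Φ.e 0) + -(σ • Φ.e 1) = (-σ) • Φ.e 0 by module] at h3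
    have h4 := h3.toInT hF
    convert h4 using 1
    simp only [zero_pow (q_ne_zero hF), ← neg_smul, herm_smul_left, herm_smul_right, herm_sub_right hF,
      e11, e10, neg_pow_q hF, mul_zero, sub_zero]
    linear_combination -hσc
  have hZe : ∀ i, i < m → InT G c (Φ.e i) := by
    intro i
    induction i with
    | zero => exact fun _ => hT0
    | succ i ih =>
      intro hi
      have := ((ih (by omega)).conj hvG).conj hUG
      rwa [hve i hi, ap_add, hUe i hi] at this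
  have hD1 : InT G c (Φ.e 1 + Φ.e 0) := by
    have := hT0.conj hvG
    rwa [hve 0 (by omega), add_comm] at this
  have hWG : InT G c W := (hZe _ hl).conj (G.inv_mem (G.pow_mem hvG _))
  obtain ⟨hPi0, hE1⟩ := step hF hc0 hc hσ e00 e11 e10 ((herm_eq_zero_symm hF).1 hWa) hκne hWW hgen
    (hZe 1 (by omega)) hD1 hWG hEX
  have hPe : ∀ i, i < m → InPi G (Φ.e i) := by
    intro i
    induction i with
    | zero => exact fun _ => hPi0
    | succ i ih =>
      intro hi
      have := ((ih (by omega)).conj hvG).conj hUG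
      rwa [hve i hi, ap_add, hUe i hi] at this
  have hPf : InPi G f' := (hPe _ hl).conj (G.inv_mem (G.pow_mem hvG _))
  set S := eichSub hF G e00 with hS
  have hS1 : Φ.e 1 ∈ S := fun s => ⟨0, hspec1 s, hE1 s⟩
  have hSU : ∀ x ∈ S, ap U x ∈ S := by
    intro x hx s
    obtain ⟨a, hsa, hEa⟩ := hx s
    have h1 := eSpec_ap U hsa
    have h2 := hEa.conj hUG
    rw [hU0, ap_smul] at h1 h2
    exact ⟨a, h1, h2⟩
  have hSW : W ∈ S := by
    intro s
    set τ := s / (c * κ ^ q) with hτ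
    obtain ⟨B, hB, hBx⟩ := hWG
    have hB0 : ap B (Φ.e 0) = Φ.e 0 := by
      rw [hBx, (herm_eq_zero_symm hF).1 hWa, mul_zero, zero_smul, add_zero]
    have hB1 : ap B (τ • Φ.e 1) = τ • Φ.e 1 + s • W := by
      rw [hBx, herm_smul_left, ← herm_swap hF W (Φ.e 1), ← hκ]
      congr 2
      rw [hτ]; field_simp
    have h1 := eSpec_ap B (hspec1 τ)
    have h2 := (hE1 τ).conj hB
    rw [hB0, hB1] at h1 h2
    have hs3 := eSpec_add hF h1 (hspec1 (-τ))
    have h3 := Ei.mul hF e00 h1.orth (hspec1 (-τ)).orth h2 (hE1 (-τ))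
    rw [show τ • Φ.e 1 + s • W + (-τ) • Φ.e 1 = s • W by module] at hs3 h3
    exact ⟨_, hs3, h3⟩
  have hSN : ∀ x ∈ S, Φ.N hF hm hα x ∈ S := fun x hx => by
    rw [Φ.N_apply]; exact sub_mem (hSU x hx) hx
  have hSpow : ∀ j, (Φ.N hF hm hα ^ j) W ∈ S := by
    intro j
    induction j with
    | zero => simpa using hSW
    | succ j ih => rw [pow_succ', Module.End.mul_apply]; exact hSN _ ih
  have hb1 : Φ.b (2 * m - 1) = Φ.f 1 := by
    rw [Frame.b, if_neg (by omega), if_neg (by omega), show 2 * m - (2 * m - 1) = 1 by omega]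
  have hWlead : W - κ • Φ.b (2 * m - 1) ∈ Φ.span (2 * m - 1) := by
    rw [hb1, hκ]; exact Φ.lead hF hm hWa
  have hspan : ∀ k, k ≤ 2 * m → Φ.span k ≤ S := by
    intro k
    induction k with
    | zero => intro _; rw [Frame.span, Submodule.span_le]; rintro _ ⟨j, hj, rfl⟩; exact absurd hj (Nat.not_lt_zero j)
    | succ k ih =>
      intro hk
      rw [Frame.span, Submodule.span_le]
      rintro _ ⟨j, hj, rfl⟩
      simp only [Set.mem_Iio] at hj
      rcases Nat.lt_or_ge j k with hjk | hjk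
      · exact ih (by omega) (Φ.b_mem hjk)
      obtain rfl : j = k := by omega
      obtain ⟨γ, hγ, hd⟩ := Φ.N_pow_lead hF hm hα W (2 * m - 1) (by omega) hκne hWlead (2 * m - 1 - j) (by omega)
      rw [show 2 * m - 1 - (2 * m - 1 - j) = j by omega] at hd
      have h1 := sub_mem (hSpow (2 * m - 1 - j)) (ih (by omega) hd)
      rw [sub_sub_cancel] at h1
      have := S.smul_mem γ⁻¹ h1
      rwa [smul_smul, inv_mul_cancel₀ hγ, one_smul] at this
  refine eq_top_of_radical hF (Or.inl (by omega)) e00 hff (by rw [hfa]; exact pow_ne_zero _ hκ00) hPi0 hPf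
    fun x hx => ?_
  have h1 : Φ.f 1 ∈ S := hb1 ▸ hspan (2 * m) le_rfl (Φ.b_mem (by omega))
  have := add_mem (hspan (2 * m - 1) (by omega) (Φ.lead hF hm hx)) (S.smul_mem (H x (Φ.e 1)) h1)
  rwa [sub_add_cancel] at this

end Cfsg.Agent.H55.SUThree
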