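import Mathlib
import Cfsg.Agent.H55.SUEngine
import Cfsg.Agent.H52.SUThreeGen

/-!
`SU_n(q)` is generated by two elements: the product of an Eichler element `E(e, z)` with a commuting
diagonal element, and a monomial element exchanging two non-perpendicular isotropic lines and cycling an
orthonormal basis of their orthogonal complement.
-/

set_option autoImplicit false
set_option linter.unusedSectionVars false

namespace Cfsg.Agent.H55.SUTwoGen

open Cfsg Cfsg.Agent.Unitary Cfsg.Agent.H55.SUEngine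
open scoped Matrix

variable {F : Type*} [Field F] [Fintype F] {n q : ℕ}

local notation "V" => (Fin n → F)
local notation "H" => hermForm n F q

section Fields

lemma exists_norm_generator (hF : Fintype.card F = q ^ 2) :
    ∃ g : F, g * g ^ q = 1 ∧ orderOf g = q + 1 := by
  classical
  obtain ⟨g0, hg0⟩ := IsCyclic.exists_generator (α := Fˣ)
  have hq := two_le_q hF
  have hord : orderOf g0 = (q + 1) * (q - 1) := by
    rw [orderOf_eq_card_of_forall_mem_zpowers hg0, Cfsg.Agent.Unitary.card_units hF]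
  refine ⟨((g0 ^ (q - 1) : Fˣ) : F), ?_, ?_⟩
  · rw [← pow_succ', ← Units.val_pow_eq_pow_val, ← pow_mul, mul_comm, ← hord, pow_orderOf_eq_one, Units.val_one]
  · rw [orderOf_units, orderOf_pow_of_dvd (by omega) ⟨q + 1, by rw [hord, mul_comm]⟩, hord,
      Nat.mul_div_cancel _ (by omega)]

/-- An additive subgroup through `1` closed under a norm-one element of large order is everything. -/
lemma mem_of_closed (hF : Fintype.card F = q ^ 2) {ζ : F} (hζ : ζ * ζ ^ q = 1)
    (hd : 2 < orderOf ζ) (hd' : q + 1 ≤ 2 * orderOf ζ)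
    (R : AddSubgroup F) (h1 : (1 : F) ∈ R) (hR : ∀ x ∈ R, ζ * x ∈ R) (x : F) : x ∈ R := by
  classical
  let S : Subring F :=
    { carrier := {x | ∀ r ∈ R, x * r ∈ R}
      mul_mem' := fun {a b} ha hb r hr => by rw [mul_assoc]; exact ha _ (hb r hr)
      one_mem' := fun r hr => by rwa [one_mul]
      add_mem' := fun {a b} ha hb r hr => by rw [add_mul]; exact R.add_mem (ha r hr) (hb r hr)
      zero_mem' := fun r _ => by rw [zero_mul]; exact R.zero_mem
      neg_mem' := fun {a} ha r hr => by rw [neg_mul]; exact R.neg_mem (ha r hr) }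
  suffices hS : x ∈ S by simpa using hS 1 h1
  let K : Subfield F :=
    { S with
      inv_mem' := fun a ha => by
        show a⁻¹ ∈ S
        rcases eq_or_ne a 0 with rfl | ha0
        · rw [inv_zero]; exact S.zero_mem
        · have h : a ^ (Fintype.card F - 2) = a⁻¹ := by
            refine (inv_eq_of_mul_eq_one_right ?_).symm
            rw [← pow_succ', show Fintype.card F - 2 + 1 = Fintype.card F - 1 by
              have : 1 < Fintype.card F := Fintype.one_lt_card
              omega, FiniteField.pow_card_sub_one_eq_one a ha0]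
          rw [← h]; exact S.pow_mem ha _ }
  show x ∈ K
  have hζK : ζ ∈ K := hR
  have hcard : Nat.card F = Nat.card K ^ Module.finrank K F := Module.natCard_eq_pow_finrank
  set o := Module.finrank K F with ho
  set r := Nat.card K with hr
  have hr2 : 2 ≤ r := Finite.one_lt_card
  rw [Nat.card_eq_fintype_card, hF] at hcard
  rcases eq_or_ne o 1 with h | h
  · rw [h, pow_one] at hcard
    have : K = ⊤ := by
      refine SetLike.coe_injective (Set.eq_univ_iff_forall.2 ?_ |>.trans Subfield.coe_top.symm)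
      intro y
      have hbij : Function.Bijective ((↑) : K → F) :=
        (Nat.bijective_iff_injective_and_card _).2 ⟨Subtype.val_injective, by
          rw [Nat.card_eq_fintype_card (α := F), hF, hcard, hr]⟩
      obtain ⟨k, rfl⟩ := hbij.2 y
      exact k.2
    rw [this]; exact Subfield.mem_top x
  exfalso
  have hpos : o ≠ 0 := fun h0 => by
    rw [h0, pow_zero] at hcard
    nlinarith [two_le_q hF]
  have hζ0 : ζ ≠ 0 := fun h0 => by rw [h0, zero_mul] at hζ; exact zero_ne_one hζ
  have hdr : orderOf ζ ∣ r - 1 := by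
    refine orderOf_dvd_of_pow_eq_one ?_
    haveI : Fintype K := Fintype.ofFinite _
    have hne : (⟨ζ, hζK⟩ : K) ≠ 0 := fun h0 => hζ0 (congrArg Subtype.val h0)
    have := FiniteField.pow_card_sub_one_eq_one (⟨ζ, hζK⟩ : K) hne
    rw [hr, Nat.card_eq_fintype_card]
    exact congrArg Subtype.val this
  have hdle : orderOf ζ ≤ r - 1 := Nat.le_of_dvd (by omega) hdr
  have hdq : orderOf ζ ∣ q + 1 := orderOf_dvd_of_pow_eq_one (by rwa [pow_succ'])
  rcases Nat.lt_or_ge o 3 with h3 | h3
  · have hrq : r = q := by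
      have h2 : o = 2 := by omega
      rw [h2] at hcard
      exact (Nat.pow_left_injective two_ne_zero hcard).symm
    have : orderOf ζ ∣ 2 := by
      have := Nat.dvd_sub hdq hdr
      rwa [show q + 1 - (r - 1) = 2 by omega] at this
    have := Nat.le_of_dvd two_pos this
    omega
  · have h4 : r ^ 3 ≤ q ^ 2 := hcard ▸ Nat.pow_le_pow_right (by omega) h3
    have h5 : q + 3 ≤ 2 * r := by omega
    have h6 : (q + 3) ^ 3 ≤ 8 * q ^ 2 := by
      have := Nat.pow_le_pow_left h5 3
      rw [mul_pow] at this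
      omega
    nlinarith [sq_nonneg ((q : ℤ) - 3), sq_nonneg ((q : ℤ) - 1), two_le_q hF]

end Fields

section Engine

variable {G : Subgroup (SU n F q)}

lemma eSpec_scale (hF : Fintype.card F = q ^ 2) {a w : V} {r α : F} (hr : r ≠ 0)
    (h : ESpec q (r • a) w α) : ESpec q a (r ^ q • w) (r ^ q * r * α) := by
  have h1 := h.iso
  rw [herm_smul_left, herm_smul_right, ← mul_assoc] at h1
  have h2 := h.orth
  rw [herm_smul_right] at h2
  refine ⟨(mul_eq_zero.1 h1).resolve_left (mul_ne_zero hr (pow_ne_zero _ hr)), ?_, ?_⟩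
  · rw [herm_smul_left, (mul_eq_zero.1 h2).resolve_left (pow_ne_zero _ hr), mul_zero]
  · rw [herm_smul_left, herm_smul_right, pow_q_q hF, mul_pow, mul_pow, pow_q_q hF]
    linear_combination (r ^ q * r) * h.tr

lemma ev_scale (hF : Fintype.card F = q ^ 2) (a w : V) (r α : F) (x : V) :
    ev q (r • a) w α x = ev q a (r ^ q • w) (r ^ q * r * α) x := by
  simp only [ev, herm_smul_right, pow_q_q hF]
  module

lemma Ei_scale (hF : Fintype.card F = q ^ 2) {a w : V} {r α : F} (h : Ei G (r • a) w α) :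
    Ei G a (r ^ q • w) (r ^ q * r * α) := by
  obtain ⟨A, hA, hx⟩ := h
  exact ⟨A, hA, fun x => by rw [hx, ev_scale hF]⟩

lemma Ei_inPi_radical (hF : Fintype.card F = q ^ 2) {e z : V} (he : H e e = 0) (hzz : H z z = 1)
    (hz : ∀ σ : F, ∃ α, ESpec q e (σ • z) α ∧ Ei G e (σ • z) α) : InPi G e := by
  intro t ht
  obtain ⟨u, hu⟩ := exists_trace_eq hF (a := (1 : F)) (one_pow q)
  obtain ⟨α, hα, hA⟩ := hz (t * u)
  obtain ⟨β, hβ, hB⟩ := hz 1
  have hAB := Ei.mul hF he hα.orth hβ.orth hA hB
  have hBA := Ei.mul hF he hβ.orth hα.orth hB hA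
  obtain ⟨A, hA', hAx⟩ := hAB
  obtain ⟨B, hB', hBx⟩ := hBA
  refine ⟨A * B⁻¹, G.mul_mem hA' (G.inv_mem hB'), fun x => ?_⟩
  obtain ⟨y, rfl⟩ : ∃ y, x = ap B y := ⟨ap B⁻¹ x, (ap_ap_inv B x).symm⟩
  rw [ap_mul, ap_inv_ap, hAx, hBx]
  have ho := hα.orth
  have ho' := hβ.orth
  rw [one_smul] at ho'
  have ho'' : H e z = 0 := (herm_eq_zero_symm hF).1 ho'
  simp only [ev, one_smul, herm_add_left, herm_sub_left, herm_smul_left, herm_add_right hF, herm_smul_right,
    he, ho', ho'', hzz, mul_zero, add_zero, sub_zero, mul_one]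
  have e1 : (t * u) ^ q = -t * u ^ q := by rw [mul_pow, eq_neg_of_add_eq_zero_right ht]
  rw [e1]
  match_scalars
  · ring
  · ring
  · linear_combination (t * H y e) * hu

lemma Ei.pow_exists (hF : Fintype.card F = q ^ 2) {e z : V} {α : F} (he : H e e = 0) (hz : H z e = 0)
    {X : SU n F q} (hX : ∀ x, ap X x = ev q e z α x) :
    ∀ k : ℕ, ∃ β, ∀ x, ap (X ^ k) x = ev q e ((k : F) • z) β x
  | 0 => ⟨0, fun x => by simp [ev, ap_one, herm_zero_right hF]⟩
  | k + 1 => by
    obtain ⟨β, hβ⟩ := Ei.pow_exists hF he hz hX k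
    have hz' : H e z = 0 := (herm_eq_zero_symm hF).1 hz
    refine ⟨β + α - (H z z) * (k : F), fun x => ?_⟩
    rw [pow_succ, ap_mul, hβ, hX]
    simp only [ev, herm_add_left, herm_sub_left, herm_smul_left, herm_smul_right, natCast_pow_q hF,
      he, hz, hz', mul_zero, add_zero, sub_zero, Nat.cast_succ, add_pow_q hF, one_pow]
    module

lemma pow_eq_one (hF : Fintype.card F = q ^ 2) {e z : V} {α : F} (he : H e e = 0) (hz : H z e = 0)
    {X : SU n F q} (hX : ∀ x, ap X x = ev q e z α x) : X ^ (q * q) = 1 := by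
  obtain ⟨β, hβ⟩ := Ei.pow_exists hF he hz hX q
  have h1 : ∀ x, ap (X ^ q) x = x + (β * H x e) • e := fun x => by
    rw [hβ, ev, natCast_q_eq_zero hF, zero_smul, herm_zero_right hF]
    simp
  have hk : ∀ k : ℕ, ∀ x, ap ((X ^ q) ^ k) x = x + ((k : F) * β * H x e) • e := by
    intro k
    induction k with
    | zero => intro x; simp [ap_one]
    | succ k ih =>
      intro x
      rw [pow_succ, ap_mul, ih, h1, herm_add_left, herm_smul_left, he, Nat.cast_succ]
      module
  rw [pow_mul]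
  refine ap_ext fun x => ?_
  rw [hk, natCast_q_eq_zero hF, ap_one]
  simp

/-- Transport of Eichler submodules. -/
lemma eichSub_map (hF : Fintype.card F = q ^ 2) {e e' w : V} (he : H e e = 0) (he' : H e' e' = 0) {r : F}
    (hr : r ≠ 0) {g : SU n F q} (hg : g ∈ G) (hge : ap g e = r • e')
    (hw : w ∈ eichSub hF G he) : ap g w ∈ eichSub hF G he' := by
  intro σ
  obtain ⟨α, hs, hA⟩ := hw (σ / r ^ q)
  have hs' := eSpec_ap g hs
  have hA' := hA.conj hg
  rw [hge, ap_smul] at hs' hA'
  refine ⟨r ^ q * r * α, ?_, ?_⟩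
  · have := eSpec_scale hF hr hs'
    rwa [smul_smul, mul_div_cancel₀ _ (pow_ne_zero _ hr)] at this
  · have := Ei_scale hF hA'
    rwa [smul_smul, mul_div_cancel₀ _ (pow_ne_zero _ hr)] at this

/-- One Eichler element and an element of the stabiliser of its axis give a line of Eichler elements. -/
lemma mem_eichSub_of_scale (hF : Fintype.card F = q ^ 2) {e w : V} (he : H e e = 0) {α : F}
    (hs : ESpec q e w α) (hX : Ei G e w α) {g : SU n F q} (hg : g ∈ G) {r τ : F} (hr : r ≠ 0)
    (hge : ap g e = r • e) (hgw : ap g w = τ • w) (hζ : r ^ q * τ * (r ^ q * τ) ^ q = 1)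
    (hd : 2 < orderOf (r ^ q * τ)) (hd' : q + 1 ≤ 2 * orderOf (r ^ q * τ)) :
    w ∈ eichSub hF G he := by
  let R : AddSubgroup F :=
    { carrier := {σ | ∃ α, ESpec q e (σ • w) α ∧ Ei G e (σ • w) α}
      zero_mem' := ⟨0, by rw [zero_smul]; exact ⟨he, herm_zero_left e,
          by rw [herm_zero_left, zero_pow (q_ne_zero hF)]; ring⟩, by rw [zero_smul]; exact Ei_zero hF e⟩
      add_mem' := fun {s t} ⟨l, hl, h⟩ ⟨l', hl', h'⟩ => ⟨_, by rw [add_smul]; exact eSpec_add hF hl hl', by
        rw [add_smul]; exact Ei.mul hF he hl.orth hl'.orth h h'⟩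
      neg_mem' := fun {s} ⟨l, hl, h⟩ => ⟨l ^ q, by
        refine ⟨he, by rw [neg_smul, herm_neg_left, hl.orth, neg_zero], ?_⟩
        rw [neg_smul, herm_neg_left, herm_neg_right hF, neg_neg, pow_q_q hF]
        linear_combination hl.tr, by rw [neg_smul]; exact Ei.inv hF hl h⟩ }
  intro σ
  refine mem_of_closed hF hζ hd hd' R ⟨α, by rwa [one_smul], by rwa [one_smul]⟩ ?_ σ
  rintro s ⟨l, hl, h⟩
  have hl' := eSpec_ap g hl
  have h' := h.conj hg
  rw [hge, ap_smul, hgw, smul_smul] at hl' h'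
  refine ⟨r ^ q * r * l, ?_, ?_⟩
  · have := eSpec_scale hF hr hl'
    rwa [smul_smul, show r ^ q * (s * τ) = r ^ q * τ * s by ring] at this
  · have := Ei_scale hF h'
    rwa [smul_smul, show r ^ q * (s * τ) = r ^ q * τ * s by ring] at this

end Engine

section Elements

lemma exists_monomial (hF : Fintype.card F = q ^ 2) (π : Equiv.Perm (Fin n)) (d : Fin n → F)
    (hd : ∀ i, d i * d i ^ q = 1) (hdet : ((Equiv.Perm.sign π : ℤ) : F) * ∏ i, d i = 1) :
    ∃ g : SU n F q, ∀ i, ap g (Pi.single i 1) = d i • Pi.single (π i) 1 := by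
  classical
  let M : Matrix (Fin n) (Fin n) F := (π⁻¹).permMatrix F * Matrix.diagonal d
  have hM : ∀ x i, (M *ᵥ x) i = d (π.symm i) * x (π.symm i) := by
    intro x i
    show (((π⁻¹).permMatrix F * Matrix.diagonal d) *ᵥ x) i = _
    rw [← Matrix.mulVec_mulVec, Matrix.permMatrix_mulVec, Function.comp_apply, Matrix.mulVec_diagonal]
    rfl
  have hp : Preserves q M := by
    intro u v
    simp only [hermForm, hM]
    refine Fintype.sum_equiv π.symm _ _ (fun i => ?_)
    rw [mul_pow]
    linear_combination (u (π.symm i) * v (π.symm i) ^ q) * hd (π.symm i)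
  have hdet' : M.det = 1 := by
    show ((π⁻¹).permMatrix F * Matrix.diagonal d).det = 1
    rw [Matrix.det_mul, Matrix.det_permutation, Matrix.det_diagonal, Equiv.Perm.sign_inv]
    exact hdet
  refine ⟨toSU hp hdet', fun i => ?_⟩
  funext j
  show (M *ᵥ Pi.single i 1) j = _
  rw [hM, Pi.smul_apply, smul_eq_mul]
  rcases eq_or_ne (π i) j with rfl | h
  · simp
  · have : π.symm j ≠ i := fun h' => h (by rw [← h', Equiv.apply_symm_apply])
    simp [this, Ne.symm h]

/-- The underlying map of `pi`. -/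
def piN (n i : ℕ) : ℕ := if i = 0 then 1 else if i = 1 then 0 else if i + 1 < n then i + 1 else 2

/-- The inverse of `piN`. -/
def piM (n i : ℕ) : ℕ := if i = 0 then 1 else if i = 1 then 0 else if i = 2 then n - 1 else i - 1

lemma piN_spec {n i : ℕ} (hn : 4 ≤ n) (hi : i < n) :
    piN n i < n ∧ piM n i < n ∧ piM n (piN n i) = i ∧ piN n (piM n i) = i := by
  have h1 : piN n i < n := by unfold piN; split_ifs <;> omega
  have h2 : piM n i < n := by unfold piM; split_ifs <;> omega
  refine ⟨h1, h2, ?_, ?_⟩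
  · unfold piN; split_ifs <;> unfold piM <;> split_ifs <;> first | contradiction | omega
  · unfold piM; split_ifs <;> unfold piN <;> split_ifs <;> first | contradiction | omega

/-- Exchange of `0` and `1`, cyclic shift of the other indices. -/
def pi (n : ℕ) (hn : 4 ≤ n) : Equiv.Perm (Fin n) where
  toFun i := ⟨piN n i, (piN_spec hn i.2).1⟩
  invFun i := ⟨piM n i, (piN_spec hn i.2).2.1⟩
  left_inv i := Fin.ext (piN_spec hn i.2).2.2.1
  right_inv i := Fin.ext (piN_spec hn i.2).2.2.2

lemma sign_pi_four (h : 4 ≤ 4) : Equiv.Perm.sign (pi 4 h) = 1 := by revert h; decide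

lemma pi_four_three (h : 4 ≤ 4) (h3 : 3 < 4) (h2 : 2 < 4) : pi 4 h ⟨3, h3⟩ = ⟨2, h2⟩ := by
  revert h h3 h2; decide

end Elements

section Main

theorem exists_two_large (hF : Fintype.card F = q ^ 2) (hn : 4 ≤ n) (h43 : n = 4 → q ≠ 3) :
    ∃ a b : SU n F q, Subgroup.closure ({a, b} : Set (SU n F q)) = ⊤ := by
  classical
  obtain ⟨lam, hlam, hlamord⟩ := exists_norm_generator (F := F) hF
  have hlam0 : lam ≠ 0 := fun h => by rw [h, zero_mul] at hlam; exact zero_ne_one hlam
  have hq2 := two_le_q hF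
  obtain ⟨ν0, hν0⟩ := exists_norm_eq_neg_one hF
  have hν00 : ν0 ≠ 0 := fun h => by rw [h, zero_mul] at hν0; exact one_ne_zero (neg_eq_zero.1 hν0.symm)
  obtain ⟨ν, hν, hν2⟩ : ∃ ν : F, ν * ν ^ q = -1 ∧ ν ^ 2 ≠ lam := by
    by_cases h : ν0 ^ 2 = lam
    · refine ⟨ν0 * lam, by rw [mul_pow, mul_mul_mul_comm, hν0, hlam, mul_one], fun h' => ?_⟩
      rw [mul_pow, h] at h'
      have h1 : lam ^ 2 = 1 := mul_left_cancel₀ hlam0 (h'.trans (mul_one lam).symm)
      have := Nat.le_of_dvd two_pos (orderOf_dvd_of_pow_eq_one h1)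
      omega
    · exact ⟨ν0, hν0, h⟩
  let i0 : Fin n := ⟨0, by omega⟩
  let i1 : Fin n := ⟨1, by omega⟩
  let i2 : Fin n := ⟨2, by omega⟩
  let i3 : Fin n := ⟨3, by omega⟩
  let il : Fin n := ⟨n - 1, by omega⟩
  let π := pi n hn
  set S : F := ((Equiv.Perm.sign π : ℤ) : F) with hS
  have hS2 : S * S = 1 := by
    rcases Int.units_eq_one_or (Equiv.Perm.sign π) with h | h <;> rw [hS, h] <;> simp
  have hSq : S ^ q = S := by
    rcases Int.units_eq_one_or (Equiv.Perm.sign π) with h | h <;> rw [hS, h] <;>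
      simp [neg_pow_q hF]
  let d : Fin n → F := fun i => if i = i0 then lam else if i = il then S * lam ^ q else 1
  have hd : ∀ i, d i * d i ^ q = 1 := by
    intro i
    simp only [d]
    split_ifs
    · exact hlam
    · rw [mul_pow, hSq, pow_q_q hF, mul_mul_mul_comm, hS2, mul_comm (lam ^ q), hlam, one_mul]
    · rw [one_pow, one_mul]
  have h0l : i0 ≠ il := by simp [i0, il, Fin.ext_iff]; omega
  have hprod : ∏ i, d i = S := by
    rw [← Finset.prod_subset (Finset.subset_univ {i0, il}) (fun i _ hi => by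
      simp only [Finset.mem_insert, Finset.mem_singleton, not_or] at hi
      simp [d, hi.1, hi.2]), Finset.prod_pair h0l]
    simp only [d, if_pos, if_neg h0l.symm]
    linear_combination S * hlam
  obtain ⟨b, hb⟩ := exists_monomial hF π d hd (by rw [hprod]; exact hS2)
  have hd1 : d i1 = 1 := by simp [d, i0, i1, il, Fin.ext_iff]; omega
  have hd2 : d i2 = 1 := by simp [d, i0, i2, il, Fin.ext_iff]; omega
  have hd0 : d i0 = lam := by simp [d]
  have hπ0 : π i0 = i1 := Fin.ext (by simp [π, pi, piN, i0, i1])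
  have hπ1 : π i1 = i0 := Fin.ext (by simp [π, pi, piN, i0, i1])
  have hπ2 : π i2 = i3 := Fin.ext (by simp [π, pi, piN, i2, i3, show 3 < n by omega])
  -- the diagonal element
  let c : Fin n → F := fun i => if 4 < n then
    (if (i : ℕ) < 3 then lam else if (i : ℕ) = 4 then (lam ^ q) ^ 3 else 1) else 1
  have hc : ∀ i, c i * c i ^ q = 1 := by
    intro i
    simp only [c]
    split_ifs
    · exact hlam
    · rw [← pow_mul (lam ^ q) 3 q, mul_comm 3 q, pow_mul, pow_q_q hF, ← mul_pow, mul_comm, hlam, one_pow]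
    · rw [one_pow, one_mul]
    · rw [one_pow, one_mul]
  have hcprod : ∏ i, c i = 1 := by
    by_cases h5 : 4 < n
    · let i4 : Fin n := ⟨4, h5⟩
      rw [← Finset.prod_subset (Finset.subset_univ {i0, i1, i2, i4}) (fun i _ hi => by
        simp only [Finset.mem_insert, Finset.mem_singleton, not_or, Fin.ext_iff, i0, i1, i2, i4] at hi
        simp only [c, if_pos h5]
        rw [if_neg (by omega), if_neg hi.2.2.2])]
      rw [Finset.prod_insert (by simp [i0, i1, i2, i4, Fin.ext_iff]),
        Finset.prod_insert (by simp [i1, i2, i4, Fin.ext_iff]), Finset.prod_pair (by simp [i2, i4, Fin.ext_iff])]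
      simp only [c, if_pos h5, i0, i1, i2, i4]
      norm_num
      rw [← mul_assoc, ← mul_assoc, show lam * lam * lam * (lam ^ q) ^ 3 = (lam * lam ^ q) ^ 3 by ring,
        hlam, one_pow]
    · simp [c, h5]
  have hord1 : orderOf (lam ^ q) = q + 1 := by
    rw [← hlamord]
    exact Nat.Coprime.orderOf_pow (by rw [hlamord]; simp)
  obtain ⟨h, hh⟩ := exists_monomial hF (1 : Equiv.Perm (Fin n)) c hc (by simp [hcprod])
  have hc01 : c i0 = c i1 ∧ c i0 = c i2 := by simp [c, i0, i1, i2]
  set μ := c i0 with hμ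
  -- vectors
  let e : V := Pi.single i0 1 + ν • Pi.single i1 1
  let z : V := Pi.single i2 1
  have hz2 : H z z = 1 := by simp [z, herm_single_single hF]
  have h01 : i0 ≠ i1 := by simp [i0, i1]
  have h02 : i0 ≠ i2 := by simp [i0, i2]
  have h12 : i1 ≠ i2 := by simp [i1, i2]
  have hee : H e e = 0 := by
    simp [e, herm_add_left, herm_add_right hF, herm_smul_left, herm_smul_right, herm_single_single hF,
      h01, h01.symm]
    linear_combination hν
  have hze : H z e = 0 := by
    simp [e, z, herm_add_right hF, herm_smul_right, herm_single_single hF, h02.symm, h12.symm]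
  obtain ⟨α, hα⟩ := exists_alpha hF hee hze
  let X := eSU hF hα
  have hX : ∀ x, ap X x = ev q e z α x := fun x => ap_eSU hF hα x
  have hhe : ap h e = μ • e := by
    simp only [e, ap_add, ap_smul, hh, Equiv.Perm.one_apply, ← hc01.1]
    module
  have hhz : ap h z = μ • z := by
    simp only [z, hh, Equiv.Perm.one_apply, ← hc01.2]
  have hμ1 : μ * μ ^ q = 1 := hc i0
  have hμ0 : μ ≠ 0 := fun h => by rw [h, zero_mul] at hμ1; exact zero_ne_one hμ1
  have hcomm : Commute X h := by
    clear_value e z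
    have h1 : h * X = X * h := by
      refine ap_ext fun x => ?_
      rw [ap_mul, ap_mul, hX, hX]
      simp only [ev, ap_add, ap_sub, ap_smul, hhe, hhz]
      have e1 : H (ap h x) e * μ ^ q = H x e := by
        rw [← herm_ap h x e, hhe, herm_smul_right, mul_comm]
      have e2 : H (ap h x) z * μ ^ q = H x z := by
        rw [← herm_ap h x z, hhz, herm_smul_right, mul_comm]
      rw [← e1, ← e2]
      match_scalars
      · ring
      · linear_combination (H (ap h x) e) * hμ1
      · linear_combination (α * H (ap h x) e - H (ap h x) z) * hμ1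
    exact h1.symm
  have hhord : h ^ (q + 1) = 1 := by
    have hk : ∀ k : ℕ, ∀ i, ap (h ^ k) (Pi.single i 1) = c i ^ k • Pi.single i 1 := by
      intro k
      induction k with
      | zero => intro i; simp [ap_one]
      | succ k ih => intro i; rw [pow_succ, ap_mul, hh, Equiv.Perm.one_apply, ap_smul, ih, smul_smul, pow_succ']
    refine Subtype.ext (Subtype.ext (Matrix.ext_of_mulVec_single fun i => ?_))
    have h1 := hk (q + 1) i
    rw [pow_succ' (c i), hc, one_smul] at h1
    rw [ap_def] at h1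
    rw [show ((1 : SU n F q) : Matrix.SpecialLinearGroup (Fin n) F) = 1 from rfl]
    show _ = (1 : Matrix (Fin n) (Fin n) F) *ᵥ Pi.single i 1
    rw [Matrix.one_mulVec]
    exact h1
  refine ⟨X * h, b, ?_⟩
  set G := Subgroup.closure ({X * h, b} : Set (SU n F q)) with hG
  have haG : X * h ∈ G := Subgroup.subset_closure (by simp)
  have hbG : b ∈ G := Subgroup.subset_closure (by simp)
  have hXG : X ∈ G := by
    have h1 := G.pow_mem haG ((q + 1) * (q * q - q + 1))
    have hXq : X ^ (q * q) = 1 := pow_eq_one hF hee hze hX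
    have hexp : (q + 1) * (q * q - q + 1) = q * q * q + 1 := by
      have : q ≤ q * q := Nat.le_mul_self q
      obtain ⟨m, hm⟩ := Nat.exists_eq_add_of_le this
      rw [hm, Nat.add_sub_cancel_left]
      nlinarith
    rw [hcomm.mul_pow, pow_mul h, hhord, one_pow, mul_one, hexp, pow_succ, pow_mul, hXq, one_pow, one_mul] at h1
    exact h1
  have hhG : h ∈ G := by
    have := G.mul_mem (G.inv_mem hXG) haG
    rwa [inv_mul_cancel_left] at this
  have hEi : Ei G e z α := ⟨X, hXG, hX⟩
  let f : V := ap b e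
  have hff : H f f = 0 := by rw [herm_ap, hee]
  have hbe : f = lam • Pi.single i1 1 + ν • Pi.single i0 1 := by
    simp [f, e, ap_add, ap_smul, hb, hd0, hd1, hπ0, hπ1]
  have hbf : ap b f = lam • e := by
    rw [hbe]
    simp only [e, ap_add, ap_smul, hb, hd0, hd1, hπ0, hπ1]
    module
  have hν0' : ν ≠ 0 := fun h => by rw [h, zero_mul] at hν; exact one_ne_zero (neg_eq_zero.1 hν.symm)
  set η := H f e with hη
  have hη0 : η ≠ 0 := by
    have : η = ν + lam * ν ^ q := by
      rw [hη, hbe]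
      simp [e, herm_add_left, herm_add_right hF, herm_smul_left, herm_smul_right, herm_single_single hF,
        h01, h01.symm]
      ring
    intro h0
    rw [this] at h0
    exact hν2 (by linear_combination ν * h0 - lam * hν)
  have hbz : ap b z = Pi.single i3 1 := by simp [z, hb, hd2, hπ2]
  -- the first line of Eichler elements
  have hzR : z ∈ eichSub hF G hee := by
    by_cases h5 : 4 < n
    · have hy : ap b z ∈ eichSub hF G hff := by
        have hμlam : μ = lam := by simp [hμ, c, if_pos h5, i0]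
        refine mem_eichSub_of_scale hF hff (eSpec_ap b hα) (hEi.conj hbG) hhG hμ0 (τ := 1) ?_ ?_ ?_ ?_ ?_
        · show ap h f = μ • f
          rw [hbe]
          simp only [ap_add, ap_smul, hh, Equiv.Perm.one_apply, ← hc01.1]
          module
        · rw [hbz, hh, Equiv.Perm.one_apply]
          simp [c, if_pos h5, i3]
        · rw [mul_one, pow_q_q hF, mul_comm, hμ1]
        all_goals
          rw [mul_one, hμlam, hord1]
          omega
      have h2 := eichSub_map hF hff hee one_ne_zero (G.inv_mem hbG) (by rw [ap_inv_ap, one_smul]) hy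
      rwa [ap_inv_ap] at h2
    · obtain rfl : n = 4 := by omega
      have hS1 : S = 1 := by
        rw [hS, show Equiv.Perm.sign π = 1 from sign_pi_four _]; simp
      have hbz2 : ap b (ap b z) = lam ^ q • z := by
        rw [hbz, hb]
        have e3 : π i3 = i2 := pi_four_three _ _ _
        have e4 : d i3 = lam ^ q := by simp [d, i3, i0, il, hS1]
        rw [e3, e4]
      refine mem_eichSub_of_scale hF hee hα hEi (G.mul_mem hbG hbG) hlam0 (τ := lam ^ q) ?_ ?_ ?_ ?_ ?_
      · rw [ap_mul]; exact hbf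
      · rw [ap_mul]; exact hbz2
      · rw [mul_pow, pow_q_q hF, show lam ^ q * lam ^ q * (lam * lam) = (lam * lam ^ q) * (lam * lam ^ q) by ring,
          hlam, one_mul]
      all_goals
        rw [← sq, orderOf_pow' _ two_ne_zero, hord1]
        have := h43 rfl
        have h2 : Nat.gcd (q + 1) 2 = 1 ∨ Nat.gcd (q + 1) 2 = 2 :=
          (Nat.dvd_prime Nat.prime_two).1 (Nat.gcd_dvd_right _ _)
        have h3 : Nat.gcd (q + 1) 2 ∣ q + 1 := Nat.gcd_dvd_left _ _
        rcases h2 with h2 | h2 <;> rw [h2] at h3 ⊢ <;> omega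
  have hPe : InPi G e := Ei_inPi_radical hF hee hz2 hzR
  have hPf : InPi G f := hPe.conj hbG
  -- the exchange of the two lines
  obtain ⟨cc, hcc0, hcc⟩ := exists_skew hF
  have hccs : cc + cc ^ q = 0 := by rw [hcc, add_neg_cancel]
  set dd := -1 / (cc * (η * η ^ q)) with hdd
  have hdds : dd + dd ^ q = 0 := by
    rw [hdd, div_pow, mul_pow, norm_pow_q hF, neg_pow_q hF, one_pow, hcc, neg_mul, neg_div_neg_eq]
    field_simp
    ring
  obtain ⟨A, hA, hAx⟩ := hPe cc hccs
  obtain ⟨B, hB, hBx⟩ := hPf dd hdds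
  let s : SU n F q := A * B * A
  have hsG : s ∈ G := G.mul_mem (G.mul_mem hA hB) hA
  have hef : H e f = η ^ q := by rw [hη, herm_swap hF]
  have hsf : ap s f = (cc * η) • e := by
    rw [ap_mul, ap_mul, hAx f, ← hη, hBx, herm_add_left, herm_smul_left, hff, zero_add, hef,
      show dd * (cc * η * η ^ q) = -1 by rw [hdd]; field_simp]
    rw [show f + (cc * η) • e + (-1 : F) • f = (cc * η) • e by module, hAx, herm_smul_left, hee]
    module
  have hsfix : ∀ x, H x e = 0 → H x f = 0 → ap s x = x := by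
    intro x hxe hxf
    have h1 : ap A x = x := by rw [hAx, hxe, mul_zero, zero_smul, add_zero]
    have h2 : ap B x = x := by rw [hBx, hxf, mul_zero, zero_smul, add_zero]
    rw [ap_mul, ap_mul, h1, h2, h1]
  have horth : ∀ i : Fin n, 2 ≤ (i : ℕ) → H (Pi.single i 1) e = 0 ∧ H (Pi.single i 1) f = 0 := by
    intro i hi
    have n0 : i ≠ i0 := by simp [i0, Fin.ext_iff]; omega
    have n1 : i ≠ i1 := by simp [i1, Fin.ext_iff]; omega
    rw [hbe]
    simp [e, herm_add_right hF, herm_smul_right, herm_single_single hF, n0, n1]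
  have hall : ∀ k : ℕ, ∀ i : Fin n, (i : ℕ) = k + 2 → (Pi.single i 1 : V) ∈ eichSub hF G hee := by
    intro k
    induction k with
    | zero => intro i hi; rwa [show i = i2 from Fin.ext hi]
    | succ k ih =>
      intro i hi
      let j : Fin n := ⟨k + 2, by omega⟩
      have hj := eichSub_map hF hee hff one_ne_zero hbG (one_smul F f).symm (ih j rfl)
      have hπj : π j = i := Fin.ext (by simp [π, pi, piN, j, show k + 2 + 1 < n by omega, hi])
      have hdj : d j ≠ 0 := fun h0 => by
        have := hd j; rw [h0, zero_mul] at this; exact zero_ne_one this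
      rw [hb, hπj, Submodule.smul_mem_iff _ hdj] at hj
      have hh' := eichSub_map hF hff hee (mul_ne_zero hcc0 hη0) hsG hsf hj
      rwa [hsfix _ (horth i (by omega)).1 (horth i (by omega)).2] at hh'
  have he_mem : e ∈ eichSub hF G hee := by
    intro σ
    have ht : (σ - σ ^ q) + (σ - σ ^ q) ^ q = 0 := by rw [sub_pow_q hF, pow_q_q hF]; ring
    refine ⟨0, ⟨hee, by rw [herm_smul_left, hee, mul_zero], by
      rw [herm_self_smul, hee, zero_pow (q_ne_zero hF)]; ring⟩, (hPe _ ht).toEi hF (by ring)⟩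
  have hbig : 4 ≤ n ∨ (n = 3 ∧ 3 ≤ q) := Or.inl hn
  refine eq_top_of_radical hF hbig hee hff hη0 hPe hPf fun x hx => ?_
  have hsum : x = x i0 • Pi.single i0 1 + x i1 • Pi.single i1 1 +
      ∑ i ∈ Finset.univ.filter (fun i : Fin n => 2 ≤ (i : ℕ)), x i • (Pi.single i 1 : V) := by
    conv_lhs => rw [pi_eq_sum_univ' x]
    rw [← Finset.sum_filter_add_sum_filter_not Finset.univ (fun i : Fin n => 2 ≤ (i : ℕ)), add_comm]
    congr 1
    rw [show Finset.univ.filter (fun i : Fin n => ¬ 2 ≤ (i : ℕ)) = {i0, i1} by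
      ext i; simp [i0, i1, Fin.ext_iff]; omega, Finset.sum_pair h01]
  rw [hsum]
  refine add_mem ?_ (sum_mem fun i hi => Submodule.smul_mem _ _ (hall ((i : ℕ) - 2) i (by
    have := (Finset.mem_filter.1 hi).2
    omega)))
  have hx' : x i0 + ν ^ q * x i1 = 0 := by
    simpa [e, herm_add_right hF, herm_smul_right, herm_single_right hF] using hx
  have : x i0 • Pi.single i0 1 + x i1 • Pi.single i1 1 = x i0 • e := by
    simp only [e]
    rw [eq_neg_of_add_eq_zero_left hx']
    match_scalars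
    · ring
    · linear_combination (x i1) * hν
  rw [this]
  exact Submodule.smul_mem _ _ he_mem

section Four


set_option maxHeartbeats 1600000 in
theorem exists_two_four (hF : Fintype.card F = q ^ 2) (hn : n = 4) (hq : q = 3) :
    ∃ a b : SU n F q, Subgroup.closure ({a, b} : Set (SU n F q)) = ⊤ := by
  classical
  subst hn hq
  obtain ⟨ι, hι, hιord⟩ := exists_norm_generator (F := F) hF
  have h3 : (3 : F) = 0 := by exact_mod_cast natCast_q_eq_zero hF
  have hι2 : ι ^ 2 = -1 := by
    have h4 : (ι ^ 2 - 1) * (ι ^ 2 + 1) = 0 := by linear_combination hι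
    rcases mul_eq_zero.1 h4 with h | h
    · have := Nat.le_of_dvd two_pos (orderOf_dvd_of_pow_eq_one (sub_eq_zero.1 h))
      omega
    · exact eq_neg_of_add_eq_zero_left h
  have hι3 : ι ^ 3 = -ι := by linear_combination ι * hι2
  let e : Fin 4 → F := ![1, 1 + ι, 0, 0]
  let z : Fin 4 → F := Pi.single 2 1
  have hexp : ∀ u v : Fin 4 → F, hermForm 4 F 3 u v =
      u 0 * v 0 ^ 3 + u 1 * v 1 ^ 3 + u 2 * v 2 ^ 3 + u 3 * v 3 ^ 3 := fun u v => Fin.sum_univ_four _
  have hee : hermForm 4 F 3 e e = 0 := by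
    simp [hexp, e]; grind
  have hze : hermForm 4 F 3 z e = 0 := by simp [hexp, e, z]
  have hzz : hermForm 4 F 3 z z = 1 := by simp [hexp, z]
  have hα : ESpec 3 e z (1 : F) := ⟨hee, hze, by rw [hzz]; linear_combination h3⟩
  let X := eSU hF hα
  have hX : ∀ x, ap X x = ev 3 e z 1 x := fun x => ap_eSU hF hα x
  let π : Equiv.Perm (Fin 4) := Equiv.swap 0 2 * Equiv.swap 1 3
  obtain ⟨b, hb⟩ := exists_monomial hF π ![1, 1, ι, -ι] (fun i => by fin_cases i <;> simp <;> grind) (by
    rw [show Equiv.Perm.sign π = 1 by simp [π]]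
    simp [Fin.prod_univ_four]; grind)
  have hbx : ∀ x : Fin 4 → F, ap b x = ![ι * x 2, -ι * x 3, x 0, x 1] := by
    intro x
    conv_lhs => rw [pi_eq_sum_univ' x]
    simp only [Fin.sum_univ_four, ap_add, ap_smul, hb]
    funext j
    fin_cases j <;> simp [π, Equiv.swap_apply_def, mul_comm]
  have hXx : ∀ x : Fin 4 → F, ap X x = ![x 0 + (x 0 + (1 - ι) * x 1 - x 2),
      x 1 + (1 + ι) * (x 0 + (1 - ι) * x 1 - x 2), x 0 + (1 - ι) * x 1 + x 2, x 3] := by
    intro x
    have he : hermForm 4 F 3 x e = x 0 + (1 - ι) * x 1 := by simp [hexp, e]; grind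
    have hz : hermForm 4 F 3 x z = x 2 := by simp [hexp, z]
    funext j
    rw [hX]
    simp only [ev, he, hz, Pi.add_apply, Pi.sub_apply, Pi.smul_apply, smul_eq_mul]
    fin_cases j <;>
      simp only [Fin.zero_eta, Fin.mk_one, Fin.reduceFinMk, e, z, Matrix.cons_val, Pi.single_apply,
        Fin.reduceEq, if_false, if_true] <;> ring
  refine ⟨X, b, ?_⟩
  set G := Subgroup.closure ({X, b} : Set (SU 4 F 3)) with hG
  have hXG : X ∈ G := Subgroup.subset_closure (by simp)
  have hbG : b ∈ G := Subgroup.subset_closure (by simp)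
  let g := b * X * b * b * b * X * b * X * b * b * b * X * b
  have hgG : g ∈ G := by
    simp only [g]
    repeat (first | exact hXG | exact hbG | apply G.mul_mem)
  have hXs : ∀ a b c d a' b' c' d' : F, a' = a + (a + (1 - ι) * b - c) →
      b' = b + (1 + ι) * (a + (1 - ι) * b - c) → c' = a + (1 - ι) * b + c → d' = d →
      ap X ![a, b, c, d] = ![a', b', c', d'] := by
    rintro a b c d a' b' c' d' rfl rfl rfl rfl
    rw [hXx]; rfl
  have hbs : ∀ a b' c d w0 w1 w2 w3 : F, w0 = ι * c → w1 = -(ι * d) → w2 = a → w3 = b' →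
      ap b ![a, b', c, d] = ![w0, w1, w2, w3] := by
    rintro a b' c d w0 w1 w2 w3 rfl rfl rfl rfl
    rw [hbx, neg_mul]; rfl
  have hg_e : ap g ![1, 1 + ι, 0, 0] = ![1 + ι, -ι, 0, 0] := by
    simp only [g, ap_mul]
    rw [hbs (1) (1 + ι) (0) (0) (0) (0) (1) (1 + ι)
      (by ring) (by ring) (by ring) (by ring)]
    rw [hXs (0) (0) (1) (1 + ι) (-1) (-1 - ι) (1) (1 + ι)
      (by ring) (by ring) (by ring) (by ring)]
    rw [hbs (-1) (-1 - ι) (1) (1 + ι) (ι) (1 - ι) (-1) (-1 - ι)
      (by ring) (by linear_combination ((1) + (0) * ι) * hι2) (by ring) (by ring)]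
    rw [hbs (ι) (1 - ι) (-1) (-1 - ι) (-ι) (-1 + ι) (ι) (1 - ι)
      (by ring) (by linear_combination ((-1) + (0) * ι) * hι2) (by ring) (by ring)]
    rw [hbs (-ι) (-1 + ι) (ι) (1 - ι) (-1) (-1 - ι) (-ι) (-1 + ι)
      (by linear_combination ((-1) + (0) * ι) * hι2) (by linear_combination ((-1) + (0) * ι) * hι2) (by ring) (by ring)]
    rw [hXs (-1) (-1 - ι) (-ι) (-1 + ι) (-1 + ι) (1) (-ι) (-1 + ι)
      (by linear_combination ((-1) + (0) * ι) * hι2 + ((1) + (0) * ι) * h3) (by linear_combination ((-2) + (-1) * ι) * hι2 + ((2) + (1) * ι) * h3) (by linear_combination ((-1) + (0) * ι) * hι2 + ((1) + (0) * ι) * h3) (by ring)]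
    rw [hbs (-1 + ι) (1) (-ι) (-1 + ι) (1) (1 + ι) (-1 + ι) (1)
      (by linear_combination ((1) + (0) * ι) * hι2) (by linear_combination ((1) + (0) * ι) * hι2) (by ring) (by ring)]
    rw [hXs (1) (1 + ι) (-1 + ι) (1) (-1 - ι) (ι) (-1 + ι) (1)
      (by linear_combination ((1) + (0) * ι) * hι2 + ((-2) + (0) * ι) * h3) (by linear_combination ((2) + (1) * ι) * hι2 + ((-2) + (-1) * ι) * h3) (by linear_combination ((1) + (0) * ι) * hι2 + ((-1) + (0) * ι) * h3) (by ring)]
    rw [hbs (-1 - ι) (ι) (-1 + ι) (1) (-1 - ι) (-ι) (-1 - ι) (ι)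
      (by linear_combination ((-1) + (0) * ι) * hι2) (by ring) (by ring) (by ring)]
    rw [hbs (-1 - ι) (-ι) (-1 - ι) (ι) (1 - ι) (1) (-1 - ι) (-ι)
      (by linear_combination ((1) + (0) * ι) * hι2) (by linear_combination ((1) + (0) * ι) * hι2) (by ring) (by ring)]
    rw [hbs (1 - ι) (1) (-1 - ι) (-ι) (1 - ι) (-1) (1 - ι) (1)
      (by linear_combination ((1) + (0) * ι) * hι2) (by linear_combination ((-1) + (0) * ι) * hι2) (by ring) (by ring)]
    rw [hXs (1 - ι) (-1) (1 - ι) (1) (0) (0) (1 - ι) (1)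
      (by ring) (by linear_combination ((-1) + (0) * ι) * hι2 + ((1) + (0) * ι) * h3) (by ring) (by ring)]
    rw [hbs (0) (0) (1 - ι) (1) (1 + ι) (-ι) (0) (0)
      (by linear_combination ((1) + (0) * ι) * hι2) (by ring) (by ring) (by ring)]
  have hg_z : ap g ![0, 0, 1, 0] = ![1, 1 + ι, 1 - ι, -1 - ι] := by
    simp only [g, ap_mul]
    rw [hbs (0) (0) (1) (0) (ι) (0) (0) (0)
      (by ring) (by ring) (by ring) (by ring)]
    rw [hXs (ι) (0) (0) (0) (-ι) (-1 + ι) (ι) (0)
      (by linear_combination ((0) + (-1) * ι) * h3) (by linear_combination ((-1) + (0) * ι) * hι2) (by ring) (by ring)]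
    rw [hbs (-ι) (-1 + ι) (ι) (0) (-1) (0) (-ι) (-1 + ι)
      (by linear_combination ((-1) + (0) * ι) * hι2) (by ring) (by ring) (by ring)]
    rw [hbs (-1) (0) (-ι) (-1 + ι) (1) (1 + ι) (-1) (0)
      (by linear_combination ((1) + (0) * ι) * hι2) (by linear_combination ((1) + (0) * ι) * hι2) (by ring) (by ring)]
    rw [hbs (1) (1 + ι) (-1) (0) (-ι) (0) (1) (1 + ι)
      (by ring) (by ring) (by ring) (by ring)]
    rw [hXs (-ι) (0) (1) (1 + ι) (-1 + ι) (ι) (1 - ι) (1 + ι)
      (by linear_combination ((0) + (1) * ι) * h3) (by linear_combination ((1) + (0) * ι) * hι2 + ((0) + (1) * ι) * h3) (by ring) (by ring)]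
    rw [hbs (-1 + ι) (ι) (1 - ι) (1 + ι) (1 + ι) (1 - ι) (-1 + ι) (ι)
      (by linear_combination ((1) + (0) * ι) * hι2) (by linear_combination ((1) + (0) * ι) * hι2) (by ring) (by ring)]
    rw [hXs (1 + ι) (1 - ι) (-1 + ι) (ι) (-ι) (-1 - ι) (0) (ι)
      (by linear_combination ((-1) + (0) * ι) * hι2 + ((-1) + (0) * ι) * h3) (by linear_combination ((1) + (-1) * ι) * hι2 + ((-2) + (0) * ι) * h3) (by linear_combination ((-1) + (0) * ι) * hι2) (by ring)]
    rw [hbs (-ι) (-1 - ι) (0) (ι) (0) (1) (-ι) (-1 - ι)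
      (by ring) (by linear_combination ((1) + (0) * ι) * hι2) (by ring) (by ring)]
    rw [hbs (0) (1) (-ι) (-1 - ι) (1) (-1 + ι) (0) (1)
      (by linear_combination ((1) + (0) * ι) * hι2) (by linear_combination ((-1) + (0) * ι) * hι2) (by ring) (by ring)]
    rw [hbs (1) (-1 + ι) (0) (1) (0) (-ι) (1) (-1 + ι)
      (by ring) (by ring) (by ring) (by ring)]
    rw [hXs (0) (-ι) (1) (-1 + ι) (1 - ι) (-1 - ι) (-ι) (-1 + ι)
      (by linear_combination ((-1) + (0) * ι) * hι2 + ((1) + (0) * ι) * h3) (by linear_combination ((0) + (-1) * ι) * hι2 + ((0) + (1) * ι) * h3) (by linear_combination ((-1) + (0) * ι) * hι2) (by ring)]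
    rw [hbs (1 - ι) (-1 - ι) (-ι) (-1 + ι) (1) (1 + ι) (1 - ι) (-1 - ι)
      (by linear_combination ((1) + (0) * ι) * hι2) (by linear_combination ((1) + (0) * ι) * hι2) (by ring) (by ring)]
  have hg_3 : ap g ![0, 0, 0, 1] = ![1 + ι, -ι, -1 - ι, 1 - ι] := by
    simp only [g, ap_mul]
    rw [hbs (0) (0) (0) (1) (0) (-ι) (0) (0)
      (by ring) (by ring) (by ring) (by ring)]
    rw [hXs (0) (-ι) (0) (0) (-1 - ι) (0) (-1 - ι) (0)
      (by linear_combination ((-1) + (0) * ι) * hι2) (by linear_combination ((0) + (-1) * ι) * hι2 + ((0) + (1) * ι) * h3) (by linear_combination ((-1) + (0) * ι) * hι2) (by ring)]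
    rw [hbs (-1 - ι) (0) (-1 - ι) (0) (1 - ι) (0) (-1 - ι) (0)
      (by linear_combination ((1) + (0) * ι) * hι2) (by ring) (by ring) (by ring)]
    rw [hbs (1 - ι) (0) (-1 - ι) (0) (1 - ι) (0) (1 - ι) (0)
      (by linear_combination ((1) + (0) * ι) * hι2) (by ring) (by ring) (by ring)]
    rw [hbs (1 - ι) (0) (1 - ι) (0) (1 + ι) (0) (1 - ι) (0)
      (by linear_combination ((1) + (0) * ι) * hι2) (by ring) (by ring) (by ring)]
    rw [hXs (1 + ι) (0) (1 - ι) (0) (1) (1 - ι) (-1) (0)
      (by linear_combination ((0) + (-1) * ι) * h3) (by linear_combination ((-2) + (0) * ι) * hι2 + ((1) + (-1) * ι) * h3) (by linear_combination ((-1) + (0) * ι) * h3) (by ring)]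
    rw [hbs (1) (1 - ι) (-1) (0) (-ι) (0) (1) (1 - ι)
      (by ring) (by ring) (by ring) (by ring)]
    rw [hXs (-ι) (0) (1) (1 - ι) (-1 + ι) (ι) (1 - ι) (1 - ι)
      (by linear_combination ((0) + (1) * ι) * h3) (by linear_combination ((1) + (0) * ι) * hι2 + ((0) + (1) * ι) * h3) (by ring) (by ring)]
    rw [hbs (-1 + ι) (ι) (1 - ι) (1 - ι) (1 + ι) (-1 - ι) (-1 + ι) (ι)
      (by linear_combination ((1) + (0) * ι) * hι2) (by linear_combination ((-1) + (0) * ι) * hι2) (by ring) (by ring)]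
    rw [hbs (1 + ι) (-1 - ι) (-1 + ι) (ι) (-1 - ι) (1) (1 + ι) (-1 - ι)
      (by linear_combination ((-1) + (0) * ι) * hι2) (by linear_combination ((1) + (0) * ι) * hι2) (by ring) (by ring)]
    rw [hbs (-1 - ι) (1) (1 + ι) (-1 - ι) (-1 + ι) (-1 + ι) (-1 - ι) (1)
      (by linear_combination ((-1) + (0) * ι) * hι2) (by linear_combination ((-1) + (0) * ι) * hι2) (by ring) (by ring)]
    rw [hXs (-1 + ι) (-1 + ι) (-1 - ι) (1) (-1 - ι) (1 - ι) (1 - ι) (1)
      (by linear_combination ((1) + (0) * ι) * hι2 + ((0) + (-2) * ι) * h3) (by linear_combination ((-3) + (1) * ι) * hι2 + ((2) + (-2) * ι) * h3) (by linear_combination ((1) + (0) * ι) * hι2 + ((1) + (-1) * ι) * h3) (by ring)]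
    rw [hbs (-1 - ι) (1 - ι) (1 - ι) (1) (1 + ι) (-ι) (-1 - ι) (1 - ι)
      (by linear_combination ((1) + (0) * ι) * hι2) (by ring) (by ring) (by ring)]
  have hzv : z = ![0, 0, 1, 0] := by funext j; fin_cases j <;> simp [z]
  have h3v : (Pi.single 3 1 : Fin 4 → F) = ![0, 0, 0, 1] := by funext j; fin_cases j <;> simp
  have hge : ap g e = (1 + ι) • e := by
    rw [show e = ![1, 1 + ι, 0, 0] from rfl, hg_e]
    funext j; fin_cases j <;> simp <;> grind
  have hgz : ap g z = e + (1 - ι) • z + (-1 - ι) • Pi.single 3 1 := by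
    rw [hzv, hg_z]
    funext j; fin_cases j <;> simp [e] <;> grind
  have hg3 : ap g (Pi.single 3 1) = (1 + ι) • e + (-1 - ι) • z + (1 - ι) • Pi.single 3 1 := by
    rw [h3v, hg_3, hzv]
    funext j; fin_cases j <;> simp [e] <;> grind
  let S : AddSubgroup (Fin 4 → F) :=
    { carrier := {w | ∃ α, ESpec 3 e w α ∧ Ei G e w α}
      zero_mem' := ⟨0, ⟨hee, herm_zero_left e, by rw [herm_zero_left, zero_pow (by norm_num)]; ring⟩, Ei_zero hF e⟩
      add_mem' := fun ⟨l, hl, h⟩ ⟨l', hl', h'⟩ =>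
        ⟨_, eSpec_add hF hl hl', Ei.mul hF hee hl.orth hl'.orth h h'⟩
      neg_mem' := fun {w} ⟨l, hl, h⟩ => ⟨l ^ 3, ⟨hee, by rw [herm_neg_left, hl.orth, neg_zero], by
        rw [herm_neg_left, herm_neg_right hF, neg_neg, pow_q_q hF]
        linear_combination hl.tr⟩, Ei.inv hF hl h⟩ }
  have hshift : ∀ (w : Fin 4 → F) (τ : F), w + τ • e ∈ S → w ∈ S := by
    rintro w τ ⟨l, hl, A, hA, hAx⟩
    have hwe : hermForm 4 F 3 w e = 0 := by
      have := hl.orth
      rwa [herm_add_left, herm_smul_left, hee, mul_zero, add_zero] at this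
    have hew : hermForm 4 F 3 e w = 0 := (herm_eq_zero_symm hF).1 hwe
    refine ⟨l + τ - τ ^ 3, ⟨hee, hwe, ?_⟩, A, hA, fun x => ?_⟩
    · have := hl.tr
      simp only [herm_add_left, herm_add_right hF, herm_smul_left, herm_smul_right, hwe, hew, hee, mul_zero,
        add_zero] at this
      rw [sub_pow_q hF, add_pow_q hF, pow_q_q hF]
      linear_combination this
    · rw [hAx]
      simp only [ev, herm_add_right hF, herm_smul_right]
      module
  have hmap : ∀ σ τ : F, σ • z + τ • Pi.single 3 1 ∈ S →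
      (ι * σ + τ) • z + (σ + ι * τ) • Pi.single 3 1 ∈ S := by
    rintro σ τ ⟨l, hl, h⟩
    have hr : (1 + ι : F) ≠ 0 := fun h0 => one_ne_zero (α := F) (by
      linear_combination h3 + (ι - 1) * h0 - hι2)
    have hl' := eSpec_ap g hl
    have h' := h.conj hgG
    rw [hge] at hl' h'
    have hmem : (1 + ι) ^ 3 • ap g (σ • z + τ • Pi.single 3 1) ∈ S :=
      ⟨_, eSpec_scale hF hr hl', Ei_scale hF h'⟩
    refine hshift _ ((1 + ι) ^ 3 * (σ + τ * (1 + ι))) ?_
    convert hmem using 1
    simp only [ap_add, ap_smul, hgz, hg3]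
    match_scalars <;> grind
  have hz0 : (1 : F) • z + (0 : F) • Pi.single 3 1 ∈ S := by
    simp only [one_smul, zero_smul, add_zero]
    exact ⟨1, hα, X, hXG, hX⟩
  have h1 := hmap _ _ hz0
  have h2 := hmap _ _ h1
  have h4 := hmap _ _ h2
  have hspan : ∀ w : Fin 4 → F, w ∈ S → ι • w ∈ S → ∀ σ : F, σ • w ∈ S := by
    intro w hw hiw σ
    let R : AddSubgroup F :=
      { carrier := {x | x • w ∈ S ∧ (ι * x) • w ∈ S}
        zero_mem' := ⟨by rw [zero_smul]; exact S.zero_mem, by rw [mul_zero, zero_smul]; exact S.zero_mem⟩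
        add_mem' := fun {a b} ha hb => ⟨by rw [add_smul]; exact S.add_mem ha.1 hb.1,
          by rw [mul_add, add_smul]; exact S.add_mem ha.2 hb.2⟩
        neg_mem' := fun {a} ha => ⟨by rw [neg_smul]; exact S.neg_mem ha.1,
          by rw [mul_neg, neg_smul]; exact S.neg_mem ha.2⟩ }
    exact (mem_of_closed hF hι (by omega) (by omega) R ⟨by rwa [one_smul], by rwa [mul_one]⟩
      (fun x hx => ⟨hx.2, by
        rw [← mul_assoc, ← sq, hι2, neg_one_mul, neg_smul]; exact S.neg_mem hx.1⟩) σ).1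
  have e01 : (Pi.single 3 1 : Fin 4 → F) ∈ S := by
    have := S.neg_mem (S.add_mem h1 h4)
    convert this using 1
    match_scalars <;> grind
  have hi0 : ι • z ∈ S := by
    have := S.sub_mem h1 e01
    convert this using 1
    match_scalars <;> grind
  have hi1 : ι • (Pi.single 3 1 : Fin 4 → F) ∈ S := by
    have := S.neg_mem h2
    convert this using 1
    match_scalars <;> grind
  have hzmem : z ∈ eichSub hF G hee := fun σ => hspan z ⟨1, hα, X, hXG, hX⟩ hi0 σ
  have h3mem : (Pi.single 3 1 : Fin 4 → F) ∈ eichSub hF G hee := fun σ => hspan _ e01 hi1 σ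
  have hPe : InPi G e := Ei_inPi_radical hF hee hzz hzmem
  have he_mem : e ∈ eichSub hF G hee := by
    intro σ
    have ht : (σ - σ ^ 3) + (σ - σ ^ 3) ^ 3 = 0 := by rw [sub_pow_q hF, pow_q_q hF]; ring
    refine ⟨0, ⟨hee, by rw [herm_smul_left, hee, mul_zero], by
      rw [herm_self_smul, hee]; ring⟩, (hPe _ ht).toEi hF (by ring)⟩
  have hfa : hermForm 4 F 3 (ap b (ap b e)) e ≠ 0 := by
    simp only [hbx, hexp, e]
    simp
    grind
  refine eq_top_of_radical hF (Or.inl le_rfl) hee (by rw [herm_ap, herm_ap, hee]) hfa hPe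
    ((hPe.conj hbG).conj hbG) fun x hx => ?_
  have hx' : x = x 0 • e + x 2 • z + x 3 • Pi.single 3 1 := by
    have hx1 : x 1 = x 0 * (1 + ι) := by
      simp only [hexp, e, Matrix.cons_val, one_pow, mul_one, zero_pow (three_ne_zero (α := ℕ)), mul_zero, add_zero] at hx
      linear_combination -(1 + ι) * hx + x 1 * ((ι ^ 2 + 4 * ι + 5) * hι2 - h3)
    funext j
    fin_cases j <;>
      simp only [Fin.zero_eta, Fin.mk_one, Fin.reduceFinMk, e, z, Pi.add_apply, Pi.smul_apply, smul_eq_mul,
        Matrix.cons_val, Pi.single_apply, Fin.reduceEq, if_false, if_true, hx1] <;> ring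
  rw [hx']
  exact add_mem (add_mem (Submodule.smul_mem _ _ he_mem) (Submodule.smul_mem _ _ hzmem))
    (Submodule.smul_mem _ _ h3mem)

end Four

theorem psu_two (hF : Fintype.card F = q ^ 2) (hn : 3 ≤ n) (h32 : n = 3 → q ≠ 2) :
    ∃ a b : Cfsg.PSU n F q, Subgroup.closure ({a, b} : Set (Cfsg.PSU n F q)) = ⊤ := by
  obtain ⟨a, b, hab⟩ : ∃ a b : SU n F q, Subgroup.closure ({a, b} : Set (SU n F q)) = ⊤ := by
    rcases Nat.lt_or_ge n 4 with h | h
    · obtain rfl : n = 3 := by omega
      have := h32 rfl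
      have := two_le_q hF
      obtain ⟨u, g, -, hgen⟩ := Cfsg.Agent.H52.SUThree.twoGen (F := F) hF (by omega)
      exact ⟨u, g * u * g⁻¹, hgen⟩
    · by_cases h43 : n = 4 ∧ q = 3
      · exact exists_two_four hF h43.1 h43.2
      · exact exists_two_large hF h (fun h4 h3 => h43 ⟨h4, h3⟩)
  refine ⟨QuotientGroup.mk' _ a, QuotientGroup.mk' _ b, ?_⟩
  have := congrArg (Subgroup.map (QuotientGroup.mk' (Subgroup.center (SU n F q)))) hab
  rwa [MonoidHom.map_closure, Set.image_insert_eq, Set.image_singleton,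
    Subgroup.map_top_of_surjective _ (QuotientGroup.mk'_surjective _)] at this

end Main

end Cfsg.Agent.H55.SUTwoGen
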