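import Mathlib
import Cfsg.Agent.Symplectic.Std

/-!
Generation criteria for subgroups of `Sp_{2n}(F)` through transvections with a fixed parameter.
-/

set_option autoImplicit false

namespace Cfsg.Agent.H55.SpEngine

open Cfsg.Agent.Symplectic
open scoped Matrix

variable {F : Type*} [Field F] {n : ℕ}

local notation "V" => (Fin n ⊕ Fin n → F)
local notation "B" => spB n F

lemma T_apply (y x : V) (t : F) : (T y t : Mat n F) *ᵥ x = x + (t * B x y) • y := by
  rw [spB_apply]; exact T_mulVec y x t

lemma coe_mul_mulVec (g h : Matrix.symplecticGroup (Fin n) F) (x : V) :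
    ((g * h : Matrix.symplecticGroup (Fin n) F) : Mat n F) *ᵥ x = (g : Mat n F) *ᵥ ((h : Mat n F) *ᵥ x) := by
  rw [Submonoid.coe_mul, Matrix.mulVec_mulVec]

lemma bswap (x y : V) : B x y = - B y x := alt_swap (spB_alt n F) x y

lemma bself (x : V) : B x x = 0 := alt_self (spB_alt n F) x

lemma bzero_symm {x y : V} (h : B x y = 0) : B y x = 0 := by rw [bswap, h, neg_zero]

/-- Commuting quadratic and bilinear part of a pair of orthogonal vectors. -/
def El (a d : V) (s l : F) : Matrix.symplecticGroup (Fin n) F :=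
  T (d + a) s * T d (-s) * T a (l - s)

lemma El_apply {a d : V} (h : B a d = 0) (s l : F) (x : V) :
    (El a d s l : Mat n F) *ᵥ x = x + (s * B x d + l * B x a) • a + (s * B x a) • d := by
  have h' := bzero_symm h
  simp only [El, coe_mul_mulVec, T_apply, map_add, map_smul, LinearMap.add_apply, LinearMap.smul_apply,
    bself, h, h', smul_eq_mul, mul_zero, add_zero]
  module

lemma El_mul {a d : V} (h : B a d = 0) (s l s' l' : F) :
    El a d s l * El a d s' l' = El a d (s + s') (l + l') := by
  have h' := bzero_symm h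
  refine sp_ext fun x => ?_
  simp only [coe_mul_mulVec, El_apply h, map_add, map_smul, LinearMap.add_apply, LinearMap.smul_apply,
    bself, h, h', smul_eq_mul, mul_zero, add_zero]
  module

lemma El_zero_left {a d : V} (h : B a d = 0) (l : F) : El a d 0 l = T a l := by
  refine sp_ext fun x => ?_
  simp only [El_apply h, T_apply, zero_mul, zero_add, zero_smul, add_zero]

lemma El_pair {a d : V} (h : B a d = 0) (c z : F) :
    T (d + z • a) c * T d (-c) = El a d (c * z) (c * z ^ 2) := by
  have h' := bzero_symm h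
  refine sp_ext fun x => ?_
  simp only [coe_mul_mulVec, El_apply h, T_apply, map_add, map_smul, LinearMap.add_apply, LinearMap.smul_apply,
    bself, h, h', smul_eq_mul, mul_zero, add_zero]
  module

lemma El_inv {a d : V} (h : B a d = 0) (s l : F) : (El a d s l)⁻¹ = El a d (-s) (-l) := by
  refine inv_eq_of_mul_eq_one_right ?_
  rw [El_mul h, add_neg_cancel, add_neg_cancel, El_zero_left h, T_zero]

variable (G : Subgroup (Matrix.symplecticGroup (Fin n) F))

/-- The vectors whose transvection with parameter `c` is in `G`. -/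
def InZ (c : F) (y : V) : Prop := T y c ∈ G

/-- The vectors with all transvections in `G`. -/
def InPi (y : V) : Prop := ∀ t, T y t ∈ G

variable {G}

lemma InZ.conj {c : F} {y : V} (h : InZ G c y) {g : Matrix.symplecticGroup (Fin n) F} (hg : g ∈ G) :
    InZ G c ((g : Mat n F) *ᵥ y) := by
  rw [InZ, ← T_conj]; exact G.mul_mem (G.mul_mem hg h) (G.inv_mem hg)

lemma InPi.conj {y : V} (h : InPi G y) {g : Matrix.symplecticGroup (Fin n) F} (hg : g ∈ G) :
    InPi G ((g : Mat n F) *ᵥ y) := fun t => by
  rw [← T_conj]; exact G.mul_mem (G.mul_mem hg (h t)) (G.inv_mem hg)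

lemma InPi.smul {y : V} (h : InPi G y) (r : F) : InPi G (r • y) := fun t => by
  rw [T_smul]; exact h _

lemma InPi.add {p q : V} (hp : InPi G p) (hq : InPi G q) (h : B p q ≠ 0) : InPi G (p + q) := by
  have hqp : B q p ≠ 0 := fun h0 => h (bzero_symm h0)
  have h1 := hq.conj (hp (B q p)⁻¹)
  rwa [T_apply, inv_mul_cancel₀ hqp, one_smul, add_comm] at h1

section Step

variable [Finite F]

lemma all_of_closed {c γ : F} (hc : c ≠ 0) (hgen : ∀ y : F, y ≠ 0 → ∃ k : ℕ, y ^ 2 = (γ ^ 2) ^ k)
    (R : AddSubgroup F) (hcR : c ∈ R) (hR : ∀ s ∈ R, -(γ ^ 2) * s ∈ R) (x : F) : x ∈ R := by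
  classical
  have hpow : ∀ k : ℕ, c * (γ ^ 2) ^ k ∈ R := by
    intro k
    induction k with
    | zero => simpa using hcR
    | succ k ih =>
      have := R.neg_mem (hR _ ih)
      convert this using 1
      ring
  have hsq : ∀ y : F, c * y ^ 2 ∈ R := by
    intro y
    rcases eq_or_ne y 0 with rfl | hy
    · simp
    · obtain ⟨k, hk⟩ := hgen y hy
      rw [hk]; exact hpow k
  haveI := Fintype.ofFinite F
  by_cases h2 : (2 : F) = 0
  · haveI : CharP F 2 := CharTwo.of_one_ne_zero_of_two_eq_zero one_ne_zero h2
    obtain ⟨y, hy⟩ := FiniteField.isSquare_of_char_two (ringChar.eq F 2) (x / c)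
    have := hsq y
    rwa [sq, ← hy, mul_div_cancel₀ _ hc] at this
  · have h := R.sub_mem (hsq ((x / c + 1) / 2)) (hsq ((x / c - 1) / 2))
    have e : c * ((x / c + 1) / 2) ^ 2 - c * ((x / c - 1) / 2) ^ 2 = x := by
      have h4 : (4 : F) ≠ 0 := by
        rw [show (4 : F) = 2 * 2 by norm_num]; exact mul_ne_zero h2 h2
      field_simp
      ring
    rwa [e] at h

/-- Translation families. -/
theorem step {c : F} {a D W : V} (hc : c ≠ 0) (haD : B a D = 0) (haW : B a W = 0) (hDW : B D W ≠ 0)
    (hgen : ∀ y : F, y ≠ 0 → ∃ k : ℕ, y ^ 2 = ((c * B D W) ^ 2) ^ k)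
    (hD : InZ G c D) (hDa : InZ G c (D + a)) (hW : InZ G c W) :
    (∀ z : F, InZ G c (D + z • a)) ∧ ∀ x : F, InZ G c (W + x • a) := by
  classical
  set κ := B D W with hκ
  have hinvW : T W (-c) ∈ G := by rw [← T_inv]; exact G.inv_mem hW
  have hinvD : T D (-c) ∈ G := by rw [← T_inv]; exact G.inv_mem hD
  let R : AddSubgroup F :=
    { carrier := {s | ∃ l, El a D s l ∈ G}
      zero_mem' := ⟨0, by rw [El_zero_left haD, T_zero]; exact G.one_mem⟩
      add_mem' := fun ⟨l, hl⟩ ⟨l', hl'⟩ => ⟨l + l', by rw [← El_mul haD]; exact G.mul_mem hl hl'⟩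
      neg_mem' := fun ⟨l, hl⟩ => ⟨-l, by rw [← El_inv haD]; exact G.inv_mem hl⟩ }
  have hWs : ∀ s ∈ R, InZ G c (W + (-(κ * s)) • a) := by
    rintro s ⟨l, hl⟩
    have := hW.conj hl
    rw [El_apply haD, bswap W D, ← hκ, bzero_symm haW, mul_zero, mul_zero, add_zero, zero_smul, add_zero] at this
    convert this using 2
    congr 1
    ring
  have hDs : ∀ x, InZ G c (W + x • a) → InZ G c (D + (c * κ * x) • a) := by
    intro x hx
    have := (hD.conj hx).conj hinvW
    convert this using 1
    have e1 : B D (W + x • a) = κ := by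
      rw [map_add, map_smul, bzero_symm haD, smul_zero, add_zero]
    have e2 : B (D + (c * κ) • (W + x • a)) W = κ := by
      simp only [map_add, map_smul, LinearMap.add_apply, LinearMap.smul_apply, bself, haW, smul_eq_mul, mul_zero, add_zero, ← hκ]
    rw [T_apply (W + x • a), e1, T_apply W, e2]
    module
  have hpair : ∀ z, InZ G c (D + z • a) → El a D (c * z) (c * z ^ 2) ∈ G := fun z hz => by
    rw [← El_pair haD]; exact G.mul_mem hz hinvD
  have hcR : c ∈ R := ⟨c, by
    have := hpair 1 (by rwa [one_smul])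
    simpa using this⟩
  have hRclosed : ∀ s ∈ R, -((c * κ) ^ 2) * s ∈ R := fun s hs =>
    ⟨c * (c * κ * -(κ * s)) ^ 2, by
      have := hpair _ (hDs _ (hWs s hs))
      convert this using 2
      ring⟩
  have hall := all_of_closed hc hgen R hcR hRclosed
  have hWall : ∀ x, InZ G c (W + x • a) := fun x => by
    have := hWs _ (hall (-(x / κ)))
    rwa [mul_neg, mul_div_cancel₀ _ hDW, neg_neg] at this
  refine ⟨fun z => ?_, hWall⟩
  have := hDs _ (hWall (z / (c * κ)))
  rwa [mul_div_cancel₀ _ (mul_ne_zero hc hDW)] at this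

/-- From two translation families to full root groups. -/
theorem inPi_pair {c : F} {a d W : V} (hc : c ≠ 0) (had : B a d = 0) (haW : B a W = 0) (hdW : B d W ≠ 0)
    (hda : ∀ z : F, InZ G c (d + z • a)) (hab : ∀ z : F, InZ G c (a + z • d))
    (hWa : ∀ x : F, InZ G c (W + x • a)) :
    ∀ x y : F, InPi G (x • a + y • d) := by
  classical
  haveI := Fintype.ofFinite F
  have hd' := bzero_symm had
  have hdc : InZ G c d := by simpa using hda 0
  have hac : InZ G c a := by simpa using hab 0
  have hψ : ∀ z, El a d (c * z) (c * z ^ 2) ∈ G := fun z => by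
    rw [← El_pair had]; exact G.mul_mem (hda z) (by rw [← T_inv]; exact G.inv_mem hdc)
  have hψ' : ∀ z, El d a (c * z) (c * z ^ 2) ∈ G := fun z => by
    rw [← El_pair hd']; exact G.mul_mem (hab z) (by rw [← T_inv]; exact G.inv_mem hac)
  have key : InPi G a ∧ InPi G d := by
    by_cases h2 : (2 : F) = 0
    · haveI : CharP F 2 := CharTwo.of_one_ne_zero_of_two_eq_zero one_ne_zero h2
      have hsq : ∀ x : F, ∃ y, x = y ^ 2 := fun x => by
        obtain ⟨y, hy⟩ := FiniteField.isSquare_of_char_two (ringChar.eq F 2) x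
        exact ⟨y, by rw [hy, sq]⟩
      have hΔ : ∀ l, T a l * T d (-l) ∈ G := by
        intro l
        obtain ⟨y, hy⟩ := hsq (l / c)
        have h := G.mul_mem (hψ y) (G.inv_mem (hψ' y))
        convert h using 1
        rw [El_inv hd', ← hy, mul_div_cancel₀ _ hc]
        refine sp_ext fun x => ?_
        simp only [coe_mul_mulVec, El_apply had, El_apply hd', T_apply, map_add, map_smul, LinearMap.add_apply,
          LinearMap.smul_apply, bself, had, hd', smul_eq_mul, mul_zero, add_zero]
        module
      have hA : InPi G a := by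
        by_cases hex : ∃ l : F, l ≠ 0 ∧ l ≠ c
        · obtain ⟨l, hl0, hlc⟩ := hex
          intro t
          have hfac : l * (l / c - 1) ≠ 0 := mul_ne_zero hl0 (sub_ne_zero.2 fun h => hlc (by
            rw [div_eq_one_iff_eq hc] at h; exact h))
          obtain ⟨μ, hμ⟩ := hsq (t / (l * (l / c - 1)))
          set κ := B d W
          have hK : El a W (c * (μ / (c * κ))) (c * (μ / (c * κ)) ^ 2) ∈ G := by
            rw [← El_pair haW]
            exact G.mul_mem (hWa _) (by rw [← T_inv]; exact G.inv_mem (show InZ G c W by simpa using hWa 0))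
          set K := El a W (c * (μ / (c * κ))) (c * (μ / (c * κ)) ^ 2) with hKdef
          have hKa : (K : Mat n F) *ᵥ a = a := by
            rw [hKdef, El_apply haW, bself, haW]; simp
          have hKd : (K : Mat n F) *ᵥ d = d + μ • a := by
            rw [hKdef, El_apply haW, hd']
            simp only [mul_zero, add_zero, zero_smul]
            congr 2
            field_simp
            rfl
          have h1 : T a l * T (d + μ • a) (-l) ∈ G := by
            have := G.mul_mem (G.mul_mem hK (hΔ l)) (G.inv_mem hK)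
            rwa [show K * (T a l * T d (-l)) * K⁻¹ = (K * T a l * K⁻¹) * (K * T d (-l) * K⁻¹) by group,
              T_conj, T_conj, hKa, hKd] at this
          have h2' := G.mul_mem (G.mul_mem (G.inv_mem (hΔ l)) h1) (hψ (l * μ / c))
          convert h2' using 1
          rw [mul_inv_rev, T_inv, T_inv, neg_neg]
          refine sp_ext fun x => ?_
          simp only [coe_mul_mulVec, El_apply had, T_apply, map_add, map_smul, LinearMap.add_apply,
            LinearMap.smul_apply, bself, had, hd', smul_eq_mul, mul_zero, add_zero]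
          rw [show t = μ ^ 2 * (l * (l / c - 1)) by rw [← hμ, div_mul_cancel₀ _ hfac]]
          match_scalars
          · ring
          · field_simp; ring
          · field_simp; ring
        · push Not at hex
          intro t
          rcases eq_or_ne t 0 with rfl | ht
          · rw [T_zero]; exact G.one_mem
          · rw [hex t ht]; exact hac
      refine ⟨hA, fun t => ?_⟩
      have := G.mul_mem (hA t) (hΔ (-t))
      rwa [← mul_assoc, T_mul, neg_neg, add_neg_cancel, T_zero, one_mul] at this
    · have main : ∀ (p q : V), B p q = 0 → (∀ z, El p q (c * z) (c * z ^ 2) ∈ G) → InPi G p := by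
        intro p q hpq h t
        have h1 := G.mul_mem (G.mul_mem (h 1) (h (-(t / (2 * c)))))
          (G.inv_mem (h (1 + -(t / (2 * c)))))
        convert h1 using 1
        rw [El_inv hpq, El_mul hpq, El_mul hpq, ← El_zero_left hpq]
        congr 1
        · ring
        · field_simp; ring
      exact ⟨main a d had hψ, main d a hd' hψ'⟩
  intro x y t
  have hEl : El a d (x * y * t) 0 ∈ G := by
    have := G.mul_mem (hψ (x * y * t / c)) (key.1 (-(c * (x * y * t / c) ^ 2)))
    convert this using 1
    rw [← El_zero_left had, El_mul had, mul_div_cancel₀ _ hc, add_zero, add_neg_cancel]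
  have := G.mul_mem (G.mul_mem (key.1 (x ^ 2 * t)) (key.2 (y ^ 2 * t))) hEl
  convert this using 1
  refine sp_ext fun v => ?_
  simp only [coe_mul_mulVec, El_apply had, T_apply, map_add, map_smul, LinearMap.add_apply,
    LinearMap.smul_apply, bself, had, hd', smul_eq_mul, mul_zero, add_zero]
  module

end Step

section Grow

/-- Adding a vector to a subspace of full vectors. -/
theorem grow {M : Submodule F V} (hM : ∀ y ∈ M, InPi G y) {x : V} (hx : InPi G x)
    (hm0 : ∃ m ∈ M, B m x ≠ 0)
    (hcase : (∃ r ∈ M, (∀ b ∈ M, B r b = 0) ∧ B r x ≠ 0) ∨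
      ∃ p ∈ M, ∃ q ∈ M, B p q = 0 ∧ (∃ b ∈ M, B p b ≠ 0) ∧ (∃ b ∈ M, B q b ≠ 0) ∧ ∃ b ∈ M, B (p + q) b ≠ 0) :
    ∀ y ∈ M ⊔ Submodule.span F {x}, InPi G y := by
  classical
  obtain ⟨m0, hm0, hm0x⟩ := hm0
  have main : ∀ m ∈ M, InPi G (x + m) ∨ ∀ b ∈ M, B b (x + m) = 0 := by
    intro m hm
    by_cases h1 : B x m = 0
    swap
    · exact Or.inl (hx.add (hM m hm) h1)
    by_cases h2 : ∃ b ∈ M, B x b ≠ 0 ∧ B (x + b) (m - b) ≠ 0
    · obtain ⟨b, hb, hb1, hb2⟩ := h2
      have := (hx.add (hM b hb) hb1).add (hM _ (M.sub_mem hm hb)) hb2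
      rw [show x + b + (m - b) = x + m by abel] at this
      exact Or.inl this
    push Not at h2
    right
    intro b hb
    have heq : ∀ b ∈ M, B x b ≠ 0 → B b x + B b m = 0 := fun b hb hb0 => by
      have := h2 b hb hb0
      simp only [map_add, map_sub, LinearMap.add_apply, h1, bself] at this
      rw [bswap b x]
      linear_combination this
    rw [map_add]
    by_cases hb0 : B x b = 0
    · have hx0 : B x m0 ≠ 0 := fun h => hm0x (bzero_symm h)
      have e1 := heq m0 hm0 hx0
      have e2 := heq (b + m0) (M.add_mem hb hm0) (by rw [map_add, hb0, zero_add]; exact hx0)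
      simp only [map_add, LinearMap.add_apply] at e2
      linear_combination e2 - e1
    · exact heq b hb hb0
  have hall : ∀ m ∈ M, InPi G (x + m) := by
    intro m hm
    rcases main m hm with h | h
    · exact h
    rcases hcase with ⟨r, hr, hrM, hrx⟩ | ⟨p, hp, q, hq, hpq, hpn, hqn, hpqn⟩
    · exfalso
      have := h r hr
      rw [map_add, hrM m hm, add_zero] at this
      exact hrx this
    · have hshift : ∀ s ∈ M, (∃ b ∈ M, B s b ≠ 0) → InPi G (x + m + s) := by
        intro s hs ⟨b, hb, hsb⟩
        rcases main (m + s) (M.add_mem hm hs) with h' | h'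
        · rwa [← add_assoc] at h'
        · exfalso
          have e := h' b hb
          rw [← add_assoc, map_add, h b hb, zero_add] at e
          exact hsb (bzero_symm e)
      have hqp := bzero_symm hpq
      have hxp := h p hp
      have hxq := h q hq
      have hpx := bzero_symm hxp
      have hqx := bzero_symm hxq
      intro t
      have h1 := G.mul_mem (G.mul_mem (G.mul_mem (G.mul_mem (G.mul_mem
        (hshift q hq hqn t) (hshift p hp hpn t)) (hshift (p + q) (M.add_mem hp hq) hpqn (-t)))
        (hM _ (M.add_mem hp hq) t)) (hM p hp (-t))) (hM q hq (-t))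
      convert h1 using 1
      generalize x + m = X at hxp hxq hpx hqx
      refine sp_ext fun v => ?_
      simp only [coe_mul_mulVec, T_apply, map_add, map_smul, LinearMap.add_apply, LinearMap.smul_apply,
        bself, hpq, hqp, hxp, hxq, hpx, hqx, smul_eq_mul, mul_zero, add_zero]
      module
  intro y hy
  obtain ⟨m, hm, z, hz, rfl⟩ := Submodule.mem_sup.1 hy
  obtain ⟨r, rfl⟩ := Submodule.mem_span_singleton.1 hz
  rcases eq_or_ne r 0 with rfl | hr
  · rw [zero_smul, add_zero]; exact hM m hm
  · rw [show m + r • x = r • (x + r⁻¹ • m) by rw [smul_add, smul_smul, mul_inv_cancel₀ hr, one_smul, add_comm]]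
    exact (hall _ (M.smul_mem _ hm)).smul r

end Grow

end Cfsg.Agent.H55.SpEngine
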