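import Mathlib
import Cfsg.Agent.H55.SpEngine

/-!
`Sp_{2n}(F)` is generated by three conjugates of a regular unipotent element.
-/

set_option autoImplicit false

namespace Cfsg.Agent.H55.SpEngine

open Cfsg.Agent.Symplectic
open scoped Matrix

variable {F : Type*} [Field F] {n : ℕ}

local notation "V" => (Fin n ⊕ Fin n → F)
local notation "B" => spB n F

lemma T_conj' (g : Matrix.symplecticGroup (Fin n) F) (y : V) (t : F) :
    g⁻¹ * T y t * g = T (((g⁻¹ : Matrix.symplecticGroup (Fin n) F) : Mat n F) *ᵥ y) t := by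
  have := T_conj g⁻¹ y t
  rwa [inv_inv] at this

lemma El_conj' (g : Matrix.symplecticGroup (Fin n) F) (a d : V) (s l : F) :
    g⁻¹ * El a d s l * g = El (((g⁻¹ : Matrix.symplecticGroup (Fin n) F) : Mat n F) *ᵥ a)
      (((g⁻¹ : Matrix.symplecticGroup (Fin n) F) : Mat n F) *ᵥ d) s l := by
  simp only [El]
  rw [← Matrix.mulVec_add, ← T_conj', ← T_conj', ← T_conj']
  group

lemma inv_mulVec {g : Matrix.symplecticGroup (Fin n) F} {x y : V} (h : (g : Mat n F) *ᵥ x = y) :
    ((g⁻¹ : Matrix.symplecticGroup (Fin n) F) : Mat n F) *ᵥ y = x := by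
  rw [← h, ← coe_mul_mulVec, inv_mul_cancel, Submonoid.coe_one, Matrix.one_mulVec]

section Vectors

/-- The first half of the standard basis. -/
def le (k : ℕ) : V := Sum.elim (fun i => if (i : ℕ) = k then 1 else 0) 0

/-- The second half of the standard basis. -/
def lf (k : ℕ) : V := Sum.elim 0 (fun i => if (i : ℕ) = k then 1 else 0)

lemma B_left (k : ℕ) (hk : k < n) (y : V) :
    B (le k) y = - y (Sum.inr ⟨k, hk⟩) ∧ B (lf k) y = y (Sum.inl ⟨k, hk⟩) := by
  constructor <;> rw [spB_apply, sympForm_eq, Finset.sum_eq_single ⟨k, hk⟩]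
  all_goals first
    | (simp [le, lf]; done)
    | (intro j _ hj; have : (j : ℕ) ≠ k := fun h => hj (Fin.ext h); simp [le, lf, this]; done)

lemma B_right (k : ℕ) (hk : k < n) (y : V) :
    B y (le k) = y (Sum.inr ⟨k, hk⟩) ∧ B y (lf k) = - y (Sum.inl ⟨k, hk⟩) := by
  rw [bswap y (le k), bswap y (lf k), (B_left k hk y).1, (B_left k hk y).2, neg_neg]
  exact ⟨rfl, rfl⟩

end Vectors

section Chain

variable {ι : Type*} [Fintype ι] [DecidableEq ι] {ρ : ι → ℕ} {M : Matrix ι ι F}

lemma chain_pow_zero (hz : ∀ r c, ρ c ≤ ρ r → M r c = 0) :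
    ∀ (k : ℕ) r c, ρ c < ρ r + k → (M ^ k) r c = 0
  | 0, r, c, h => by
    rw [pow_zero, Matrix.one_apply_ne]
    rintro rfl
    omega
  | k + 1, r, c, h => by
    rw [pow_succ, Matrix.mul_apply]
    refine Finset.sum_eq_zero fun m _ => ?_
    by_cases hm : ρ m < ρ r + k
    · rw [chain_pow_zero hz k r m hm, zero_mul]
    · rw [hz m c (by omega), mul_zero]

lemma chain_pow_ne (hρ : Function.Injective ρ) {N : ℕ} (hsurj : ∀ j < N, ∃ i, ρ i = j)
    (hz : ∀ r c, ρ c ≤ ρ r → M r c = 0) (hne : ∀ r c, ρ c = ρ r + 1 → M r c ≠ 0) :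
    ∀ (k : ℕ) r c, ρ c = ρ r + k → ρ c < N → (M ^ k) r c ≠ 0
  | 0, r, c, h, _ => by
    obtain rfl : c = r := hρ h
    simp
  | k + 1, r, c, h, hN => by
    obtain ⟨m, hm⟩ := hsurj (ρ r + k) (by omega)
    rw [pow_succ, Matrix.mul_apply, Finset.sum_eq_single m]
    · exact mul_ne_zero (chain_pow_ne hρ hsurj hz hne k r m hm (by omega)) (hne m c (by omega))
    · intro j _ hj
      by_cases hj' : ρ j < ρ r + k
      · rw [chain_pow_zero hz k r j hj', zero_mul]
      · have : ρ j ≠ ρ r + k := fun h' => hj (hρ (h'.trans hm.symm))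
        rw [hz j c (by omega), mul_zero]
    · intro h'; exact absurd (Finset.mem_univ m) h'

lemma chain_kernel (hρ : Function.Injective ρ) {N : ℕ} (hsurj : ∀ j < N, ∃ i, ρ i = j) (hlt : ∀ i, ρ i < N)
    (hz : ∀ r c, ρ c ≤ ρ r → M r c = 0) (hne : ∀ r c, ρ c = ρ r + 1 → M r c ≠ 0)
    {x : ι → F} (hx : M *ᵥ x = 0) : ∀ c, ρ c ≠ 0 → x c = 0 := by
  suffices ∀ d c, N ≤ ρ c + d → ρ c ≠ 0 → x c = 0 from fun c h => this N c (by omega) h
  intro d
  induction d with
  | zero => intro c h; have := hlt c; omega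
  | succ d ih =>
    intro c h hc
    obtain ⟨r, hr⟩ := hsurj (ρ c - 1) (by have := hlt c; omega)
    have h1 : ∑ j, M r j * x j = 0 := congrFun hx r
    rw [Finset.sum_eq_single c] at h1
    · exact (mul_eq_zero.1 h1).resolve_left (hne r c (by omega))
    · intro j _ hj
      by_cases hj' : ρ j ≤ ρ r
      · rw [hz r j hj', zero_mul]
      · have : ρ j ≠ ρ c := fun h' => hj (hρ h')
        rw [ih j (by omega) (by omega), mul_zero]
    · intro h'; exact absurd (Finset.mem_univ c) h'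

end Chain

section Matrices

/-- Inverse of the upper bidiagonal matrix. -/
def Amat : Matrix (Fin n) (Fin n) F := fun i j => if i ≤ j then (-1) ^ ((j : ℕ) - i) else 0

/-- The lower bidiagonal matrix. -/
def Dmat : Matrix (Fin n) (Fin n) F := fun j k => if j = k then 1 else if (k : ℕ) + 1 = j then 1 else 0

lemma Amat_transpose_mul_Dmat : (Amat : Matrix (Fin n) (Fin n) F)ᵀ * Dmat = 1 := by
  ext i k
  rw [Matrix.mul_apply]
  by_cases hk : (k : ℕ) + 1 < n
  · have hkk : k ≠ ⟨k + 1, hk⟩ := by simp [Fin.ext_iff]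
    rw [Finset.sum_eq_add k ⟨k + 1, hk⟩ hkk (fun j _ hj => by
        rw [Dmat, if_neg hj.1, if_neg (fun h => hj.2 (Fin.ext h.symm)), mul_zero])
      (fun h => absurd (Finset.mem_univ _) h) (fun h => absurd (Finset.mem_univ _) h)]
    simp only [Matrix.transpose_apply, Dmat, if_true, mul_one, if_neg hkk.symm, Amat]
    rcases lt_trichotomy (k : ℕ) i with h | h | h
    · rw [if_pos (by omega : k ≤ i), if_pos (show (⟨k + 1, hk⟩ : Fin n) ≤ i from Fin.mk_le_of_le_val (by omega)),
        Matrix.one_apply_ne (fun h' => by omega), show (i : ℕ) - k = i - (k + 1) + 1 by omega, pow_succ]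
      ring
    · obtain rfl : k = i := Fin.ext h
      rw [if_pos le_rfl, if_neg, Matrix.one_apply_eq, Nat.sub_self, pow_zero, add_zero]
      intro h'; have : (k : ℕ) + 1 ≤ (k : ℕ) := h'; omega
    · rw [if_neg (by omega), if_neg, Matrix.one_apply_ne (fun h' => by omega), add_zero]
      intro h'; rw [Fin.le_def] at h'; simp at h'; omega
  · rw [Finset.sum_eq_single k]
    · have : i ≤ k := by rw [Fin.le_def]; omega
      simp only [Matrix.transpose_apply, Dmat, if_true, mul_one, Amat]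
      rcases eq_or_ne i k with rfl | h
      · simp
      · rw [if_neg (fun h' => h (le_antisymm this h')), Matrix.one_apply_ne h]
    · intro j _ hj
      rw [Dmat, if_neg hj, if_neg (by omega), mul_zero]
    · intro h; exact absurd (Finset.mem_univ _) h

/-- The block matrix. -/
def Uel : Matrix.symplecticGroup (Fin n) F :=
  ⟨Matrix.fromBlocks Amat 0 0 Dmat, by
    rw [SymplecticGroup.mem_iff', Matrix.J, Matrix.fromBlocks_transpose, Matrix.fromBlocks_multiply,
      Matrix.fromBlocks_multiply]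
    have h := Amat_transpose_mul_Dmat (F := F) (n := n)
    have h' : (Dmat : Matrix (Fin n) (Fin n) F)ᵀ * Amat = 1 := by
      have := congrArg Matrix.transpose h
      rwa [Matrix.transpose_mul, Matrix.transpose_transpose, Matrix.transpose_one] at this
    simp [h, h']⟩

variable (hn : 2 ≤ n) (β : F)

/-- The regular unipotent element. -/
def uEl (β : F) : Matrix.symplecticGroup (Fin n) F := T (le (n - 1)) β * Uel

lemma Dmat_mulVec (x : Fin n → F) (j : Fin n) :
    (Dmat *ᵥ x) j = x j + (if h : 0 < (j : ℕ) then x ⟨(j : ℕ) - 1, by omega⟩ else 0) := by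
  have e : ∀ k, Dmat j k * x k = (if k = j then x k else 0) + (if (k : ℕ) + 1 = j then x k else 0) := by
    intro k
    simp only [Dmat]
    by_cases h1 : j = k
    · subst h1; simp
    · by_cases h2 : (k : ℕ) + 1 = j <;> simp [h1, h2, Ne.symm h1]
  rw [Matrix.mulVec, dotProduct, Finset.sum_congr rfl (fun k _ => e k), Finset.sum_add_distrib,
    Finset.sum_ite_eq' Finset.univ j x, if_pos (Finset.mem_univ j)]
  congr 1
  split_ifs with h
  · rw [Finset.sum_eq_single (⟨(j : ℕ) - 1, by omega⟩ : Fin n)]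
    · rw [if_pos]; simp; omega
    · intro k _ hk; rw [if_neg]; intro h'; exact hk (Fin.ext (by simp; omega))
    · intro h'; exact absurd (Finset.mem_univ _) h'
  · exact Finset.sum_eq_zero fun k _ => if_neg (by omega)

include hn in
lemma uEl_apply (x : V) :
    (∀ j, ((uEl β : Matrix.symplecticGroup (Fin n) F) : Mat n F) *ᵥ x |> fun y => y (Sum.inr j) =
      (Dmat *ᵥ (x ∘ Sum.inr)) j) ∧
    ∀ j : Fin n, (((uEl β : Matrix.symplecticGroup (Fin n) F) : Mat n F) *ᵥ x) (Sum.inl j) =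
      (Amat *ᵥ (x ∘ Sum.inl)) j +
        if (j : ℕ) = n - 1 then β * (Dmat *ᵥ (x ∘ Sum.inr)) ⟨n - 1, by omega⟩ else 0 := by
  have hU : ((Uel : Matrix.symplecticGroup (Fin n) F) : Mat n F) *ᵥ x =
      Sum.elim (Amat *ᵥ (x ∘ Sum.inl)) (Dmat *ᵥ (x ∘ Sum.inr)) := by
    show Matrix.fromBlocks Amat 0 0 Dmat *ᵥ x = _
    rw [Matrix.fromBlocks_mulVec, Matrix.zero_mulVec, Matrix.zero_mulVec, add_zero, zero_add]
  constructor
  · intro j
    show (((uEl β : Matrix.symplecticGroup (Fin n) F) : Mat n F) *ᵥ x) (Sum.inr j) = _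
    rw [uEl, coe_mul_mulVec, hU, T_apply]
    simp [le]
  · intro j
    rw [uEl, coe_mul_mulVec, hU, T_apply, (B_right (n - 1) (by omega) _).1]
    simp [le, mul_comm]

end Matrices

section Main

variable [Finite F]

theorem exists_three (hn : 2 ≤ n) (h22 : ¬ (n = 2 ∧ Nat.card F = 2)) :
    ∃ u g h : Matrix.symplecticGroup (Fin n) F,
      IsNilpotent ((u : Mat n F) - 1) ∧ ((u : Mat n F) - 1) ^ (2 * n - 1) ≠ 0 ∧
      Subgroup.closure ({u, g * u * g⁻¹, h * u * h⁻¹} : Set (Matrix.symplecticGroup (Fin n) F)) = ⊤ := by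
  classical
  obtain ⟨g0, hg0⟩ := IsCyclic.exists_generator (α := Fˣ)
  -- the parameters
  let γ : F := g0
  have hγ1 : n = 2 → γ ≠ 1 := by
    intro h2 h1
    have h : orderOf g0 = 1 := orderOf_eq_one_iff.2 (Units.ext h1)
    rw [orderOf_eq_card_of_forall_mem_zpowers hg0, Nat.card_units] at h
    exact h22 ⟨h2, by have : 1 < Nat.card F := Finite.one_lt_card; omega⟩
  let β : F := if n = 2 then 1 - γ else 1
  let c : F := if n = 2 then γ / (1 - γ) else γ
  have hβ : β ≠ 0 := by
    simp only [β]; split_ifs with h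
    · exact sub_ne_zero.2 (Ne.symm (hγ1 h))
    · exact one_ne_zero
  have hcβ : c * β = γ := by
    simp only [c, β]; split_ifs with h
    · exact div_mul_cancel₀ _ (sub_ne_zero.2 (Ne.symm (hγ1 h)))
    · exact mul_one _
  have hc : c ≠ 0 := fun h => g0.ne_zero (show γ = 0 by rw [← hcβ, h, zero_mul])
  set u : Matrix.symplecticGroup (Fin n) F := uEl β with hu
  let i0 : Fin n := ⟨0, by omega⟩
  let i1 : Fin n := ⟨1, by omega⟩
  let il : Fin n := ⟨n - 1, by omega⟩
  have hur : ∀ x j, ((u : Mat n F) *ᵥ x) (Sum.inr j) = (Dmat *ᵥ (x ∘ Sum.inr)) j :=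
    fun x j => (uEl_apply hn β x).1 j
  have hul : ∀ x (j : Fin n), ((u : Mat n F) *ᵥ x) (Sum.inl j) = (Amat *ᵥ (x ∘ Sum.inl)) j +
      if (j : ℕ) = n - 1 then β * (Dmat *ᵥ (x ∘ Sum.inr)) il else 0 := fun x j => (uEl_apply hn β x).2 j
  have hAcol : ∀ (k : ℕ) (hk : k < n) (j : Fin n),
      (Amat *ᵥ fun i : Fin n => if (i : ℕ) = k then (1 : F) else 0) j = Amat j ⟨k, hk⟩ := by
    intro k hk j
    rw [Matrix.mulVec, dotProduct, Finset.sum_eq_single ⟨k, hk⟩]
    · simp
    · intro i _ hi; rw [if_neg (fun h => hi (Fin.ext h)), mul_zero]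
    · intro h; exact absurd (Finset.mem_univ _) h
  have hule : ∀ k, (hk : k < n) → ∀ j : Fin n, ((u : Mat n F) *ᵥ le k) (Sum.inl j) = Amat j ⟨k, hk⟩ := by
    intro k hk j
    rw [hul, show (le k : V) ∘ Sum.inl = fun i : Fin n => if (i : ℕ) = k then (1 : F) else 0 from rfl,
      show (le k : V) ∘ Sum.inr = 0 from rfl, Matrix.mulVec_zero, hAcol k hk]
    simp
  have hule' : ∀ k, ∀ j : Fin n, ((u : Mat n F) *ᵥ le k) (Sum.inr j) = 0 := by
    intro k j
    rw [hur, show (le k : V) ∘ Sum.inr = 0 from rfl, Matrix.mulVec_zero]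
    rfl
  have hue0 : (u : Mat n F) *ᵥ le 0 = le 0 := by
    funext s; rcases s with j | j
    · rw [hule 0 (by omega)]
      simp only [le, Sum.elim_inl, Amat, Fin.le_def]
      split_ifs <;> first | omega | simp_all
    · rw [hule']; rfl
  have hue : ∀ i, i + 1 < n → (u : Mat n F) *ᵥ (le i + le (i + 1)) = le (i + 1) := by
    intro i hi
    rw [Matrix.mulVec_add]
    funext s; rcases s with j | j
    · rw [Pi.add_apply, hule i (by omega), hule (i + 1) hi]
      simp only [le, Sum.elim_inl, Amat, Fin.le_def]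
      rcases lt_trichotomy (j : ℕ) (i + 1) with h | h | h
      · rw [if_pos (by omega), if_pos (by omega), if_neg (by omega), show i + 1 - (j : ℕ) = i - j + 1 by omega, pow_succ]
        ring
      · rw [if_neg (by omega), if_pos (by omega), if_pos h, h, Nat.sub_self, pow_zero, zero_add]
      · rw [if_neg (by omega), if_neg (by omega), if_neg (by omega), add_zero]
    · rw [Pi.add_apply, hule', hule', add_zero]; rfl
  have huinv : ∀ i, i + 1 < n →
      ((u⁻¹ : Matrix.symplecticGroup (Fin n) F) : Mat n F) *ᵥ le (i + 1) = le i + le (i + 1) :=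
    fun i hi => inv_mulVec (hue i hi)
  have huinv0 : ((u⁻¹ : Matrix.symplecticGroup (Fin n) F) : Mat n F) *ᵥ le 0 = le 0 := inv_mulVec hue0
  -- the chain
  let ρ : Fin n ⊕ Fin n → ℕ := Sum.elim (fun j => (j : ℕ)) (fun j => 2 * n - 1 - j)
  have hρ : Function.Injective ρ := by
    rintro (a | a) (b | b) h <;> simp only [ρ, Sum.elim_inl, Sum.elim_inr] at h
    · rw [Fin.ext h]
    · omega
    · omega
    · congr 1; exact Fin.ext (by omega)
  have hsurj : ∀ j < 2 * n, ∃ i, ρ i = j := by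
    intro j hj
    by_cases h : j < n
    · exact ⟨Sum.inl ⟨j, h⟩, rfl⟩
    · exact ⟨Sum.inr ⟨2 * n - 1 - j, by omega⟩, by simp [ρ]; omega⟩
  have hent : ∀ r s, ((u : Mat n F) - 1) r s = ((u : Mat n F) *ᵥ Pi.single s 1) r - if r = s then 1 else 0 := by
    intro r s
    rw [Matrix.sub_apply, Matrix.one_apply, Matrix.mulVec_single_one, Matrix.col_apply]
  have hsl : ∀ k : Fin n, (Pi.single (Sum.inl k) 1 : V) = le k := by
    intro k; funext s; rcases s with j | j <;> simp [le, Pi.single_apply, Fin.ext_iff]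
  have hsr : ∀ k : Fin n, (Pi.single (Sum.inr k) 1 : V) = lf k := by
    intro k; funext s; rcases s with j | j <;> simp [lf, Pi.single_apply, Fin.ext_iff]
  have hDcol : ∀ k j : Fin n, (Dmat *ᵥ fun i : Fin n => if (i : ℕ) = k then (1 : F) else 0) j = Dmat j k := by
    intro k j
    rw [Matrix.mulVec, dotProduct, Finset.sum_eq_single k]
    · simp
    · intro i _ hi; rw [if_neg (fun h => hi (Fin.ext h)), mul_zero]
    · intro h; exact absurd (Finset.mem_univ _) h
  have hulf : ∀ (k : Fin n) (j : Fin n),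
      ((u : Mat n F) *ᵥ lf k) (Sum.inr j) = Dmat j k ∧
      ((u : Mat n F) *ᵥ lf k) (Sum.inl j) = if (j : ℕ) = n - 1 then β * Dmat il k else 0 := by
    intro k j
    rw [hur, hul, show (lf k : V) ∘ Sum.inr = fun i : Fin n => if (i : ℕ) = k then (1 : F) else 0 from rfl,
      show (lf k : V) ∘ Sum.inl = 0 from rfl, Matrix.mulVec_zero, hDcol, hDcol, Pi.zero_apply, zero_add]
    exact ⟨rfl, rfl⟩
  have hz : ∀ r s, ρ s ≤ ρ r → ((u : Mat n F) - 1) r s = 0 := by
    intro r s h
    rw [hent]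
    rcases r with j | j <;> rcases s with k | k <;> simp only [ρ, Sum.elim_inl, Sum.elim_inr] at h
    · rw [hsl, hule k k.2, Amat]
      rcases eq_or_ne j k with rfl | hjk
      · simp
      · have hjk' : ¬ j ≤ k := fun h' => hjk (le_antisymm h' (Fin.le_def.2 h))
        simp [hjk, hjk']
    · omega
    · rw [hsl, hule', if_neg Sum.inr_ne_inl, sub_zero]
    · rw [hsr, (hulf k j).1, Dmat]
      rcases eq_or_ne j k with rfl | hjk
      · simp
      · rw [if_neg hjk, if_neg (by omega), if_neg (fun h' => hjk (Sum.inr_injective h')), sub_zero]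
  have hne : ∀ r s, ρ s = ρ r + 1 → ((u : Mat n F) - 1) r s ≠ 0 := by
    intro r s h
    rw [hent]
    rcases r with j | j <;> rcases s with k | k <;> simp only [ρ, Sum.elim_inl, Sum.elim_inr] at h
    · rw [hsl, hule k k.2, if_neg (fun h' => by have := Sum.inl_injective h'; subst this; omega), sub_zero, Amat,
        if_pos (show j ≤ (⟨k, k.2⟩ : Fin n) from Fin.le_def.2 (show (j : ℕ) ≤ (k : ℕ) by omega))]
      exact pow_ne_zero _ (neg_ne_zero.2 one_ne_zero)
    · rw [hsr, (hulf k j).2, if_neg Sum.inl_ne_inr, sub_zero, if_pos (by omega), Dmat,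
        if_pos (Fin.ext (by simp [il]; omega))]
      simpa using hβ
    · omega
    · rw [hsr, (hulf k j).1, if_neg (fun h' => by have := Sum.inr_injective h'; subst this; omega), sub_zero,
        Dmat, if_neg (fun h' => by subst h'; omega), if_pos (by omega)]
      exact one_ne_zero
  have hnil : ((u : Mat n F) - 1) ^ (2 * n) = 0 := by
    ext r s
    refine chain_pow_zero hz _ r s ?_
    rcases s with k | k <;> simp only [ρ, Sum.elim_inl, Sum.elim_inr] <;> omega
  have hreg : ((u : Mat n F) - 1) ^ (2 * n - 1) ≠ 0 := by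
    intro h0
    obtain ⟨r, hr⟩ := hsurj 0 (by omega)
    obtain ⟨s, hs⟩ := hsurj (2 * n - 1) (by omega)
    exact chain_pow_ne hρ hsurj hz hne (2 * n - 1) r s (by omega) (by omega) (by rw [h0]; rfl)
  have hker : ∀ x, ((u : Mat n F) - 1) *ᵥ x = 0 → x = x (Sum.inl i0) • (le 0 : V) := by
    intro x hx
    funext s
    by_cases hs : s = Sum.inl i0
    · subst hs; simp [le, i0]
    · rw [chain_kernel hρ hsurj (fun i => by rcases i with k | k <;> simp only [ρ, Sum.elim_inl, Sum.elim_inr] <;> omega)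
        hz hne hx s ?_]
      · rcases s with j | j
        · have : (j : ℕ) ≠ 0 := fun h => hs (by rw [show j = i0 from Fin.ext h])
          simp [le, this]
        · simp [le]
      · intro h
        obtain rfl : s = Sum.inl i0 := hρ h
        exact hs rfl
  -- the second generator
  let Jel : Matrix.symplecticGroup (Fin n) F := ⟨Matrix.J (Fin n) F, SymplecticGroup.J_mem (Fin n) F⟩
  let g : Matrix.symplecticGroup (Fin n) F := T (lf (n - 1)) (-β) * Jel
  let v := g * u * g⁻¹
  have hJ : ∀ x : V, (Jel : Mat n F) *ᵥ x = Sum.elim (fun i => -x (Sum.inr i)) (fun i => x (Sum.inl i)) := by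
    intro x
    show Matrix.J (Fin n) F *ᵥ x = _
    rw [Matrix.J, Matrix.fromBlocks_mulVec]
    funext s
    rcases s with i | i <;> simp [Matrix.neg_mulVec]
  have hg : ∀ x : V, (g : Mat n F) *ᵥ x =
      Sum.elim (fun i => -x (Sum.inr i)) (fun i => x (Sum.inl i) + if (i : ℕ) = n - 1 then -β * x (Sum.inr il) else 0) := by
    intro x
    rw [coe_mul_mulVec, hJ, T_apply, (B_right (n - 1) (by omega) _).2]
    funext s
    rcases s with i | i
    · simp [lf]
    · simp only [lf, Pi.add_apply, Pi.smul_apply, Sum.elim_inr, Sum.elim_inl, smul_eq_mul]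
      split_ifs <;> simp [il]
  have hv : ∀ x y : V, (g : Mat n F) *ᵥ x = y → (v : Mat n F) *ᵥ y = (g : Mat n F) *ᵥ ((u : Mat n F) *ᵥ x) := by
    intro x y h
    rw [coe_mul_mulVec, coe_mul_mulVec, inv_mulVec h]
  have hve : ∀ i, i + 1 < n → (v : Mat n F) *ᵥ le i = le i + le (i + 1) := by
    intro i hi
    have hgi : (g : Mat n F) *ᵥ (-lf i) = le i := by
      rw [hg]
      funext s
      rcases s with j | j
      · simp [le, lf]
      · simp [le, lf, il]
        omega
    rw [hv _ _ hgi, Matrix.mulVec_neg, hg]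
    funext s
    have hlf : (lf i : V) = lf ((⟨i, by omega⟩ : Fin n) : ℕ) := rfl
    rcases s with j | j
    · simp only [Sum.elim_inl, Pi.neg_apply, neg_neg, hlf, (hulf ⟨i, by omega⟩ j).1, Dmat, le, Pi.add_apply]
      by_cases h1 : (j : ℕ) = i
      · rw [if_pos (Fin.ext h1), if_pos h1, if_neg (by omega), add_zero]
      · rw [if_neg (fun h => h1 (congrArg Fin.val h)), if_neg h1, zero_add]
        simp only [eq_comm]
    · simp only [Sum.elim_inr, Pi.neg_apply, hlf, (hulf ⟨i, by omega⟩ j).2, (hulf ⟨i, by omega⟩ il).1, le, Pi.add_apply,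
        Pi.zero_apply]
      split_ifs <;> ring
  set δl : Fin n → F := fun k => if (k : ℕ) = n - 1 then 1 else 0
  have hgd : (g : Mat n F) *ᵥ Sum.elim ((-β) • δl) (-δl) = le (n - 1) := by
    rw [hg]
    funext s
    rcases s with j | j
    · simp [le, δl]
    · simp [le, δl, il]
  have hvd : ∀ j : Fin n, ((v : Mat n F) *ᵥ le (n - 1)) (Sum.inr j) = -β * Amat j il := by
    intro j
    rw [hv _ _ hgd, hg, Sum.elim_inr, hul, hur, Sum.elim_comp_inl, Sum.elim_comp_inr, Matrix.mulVec_smul,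
      Matrix.mulVec_neg, Pi.smul_apply, Pi.neg_apply, hAcol (n - 1) (by omega), hDcol il il, smul_eq_mul]
    have hDll : Dmat il il = (1 : F) := by simp [Dmat]
    rw [hDll]
    split_ifs <;> ring
  -- special vectors
  set ε : F := -β * Amat i0 il with hε
  have hε2 : ε ^ 2 = β ^ 2 := by
    have : (Amat i0 il : F) ^ 2 = 1 := by
      simp only [Amat, Fin.le_def, i0, il]
      rw [if_pos (Nat.zero_le _), ← pow_mul, mul_comm, pow_mul]
      simp
    rw [hε, mul_pow, this, mul_one, neg_sq]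
  have hε0 : ε ≠ 0 := fun h => by
    rw [h] at hε2; exact pow_ne_zero 2 hβ (by simpa using hε2.symm)
  set z : V := (u : Mat n F) *ᵥ ((v : Mat n F) *ᵥ le (n - 1)) with hzdef
  have hzr : ∀ j : Fin n, z (Sum.inr j) = if (j : ℕ) = 0 then ε else 0 := by
    intro j
    rw [hzdef, hur, Dmat_mulVec]
    simp only [Function.comp_apply, hvd]
    by_cases h : 0 < (j : ℕ)
    · rw [dif_pos h, if_neg h.ne']
      simp only [Amat, Fin.le_def, il]
      rw [if_pos (by omega), if_pos (by omega), show n - 1 - ((j : ℕ) - 1) = n - 1 - j + 1 by omega, pow_succ]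
      ring
    · rw [dif_neg h, if_pos (by omega), add_zero, hε, show j = i0 from Fin.ext (by simp [i0]; omega)]
  set z1 : V := (u : Mat n F) *ᵥ z with hz1def
  have hz1r : z1 (Sum.inr i0) = ε ∧ z1 (Sum.inr i1) = ε := by
    rw [hz1def, hur, hur, Dmat_mulVec, Dmat_mulVec]
    simp [hzr, i0, i1]
  have hn0 : (0 : ℕ) < n := by omega
  have hn1 : (1 : ℕ) < n := by omega
  -- the third generator
  obtain ⟨h, hh⟩ : ∃ h : Matrix.symplecticGroup (Fin n) F, u⁻¹ * h * u = h * T (le 0) c := by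
    by_cases h2 : n = 2
    · have hr : c + 1 = β⁻¹ := by
        simp only [c, β, if_pos h2]
        field_simp [sub_ne_zero.2 (Ne.symm (hγ1 h2))]
        ring
      have hf : ((u⁻¹ : Matrix.symplecticGroup (Fin n) F) : Mat n F) *ᵥ lf 1 = lf 1 + (-β) • (le 1 + le 0) := by
        refine inv_mulVec ?_
        rw [Matrix.mulVec_add, Matrix.mulVec_smul, add_comm (le 1) (le 0), hue 0 (by omega), zero_add]
        have hlf : (lf 1 : V) = lf ((i1 : Fin n) : ℕ) := rfl
        funext s
        rcases s with j | j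
        · rw [Pi.add_apply, Pi.smul_apply, hlf, (hulf i1 j).2]
          by_cases hj : (j : ℕ) = 1 <;> simp [le, lf, Dmat, il, i1, h2, hj, Fin.ext_iff]
        · rw [Pi.add_apply, Pi.smul_apply, hlf, (hulf i1 j).1]
          by_cases hj : (j : ℕ) = 1
          · simp [le, lf, Dmat, i1, hj, Fin.ext_iff]
          · simp [le, lf, Dmat, i1, hj, Fin.ext_iff]
            omega
      refine ⟨T (le 1) 1 * El (le 0) (lf 1) (c + 1) 0, ?_⟩
      rw [show u⁻¹ * (T (le 1) 1 * El (le 0) (lf 1) (c + 1) 0) * u =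
        (u⁻¹ * T (le 1) 1 * u) * (u⁻¹ * El (le 0) (lf 1) (c + 1) 0 * u) by group, T_conj', El_conj',
        huinv 0 (by omega), huinv0, hf]
      have b1 : B (le 0) (lf 1) = (0 : F) := by rw [(B_left 0 hn0 _).1]; simp [lf]
      have b2 : B (le 0) (le 1) = (0 : F) := by rw [(B_left 0 hn0 _).1]; simp [le]
      have b3 : B (lf 1) (le 1) = (1 : F) := by rw [(B_left 1 hn1 _).2]; simp [le]
      have b4 : B (le 1) (lf 1) = (-1 : F) := by rw [bswap, b3]
      have b5 := bzero_symm b2
      have b6 := bzero_symm b1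
      have b7 : B (le 0) (lf 1 + (-β) • (le 1 + le 0)) = (0 : F) := by
        simp only [map_add, map_smul, b1, b2, bself, smul_eq_mul, mul_zero, add_zero]
      refine sp_ext fun x => ?_
      simp only [zero_add, coe_mul_mulVec, El_apply b1, El_apply b7, T_apply, map_add, map_smul,
        LinearMap.add_apply, LinearMap.smul_apply, bself, b1, b2, b3, b4, b5, b6, smul_eq_mul, mul_zero, add_zero]
      have hrβ : (c + 1) * β = 1 := by rw [hr, inv_mul_cancel₀ hβ]
      match_scalars <;> first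
        | ring1
        | linear_combination -(B x (le 1) + 2 * B x (le 0)) * hrβ
        | linear_combination -(B x (le 0)) * hrβ
    · have hn2 : 2 < n := by omega
      refine ⟨T (le 1) c * El (le 0) (le 2) (-c) 0, ?_⟩
      rw [show u⁻¹ * (T (le 1) c * El (le 0) (le 2) (-c) 0) * u =
        (u⁻¹ * T (le 1) c * u) * (u⁻¹ * El (le 0) (le 2) (-c) 0 * u) by group, T_conj', El_conj',
        huinv 0 (by omega), huinv0, huinv 1 hn2]
      have hee : ∀ i j, i < n → B (le i) (le j : V) = (0 : F) := fun i j hi => by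
        rw [(B_left i hi _).1]; simp [le]
      have b12 : B (le 0) (le 1 + le 2 : V) = (0 : F) := by
        rw [map_add, hee 0 1 hn0, hee 0 2 hn0, add_zero]
      refine sp_ext fun x => ?_
      simp only [zero_add, coe_mul_mulVec, El_apply (hee 0 2 hn0), El_apply b12, T_apply, map_add, map_smul,
        LinearMap.add_apply, LinearMap.smul_apply, hee 0 1 hn0, hee 0 2 hn0, hee 1 0 hn1, hee 1 1 hn1, hee 1 2 hn1,
        hee 2 0 hn2, hee 2 1 hn2, hee 2 2 hn2, hee 0 0 hn0, smul_eq_mul, mul_zero, add_zero]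
      module
  refine ⟨u, g, h⁻¹, ⟨2 * n, hnil⟩, hreg, ?_⟩
  set G := Subgroup.closure ({u, g * u * g⁻¹, h⁻¹ * u * h⁻¹⁻¹} : Set (Matrix.symplecticGroup (Fin n) F)) with hG
  have huG : u ∈ G := Subgroup.subset_closure (by simp)
  have hvG : v ∈ G := Subgroup.subset_closure (by simp [v])
  have hT0 : InZ G c (le 0 : V) := by
    have hwG : h⁻¹ * u * h⁻¹⁻¹ ∈ G := Subgroup.subset_closure (by simp)
    have := G.mul_mem (G.inv_mem hwG) huG
    show T (le 0) c ∈ G
    convert this using 1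
    rw [show (h⁻¹ * u * h⁻¹⁻¹)⁻¹ * u = h⁻¹ * (u⁻¹ * h * u) by group, hh, inv_mul_cancel_left]
  have hZe : ∀ i, i < n → InZ G c (le i : V) := by
    intro i
    induction i with
    | zero => intro _; exact hT0
    | succ i ih =>
      intro hi
      have := ((ih (by omega)).conj hvG).conj huG
      rwa [hve i hi, hue i hi] at this
  have hZ01 : InZ G c (le 0 + le 1 : V) := by
    have := hT0.conj hvG
    rwa [hve 0 hn1] at this
  have hZz : InZ G c z := ((hZe (n - 1) (by omega)).conj hvG).conj huG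
  have be : ∀ i, (hi : i < n) → ∀ y : V, B (le i) y = - y (Sum.inr ⟨i, hi⟩) := fun i hi y => (B_left i hi y).1
  have b01 : B (le 0 : V) (le 1) = (0 : F) := by rw [be 0 hn0]; simp [le]
  have b10 := bzero_symm b01
  have b0z : B (le 0 : V) z = -ε := by rw [be 0 hn0, hzr, if_pos rfl]
  have b1z : B (le 1 : V) z = 0 := by rw [be 1 hn1, hzr, if_neg (by simp), neg_zero]
  have hgen : ∀ δ : F, δ ^ 2 = ε ^ 2 → ∀ y : F, y ≠ 0 → ∃ k : ℕ, y ^ 2 = ((c * δ) ^ 2) ^ k := by
    intro δ hδ y hy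
    obtain ⟨k, hk⟩ := mem_powers_iff_mem_zpowers.2 (hg0 (Units.mk0 y hy))
    refine ⟨k, ?_⟩
    rw [mul_pow, hδ, hε2, ← mul_pow, hcβ, ← pow_mul, mul_comm, pow_mul]
    congr 1
    have := congrArg Units.val hk
    simpa [γ] using this.symm
  obtain ⟨hfam1, -⟩ := step (a := (le 1 : V)) (D := le 0) (W := z) hc b10 b1z (by rw [b0z]; exact neg_ne_zero.2 hε0)
    (hgen _ (by rw [b0z]; ring)) hT0 hZ01 hZz
  -- the second wing
  have bz1e : ∀ y : F, B z1 (le 0 + y • le 1 : V) = ε * (1 + y) := by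
    intro y
    rw [map_add, map_smul, (B_right 0 hn0 z1).1, (B_right 1 hn1 z1).1]
    show z1 (Sum.inr i0) + y • z1 (Sum.inr i1) = _
    rw [hz1r.1, hz1r.2, smul_eq_mul]; ring
  set y0 : F := (B z1 z + c⁻¹) / (c * ε ^ 2) - 1 with hy0
  set X1 : V := (T (le 0 + y0 • le 1 : V) c : Mat n F) *ᵥ z1 with hX1
  set X2 : V := (T z c : Mat n F) *ᵥ X1 with hX2
  have hZX2 : InZ G c X2 := (((hZz).conj huG).conj (hfam1 y0)).conj hZz
  have hX2eq : X2 = z1 + (c * (ε * (1 + y0))) • (le 0 + y0 • le 1 : V) - z := by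
    have hB : B X1 z = -c⁻¹ := by
      rw [hX1, T_apply, bz1e]
      simp only [map_add, map_smul, LinearMap.add_apply, LinearMap.smul_apply, b0z, b1z, smul_eq_mul, mul_zero,
        add_zero]
      rw [show 1 + y0 = (B z1 z + c⁻¹) / (c * ε ^ 2) by rw [hy0]; ring]
      field_simp
      ring
    rw [hX2, T_apply, hB, mul_neg, mul_inv_cancel₀ hc, hX1, T_apply, bz1e]
    module
  have hX2r : X2 (Sum.inr i0) = 0 ∧ X2 (Sum.inr i1) = ε := by
    rw [hX2eq]
    simp only [Pi.sub_apply, Pi.add_apply, Pi.smul_apply, le, Sum.elim_inr, Pi.zero_apply, smul_zero, add_zero,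
      hz1r.1, hz1r.2, hzr]
    simp [i0, i1]
  have b0X : B (le 0 : V) X2 = 0 := by rw [be 0 hn0, show (⟨0, hn0⟩ : Fin n) = i0 from rfl, hX2r.1, neg_zero]
  have b1X : B (le 1 : V) X2 = -ε := by rw [be 1 hn1, show (⟨1, hn1⟩ : Fin n) = i1 from rfl, hX2r.2]
  obtain ⟨hfam2, hfamW⟩ := step (a := (le 0 : V)) (D := le 1) (W := X2) hc b01 b0X
    (by rw [b1X]; exact neg_ne_zero.2 hε0) (hgen _ (by rw [b1X]; ring)) (hZe 1 hn1) (by rwa [add_comm]) hZX2
  have hspan := inPi_pair hc b01 b0X (by rw [b1X]; exact neg_ne_zero.2 hε0) hfam2 hfam1 hfamW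
  have hP0 : InPi G (le 0 : V) := by simpa using hspan 1 0
  have hP1 : InPi G (le 1 : V) := by simpa using hspan 0 1
  have hPe : ∀ i, i < n → InPi G (le i : V) := by
    intro i
    induction i with
    | zero => intro _; exact hP0
    | succ i ih =>
      intro hi
      have := ((ih (by omega)).conj hvG).conj huG
      rwa [hve i hi, hue i hi] at this
  have hPz : InPi G z := ((hPe (n - 1) (by omega)).conj hvG).conj huG
  have hPX2 : InPi G X2 := ((hPz.conj huG).conj (hfam1 y0)).conj hZz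
  let M2 : Submodule F V := Submodule.span F {le 0, le 1}
  have hM2 : ∀ y ∈ M2, InPi G y := by
    intro y hy
    obtain ⟨x, y', rfl⟩ := Submodule.mem_span_pair.1 hy
    exact hspan x y'
  have he0 : (le 0 : V) ∈ M2 := Submodule.subset_span (by simp)
  have he1 : (le 1 : V) ∈ M2 := Submodule.subset_span (by simp)
  have hrad2 : ∀ b ∈ M2, B (le 0 : V) b = 0 ∧ B (le 1 : V) b = 0 := by
    intro b hb
    obtain ⟨x, y', rfl⟩ := Submodule.mem_span_pair.1 hb
    simp only [map_add, map_smul, bself, b01, b10, smul_zero, add_zero]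
    exact ⟨trivial, trivial⟩
  let M3 := M2 ⊔ Submodule.span F {z}
  have hM3 : ∀ y ∈ M3, InPi G y := grow hM2 hPz ⟨le 0, he0, by rw [b0z]; exact neg_ne_zero.2 hε0⟩
    (Or.inl ⟨le 0, he0, fun b hb => (hrad2 b hb).1, by rw [b0z]; exact neg_ne_zero.2 hε0⟩)
  have hrad3 : ∀ b ∈ M3, B (le 1 : V) b = 0 := by
    intro b hb
    obtain ⟨b', hb', w, hw, rfl⟩ := Submodule.mem_sup.1 hb
    obtain ⟨r, rfl⟩ := Submodule.mem_span_singleton.1 hw
    rw [map_add, map_smul, (hrad2 b' hb').2, b1z, smul_zero, add_zero]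
  have he13 : (le 1 : V) ∈ M3 := Submodule.mem_sup_left he1
  let M4 := M3 ⊔ Submodule.span F {X2}
  have hM4 : ∀ y ∈ M4, InPi G y := grow hM3 hPX2 ⟨le 1, he13, by rw [b1X]; exact neg_ne_zero.2 hε0⟩
    (Or.inl ⟨le 1, he13, hrad3, by rw [b1X]; exact neg_ne_zero.2 hε0⟩)
  let S : Set (Submodule F V) := {M | M4 ≤ M ∧ ∀ y ∈ M, InPi G y}
  obtain ⟨M, ⟨hM4M, hMPi⟩, hmax⟩ := (wellFounded_gt (α := Submodule F V)).has_min S ⟨M4, le_rfl, hM4⟩
  have he0M : (le 0 : V) ∈ M := hM4M (Submodule.mem_sup_left (Submodule.mem_sup_left he0))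
  have he1M : (le 1 : V) ∈ M := hM4M (Submodule.mem_sup_left he13)
  have hzM : z ∈ M := hM4M (Submodule.mem_sup_left (Submodule.mem_sup_right (Submodule.mem_span_singleton_self z)))
  have hX2M : X2 ∈ M := hM4M (Submodule.mem_sup_right (Submodule.mem_span_singleton_self X2))
  have hdich : ∀ x, InPi G x → x ∈ M ∨ ∀ b ∈ M, B b x = 0 := by
    intro x hx
    by_cases hb : ∃ m ∈ M, B m x ≠ 0
    swap
    · push Not at hb; exact Or.inr hb
    left
    have hg' := grow hMPi hx hb (Or.inr ⟨le 0, he0M, le 1, he1M, b01,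
      ⟨z, hzM, by rw [b0z]; exact neg_ne_zero.2 hε0⟩, ⟨X2, hX2M, by rw [b1X]; exact neg_ne_zero.2 hε0⟩,
      ⟨z, hzM, by rw [map_add, LinearMap.add_apply, b0z, b1z, add_zero]; exact neg_ne_zero.2 hε0⟩⟩)
    by_contra hxM
    exact hmax (M ⊔ Submodule.span F {x}) ⟨hM4M.trans le_sup_left, hg'⟩
      (lt_of_le_of_ne le_sup_left fun he => hxM (he ▸ Submodule.mem_sup_right (Submodule.mem_span_singleton_self x)))
  have hb1z1 : B (le 1 : V) z1 ≠ 0 := by
    rw [be 1 hn1, show (⟨1, hn1⟩ : Fin n) = i1 from rfl, hz1r.2]; exact neg_ne_zero.2 hε0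
  have hz1M : z1 ∈ M := (hdich z1 (hPz.conj huG)).resolve_right fun h => hb1z1 (h _ he1M)
  have huM : ∀ m ∈ M, (u : Mat n F) *ᵥ m ∈ M := by
    intro m hm
    rcases hdich _ ((hMPi m hm).conj huG) with h1 | h1
    · exact h1
    rcases hdich _ ((hMPi (m + z) (M.add_mem hm hzM)).conj huG) with h2 | h2
    · rw [Matrix.mulVec_add] at h2
      exact (M.add_mem_iff_left hz1M).1 h2
    · exfalso
      have := h2 _ he1M
      rw [Matrix.mulVec_add, map_add, h1 _ he1M, zero_add] at this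
      exact hb1z1 this
  have hMtop : M = ⊤ := by
    by_contra hne'
    obtain ⟨φ, hφ0, hφ⟩ := Submodule.exists_le_ker_of_lt_top M (lt_top_iff_ne_top.2 hne')
    obtain ⟨x0, hx0⟩ : ∃ x0, B x0 = φ := ⟨(LinearMap.BilinForm.toDual (spB n F) (spB_nondeg n F)).symm φ,
      LinearEquiv.apply_symm_apply (LinearMap.BilinForm.toDual (spB n F) (spB_nondeg n F)) φ⟩
    have hx0ne : x0 ≠ 0 := fun h => hφ0 (by rw [← hx0, h, map_zero])
    have hpow : ∀ k, ∀ m ∈ M, ((u ^ k : Matrix.symplecticGroup (Fin n) F) : Mat n F) *ᵥ m ∈ M := by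
      intro k
      induction k with
      | zero => intro m hm; simpa using hm
      | succ k ih => intro m hm; rw [pow_succ', coe_mul_mulVec]; exact huM _ (ih m hm)
    have hperp : ∀ x : V, (∀ m ∈ M, B x m = 0) → ∀ m ∈ M, B (((u : Mat n F) - 1) *ᵥ x) m = 0 := by
      intro x hx m hm
      rw [Matrix.sub_mulVec, Matrix.one_mulVec, map_sub, LinearMap.sub_apply, hx m hm, sub_zero]
      have h1 : (u : Mat n F) *ᵥ (((u ^ (orderOf u - 1) : Matrix.symplecticGroup (Fin n) F) : Mat n F) *ᵥ m) = m := by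
        rw [← coe_mul_mulVec, ← pow_succ', Nat.sub_add_cancel (orderOf_pos u), pow_orderOf_eq_one,
          Submonoid.coe_one, Matrix.one_mulVec]
      rw [← h1, toLin'_mem_isom u.2]
      exact hx _ (hpow _ m hm)
    have hperpk : ∀ k, ∀ m ∈ M, B ((((u : Mat n F) - 1) ^ k) *ᵥ x0) m = 0 := by
      intro k
      induction k with
      | zero => intro m hm; rw [pow_zero, Matrix.one_mulVec, hx0]; exact hφ hm
      | succ k ih => intro m hm; rw [pow_succ', ← Matrix.mulVec_mulVec]; exact hperp _ ih m hm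
    have hex : ∃ k, (((u : Mat n F) - 1) ^ k) *ᵥ x0 = 0 := ⟨2 * n, by rw [hnil, Matrix.zero_mulVec]⟩
    have hk0 : Nat.find hex ≠ 0 := fun h => hx0ne (by simpa [h] using Nat.find_spec hex)
    set x := (((u : Mat n F) - 1) ^ (Nat.find hex - 1)) *ᵥ x0 with hx
    have hxne : x ≠ 0 := Nat.find_min hex (by omega)
    have hNx : ((u : Mat n F) - 1) *ᵥ x = 0 := by
      rw [hx, Matrix.mulVec_mulVec, ← pow_succ', Nat.sub_add_cancel (Nat.pos_of_ne_zero hk0)]
      exact Nat.find_spec hex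
    have h1 := hker x hNx
    have h2 := hperpk (Nat.find hex - 1) z hzM
    rw [← hx, h1, map_smul, LinearMap.smul_apply, b0z, smul_eq_mul] at h2
    rw [(mul_eq_zero.1 h2).resolve_right (neg_ne_zero.2 hε0), zero_smul] at h1
    exact hxne h1
  rw [← top_le_iff, ← closure_TSet n F, Subgroup.closure_le]
  rintro _ ⟨w, t, rfl⟩
  exact hMPi w (hMtop ▸ Submodule.mem_top) t

end Main

end Cfsg.Agent.H55.SpEngine
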