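import Mathlib
import Cfsg.Agent.H55.SpEngine

/-!
`Sp_{2n}(F)` is generated by two elements: the product of a transvection `T(e_0)` with a commuting
semisimple element that is transitive on the non-zero vectors of a subspace containing `e_1`, and a
monomial-type element mapping `e_i` to `e_{i+1}`.
-/

set_option autoImplicit false

namespace Cfsg.Agent.H55.SpTwoGen

open Cfsg.Agent.Symplectic Cfsg.Agent.H55.SpEngine
open scoped Matrix

variable {F : Type*} [Field F] {n : ℕ}

local notation "V" => (Fin n ⊕ Fin n → F)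
local notation "B" => spB n F

/-- The basis vector `e_i`. -/
def ee (i : Fin n) : V := Sum.elim (Pi.single i 1) 0

/-- The basis vector `f_i`. -/
def ff (i : Fin n) : V := Sum.elim 0 (Pi.single i 1)

lemma B_ee (i : Fin n) (y : V) : B (ee i) y = - y (Sum.inr i) := by
  rw [spB_apply, sympForm_eq, Finset.sum_eq_single i]
  · simp [ee]
  · intro j _ hj; simp [ee, hj]
  · simp

lemma B_ff (i : Fin n) (y : V) : B (ff i) y = y (Sum.inl i) := by
  rw [spB_apply, sympForm_eq, Finset.sum_eq_single i]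
  · simp [ff]
  · intro j _ hj; simp [ff, hj]
  · simp

/-- The block-diagonal element attached to an invertible matrix. -/
def levi : GL (Fin n) F →* Matrix.symplecticGroup (Fin n) F where
  toFun g := ⟨Matrix.fromBlocks (g : Matrix (Fin n) (Fin n) F) 0 0
      ((g⁻¹ : GL (Fin n) F) : Matrix (Fin n) (Fin n) F)ᵀ, by
    rw [SymplecticGroup.mem_iff, Matrix.J, Matrix.fromBlocks_transpose, Matrix.fromBlocks_multiply,
      Matrix.fromBlocks_multiply]
    have h : (g : Matrix (Fin n) (Fin n) F) * ((g⁻¹ : GL (Fin n) F) : Matrix (Fin n) (Fin n) F) = 1 := by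
      rw [← Units.val_mul, mul_inv_cancel, Units.val_one]
    have h' : ((g⁻¹ : GL (Fin n) F) : Matrix (Fin n) (Fin n) F)ᵀ * (g : Matrix (Fin n) (Fin n) F)ᵀ = 1 := by
      rw [← Matrix.transpose_mul, h, Matrix.transpose_one]
    simp [-Matrix.coe_units_inv, h, h']⟩
  map_one' := Subtype.ext (by simp)
  map_mul' g h := Subtype.ext (by
    simp [-Matrix.coe_units_inv, Matrix.fromBlocks_multiply, Matrix.transpose_mul])

lemma levi_apply (g : GL (Fin n) F) (x : V) :
    (levi g : Mat n F) *ᵥ x = Sum.elim ((g : Matrix (Fin n) (Fin n) F) *ᵥ (x ∘ Sum.inl))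
      (((g⁻¹ : GL (Fin n) F) : Matrix (Fin n) (Fin n) F)ᵀ *ᵥ (x ∘ Sum.inr)) := by
  show Matrix.fromBlocks _ 0 0 _ *ᵥ x = _
  rw [Matrix.fromBlocks_mulVec, Matrix.zero_mulVec, Matrix.zero_mulVec, add_zero, zero_add]

lemma levi_ee (g : GL (Fin n) F) (i : Fin n) :
    (levi g : Mat n F) *ᵥ ee i = Sum.elim ((g : Matrix (Fin n) (Fin n) F) *ᵥ Pi.single i 1) 0 := by
  rw [levi_apply, ee, Sum.elim_comp_inl, Sum.elim_comp_inr, Matrix.mulVec_zero]

section Emb

variable {k : ℕ} (ι : Fin k → Fin n)

/-- Extension of a matrix on the coordinates in the image of `ι` by the identity. -/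
def emb (hι : Function.Injective ι) : Matrix (Fin k) (Fin k) F →* Matrix (Fin n) (Fin n) F where
  toFun M := 1 + (1 : Matrix (Fin n) (Fin n) F).submatrix id ι * (M - 1) *
    (1 : Matrix (Fin n) (Fin n) F).submatrix ι id
  map_one' := by simp
  map_mul' M N := by
    set P := (1 : Matrix (Fin n) (Fin n) F).submatrix id ι
    set Q := (1 : Matrix (Fin n) (Fin n) F).submatrix ι id
    have hQP : Q * P = 1 := by
      rw [← Matrix.submatrix_mul _ _ ι id ι Function.bijective_id, one_mul, Matrix.submatrix_one ι hι]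
    have h : P * (M - 1) * Q * (P * (N - 1) * Q) = P * ((M - 1) * (N - 1)) * Q := by
      rw [show P * (M - 1) * Q * (P * (N - 1) * Q) = P * (M - 1) * (Q * P) * (N - 1) * Q by
        simp only [Matrix.mul_assoc], hQP, Matrix.mul_one]
      simp only [Matrix.mul_assoc]
    simp only [add_mul, mul_add, one_mul, mul_one, h]
    rw [show M * N - 1 = (M - 1) * (N - 1) + ((M - 1) + (N - 1)) by noncomm_ring]
    simp only [Matrix.mul_add, Matrix.add_mul]
    abel

lemma emb_single (hι : Function.Injective ι) (M : Matrix (Fin k) (Fin k) F) (i : Fin n)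
    (hi : ∀ j, ι j ≠ i) : emb ι hι M *ᵥ Pi.single i 1 = Pi.single i 1 := by
  have hQ : (1 : Matrix (Fin n) (Fin n) F).submatrix ι id *ᵥ Pi.single i 1 = 0 := by
    funext j
    rw [Matrix.mulVec_single_one]
    exact Matrix.one_apply_ne (hi j)
  simp only [emb, MonoidHom.coe_mk, OneHom.coe_mk]
  rw [Matrix.add_mulVec, Matrix.one_mulVec, ← Matrix.mulVec_mulVec, hQ, Matrix.mulVec_zero, add_zero]

lemma emb_image (hι : Function.Injective ι) (M : Matrix (Fin k) (Fin k) F) (v : Fin k → F) :
    emb ι hι M *ᵥ ((1 : Matrix (Fin n) (Fin n) F).submatrix id ι *ᵥ v) =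
      (1 : Matrix (Fin n) (Fin n) F).submatrix id ι *ᵥ (M *ᵥ v) := by
  have hQP : (1 : Matrix (Fin n) (Fin n) F).submatrix ι id * (1 : Matrix (Fin n) (Fin n) F).submatrix id ι
      = 1 := by
    rw [← Matrix.submatrix_mul _ _ ι id ι Function.bijective_id, one_mul, Matrix.submatrix_one ι hι]
  simp only [emb, MonoidHom.coe_mk, OneHom.coe_mk]
  rw [Matrix.add_mulVec, Matrix.one_mulVec, Matrix.mulVec_mulVec, Matrix.mul_assoc, hQP, Matrix.mul_one,
    ← Matrix.mulVec_mulVec, Matrix.sub_mulVec, Matrix.one_mulVec, Matrix.mulVec_sub]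
  abel

lemma image_single (j : Fin k) :
    (1 : Matrix (Fin n) (Fin n) F).submatrix id ι *ᵥ Pi.single j 1 = Pi.single (ι j) 1 := by
  funext i
  rw [Matrix.mulVec_single_one]
  simp [Matrix.col, Matrix.one_apply, Pi.single_apply]

end Emb

section Singer

variable [Finite F]

/-- An element of order dividing `q^k - 1` permuting the non-zero vectors transitively. -/
lemma exists_singer (k : ℕ) [NeZero k] :
    ∃ g : GL (Fin k) F, g ^ (Nat.card F ^ k - 1) = 1 ∧
      ∀ v w : Fin k → F, v ≠ 0 → w ≠ 0 →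
        ∃ j : ℕ, ((g ^ j : GL (Fin k) F) : Matrix (Fin k) (Fin k) F) *ᵥ v = w := by
  classical
  obtain ⟨p, hp⟩ := CharP.exists F
  haveI := hp
  haveI : Fact p.Prime := ⟨CharP.char_is_prime F p⟩
  let K := FiniteField.Extension F p k
  let b : Module.Basis (Fin k) F K :=
    (Module.finBasis F K).reindex (finCongr (FiniteField.finrank_extension F p k))
  obtain ⟨g0, hg0⟩ := IsCyclic.exists_generator (α := Kˣ)
  let φ : K →* Matrix (Fin k) (Fin k) F := (Algebra.leftMulMatrix b).toMonoidHom
  refine ⟨Units.map φ g0, ?_, ?_⟩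
  · have h : g0 ^ (Nat.card F ^ k - 1) = 1 := by
      rw [← FiniteField.natCard_extension F p k]
      change g0 ^ (Nat.card K - 1) = 1
      rw [← Nat.card_units]
      exact pow_card_eq_one'
    rw [← map_pow, h, map_one]
  · intro v w hv hw
    have hv' : b.equivFun.symm v ≠ 0 := fun h => hv (by
      rw [← b.equivFun.apply_symm_apply v, h, map_zero])
    have hw' : b.equivFun.symm w ≠ 0 := fun h => hw (by
      rw [← b.equivFun.apply_symm_apply w, h, map_zero])
    obtain ⟨j, hj⟩ := mem_powers_iff_mem_zpowers.2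
      (hg0 (Units.mk0 (b.equivFun.symm w / b.equivFun.symm v) (div_ne_zero hw' hv')))
    refine ⟨j, ?_⟩
    have hj' : (g0 : K) ^ j = b.equivFun.symm w / b.equivFun.symm v := by
      simpa using congrArg Units.val hj
    rw [← map_pow, Units.coe_map, Units.val_pow_eq_pow_val, hj']
    have h := Algebra.leftMulMatrix_mulVec_repr b (b.equivFun.symm w / b.equivFun.symm v)
      (b.equivFun.symm v)
    rw [div_mul_cancel₀ _ hv'] at h
    have hv2 : ⇑(b.repr (b.equivFun.symm v)) = v := by
      rw [← Module.Basis.equivFun_apply, LinearEquiv.apply_symm_apply]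
    have hw2 : ⇑(b.repr (b.equivFun.symm w)) = w := by
      rw [← Module.Basis.equivFun_apply, LinearEquiv.apply_symm_apply]
    rw [hv2, hw2] at h
    exact h

end Singer

section Monomial

variable [NeZero n]

/-- The map of the monomial element. -/
def wfun (x : V) : V :=
  Sum.elim (fun j => if j = 0 then -x (Sum.inr (j - 1)) else x (Sum.inl (j - 1)))
    (fun j => if j = 0 then x (Sum.inl (j - 1)) else x (Sum.inr (j - 1)))

lemma exists_monomial :
    ∃ w : Matrix.symplecticGroup (Fin n) F, ∀ x : V, (w : Mat n F) *ᵥ x = wfun x := by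
  let L : V →ₗ[F] V :=
    { toFun := wfun
      map_add' := fun x y => by
        funext s
        rcases s with j | j <;> simp only [wfun, Pi.add_apply, Sum.elim_inl, Sum.elim_inr] <;>
          split_ifs <;> simp [add_comm]
      map_smul' := fun r x => by
        funext s
        rcases s with j | j <;> simp only [wfun, Pi.smul_apply, RingHom.id_apply, Sum.elim_inl,
          Sum.elim_inr] <;> split_ifs <;> simp }
  refine ⟨⟨LinearMap.toMatrix' L, ?_⟩, fun x => LinearMap.toMatrix'_mulVec L x⟩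
  rw [mem_symplectic_iff_form]
  intro u v
  rw [LinearMap.toMatrix'_mulVec, LinearMap.toMatrix'_mulVec, sympForm_eq, sympForm_eq]
  refine Fintype.sum_equiv (Equiv.subRight (1 : Fin n)) _ _ (fun j => ?_)
  simp only [L, LinearMap.coe_mk, AddHom.coe_mk]
  simp only [wfun, Sum.elim_inl, Sum.elim_inr, Equiv.subRight_apply]
  split_ifs <;> ring

lemma wfun_ee (i : Fin n) (hi : i + 1 ≠ 0) : wfun (ee i : V) = ee (i + 1) := by
  funext s
  rcases s with j | j <;> simp only [wfun, ee, Sum.elim_inl, Sum.elim_inr, Pi.single_apply, Pi.zero_apply]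
  · by_cases hj : j = 0
    · rw [if_pos hj, neg_zero, if_neg (fun h => hi (by rw [← h, hj]))]
    · rw [if_neg hj]; simp only [sub_eq_iff_eq_add]
  · by_cases hj : j = 0
    · rw [if_pos hj, if_neg]
      intro h; exact hi (by rw [← h, sub_add_cancel, hj])
    · rw [if_neg hj]

lemma wfun_ff (i : Fin n) (hi : i + 1 ≠ 0) : wfun (ff i : V) = ff (i + 1) := by
  funext s
  rcases s with j | j <;> simp only [wfun, ff, Sum.elim_inl, Sum.elim_inr, Pi.single_apply, Pi.zero_apply]
  · by_cases hj : j = 0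
    · rw [if_pos hj, if_neg, neg_zero]
      intro h; exact hi (by rw [← h, sub_add_cancel, hj])
    · rw [if_neg hj]
  · by_cases hj : j = 0
    · rw [if_pos hj, if_neg (fun h => hi (by rw [← h, hj]))]
    · rw [if_neg hj]; simp only [sub_eq_iff_eq_add]

lemma wfun_ee_last (i : Fin n) (hi : i + 1 = 0) : wfun (ee i : V) = ff 0 := by
  have e : (0 : Fin n) - 1 = i := by rw [← hi, add_sub_cancel_right]
  funext s
  rcases s with j | j <;> simp only [wfun, ee, ff, Sum.elim_inl, Sum.elim_inr, Pi.single_apply, Pi.zero_apply]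
  · by_cases hj : j = 0
    · rw [if_pos hj, neg_zero]
    · rw [if_neg hj, if_neg]
      intro h; exact hj (by rw [← sub_add_cancel j 1, h, hi])
  · by_cases hj : j = 0
    · rw [if_pos hj, if_pos hj, hj, if_pos e]
    · rw [if_neg hj, if_neg hj]

lemma wfun_ff_last (i : Fin n) (hi : i + 1 = 0) : wfun (ff i : V) = -ee 0 := by
  have e : (0 : Fin n) - 1 = i := by rw [← hi, add_sub_cancel_right]
  funext s
  rcases s with j | j <;> simp only [wfun, ee, ff, Sum.elim_inl, Sum.elim_inr, Pi.single_apply, Pi.zero_apply,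
    Pi.neg_apply]
  · by_cases hj : j = 0
    · rw [if_pos hj, if_pos hj, hj, if_pos e]
    · rw [if_neg hj, if_neg hj, neg_zero]
  · by_cases hj : j = 0
    · rw [if_pos hj, neg_zero]
    · rw [if_neg hj, if_neg, neg_zero]
      intro h; exact hj (by rw [← sub_add_cancel j 1, h, hi])

end Monomial

section Criterion

variable [Finite F] [NeZero n]

variable {G : Subgroup (Matrix.symplecticGroup (Fin n) F)}

/-- Full transvection groups on a chain of coordinate vectors and their neighbour sums generate. -/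
theorem eq_top_of_chain (hn : 2 ≤ n)
    (he : ∀ i : Fin n, InPi G (ee i : V)) (hf : ∀ i : Fin n, InPi G (ff i : V))
    (hspan : ∀ x y : F, InPi G (x • ee 0 + y • ee 1 : V))
    (hee : ∀ i : Fin n, i + 1 ≠ 0 → InPi G (ee i + ee (i + 1) : V))
    (hff : ∀ i : Fin n, i + 1 ≠ 0 → InPi G (ff i + ff (i + 1) : V)) : G = ⊤ := by
  classical
  have h01 : (0 : Fin n) ≠ 1 := by
    intro h
    have := congrArg Fin.val h
    rw [Fin.val_zero, Fin.val_one', Nat.mod_eq_of_lt hn] at this
    omega
  have bef : ∀ i j : Fin n, B (ee i) (ff j) = if i = j then (-1 : F) else 0 := by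
    intro i j
    rw [B_ee, ff, Sum.elim_inr, Pi.single_apply]
    split_ifs <;> simp
  have bee : ∀ i j : Fin n, B (ee i) (ee j) = (0 : F) := by
    intro i j
    rw [B_ee, ee, Sum.elim_inr, Pi.zero_apply, neg_zero]
  have bff : ∀ i j : Fin n, B (ff i) (ff j) = (0 : F) := by
    intro i j
    rw [B_ff, ff, Sum.elim_inl, Pi.zero_apply]
  let M2 : Submodule F V := Submodule.span F {ee 0, ee 1}
  have hM2 : ∀ y ∈ M2, InPi G y := by
    intro y hy
    obtain ⟨x, y', rfl⟩ := Submodule.mem_span_pair.1 hy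
    exact hspan x y'
  have he0 : (ee 0 : V) ∈ M2 := Submodule.subset_span (by simp)
  have he1 : (ee 1 : V) ∈ M2 := Submodule.subset_span (by simp)
  have hrad2 : ∀ i, ∀ b ∈ M2, B (ee i : V) b = 0 := by
    intro i b hb
    obtain ⟨x, y', rfl⟩ := Submodule.mem_span_pair.1 hb
    simp [map_add, map_smul, bee, -spB_apply]
  have hne : ∀ i : Fin n, B (ee i) (ff i : V) ≠ (0 : F) := fun i => by
    rw [bef, if_pos rfl]; exact neg_ne_zero.2 one_ne_zero
  let M3 := M2 ⊔ Submodule.span F {(ff 0 : V)}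
  have hM3 : ∀ y ∈ M3, InPi G y :=
    grow hM2 (hf 0) ⟨ee 0, he0, hne 0⟩ (Or.inl ⟨ee 0, he0, hrad2 0, hne 0⟩)
  have he13 : (ee 1 : V) ∈ M3 := Submodule.mem_sup_left he1
  have hrad3 : ∀ b ∈ M3, B (ee 1 : V) b = 0 := by
    intro b hb
    obtain ⟨b', hb', w, hw, rfl⟩ := Submodule.mem_sup.1 hb
    obtain ⟨r, rfl⟩ := Submodule.mem_span_singleton.1 hw
    rw [map_add, map_smul, hrad2 1 b' hb', bef, if_neg h01.symm, smul_zero, add_zero]
  let M4 := M3 ⊔ Submodule.span F {(ff 1 : V)}
  have hM4 : ∀ y ∈ M4, InPi G y :=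
    grow hM3 (hf 1) ⟨ee 1, he13, hne 1⟩ (Or.inl ⟨ee 1, he13, hrad3, hne 1⟩)
  let S : Set (Submodule F V) := {M | M4 ≤ M ∧ ∀ y ∈ M, InPi G y}
  obtain ⟨M, ⟨hM4M, hMPi⟩, hmax⟩ := (wellFounded_gt (α := Submodule F V)).has_min S ⟨M4, le_rfl, hM4⟩
  have he0M : (ee 0 : V) ∈ M := hM4M (Submodule.mem_sup_left (Submodule.mem_sup_left he0))
  have he1M : (ee 1 : V) ∈ M := hM4M (Submodule.mem_sup_left he13)
  have hf0M : (ff 0 : V) ∈ M :=
    hM4M (Submodule.mem_sup_left (Submodule.mem_sup_right (Submodule.mem_span_singleton_self _)))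
  have hf1M : (ff 1 : V) ∈ M := hM4M (Submodule.mem_sup_right (Submodule.mem_span_singleton_self _))
  have hin : ∀ x, InPi G x → (∃ m ∈ M, B m x ≠ 0) → x ∈ M := by
    intro x hx hb
    have hg' := grow hMPi hx hb (Or.inr ⟨ee 0, he0M, ee 1, he1M, bee 0 1, ⟨ff 0, hf0M, hne 0⟩,
      ⟨ff 1, hf1M, hne 1⟩, ⟨ff 0, hf0M, by
        rw [map_add, LinearMap.add_apply, bef, bef, if_pos rfl, if_neg h01.symm, add_zero]
        exact neg_ne_zero.2 one_ne_zero⟩⟩)
    by_contra hxM
    exact hmax (M ⊔ Submodule.span F {x}) ⟨hM4M.trans le_sup_left, hg'⟩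
      (lt_of_le_of_ne le_sup_left fun he' => hxM (he' ▸ Submodule.mem_sup_right
        (Submodule.mem_span_singleton_self x)))
  have hall : ∀ k : ℕ, ∀ i : Fin n, (i : ℕ) = k → (ee i : V) ∈ M ∧ (ff i : V) ∈ M := by
    intro k
    induction k with
    | zero =>
      intro i hi
      obtain rfl : i = 0 := Fin.ext (by simpa using hi)
      exact ⟨he0M, hf0M⟩
    | succ k ih =>
      intro i hi
      obtain ⟨i', hi'⟩ : ∃ i' : Fin n, (i' : ℕ) = k := ⟨⟨k, by omega⟩, rfl⟩
      have hii : i = i' + 1 := Fin.ext (by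
        rw [Fin.val_add, hi', Fin.val_one', Nat.mod_eq_of_lt hn, hi, Nat.mod_eq_of_lt (by omega)])
      have hne' : i' + 1 ≠ 0 := fun h => by rw [← hii] at h; rw [h, Fin.val_zero] at hi; omega
      have hd : i ≠ i' := fun h => by rw [h, hi'] at hi; omega
      obtain ⟨hem, hfm⟩ := ih i' hi'
      have h1 : (ee i' + ee (i' + 1) : V) ∈ M := by
        refine hin _ (hee i' hne') ⟨ff i', hfm, ?_⟩
        rw [← hii, B_ff, Pi.add_apply, ee, ee, Sum.elim_inl, Sum.elim_inl, Pi.single_eq_same,
          Pi.single_eq_of_ne hd.symm, add_zero]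
        exact one_ne_zero
      have h2 : (ff i' + ff (i' + 1) : V) ∈ M := by
        refine hin _ (hff i' hne') ⟨ee i', hem, ?_⟩
        rw [map_add, ← hii, bef, bef, if_pos rfl, if_neg hd.symm, add_zero]
        exact neg_ne_zero.2 one_ne_zero
      rw [hii]
      exact ⟨(M.add_mem_iff_right hem).1 h1, (M.add_mem_iff_right hfm).1 h2⟩
  have hMtop : M = ⊤ := by
    rw [← top_le_iff, ← (Pi.basisFun F (Fin n ⊕ Fin n)).span_eq, Submodule.span_le]
    rintro _ ⟨s, rfl⟩
    rw [Pi.basisFun_apply]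
    rcases s with i | i
    · have : (Pi.single (Sum.inl i) 1 : V) = ee i := by
        funext s; rcases s with j | j <;> simp [ee, Pi.single_apply]
      rw [this]; exact (hall i i rfl).1
    · have : (Pi.single (Sum.inr i) 1 : V) = ff i := by
        funext s; rcases s with j | j <;> simp [ff, Pi.single_apply]
      rw [this]; exact (hall i i rfl).2
  rw [← top_le_iff, ← closure_TSet n F, Subgroup.closure_le]
  rintro _ ⟨w, t, rfl⟩
  exact hMPi w (hMtop ▸ Submodule.mem_top) t

end Criterion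

section Main

variable [Finite F]

/-- A transvection and scalings of its vector give the whole root group. -/
lemma inPi_of_scaled {G : Subgroup (Matrix.symplecticGroup (Fin n) F)} {y : V}
    (h : ∀ r : F, r ≠ 0 → InZ G (1 : F) (r • y)) : InPi G y := by
  classical
  obtain ⟨g0, hg0⟩ := IsCyclic.exists_generator (α := Fˣ)
  let R : AddSubgroup F :=
    { carrier := {t | ∀ r : F, r ≠ 0 → T (r • y) t ∈ G}
      zero_mem' := fun r _ => by rw [T_zero]; exact G.one_mem
      add_mem' := fun h1 h2 r hr => by rw [← T_mul]; exact G.mul_mem (h1 r hr) (h2 r hr)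
      neg_mem' := fun h1 r hr => by rw [← T_inv]; exact G.inv_mem (h1 r hr) }
  have hgen : ∀ x : F, x ≠ 0 → ∃ k : ℕ, x ^ 2 = ((g0 : F) ^ 2) ^ k := by
    intro x hx
    obtain ⟨k, hk⟩ := mem_powers_iff_mem_zpowers.2 (hg0 (Units.mk0 x hx))
    refine ⟨k, ?_⟩
    rw [← pow_mul, mul_comm, pow_mul]
    congr 1
    simpa using (congrArg Units.val hk).symm
  have hall := all_of_closed (one_ne_zero (α := F)) hgen R (fun r hr => h r hr) (fun s hs r hr => by
    have h1 := hs (r * g0) (mul_ne_zero hr g0.ne_zero)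
    rw [T_smul] at h1
    rw [T_smul, show r ^ 2 * (-((g0 : F) ^ 2) * s) = -((r * g0) ^ 2 * s) by ring, ← T_inv]
    exact G.inv_mem h1)
  intro t
  simpa using hall t 1 one_ne_zero

theorem exists_two (hn : 2 ≤ n) (h22 : n = 2 → 2 < Nat.card F) :
    ∃ a b : Matrix.symplecticGroup (Fin n) F,
      Subgroup.closure ({a, b} : Set (Matrix.symplecticGroup (Fin n) F)) = ⊤ := by
  classical
  haveI : NeZero n := ⟨by omega⟩
  obtain ⟨m, hm⟩ : ∃ m, n = m + 2 := ⟨n - 2, by omega⟩
  let k : ℕ := if n = 2 then 1 else 2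
  haveI : NeZero k := ⟨by simp only [k]; split_ifs <;> omega⟩
  have hk : k + 1 ≤ n := by simp only [k]; split_ifs <;> omega
  let ι : Fin k → Fin n := fun j => ⟨(j : ℕ) + 1, by have := j.2; omega⟩
  have hι : Function.Injective ι := fun i j h => Fin.ext (by simpa [ι] using congrArg Fin.val h)
  have hv1 : ((1 : Fin n) : ℕ) = 1 := by rw [Fin.val_one', Nat.mod_eq_of_lt (by omega)]
  have h01 : (0 : Fin n) ≠ 1 := fun h => by
    have := congrArg Fin.val h; rw [Fin.val_zero, hv1] at this; omega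
  have hι0 : ι 0 = 1 := Fin.ext (by rw [hv1]; simp [ι])
  have hιne : ∀ j, ι j ≠ 0 := fun j h => by simpa [ι] using congrArg Fin.val h
  obtain ⟨g, hgord, hgtr⟩ := exists_singer (F := F) k
  let g' : GL (Fin n) F := Units.map (emb ι hι) g
  let h : Matrix.symplecticGroup (Fin n) F := levi g'
  obtain ⟨w, hw⟩ := exists_monomial (F := F) (n := n)
  have hA : ∀ (x : F) (i j : Fin n), i ≠ j →
      ∀ M : Matrix (Fin n) (Fin n) F, M = 1 + Matrix.single i j x →
      M * (1 + Matrix.single i j (-x)) = 1 := by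
    intro x i j hij M hM
    subst hM
    simp [add_mul, mul_add, Matrix.single_mul_single_of_ne _ _ _ _ hij.symm, add_assoc, ← Matrix.single_add]
  let L : GL (Fin n) F := if n = 2 then
    ⟨1 + Matrix.single 1 0 (-1), 1 + Matrix.single 1 0 1,
      by simpa using hA (-1) 1 0 h01.symm _ rfl, by simpa using hA 1 1 0 h01.symm _ rfl⟩ else 1
  let b : Matrix.symplecticGroup (Fin n) F := levi L * w
  let a : Matrix.symplecticGroup (Fin n) F := T (ee 0) 1 * h
  refine ⟨a, b, ?_⟩
  set G := Subgroup.closure ({a, b} : Set (Matrix.symplecticGroup (Fin n) F)) with hG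
  have haG : a ∈ G := Subgroup.subset_closure (by simp)
  have hbG : b ∈ G := Subgroup.subset_closure (by simp)
  -- separation of the two commuting factors
  have hh0 : (h : Mat n F) *ᵥ ee 0 = ee 0 := by
    rw [levi_ee, show ((g' : GL (Fin n) F) : Matrix (Fin n) (Fin n) F) = emb ι hι g from rfl,
      emb_single ι hι _ _ hιne]
    rfl
  have hcomm : Commute (T (ee 0) (1 : F)) h := by
    have h1 := T_conj h (ee 0) (1 : F)
    rw [hh0, mul_inv_eq_iff_eq_mul] at h1
    exact h1.symm
  have hTpow : ∀ j : ℕ, T (ee 0 : V) (1 : F) ^ j = T (ee 0) (j : F) := by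
    intro j
    induction j with
    | zero => rw [pow_zero, Nat.cast_zero, T_zero]
    | succ j ih => rw [pow_succ, ih, T_mul, Nat.cast_succ]
  have hcard0 : (Nat.card F : F) = 0 := by
    haveI := Fintype.ofFinite F
    rw [Nat.card_eq_fintype_card, FiniteField.cast_card_eq_zero]
  have hT0 : T (ee 0 : V) (1 : F) ∈ G := by
    have h1 := G.pow_mem haG (Nat.card F ^ k - 1)
    rw [hcomm.mul_pow, hTpow, show h ^ (Nat.card F ^ k - 1) = 1 by
      rw [← map_pow, ← map_pow, hgord, map_one, map_one], mul_one] at h1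
    rw [Nat.cast_sub (Nat.one_le_pow _ _ Nat.card_pos), Nat.cast_pow, hcard0, zero_pow (NeZero.ne k),
      Nat.cast_one, zero_sub] at h1
    have h2 := G.inv_mem h1
    rwa [T_inv, neg_neg] at h2
  have hhG : h ∈ G := by
    have := G.mul_mem (G.inv_mem hT0) haG
    rwa [inv_mul_cancel_left] at this
  -- powers of h act transitively on the coordinate subspace
  have hP : ∀ v w' : Fin k → F, v ≠ 0 → w' ≠ 0 → ∃ j : ℕ, ((h ^ j : Matrix.symplecticGroup (Fin n) F) : Mat n F) *ᵥ
      Sum.elim ((1 : Matrix (Fin n) (Fin n) F).submatrix id ι *ᵥ v) 0 =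
      Sum.elim ((1 : Matrix (Fin n) (Fin n) F).submatrix id ι *ᵥ w') 0 := by
    intro v w' hv hw'
    obtain ⟨j, hj⟩ := hgtr v w' hv hw'
    refine ⟨j, ?_⟩
    rw [← map_pow, ← map_pow, levi_apply, Sum.elim_comp_inl, Sum.elim_comp_inr, Matrix.mulVec_zero,
      Units.coe_map, emb_image, hj]
  have hb0 : (b : Mat n F) *ᵥ ee 0 = ee 1 := by
    rw [SpEngine.coe_mul_mulVec, hw, wfun_ee 0 (by rw [zero_add]; exact h01.symm), zero_add, levi_ee]
    simp only [L]
    split_ifs
    · rw [Units.val_mk, Matrix.add_mulVec, Matrix.one_mulVec]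
      simp [Matrix.mulVec, dotProduct, Matrix.single_apply, Pi.single_apply, ee, funext_iff, h01]
    · rw [Units.val_one, Matrix.one_mulVec]; rfl
  have hsum1 : (ee 1 : V) = Sum.elim ((1 : Matrix (Fin n) (Fin n) F).submatrix id ι *ᵥ Pi.single 0 1) 0 := by
    rw [image_single, hι0]; rfl
  have hcoord : ∀ v : Fin k → F, v ≠ 0 →
      InPi G (Sum.elim ((1 : Matrix (Fin n) (Fin n) F).submatrix id ι *ᵥ v) 0 : V) := by
    intro v hv
    refine inPi_of_scaled fun r hr => ?_
    have h1 : InZ G (1 : F) (ee 1 : V) := by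
      have h1 := (show InZ G (1 : F) (ee 0 : V) from hT0).conj hbG
      rwa [hb0] at h1
    obtain ⟨j, hj⟩ := hP (Pi.single 0 1) (r • v) (by simp) (smul_ne_zero hr hv)
    have h2 := h1.conj (G.pow_mem hhG j)
    rw [hsum1, hj, Matrix.mulVec_smul] at h2
    convert h2 using 1
    funext s; rcases s with i | i <;> simp
  have hp1 : InPi G (ee 1 : V) := by rw [hsum1]; exact hcoord _ (by simp)
  have hp0 : InPi G (ee 0 : V) := by
    have h1 := hp1.conj (G.inv_mem hbG)
    rwa [← hb0, ← SpEngine.coe_mul_mulVec, inv_mul_cancel, Submonoid.coe_one, Matrix.one_mulVec] at h1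
  have hspan_of : InPi G (ee 0 + ee 1 : V) → (∀ x y : F, InPi G (x • ee 0 + y • ee 1 : V)) := by
    intro hs x y t
    have hbb : B (ee 0 : V) (ee 1) = (0 : F) := by
      rw [B_ee, ee, Sum.elim_inr, Pi.zero_apply, neg_zero]
    have hEl : El (ee 0) (ee 1) (x * y * t) 0 ∈ G := by
      rw [El, add_comm (ee 1 : V)]
      exact G.mul_mem (G.mul_mem (hs _) (hp1 _)) (hp0 _)
    have := G.mul_mem (G.mul_mem (hp0 (x ^ 2 * t)) (hp1 (y ^ 2 * t))) hEl
    convert this using 1
    refine sp_ext fun v => ?_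
    simp only [SpEngine.coe_mul_mulVec, El_apply hbb, SpEngine.T_apply, map_add, map_smul, LinearMap.add_apply,
      LinearMap.smul_apply, bself, hbb, bzero_symm hbb, smul_eq_mul, mul_zero, add_zero]
    module
  by_cases h2 : n = 2
  · subst h2
    have hL : (L : Matrix (Fin 2) (Fin 2) F) = 1 + Matrix.single 1 0 (-1) := rfl
    have hLi : ((L⁻¹ : GL (Fin 2) F) : Matrix (Fin 2) (Fin 2) F) = 1 + Matrix.single 1 0 1 := rfl
    have hb1 : (b : Mat 2 F) *ᵥ ee 1 = ff 0 := by
      rw [SpEngine.coe_mul_mulVec, hw, wfun_ee_last 1 rfl, levi_apply, hLi]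
      funext s
      rcases s with i | i <;> fin_cases i <;> simp [ff, Matrix.mulVec, dotProduct, Fin.sum_univ_two]
    have hbf0 : (b : Mat 2 F) *ᵥ ff 0 = ff 0 + ff 1 := by
      rw [SpEngine.coe_mul_mulVec, hw, wfun_ff 0 (by simp), levi_apply, hLi]
      funext s
      rcases s with i | i <;> fin_cases i <;>
        simp [ff, Matrix.mulVec, dotProduct, Fin.sum_univ_two, Matrix.single_apply]
    have hpf0 : InPi G (ff 0 : (Fin 2 ⊕ Fin 2 → F)) := by have := hp1.conj hbG; rwa [hb1] at this
    have hpf01 : InPi G (ff 0 + ff 1 : (Fin 2 ⊕ Fin 2 → F)) := by have := hpf0.conj hbG; rwa [hbf0] at this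
    obtain ⟨s, hs0, hs1⟩ : ∃ s : F, s ≠ 0 ∧ s ≠ -1 := by
      haveI := Fintype.ofFinite F
      by_contra hcon
      push Not at hcon
      have : Finset.univ ⊆ ({0, -1} : Finset F) := fun x _ => by
        by_cases hx : x = 0
        · simp [hx]
        · simp [hcon x hx]
      have h3 := (Finset.card_le_card this).trans Finset.card_le_two
      rw [Finset.card_univ, ← Nat.card_eq_fintype_card] at h3
      have := h22 rfl
      omega
    have hs01 : InPi G (ee 0 + s • ee 1 : (Fin 2 ⊕ Fin 2 → F)) := by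
      have e0 : spB 2 F (ee 0) (ff 0 + ff 1 : (Fin 2 ⊕ Fin 2 → F)) = (-1 : F) := by simp [B_ee, ff, -spB_apply]
      have e1 : spB 2 F (ee 1) (ff 0 + ff 1 : (Fin 2 ⊕ Fin 2 → F)) = (-1 : F) := by simp [B_ee, ff, -spB_apply]
      have eb : spB 2 F (ee 0) (ee 1 : (Fin 2 ⊕ Fin 2 → F)) = (0 : F) := by rw [B_ee]; simp [ee]
      have h3 := hp0.add hpf01 (by rw [e0]; exact neg_ne_zero.2 one_ne_zero)
      have h4 := (hp1.smul s).add (hpf01.smul (-1)) (by
        rw [map_smul, map_smul, LinearMap.smul_apply, e1]; simpa using hs0)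
      generalize (ff 0 + ff 1 : (Fin 2 ⊕ Fin 2 → F)) = Y at e0 e1 h3 h4
      have h5 := h3.add h4 (by
        simp only [map_add, map_smul, LinearMap.add_apply, eb, e0, bswap Y (ee 1), e1, bself,
          smul_eq_mul]
        intro h6; exact hs1 (by linear_combination h6))
      convert h5 using 1
      module
    have hspan := hspan_of (by
      obtain ⟨j, hj⟩ := hP (s • Pi.single 0 1) (Pi.single 0 1) (smul_ne_zero hs0 (by simp)) (by simp)
      have h7 := hs01.conj (G.pow_mem hhG j)
      have hh0j : ∀ i : ℕ, ((h ^ i : Matrix.symplecticGroup (Fin 2) F) : Mat 2 F) *ᵥ ee 0 = ee 0 := by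
        intro i
        induction i with
        | zero => rw [pow_zero, Submonoid.coe_one, Matrix.one_mulVec]
        | succ i ih => rw [pow_succ, SpEngine.coe_mul_mulVec, hh0, ih]
      rw [← hsum1, Matrix.mulVec_smul, show Sum.elim (s • ((1 : Matrix (Fin 2) (Fin 2) F).submatrix id ι *ᵥ
        Pi.single 0 1)) 0 = s • (ee 1 : (Fin 2 ⊕ Fin 2 → F)) by rw [hsum1]; funext u; rcases u with i | i <;> simp] at hj
      rwa [Matrix.mulVec_add, hh0j, hj] at h7)
    have hpf1 : InPi G (ff 1 : (Fin 2 ⊕ Fin 2 → F)) := by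
      have h8 := hspan 1 (-1)
      have h9 : (b : Mat 2 F) *ᵥ ff 1 = -((1 : F) • ee 0 + (-1 : F) • ee 1) := by
        rw [SpEngine.coe_mul_mulVec, hw, wfun_ff_last 1 rfl, Matrix.mulVec_neg, levi_ee, hL]
        congr 1
        funext s
        rcases s with i | i <;> fin_cases i <;>
          simp [ee, Matrix.mulVec, dotProduct, Fin.sum_univ_two, Matrix.single_apply]
      have h10 := (h8.smul (-1)).conj (G.inv_mem hbG)
      rwa [neg_one_smul, ← h9, ← SpEngine.coe_mul_mulVec, inv_mul_cancel, Submonoid.coe_one,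
        Matrix.one_mulVec] at h10
    refine eq_top_of_chain le_rfl (fun i => ?_) (fun i => ?_) hspan (fun i hi => ?_) (fun i hi => ?_)
    · fin_cases i; exacts [hp0, hp1]
    · fin_cases i; exacts [hpf0, hpf1]
    · fin_cases i
      · simpa using hspan 1 1
      · exact absurd rfl hi
    · fin_cases i
      · exact hpf01
      · exact absurd rfl hi
  · have hk2 : k = 2 := if_neg h2
    have hbw : ∀ x : V, (b : Mat n F) *ᵥ x = wfun x := fun x => by
      rw [SpEngine.coe_mul_mulVec, hw, show L = 1 from if_neg h2, map_one, Submonoid.coe_one, Matrix.one_mulVec]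
    have hne2 : (1 : Fin n) + 1 ≠ 0 := fun h => by
      have := congrArg Fin.val h
      rw [Fin.val_add, hv1, Nat.mod_eq_of_lt (by omega), Fin.val_zero] at this; omega
    let j1 : Fin k := ⟨1, by omega⟩
    have hι1 : ι j1 = 1 + 1 := Fin.ext (by
      rw [Fin.val_add, hv1, Nat.mod_eq_of_lt (by omega)])
    have h12 : InPi G (ee 1 + ee (1 + 1) : V) := by
      have hne : (Pi.single 0 1 + Pi.single j1 1 : Fin k → F) ≠ 0 := fun h => by
        have := congrFun h 0
        rw [Pi.add_apply, Pi.single_eq_same, Pi.single_eq_of_ne (by intro h'; simpa [j1] using congrArg Fin.val h'),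
          add_zero, Pi.zero_apply] at this
        exact one_ne_zero this
      have := hcoord _ hne
      rw [Matrix.mulVec_add, image_single, image_single, hι0, hι1] at this
      convert this using 1
      funext s; rcases s with i | i <;> simp only [ee, Pi.add_apply, Sum.elim_inl, Sum.elim_inr, Pi.zero_apply,
        add_zero]
    have h01' : InPi G (ee 0 + ee 1 : V) := by
      have h1 := h12.conj (G.inv_mem hbG)
      have e : (b : Mat n F) *ᵥ (ee 0 + ee 1) = ee 1 + ee (1 + 1) := by
        rw [Matrix.mulVec_add, hbw, hbw, wfun_ee 0 (by rw [zero_add]; exact h01.symm), zero_add, wfun_ee 1 hne2]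
      rwa [← e, ← SpEngine.coe_mul_mulVec, inv_mul_cancel, Submonoid.coe_one, Matrix.one_mulVec] at h1
    have hnext : ∀ j : ℕ, j + 1 < n → ∀ i : Fin n, (i : ℕ) = j + 1 → ∃ i' : Fin n, (i' : ℕ) = j ∧
        i' + 1 = i ∧ i' + 1 ≠ 0 := by
      intro j hj i hi
      refine ⟨⟨j, by omega⟩, rfl, ?_, ?_⟩
      · exact Fin.ext (by rw [Fin.val_add, hv1, hi, Nat.mod_eq_of_lt (by omega)])
      · intro h
        have := congrArg Fin.val h
        rw [Fin.val_add, hv1, Nat.mod_eq_of_lt (by omega), Fin.val_zero] at this; omega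
    have hEall : ∀ j : ℕ, ∀ i : Fin n, (i : ℕ) = j →
        InPi G (ee i : V) ∧ (i + 1 ≠ 0 → InPi G (ee i + ee (i + 1) : V)) := by
      intro j
      induction j with
      | zero =>
        intro i hi
        obtain rfl : i = 0 := Fin.ext (by simpa using hi)
        exact ⟨hp0, fun _ => by rwa [zero_add]⟩
      | succ j ih =>
        intro i hi
        obtain ⟨i', hi', rfl, hne'⟩ := hnext j (by omega) i hi
        obtain ⟨h1, h1'⟩ := ih i' hi'
        refine ⟨?_, fun hne'' => ?_⟩
        · have := h1.conj hbG; rwa [hbw, wfun_ee _ hne'] at this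
        · have := (h1' hne').conj hbG
          rwa [Matrix.mulVec_add, hbw, hbw, wfun_ee _ hne', wfun_ee _ hne''] at this
    obtain ⟨il, hil⟩ : ∃ il : Fin n, (il : ℕ) = n - 1 := ⟨⟨n - 1, by omega⟩, rfl⟩
    obtain ⟨ik, hik, hiki, hikne⟩ := hnext (n - 2) (by omega) il (by omega)
    have hlast : il + 1 = 0 := Fin.ext (by
      rw [Fin.val_add, hv1, hil, Nat.sub_add_cancel (by omega), Nat.mod_self, Fin.val_zero])
    have hf0 : InPi G (ff 0 : V) := by
      have := ((hEall _ il hil).1).conj hbG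
      rwa [hbw, wfun_ee_last _ hlast] at this
    have hef : InPi G (ff 0 + ff 1 : V) := by
      have h1 := ((hEall _ ik hik).2 hikne).conj hbG
      rw [Matrix.mulVec_add, hiki, hbw, hbw, wfun_ee _ hikne, hiki, wfun_ee_last _ hlast] at h1
      have h2 := h1.conj hbG
      rw [Matrix.mulVec_add, hbw, hbw, wfun_ee_last _ hlast, wfun_ff 0 (by rw [zero_add]; exact h01.symm),
        zero_add] at h2
      exact h2
    have hFall : ∀ j : ℕ, ∀ i : Fin n, (i : ℕ) = j →
        InPi G (ff i : V) ∧ (i + 1 ≠ 0 → InPi G (ff i + ff (i + 1) : V)) := by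
      intro j
      induction j with
      | zero =>
        intro i hi
        obtain rfl : i = 0 := Fin.ext (by simpa using hi)
        exact ⟨hf0, fun _ => by rwa [zero_add]⟩
      | succ j ih =>
        intro i hi
        obtain ⟨i', hi', rfl, hne'⟩ := hnext j (by omega) i hi
        obtain ⟨h1, h1'⟩ := ih i' hi'
        refine ⟨?_, fun hne'' => ?_⟩
        · have := h1.conj hbG; rwa [hbw, wfun_ff _ hne'] at this
        · have := (h1' hne').conj hbG
          rwa [Matrix.mulVec_add, hbw, hbw, wfun_ff _ hne', wfun_ff _ hne''] at this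
    exact eq_top_of_chain hn (fun i => (hEall _ i rfl).1) (fun i => (hFall _ i rfl).1) (hspan_of h01')
      (fun i => (hEall _ i rfl).2) (fun i => (hFall _ i rfl).2)

/-- The image statement in the projective group. -/
theorem psp_two (hn : 2 ≤ n) (h22 : n = 2 → 2 < Nat.card F) :
    ∃ a b : Cfsg.PSp n F, Subgroup.closure ({a, b} : Set (Cfsg.PSp n F)) = ⊤ := by
  obtain ⟨a, b, hab⟩ := exists_two hn h22
  refine ⟨QuotientGroup.mk' _ a, QuotientGroup.mk' _ b, ?_⟩
  have := congrArg (Subgroup.map (QuotientGroup.mk' (Subgroup.center (Matrix.symplecticGroup (Fin n) F)))) hab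
  rwa [MonoidHom.map_closure, Set.image_insert_eq, Set.image_singleton,
    Subgroup.map_top_of_surjective _ (QuotientGroup.mk'_surjective _)] at this

end Main

end Cfsg.Agent.H55.SpTwoGen
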