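/-
The twisted tensor module of SL(2, 3^k) and its affine group.
-/
import Cfsg.Agent.H55.SLTwoClasses

set_option autoImplicit false
set_option linter.unusedSectionVars false

namespace Cfsg.Agent.H55.Twist

open Matrix Cfsg.Agent.Linear Cfsg.Agent.H55

variable {F : Type} [Field F] [Fintype F] [CharP F 3]

local notation "M2" => Matrix (Fin 2) (Fin 2) F
local notation "S2" => Matrix.SpecialLinearGroup (Fin 2) F

/-- The cube map. -/
noncomputable def cube (F : Type) [Field F] [CharP F 3] : F →+* F :=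
  haveI : Fact (Nat.Prime 3) := ⟨Nat.prime_three⟩
  frobenius F 3

theorem cube_apply (x : F) : cube F x = x ^ 3 := by
  have : Fact (Nat.Prime 3) := ⟨Nat.prime_three⟩
  exact frobenius_def 3 x

/-- The twist of a matrix of determinant one. -/
noncomputable def tw (g : S2) : M2 := ((g : M2).map (cube F)).transpose

theorem tw_mul (g h : S2) : tw (g * h) = tw h * tw g := by
  simp [tw, Matrix.map_mul, Matrix.transpose_mul]

theorem tw_one : tw (1 : S2) = 1 := by simp [tw]

theorem sgn_sq (e : ℤˣ) : ((e : ℤ) : F) * ((e : ℤ) : F) = 1 := by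
  rcases Int.units_eq_one_or e with rfl | rfl <;> simp

/-- The action, as an additive equivalence. -/
noncomputable def act (x : S2 × ℤˣ) : M2 ≃+ M2 where
  toFun M := ((x.2 : ℤ) : F) • ((x.1 : M2) * M * tw x.1)
  invFun M := ((x.2 : ℤ) : F) • ((((x.1)⁻¹ : S2) : M2) * M * tw (x.1)⁻¹)
  left_inv M := by
    beta_reduce
    rw [Matrix.mul_smul, Matrix.smul_mul, smul_smul, sgn_sq, one_smul, ← mul_assoc, ← mul_assoc,
      ← Matrix.SpecialLinearGroup.coe_mul, inv_mul_cancel, Matrix.SpecialLinearGroup.coe_one,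
      one_mul, mul_assoc, ← tw_mul, inv_mul_cancel, tw_one, mul_one]
  right_inv M := by
    beta_reduce
    rw [Matrix.mul_smul, Matrix.smul_mul, smul_smul, sgn_sq, one_smul, ← mul_assoc, ← mul_assoc,
      ← Matrix.SpecialLinearGroup.coe_mul, mul_inv_cancel, Matrix.SpecialLinearGroup.coe_one,
      one_mul, mul_assoc, ← tw_mul, mul_inv_cancel, tw_one, mul_one]
  map_add' M N := by rw [mul_add, add_mul, smul_add]

theorem act_apply (x : S2 × ℤˣ) (M : M2) :
    act x M = ((x.2 : ℤ) : F) • ((x.1 : M2) * M * tw x.1) := rfl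

theorem act_mul (x y : S2 × ℤˣ) (M : M2) : act (x * y) M = act x (act y M) := by
  simp only [act_apply, Prod.fst_mul, Prod.snd_mul, tw_mul, Matrix.SpecialLinearGroup.coe_mul,
    Matrix.mul_smul, Matrix.smul_mul, smul_smul, Units.val_mul, Int.cast_mul, mul_assoc]

/-- The representation. -/
noncomputable def rho : S2 × ℤˣ →* MulAut (Multiplicative M2) :=
  MonoidHom.mk' (fun x => (act x).toMultiplicative) fun x y =>
    MulEquiv.ext fun M => congrArg Multiplicative.ofAdd (act_mul x y (Multiplicative.toAdd M))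

theorem rho_apply (x : S2 × ℤˣ) (v : Multiplicative M2) :
    Multiplicative.toAdd (rho x v) = act x (Multiplicative.toAdd v) := rfl

/-- The point group. -/
noncomputable abbrev R (F : Type) [Field F] [Fintype F] [CharP F 3] :
    Subgroup (MulAut (Multiplicative (Matrix (Fin 2) (Fin 2) F))) :=
  (rho (F := F)).range

/-- The affine group. -/
abbrev H (F : Type) [Field F] [Fintype F] [CharP F 3] :=
  Multiplicative (Matrix (Fin 2) (Fin 2) F) ⋊[(R F).subtype] (R F)

instance : Finite (H F) := Finite.of_equiv _ SemidirectProduct.equivProd.symm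

/-- An element of the affine group. -/
noncomputable def elt (v : M2) (x : S2 × ℤˣ) : H F := ⟨Multiplicative.ofAdd v, ⟨rho x, x, rfl⟩⟩

theorem elt_surj (h : H F) : ∃ v x, h = elt v x := by
  obtain ⟨v, ⟨r, x, rfl⟩⟩ := h
  exact ⟨Multiplicative.toAdd v, x, rfl⟩

theorem right_pow (v : M2) (x : S2 × ℤˣ) (n : ℕ) :
    (((elt v x) ^ n).right : MulAut (Multiplicative M2)) = rho (x ^ n) := by
  induction n with
  | zero => simp
  | succ n ih =>
    rw [pow_succ, pow_succ, SemidirectProduct.mul_right, Subgroup.coe_mul, ih, map_mul]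
    rfl

/-- The translation part of a power. -/
noncomputable def lp (v : M2) (x : S2 × ℤˣ) (n : ℕ) : M2 :=
  Multiplicative.toAdd ((elt v x) ^ n).left

theorem lp_zero (v : M2) (x : S2 × ℤˣ) : lp v x 0 = 0 := by simp [lp]

theorem lp_add (v : M2) (x : S2 × ℤˣ) (a b : ℕ) :
    lp v x (a + b) = lp v x a + act (x ^ a) (lp v x b) := by
  unfold lp
  rw [pow_add, SemidirectProduct.mul_left, toAdd_mul, Subgroup.subtype_apply, right_pow, rho_apply]

theorem lp_one (v : M2) (x : S2 × ℤˣ) : lp v x 1 = v := by simp [lp, elt]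

theorem pow_eq_one_of (v : M2) (x : S2 × ℤˣ) {n : ℕ} (h1 : rho (x ^ n) = 1) (h2 : lp v x n = 0) :
    elt v x ^ n = 1 :=
  SemidirectProduct.ext (Multiplicative.toAdd.injective h2) (Subtype.ext ((right_pow v x n).trans h1))

theorem act_eq_self_of (x : S2 × ℤˣ) (h : rho x = 1) (M : M2) : act x M = M := by
  rw [← toAdd_ofAdd M, ← rho_apply, h]; rfl

theorem rho_eq_one_of (x : S2 × ℤˣ) (h : ∀ M, act x M = M) : rho x = 1 :=
  MulEquiv.ext fun v => congrArg Multiplicative.ofAdd (h (Multiplicative.toAdd v))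

/-- Without fixed points the order does not grow. -/
theorem pow_eq_one_of_fpf (v : M2) (x : S2 × ℤˣ) {n : ℕ} (h1 : rho (x ^ n) = 1)
    (hfix : ∀ M, act x M = M → M = 0) : elt v x ^ n = 1 := by
  refine pow_eq_one_of v x h1 (hfix _ ?_)
  have ha := lp_add v x 1 n
  rw [lp_one, pow_one, add_comm 1 n, lp_add, lp_one, act_eq_self_of _ h1, add_comm] at ha
  exact (add_left_cancel ha).symm

theorem three_smul_zero (w : M2) : w + (w + w) = 0 := by
  have h3 : (3 : F) = 0 := by exact_mod_cast CharP.cast_eq_zero F 3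
  rw [← two_smul F w]
  calc w + (2 : F) • w = (3 : F) • w := by module
    _ = 0 := by rw [h3, zero_smul]

theorem lp_three_mul (v : M2) (x : S2 × ℤˣ) {n : ℕ} (h1 : rho (x ^ n) = 1) :
    lp v x (n + (n + n)) = 0 := by
  rw [lp_add, lp_add, act_eq_self_of _ h1, act_eq_self_of _ h1]
  exact three_smul_zero _

theorem pow_triple (v : M2) (x : S2 × ℤˣ) {n : ℕ} (h1 : rho (x ^ n) = 1) :
    elt v x ^ (3 * n) = 1 := by
  rw [show 3 * n = n + (n + n) by ring]
  refine pow_eq_one_of v x ?_ (lp_three_mul v x h1)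
  rw [pow_add, pow_add, map_mul, map_mul, h1]
  simp

theorem rho_pm (g : S2) (e : ℤˣ) (hg : g = 1 ∨ g = -1) (M : M2) :
    act (g, e) M = ((e : ℤ) : F) • M := by
  rcases hg with rfl | rfl
  · simp [act_apply, tw_one]
  · rw [act_apply]
    have : tw (-1 : S2) = -1 := by
      rw [tw, Matrix.SpecialLinearGroup.coe_neg, Matrix.SpecialLinearGroup.coe_one,
        Matrix.map_neg _ (map_neg (cube F)), Matrix.map_one _ (map_zero _) (map_one _),
        Matrix.transpose_neg, Matrix.transpose_one]
    simp [this]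

theorem sq_eq (g : S2) : (g : M2) * g = (g : M2).trace • (g : M2) - 1 := by
  have hd := g.2
  rw [Matrix.det_fin_two] at hd
  ext i j
  fin_cases i <;> fin_cases j <;> simp [Matrix.mul_apply, Fin.sum_univ_two, Matrix.trace_fin_two]
  · linear_combination -hd
  · ring
  · ring
  · linear_combination -hd

theorem tw_sq (g : S2) : tw g * tw g = (g : M2).trace ^ 3 • tw g - 1 := by
  have h : ((g : M2).trace • (g : M2) - 1).map (cube F) =
      cube F (g : M2).trace • (g : M2).map (cube F) - 1 := by
    ext i j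
    simp [Matrix.sub_apply, Matrix.one_apply, apply_ite (cube F)]
  unfold tw
  rw [← Matrix.transpose_mul, ← Matrix.map_mul, sq_eq, h, cube_apply, Matrix.transpose_sub,
    Matrix.transpose_smul, Matrix.transpose_one]

end Cfsg.Agent.H55.Twist
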