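import Mathlib
import Cfsg.Agent.Linear.Generation

/-!
`SL_n(F)`, `n ≥ 4`, is generated by two conjugate regular unipotent elements: `u`, the companion matrix
of `(X - 1) ^ n`, and its conjugate by the transvection `1 + λ E_{n-2,n-1}`, where `λ` generates `Fˣ`.
-/

set_option autoImplicit false

namespace Cfsg.Agent.H55.TwoUnipotent

open Matrix Polynomial

variable {F : Type*} [Field F] {n : ℕ}

/-- Standard basis, indexed by naturals. -/
def bv (n : ℕ) (k : ℕ) : Fin n → F := fun i => if (i : ℕ) = k then 1 else 0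

lemma bv_of_ge {k : ℕ} (h : n ≤ k) : (bv n k : Fin n → F) = 0 :=
  funext fun i => if_neg (by omega)

lemma bv_eq_single (i : Fin n) : (bv n (i : ℕ) : Fin n → F) = Pi.single i 1 := by
  funext j
  simp [bv, Pi.single_apply, Fin.ext_iff]

lemma dot_bv (v : Fin n → F) (i : Fin n) : v ⬝ᵥ bv n (i : ℕ) = v i := by
  rw [bv_eq_single, dotProduct_single, mul_one]

lemma bv_dot_bv {j k : ℕ} (hj : j < n) : (bv n j : Fin n → F) ⬝ᵥ bv n k = if j = k then 1 else 0 := by
  rw [dotProduct_comm, show j = ((⟨j, hj⟩ : Fin n) : ℕ) from rfl, dot_bv]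
  simp [bv]

lemma vec_ext {v w : Fin n → F} (h : ∀ k < n, v ⬝ᵥ bv n k = w ⬝ᵥ bv n k) : v = w :=
  funext fun i => by simpa [dot_bv] using h i i.2

lemma sum_bv (v : Fin n → F) : v = ∑ k ∈ Finset.range n, (v ⬝ᵥ bv n k) • (bv n k : Fin n → F) := by
  rw [← Fin.sum_univ_eq_sum_range (fun k => (v ⬝ᵥ bv n k) • (bv n k : Fin n → F)) n]
  funext i
  simp [dot_bv, bv, Finset.sum_apply, Fin.val_inj]

/-- The matrix of `x ↦ x + (ψ x) a`. -/
def tv (a ψ : Fin n → F) : Matrix (Fin n) (Fin n) F := 1 + Matrix.vecMulVec a ψ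

lemma tv_zero (a : Fin n → F) : tv a (0 : Fin n → F) = 1 := by
  simp [tv]

lemma vmv_mul_vmv (a ψ b χ : Fin n → F) :
    Matrix.vecMulVec a ψ * Matrix.vecMulVec b χ = (ψ ⬝ᵥ b) • Matrix.vecMulVec a χ := by
  rw [Matrix.vecMulVec_mul_vecMulVec, Matrix.vecMulVec_smul]

lemma tv_mul_tv_left {a b ψ : Fin n → F} (h : ψ ⬝ᵥ b = 0) : tv a ψ * tv b ψ = tv (a + b) ψ := by
  simp [tv, mul_add, add_mul, vmv_mul_vmv, h, Matrix.add_vecMulVec, add_assoc]

lemma tv_mul_tv_right {a ψ χ : Fin n → F} (h : ψ ⬝ᵥ a = 0) : tv a ψ * tv a χ = tv a (ψ + χ) := by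
  simp [tv, mul_add, add_mul, vmv_mul_vmv, h, Matrix.vecMulVec_add, add_assoc]

lemma conj_tv (g : Matrix.SpecialLinearGroup (Fin n) F) (a ψ : Fin n → F) :
    (g : Matrix (Fin n) (Fin n) F) * tv a ψ * ((g⁻¹ : Matrix.SpecialLinearGroup (Fin n) F) : Matrix (Fin n) (Fin n) F) =
      tv ((g : Matrix (Fin n) (Fin n) F) *ᵥ a)
        (ψ ᵥ* ((g⁻¹ : Matrix.SpecialLinearGroup (Fin n) F) : Matrix (Fin n) (Fin n) F)) := by
  rw [tv, tv, mul_add, mul_one, add_mul, ← Matrix.SpecialLinearGroup.coe_mul, mul_inv_cancel,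
    Matrix.SpecialLinearGroup.coe_one, Matrix.mul_vecMulVec, Matrix.vecMulVec_mul]

section Group

variable (G : Subgroup (Matrix.SpecialLinearGroup (Fin n) F))

/-- Membership for matrices. -/
def MemM (M : Matrix (Fin n) (Fin n) F) : Prop := ∃ g ∈ G, (g : Matrix (Fin n) (Fin n) F) = M

variable {G}

lemma MemM.mul {M N : Matrix (Fin n) (Fin n) F} (h : MemM G M) (h' : MemM G N) : MemM G (M * N) := by
  obtain ⟨g, hg, rfl⟩ := h
  obtain ⟨g', hg', rfl⟩ := h'
  exact ⟨g * g', G.mul_mem hg hg', rfl⟩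

lemma memM_one : MemM G (1 : Matrix (Fin n) (Fin n) F) := ⟨1, G.one_mem, rfl⟩

lemma memM_conj {g : Matrix.SpecialLinearGroup (Fin n) F} (hg : g ∈ G) {a ψ : Fin n → F}
    (h : MemM G (tv a ψ)) :
    MemM G (tv ((g : Matrix (Fin n) (Fin n) F) *ᵥ a)
      (ψ ᵥ* ((g⁻¹ : Matrix.SpecialLinearGroup (Fin n) F) : Matrix (Fin n) (Fin n) F))) := by
  rw [← conj_tv]
  exact MemM.mul (MemM.mul (N := tv a ψ) ⟨g, hg, rfl⟩ h) ⟨g⁻¹, G.inv_mem hg, rfl⟩

/-- The commutator of two transvections. -/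
lemma memM_comm {a ψ b χ : Fin n → F} (hA : MemM G (tv a ψ)) (hB : MemM G (tv b χ))
    (hb : χ ⬝ᵥ b = 0) (hχ : χ ⬝ᵥ a = 0) : MemM G (tv a ((ψ ⬝ᵥ b) • χ)) := by
  obtain ⟨g, hg, hgA⟩ := hA
  obtain ⟨h, hh, hhB⟩ := hB
  refine ⟨g * h * (h * g)⁻¹, G.mul_mem (G.mul_mem hg hh) (G.inv_mem (G.mul_mem hh hg)), ?_⟩
  have key : tv a ((ψ ⬝ᵥ b) • χ) * (tv b χ * tv a ψ) = tv a ψ * tv b χ := by
    simp [tv, mul_add, add_mul, vmv_mul_vmv, Matrix.vecMulVec_smul, hb, hχ]
    abel
  rw [← hgA, ← hhB, ← Matrix.SpecialLinearGroup.coe_mul, ← Matrix.SpecialLinearGroup.coe_mul] at key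
  rw [Matrix.SpecialLinearGroup.coe_mul]
  calc ((g * h : Matrix.SpecialLinearGroup (Fin n) F) : Matrix (Fin n) (Fin n) F) * _
      = tv a ((ψ ⬝ᵥ b) • χ) * ((h * g : Matrix.SpecialLinearGroup (Fin n) F) : Matrix (Fin n) (Fin n) F) *
          (((h * g)⁻¹ : Matrix.SpecialLinearGroup (Fin n) F) : Matrix (Fin n) (Fin n) F) := by rw [key]
    _ = _ := by
      rw [mul_assoc, ← Matrix.SpecialLinearGroup.coe_mul, mul_inv_cancel,
        Matrix.SpecialLinearGroup.coe_one, mul_one]

/-- The parameters of a root. -/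
def Par (G : Subgroup (Matrix.SpecialLinearGroup (Fin n) F)) (i j : ℕ) (t : F) : Prop :=
  MemM G (tv (bv n i : Fin n → F) (t • bv n j))

lemma par_zero (i j : ℕ) : Par G i j (0 : F) := by
  rw [Par, zero_smul, tv_zero]; exact memM_one

lemma par_add {i j : ℕ} (hij : i ≠ j) (hj : j < n) {s t : F} (hs : Par G i j s) (ht : Par G i j t) :
    Par G i j (s + t) := by
  have := hs.mul ht
  rwa [tv_mul_tv_right (by rw [smul_dotProduct, bv_dot_bv hj, if_neg hij.symm, smul_zero]), ← add_smul] at this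

lemma par_neg {i j : ℕ} (hij : i ≠ j) (hj : j < n) {t : F} (ht : Par G i j t) : Par G i j (-t) := by
  obtain ⟨g, hg, he⟩ := ht
  refine ⟨g⁻¹, G.inv_mem hg, ?_⟩
  have h1 : tv (bv n i : Fin n → F) (t • bv n j) * tv (bv n i) ((-t) • bv n j) = 1 := by
    rw [tv_mul_tv_right (by rw [smul_dotProduct, bv_dot_bv hj, if_neg hij.symm, smul_zero]), ← add_smul,
      add_neg_cancel, zero_smul, tv_zero]
  calc ((g⁻¹ : Matrix.SpecialLinearGroup (Fin n) F) : Matrix (Fin n) (Fin n) F)
      = ((g⁻¹ : Matrix.SpecialLinearGroup (Fin n) F) : Matrix (Fin n) (Fin n) F) *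
          ((g : Matrix (Fin n) (Fin n) F) * tv (bv n i) ((-t) • bv n j)) := by rw [he, h1, mul_one]
    _ = _ := by
      rw [← mul_assoc, ← Matrix.SpecialLinearGroup.coe_mul, inv_mul_cancel,
        Matrix.SpecialLinearGroup.coe_one, one_mul]

lemma par_comm {i j k : ℕ} (hik : i ≠ k) (hjk : j ≠ k) (hj : j < n) (hk : k < n) {s t : F}
    (hs : Par G i j s) (ht : Par G j k t) : Par G i k (s * t) := by
  have h := memM_comm hs ht (by rw [smul_dotProduct, bv_dot_bv hk, if_neg hjk.symm, smul_zero])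
    (by rw [smul_dotProduct, bv_dot_bv hk, if_neg hik.symm, smul_zero])
  rwa [smul_dotProduct, bv_dot_bv hj, if_pos rfl, smul_eq_mul, mul_one, smul_smul] at h

lemma memM_support {i m0 : ℕ} {ψ : Fin n → F} (hψ : ∀ m, m ≤ m0 → ψ ⬝ᵥ bv n m = 0)
    (him : i ≤ m0) (h : ∀ m, m0 < m → m < n → ∀ t, Par G i m t) : MemM G (tv (bv n i) ψ) := by
  classical
  have hzero : ∀ s ⊆ Finset.range n, (∑ k ∈ s, (ψ ⬝ᵥ bv n k) • (bv n k : Fin n → F)) ⬝ᵥ bv n i = 0 := by
    intro s hs
    rw [sum_dotProduct]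
    refine Finset.sum_eq_zero fun k hk => ?_
    rw [smul_dotProduct, bv_dot_bv (Finset.mem_range.1 (hs hk))]
    split_ifs with hki
    · rw [hki, hψ i him, zero_smul]
    · rw [smul_zero]
  have main : ∀ s ⊆ Finset.range n,
      MemM G (tv (bv n i) (∑ k ∈ s, (ψ ⬝ᵥ bv n k) • (bv n k : Fin n → F))) := by
    intro s
    induction s using Finset.induction_on with
    | empty => intro _; rw [Finset.sum_empty, tv_zero]; exact memM_one
    | insert k s hk ih =>
      intro hs
      have hs' : s ⊆ Finset.range n := (Finset.subset_insert k s).trans hs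
      have hkn : k < n := Finset.mem_range.1 (hs (Finset.mem_insert_self k s))
      rw [Finset.sum_insert hk, add_comm]
      by_cases hkm : k ≤ m0
      · rw [hψ k hkm, zero_smul, add_zero]; exact ih hs'
      · rw [← tv_mul_tv_right (hzero s hs')]
        exact (ih hs').mul (h k (by omega) hkn _)
  rw [sum_bv ψ]
  exact main _ subset_rfl

end Group

section Levels

/-- Vanishing below the `k`-th diagonal. -/
def Lev (k : ℕ) (X : Matrix (Fin n) (Fin n) F) : Prop :=
  ∀ r c : Fin n, (c : ℕ) < r + k → X r c = 0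

lemma Lev.mono {k l : ℕ} {X : Matrix (Fin n) (Fin n) F} (h : Lev k X) (hl : l ≤ k) : Lev l X :=
  fun r c hc => h r c (by omega)

lemma Lev.add {k : ℕ} {X Y : Matrix (Fin n) (Fin n) F} (h : Lev k X) (h' : Lev k Y) : Lev k (X + Y) :=
  fun r c hc => by rw [Matrix.add_apply, h r c hc, h' r c hc, add_zero]

lemma Lev.sub {k : ℕ} {X Y : Matrix (Fin n) (Fin n) F} (h : Lev k X) (h' : Lev k Y) : Lev k (X - Y) :=
  fun r c hc => by rw [Matrix.sub_apply, h r c hc, h' r c hc, sub_zero]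

lemma Lev.mul {a b : ℕ} {X Y : Matrix (Fin n) (Fin n) F} (h : Lev a X) (h' : Lev b Y) : Lev (a + b) (X * Y) := by
  intro r c hc
  rw [Matrix.mul_apply]
  refine Finset.sum_eq_zero fun m _ => ?_
  by_cases hm : (m : ℕ) < r + a
  · rw [h r m hm, zero_mul]
  · rw [h' m c (by omega), mul_zero]

lemma Lev.mul_apply_diag {a b : ℕ} {X Y : Matrix (Fin n) (Fin n) F} (h : Lev a X) (h' : Lev b Y)
    {r m c : Fin n} (hm : (m : ℕ) = r + a) (hc : (c : ℕ) = r + a + b) : (X * Y) r c = X r m * Y m c := by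
  rw [Matrix.mul_apply, Finset.sum_eq_single m]
  · intro l _ hl
    by_cases hl' : (l : ℕ) < r + a
    · rw [h r l hl', zero_mul]
    · have : (l : ℕ) ≠ r + a := fun he => hl (Fin.ext (he.trans hm.symm))
      rw [h' l c (by omega), mul_zero]
  · intro hm; exact absurd (Finset.mem_univ m) hm

variable [Finite F]

lemma lev_inv {g : Matrix.SpecialLinearGroup (Fin n) F} (hg : Lev 1 ((g : Matrix (Fin n) (Fin n) F) - 1)) :
    Lev 1 (((g⁻¹ : Matrix.SpecialLinearGroup (Fin n) F) : Matrix (Fin n) (Fin n) F) - 1) := by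
  have hfin : IsOfFinOrder g := isOfFinOrder_of_finite g
  rw [show g⁻¹ = g ^ (orderOf g - 1) by
    rw [inv_eq_iff_mul_eq_one, ← pow_succ', Nat.sub_add_cancel hfin.orderOf_pos, pow_orderOf_eq_one]]
  induction orderOf g - 1 with
  | zero => intro r c _; simp
  | succ k ih =>
    rw [pow_succ, Matrix.SpecialLinearGroup.coe_mul]
    have e : ((g ^ k : Matrix.SpecialLinearGroup (Fin n) F) : Matrix (Fin n) (Fin n) F) * g - 1 =
        (((g ^ k : Matrix.SpecialLinearGroup (Fin n) F) : Matrix (Fin n) (Fin n) F) - 1) *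
          ((g : Matrix (Fin n) (Fin n) F) - 1) +
        ((((g ^ k : Matrix.SpecialLinearGroup (Fin n) F) : Matrix (Fin n) (Fin n) F) - 1) +
          ((g : Matrix (Fin n) (Fin n) F) - 1)) := by noncomm_ring
    rw [e]
    exact ((ih.mul hg).mono (by omega)).add (ih.add hg)

/-- The leading entry of a commutator. -/
lemma comm_entry {k : ℕ} {g h : Matrix.SpecialLinearGroup (Fin n) F}
    (hg : Lev k ((g : Matrix (Fin n) (Fin n) F) - 1)) (hk : 1 ≤ k)
    (hh : Lev 1 ((h : Matrix (Fin n) (Fin n) F) - 1)) {z o i j : Fin n}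
    (hz : (z : ℕ) = 0) (ho : (o : ℕ) = 1) (hi : (i : ℕ) = k) (hj : (j : ℕ) = k + 1) :
    Lev (k + 1) (((g * h * (h * g)⁻¹ : Matrix.SpecialLinearGroup (Fin n) F) : Matrix (Fin n) (Fin n) F) - 1) ∧
    (((g * h * (h * g)⁻¹ : Matrix.SpecialLinearGroup (Fin n) F) : Matrix (Fin n) (Fin n) F) - 1) z j =
      ((g : Matrix (Fin n) (Fin n) F) - 1) z i * ((h : Matrix (Fin n) (Fin n) F) - 1) i j -
      ((h : Matrix (Fin n) (Fin n) F) - 1) z o * ((g : Matrix (Fin n) (Fin n) F) - 1) o j := by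
  set X := (g : Matrix (Fin n) (Fin n) F) - 1 with hX
  set Y := (h : Matrix (Fin n) (Fin n) F) - 1 with hY
  have hhg : Lev 1 (((h * g : Matrix.SpecialLinearGroup (Fin n) F) : Matrix (Fin n) (Fin n) F) - 1) := by
    have e : ((h * g : Matrix.SpecialLinearGroup (Fin n) F) : Matrix (Fin n) (Fin n) F) - 1 =
        Y * X + (Y + X) := by
      rw [Matrix.SpecialLinearGroup.coe_mul, hX, hY]; noncomm_ring
    rw [e]
    exact ((hh.mul hg).mono (by omega)).add (hh.add (hg.mono hk))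
  set Q := (((h * g)⁻¹ : Matrix.SpecialLinearGroup (Fin n) F) : Matrix (Fin n) (Fin n) F) - 1 with hQ
  have hQlev : Lev 1 Q := lev_inv hhg
  have hXY : Lev (k + 1) (X * Y) := hg.mul hh
  have hYX : Lev (k + 1) (Y * X) := (hh.mul hg).mono (by omega)
  have hW : Lev (k + 1) (X * Y - Y * X) := hXY.sub hYX
  have e : ((g * h * (h * g)⁻¹ : Matrix.SpecialLinearGroup (Fin n) F) : Matrix (Fin n) (Fin n) F) - 1 =
      (X * Y - Y * X) + (X * Y - Y * X) * Q := by
    have h1 : ((h * g : Matrix.SpecialLinearGroup (Fin n) F) : Matrix (Fin n) (Fin n) F) * (1 + Q) = 1 := by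
      rw [hQ, add_sub_cancel, ← Matrix.SpecialLinearGroup.coe_mul, mul_inv_cancel,
        Matrix.SpecialLinearGroup.coe_one]
    rw [Matrix.SpecialLinearGroup.coe_mul] at h1
    rw [show X * Y - Y * X + (X * Y - Y * X) * Q = (X * Y - Y * X) * (1 + Q) by rw [mul_add, mul_one],
      show X * Y - Y * X = (g : Matrix (Fin n) (Fin n) F) * h - h * g by rw [hX, hY]; noncomm_ring,
      sub_mul, h1, Matrix.SpecialLinearGroup.coe_mul, Matrix.SpecialLinearGroup.coe_mul, hQ, add_sub_cancel]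
  rw [e]
  refine ⟨hW.add ((hW.mul hQlev).mono (by omega)), ?_⟩
  rw [Matrix.add_apply, (hW.mul hQlev) z j (by omega), add_zero, Matrix.sub_apply,
    hg.mul_apply_diag hh (r := z) (m := i) (c := j) (by omega) (by omega),
    hh.mul_apply_diag hg (r := z) (m := o) (c := j) (by omega) (by omega)]

end Levels

section Companion

lemma exists_companion (hn : 1 ≤ n) :
    ∃ u : Matrix.SpecialLinearGroup (Fin n) F,
      (∀ i, i + 1 < n → (u : Matrix (Fin n) (Fin n) F) *ᵥ bv n i = bv n (i + 1)) ∧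
      (u : Matrix (Fin n) (Fin n) F) *ᵥ bv n (n - 1) =
        -∑ i ∈ Finset.range n, ((X - 1 : F[X]) ^ n).coeff i • (bv n i : Fin n → F) ∧
      IsNilpotent ((u : Matrix (Fin n) (Fin n) F) - 1) ∧
      ((u : Matrix (Fin n) (Fin n) F) - 1) ^ (n - 1) ≠ 0 := by
  classical
  have hm : ((X - 1 : F[X]) ^ n).Monic := by
    rw [← C_1]; exact (monic_X_sub_C 1).pow n
  have hd : ((X - 1 : F[X]) ^ n).natDegree = n := by
    rw [← C_1, natDegree_pow, natDegree_X_sub_C, mul_one]
  let pb := AdjoinRoot.powerBasis hm.ne_zero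
  have hdim : pb.dim = n := hd
  let b := pb.basis.reindex (finCongr hdim)
  let L := Algebra.leftMulMatrix b
  let M := L pb.gen
  have hbv : ∀ i, i < n → (bv n i : Fin n → F) = b.repr (pb.gen ^ i) := by
    intro i hi
    have : b ⟨i, hi⟩ = pb.gen ^ i := by simp [b, Module.Basis.reindex_apply]
    rw [← this, b.repr_self, Finsupp.single_eq_pi_single, ← bv_eq_single]
  have hmul : ∀ i, i < n → M *ᵥ bv n i = b.repr (pb.gen ^ (i + 1)) := by
    intro i hi
    rw [hbv i hi, show M = Algebra.leftMulMatrix b pb.gen from rfl, Algebra.leftMulMatrix_mulVec_repr, pow_succ']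
  have hroot : Polynomial.aeval pb.gen ((X - 1 : F[X]) ^ n) = 0 :=
    (AdjoinRoot.aeval_eq _).trans AdjoinRoot.mk_self
  have hdet : M.det = 1 := by
    have h := Algebra.PowerBasis.norm_gen_eq_coeff_zero_minpoly pb
    have hmin : minpoly F pb.gen = (X - 1) ^ n := by
      show minpoly F (AdjoinRoot.root ((X - 1 : F[X]) ^ n)) = _
      rw [AdjoinRoot.minpoly_root hm.ne_zero, hm.leadingCoeff, inv_one, map_one, mul_one]
    rw [hmin, hdim, Algebra.norm_eq_matrix_det b, Polynomial.coeff_zero_eq_eval_zero] at h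
    rw [show M.det = _ from h]
    simp [← mul_pow]
  refine ⟨⟨M, hdet⟩, fun i hi => ?_, ?_, ?_, ?_⟩
  · show M *ᵥ bv n i = _
    rw [hmul i (by omega), hbv (i + 1) hi]
  · show M *ᵥ bv n (n - 1) = _
    rw [hmul (n - 1) (by omega), show n - 1 + 1 = n by omega]
    have h1 : pb.gen ^ n + ∑ i ∈ Finset.range n, ((X - 1 : F[X]) ^ n).coeff i • pb.gen ^ i = 0 := by
      rw [aeval_eq_sum_range, hd, Finset.sum_range_succ] at hroot
      have hlead : ((X - 1 : F[X]) ^ n).coeff n = 1 := by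
        conv_lhs => arg 2; rw [← hd]
        exact hm.leadingCoeff
      rw [hlead, one_smul, add_comm] at hroot
      exact hroot
    rw [eq_neg_of_add_eq_zero_left h1, map_neg, map_sum, Finsupp.coe_neg, Finsupp.coe_finsetSum]
    congr 1
    refine Finset.sum_congr rfl fun i hi => ?_
    rw [map_smul, Finsupp.coe_smul, hbv i (Finset.mem_range.1 hi)]
  · refine ⟨n, ?_⟩
    show (L pb.gen - 1) ^ n = 0
    rw [← map_one L, ← map_sub, ← map_pow]
    have : (pb.gen - 1) ^ n = Polynomial.aeval pb.gen ((X - 1 : F[X]) ^ n) := by simp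
    rw [this, hroot, map_zero]
  · show (L pb.gen - 1) ^ (n - 1) ≠ 0
    rw [← map_one L, ← map_sub, ← map_pow]
    intro h0
    have h1 : (pb.gen - 1) ^ (n - 1) = Polynomial.aeval pb.gen ((X - 1 : F[X]) ^ (n - 1)) := by simp
    have h2 := (map_eq_zero_iff L (Algebra.leftMulMatrix_injective b)).1 h0
    rw [h1] at h2
    have h3 : (X - 1 : F[X]) ^ n ∣ (X - 1) ^ (n - 1) :=
      AdjoinRoot.mk_eq_zero.1 ((AdjoinRoot.aeval_eq _).symm.trans h2)
    have h4 := Polynomial.natDegree_le_of_dvd h3 (pow_ne_zero _ (by rw [← C_1]; exact X_sub_C_ne_zero 1))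
    rw [hd, ← C_1, natDegree_pow, natDegree_X_sub_C, mul_one] at h4
    omega

end Companion

section Field

/-- A non-zero additive subgroup `R` with `λ R R ⊆ R`, containing suitable elements, is everything. -/
lemma all_mem [Finite F] (lam : Fˣ) (hgen : ∀ x : Fˣ, x ∈ Subgroup.zpowers lam) (R : AddSubgroup F)
    (hc : (lam : F) ^ (n - 1) ∈ R) (hn : 1 ≤ n) (hmul : ∀ a ∈ R, ∀ b ∈ R, (lam : F) * (a * b) ∈ R)
    (d : ℕ) (hd : d.Coprime (Nat.card Fˣ)) (N : ℤ) (hN : (N : F) ≠ 0)
    (hdd : ∀ a ∈ R, ∀ b ∈ R, (lam : F) ^ (d + 1) * ((N : F) * (a * b)) ∈ R ∨ d = n) : ∀ x : F, x ∈ R := by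
  classical
  have hl : (lam : F) ≠ 0 := lam.ne_zero
  let K : Submonoid Fˣ := Submonoid.closure {y : Fˣ | ∃ a ∈ R, (y : F) = lam * a}
  have hK : ∀ y ∈ K, (y : F) = 1 ∨ ∃ a ∈ R, (y : F) = lam * a := by
    intro y hy
    induction hy using Submonoid.closure_induction with
    | mem y hy => exact Or.inr hy
    | one => exact Or.inl rfl
    | mul y z _ _ h1 h2 =>
      rcases h1 with h1 | ⟨a, ha, h1⟩
      · rw [Units.val_mul, h1, one_mul]; exact h2
      · rcases h2 with h2 | ⟨b, hb, h2⟩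
        · rw [Units.val_mul, h2, mul_one]; exact Or.inr ⟨a, ha, h1⟩
        · exact Or.inr ⟨lam * (a * b), hmul a ha b hb, by rw [Units.val_mul, h1, h2]; ring⟩
  have hpow : ∀ (a : F), a ∈ R → a ≠ 0 → ∀ k : ℕ, ∃ b ∈ R, ((lam : F) * a) ^ (k + 1) = lam * b := by
    intro a ha _ k
    induction k with
    | zero => exact ⟨a, ha, pow_one _⟩
    | succ k ih =>
      obtain ⟨b, hb, h⟩ := ih
      exact ⟨lam * (b * a), hmul b hb a ha, by rw [pow_succ, h]; ring⟩
  have hone : (lam : F)⁻¹ ∈ R := by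
    let y : Fˣ := lam ^ n
    have hy : ((lam : F) * (lam : F) ^ (n - 1)) = (y : F) := by
      rw [← pow_succ', show n - 1 + 1 = n by omega, Units.val_pow_eq_pow_val]
    obtain ⟨b, hb, h⟩ := hpow _ hc (pow_ne_zero _ hl) (orderOf y - 1)
    rw [hy, Nat.sub_add_cancel (orderOf_pos y), ← Units.val_pow_eq_pow_val, pow_orderOf_eq_one,
      Units.val_one] at h
    rwa [inv_eq_of_mul_eq_one_right h.symm]
  have hint : ∀ M : ℤ, (M : F) * (lam : F)⁻¹ ∈ R := fun M => by
    rw [← zsmul_eq_mul]; exact R.zsmul_mem hone M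
  have hld : ∃ a ∈ R, (lam : F) ^ d = lam * a := by
    by_cases hdn : d = n
    · exact ⟨_, hc, by rw [hdn, ← pow_succ', show n - 1 + 1 = n by omega]⟩
    have h1 : (lam : F) ^ (d + 1) * ((N : F) * ((lam : F)⁻¹ * (lam : F)⁻¹)) ∈ R :=
      (hdd _ hone _ hone).resolve_right hdn
    let y : Fˣ := Units.mk0 (N : F) hN
    obtain ⟨b, hb, hb'⟩ := hpow _ (hint N) (mul_ne_zero hN (inv_ne_zero hl)) (2 * orderOf y - 2)
    refine ⟨lam * (((lam : F) ^ (d + 1) * ((N : F) * ((lam : F)⁻¹ * (lam : F)⁻¹))) * b), hmul _ h1 _ hb, ?_⟩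
    have h2 : (N : F) ^ (2 * orderOf y - 2 + 2) = 1 := by
      have hy2 : y ^ (2 * orderOf y - 2 + 2) = 1 := by
        rw [show 2 * orderOf y - 2 + 2 = orderOf y * 2 by have := orderOf_pos y; omega, pow_mul,
          pow_orderOf_eq_one, one_pow]
      simpa [y, Units.ext_iff] using hy2
    rw [show (lam : F) * ((N : F) * (lam : F)⁻¹) = (N : F) by field_simp] at hb'
    have h3 : (N : F) * ((lam : F) * b) = 1 := by rw [← hb', ← pow_succ']; exact h2
    calc (lam : F) ^ d = (lam : F) ^ d * ((N : F) * ((lam : F) * b)) := by rw [h3, mul_one]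
      _ = _ := by field_simp; ring
  obtain ⟨a, ha, hla⟩ := hld
  intro x
  rcases eq_or_ne x 0 with rfl | hx
  · exact R.zero_mem
  have hcop : d.Coprime (orderOf lam) := by rwa [orderOf_eq_card_of_forall_mem_zpowers hgen]
  have hlamK : lam ∈ K := by
    obtain ⟨k, hk⟩ := exists_pow_eq_self_of_coprime hcop
    rw [← hk]
    exact K.pow_mem (Submonoid.subset_closure ⟨a, ha, by rw [Units.val_pow_eq_pow_val, hla]⟩) k
  have hxK : Units.mk0 ((lam : F) * x) (mul_ne_zero hl hx) ∈ K := by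
    obtain ⟨k, hk⟩ := (mem_powers_iff_mem_zpowers).2 (hgen (Units.mk0 ((lam : F) * x) (mul_ne_zero hl hx)))
    rw [← hk]
    exact K.pow_mem hlamK k
  rcases hK _ hxK with h | ⟨b, hb, h⟩
  · rw [Units.val_mk0] at h
    rw [show x = (lam : F)⁻¹ from (inv_eq_of_mul_eq_one_right h).symm]
    exact hone
  · rw [Units.val_mk0] at h
    rwa [mul_left_cancel₀ hl h]

end Field

section Main

variable [Finite F]

theorem exists_generators (hn : 4 ≤ n) :
    ∃ u g : Matrix.SpecialLinearGroup (Fin n) F,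
      (IsNilpotent ((u : Matrix (Fin n) (Fin n) F) - 1) ∧ ((u : Matrix (Fin n) (Fin n) F) - 1) ^ (n - 1) ≠ 0) ∧
      (IsNilpotent (((g * u * g⁻¹ : Matrix.SpecialLinearGroup (Fin n) F) : Matrix (Fin n) (Fin n) F) - 1) ∧
        (((g * u * g⁻¹ : Matrix.SpecialLinearGroup (Fin n) F) : Matrix (Fin n) (Fin n) F) - 1) ^ (n - 1) ≠ 0) ∧
      Subgroup.closure ({u, g * u * g⁻¹} : Set (Matrix.SpecialLinearGroup (Fin n) F)) = ⊤ := by
  classical
  obtain ⟨u, hu, hlast, hnil, hreg⟩ := exists_companion (F := F) (n := n) (by omega)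
  obtain ⟨lam, hgen⟩ := IsCyclic.exists_generator (α := Fˣ)
  set P : F[X] := (X - 1) ^ n with hP
  let i2 : Fin n := ⟨n - 2, by omega⟩
  let i1 : Fin n := ⟨n - 1, by omega⟩
  have h21 : i2 ≠ i1 := by simp [i2, i1, Fin.ext_iff]; omega
  let T : Matrix.SpecialLinearGroup (Fin n) F := Matrix.SpecialLinearGroup.transvection h21 (lam : F)
  set G := Subgroup.closure ({u, T * u * T⁻¹} : Set (Matrix.SpecialLinearGroup (Fin n) F)) with hG
  have huG : u ∈ G := Subgroup.subset_closure (by simp)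
  have hvG : T * u * T⁻¹ ∈ G := Subgroup.subset_closure (by simp)
  refine ⟨u, T, ⟨hnil, hreg⟩, ?_, ?_⟩
  · have hTT : (T : Matrix (Fin n) (Fin n) F) * ((T⁻¹ : Matrix.SpecialLinearGroup (Fin n) F) : Matrix (Fin n) (Fin n) F) = 1 := by
      rw [← Matrix.SpecialLinearGroup.coe_mul, mul_inv_cancel, Matrix.SpecialLinearGroup.coe_one]
    have hTT' : ((T⁻¹ : Matrix.SpecialLinearGroup (Fin n) F) : Matrix (Fin n) (Fin n) F) * (T : Matrix (Fin n) (Fin n) F) = 1 := by
      rw [← Matrix.SpecialLinearGroup.coe_mul, inv_mul_cancel, Matrix.SpecialLinearGroup.coe_one]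
    let Tu : (Matrix (Fin n) (Fin n) F)ˣ := ⟨_, _, hTT, hTT'⟩
    have e : ((T * u * T⁻¹ : Matrix.SpecialLinearGroup (Fin n) F) : Matrix (Fin n) (Fin n) F) - 1 =
        (Tu : Matrix (Fin n) (Fin n) F) * ((u : Matrix (Fin n) (Fin n) F) - 1) * (↑Tu⁻¹ : Matrix (Fin n) (Fin n) F) := by
      show _ = (T : Matrix (Fin n) (Fin n) F) * _ * ((T⁻¹ : Matrix.SpecialLinearGroup (Fin n) F) : Matrix (Fin n) (Fin n) F)
      rw [mul_sub, sub_mul, mul_one, hTT, Matrix.SpecialLinearGroup.coe_mul, Matrix.SpecialLinearGroup.coe_mul]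
    rw [e]
    refine ⟨?_, ?_⟩
    · obtain ⟨k, hk⟩ := hnil
      exact ⟨k, by rw [Units.conj_pow, hk, mul_zero, zero_mul]⟩
    · rw [Units.conj_pow]
      intro h0
      rw [Units.mul_left_eq_zero, Units.mul_right_eq_zero] at h0
      exact hreg h0
  have hpu : ∀ s i, i + s < n → ((u ^ s : Matrix.SpecialLinearGroup (Fin n) F) : Matrix (Fin n) (Fin n) F) *ᵥ bv n i = bv n (i + s) := by
    intro s
    induction s with
    | zero => intro i _; simp
    | succ s ih =>
      intro i hi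
      rw [pow_succ', Matrix.SpecialLinearGroup.coe_mul, ← Matrix.mulVec_mulVec, ih i (by omega),
        hu (i + s) (by omega), add_assoc]
  have hinvmul : ∀ (g : Matrix.SpecialLinearGroup (Fin n) F) (v w : Fin n → F),
      (g : Matrix (Fin n) (Fin n) F) *ᵥ v = w →
      ((g⁻¹ : Matrix.SpecialLinearGroup (Fin n) F) : Matrix (Fin n) (Fin n) F) *ᵥ w = v := by
    rintro g v _ rfl
    rw [Matrix.mulVec_mulVec, ← Matrix.SpecialLinearGroup.coe_mul, inv_mul_cancel,
      Matrix.SpecialLinearGroup.coe_one, Matrix.one_mulVec]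
  have hpi : ∀ s i, i + s < n → (((u ^ s)⁻¹ : Matrix.SpecialLinearGroup (Fin n) F) : Matrix (Fin n) (Fin n) F) *ᵥ bv n (i + s) = bv n i :=
    fun s i hi => hinvmul _ _ _ (hpu s i hi)
  have hc0 : P.coeff 0 = (-1) ^ n := by rw [coeff_zero_eq_eval_zero, hP]; simp
  have hsq : ((-1 : F) ^ n) * (-1) ^ n = 1 := by rw [← mul_pow]; simp
  have hz : ((u⁻¹ : Matrix.SpecialLinearGroup (Fin n) F) : Matrix (Fin n) (Fin n) F) *ᵥ bv n 0 =
      (-(-1 : F) ^ n) • ∑ i ∈ Finset.range n, P.coeff (i + 1) • (bv n i : Fin n → F) := by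
    refine hinvmul u _ _ ?_
    obtain ⟨N, hN⟩ : ∃ N, n = N + 1 := ⟨n - 1, by omega⟩
    have hlead : P.coeff n = 1 := by
      have hd : P.natDegree = n := by rw [hP, ← C_1, natDegree_pow, natDegree_X_sub_C, mul_one]
      have hmP : P.Monic := by rw [hP, ← C_1]; exact (monic_X_sub_C 1).pow n
      conv_lhs => arg 2; rw [← hd]
      exact hmP.leadingCoeff
    rw [Matrix.mulVec_smul, Matrix.mulVec_sum]
    have e : ∑ i ∈ Finset.range n, (u : Matrix (Fin n) (Fin n) F) *ᵥ (P.coeff (i + 1) • bv n i) =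
        -(P.coeff 0 • (bv n 0 : Fin n → F)) := by
      rw [show Finset.range n = Finset.range (N + 1) by rw [hN], Finset.sum_range_succ]
      have h1 : ∑ i ∈ Finset.range N, (u : Matrix (Fin n) (Fin n) F) *ᵥ (P.coeff (i + 1) • bv n i) =
          ∑ i ∈ Finset.range N, P.coeff (i + 1) • (bv n (i + 1) : Fin n → F) :=
        Finset.sum_congr rfl fun i hi => by
          rw [Matrix.mulVec_smul, hu i (by have := Finset.mem_range.1 hi; omega)]
      rw [h1, Matrix.mulVec_smul, show N = n - 1 by omega, hlast, show n - 1 + 1 = n by omega, hlead, one_smul,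
        show Finset.range n = Finset.range (n - 1 + 1) by rw [show n - 1 + 1 = n by omega],
        Finset.sum_range_succ']
      abel
    rw [e, hc0, smul_neg, neg_smul, neg_neg, smul_smul, hsq, one_smul]
  set κ : F := -(-1) ^ n with hκ
  have hκ2 : κ * κ = 1 := by rw [hκ, neg_mul_neg, hsq]
  have hzl : ((u⁻¹ : Matrix.SpecialLinearGroup (Fin n) F) : Matrix (Fin n) (Fin n) F) *ᵥ bv n 0 ⬝ᵥ bv n (n - 1) = κ := by
    rw [hz, smul_dotProduct, sum_dotProduct, Finset.sum_eq_single (n - 1)]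
    · have hd : P.natDegree = n := by rw [hP, ← C_1, natDegree_pow, natDegree_X_sub_C, mul_one]
      have hmP : P.Monic := by rw [hP, ← C_1]; exact (monic_X_sub_C 1).pow n
      rw [smul_dotProduct, bv_dot_bv (by omega), if_pos rfl, show n - 1 + 1 = P.natDegree by omega,
        hmP.coeff_natDegree, smul_eq_mul, smul_eq_mul, mul_one, mul_one]
    · intro i hi hne
      rw [smul_dotProduct, bv_dot_bv (Finset.mem_range.1 hi), if_neg hne, smul_zero]
    · intro h; exact absurd (Finset.mem_range.2 (by omega)) h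
  let row : ℕ → (Fin n → F) := fun i =>
    bv n (n - 1) ᵥ* ((u ^ (n - 2 - i) : Matrix.SpecialLinearGroup (Fin n) F) : Matrix (Fin n) (Fin n) F)
  have hrow : ∀ i m, i ≤ n - 2 → m ≤ i + 1 → row i ⬝ᵥ bv n m = if m = i + 1 then 1 else 0 := by
    intro i m hi hm
    rw [← Matrix.dotProduct_mulVec, hpu _ _ (by omega), bv_dot_bv (by omega)]
    split_ifs <;> first | rfl | omega
  let Tc : ℕ → Matrix.SpecialLinearGroup (Fin n) F := fun i => (u ^ (n - 2 - i))⁻¹ * T * u ^ (n - 2 - i)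
  have hTmat : (T : Matrix (Fin n) (Fin n) F) = tv (bv n (n - 2)) ((lam : F) • bv n (n - 1)) := by
    rw [Matrix.SpecialLinearGroup.transvection_coe, tv]
    congr 1
    ext r c
    simp [Matrix.vecMulVec_apply, Matrix.single_apply, bv, i1, i2, Fin.ext_iff]
    split_ifs <;> first | rfl | omega | simp_all
  have hTc : ∀ i, i ≤ n - 2 → (Tc i : Matrix (Fin n) (Fin n) F) = tv (bv n i) ((lam : F) • row i) := by
    intro i hi
    have h := conj_tv ((u ^ (n - 2 - i))⁻¹) (bv n (n - 2)) ((lam : F) • bv n (n - 1))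
    rw [inv_inv, ← hTmat, Matrix.smul_vecMul] at h
    rw [Matrix.SpecialLinearGroup.coe_mul, Matrix.SpecialLinearGroup.coe_mul, h]
    congr 1
    have := hpi (n - 2 - i) i (by omega)
    rwa [show i + (n - 2 - i) = n - 2 by omega] at this
  let Y : ℕ → ℕ → Matrix.SpecialLinearGroup (Fin n) F := fun a b => Tc a * (Tc b)⁻¹
  have hY : ∀ a b, a ≤ n - 2 → b ≤ n - 2 → Y a b ∈ G := by
    have h0 : u⁻¹ * (T * u * T⁻¹) ∈ G := G.mul_mem (G.inv_mem huG) hvG
    have hstep : ∀ i, 1 ≤ i → i ≤ n - 2 → Y (i - 1) i ∈ G := by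
      intro i h1 h2
      have h := G.mul_mem (G.mul_mem (G.inv_mem (G.pow_mem huG (n - 2 - i))) h0) (G.pow_mem huG (n - 2 - i))
      convert h using 1
      show (u ^ (n - 2 - (i - 1)))⁻¹ * T * u ^ (n - 2 - (i - 1)) * ((u ^ (n - 2 - i))⁻¹ * T * u ^ (n - 2 - i))⁻¹ = _
      rw [show n - 2 - (i - 1) = n - 2 - i + 1 by omega, pow_succ']
      group
    have hbase : ∀ j, j ≤ n - 2 → Y (n - 2 - j) (n - 2) ∈ G := by
      intro j
      induction j with
      | zero =>
        intro _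
        show Tc (n - 2 - 0) * (Tc (n - 2))⁻¹ ∈ G
        rw [Nat.sub_zero, mul_inv_cancel]; exact G.one_mem
      | succ j ih =>
        intro hj
        have h := G.mul_mem (hstep (n - 2 - j) (by omega) (by omega)) (ih (by omega))
        convert h using 1
        show Tc _ * _ = Tc (n - 2 - j - 1) * (Tc (n - 2 - j))⁻¹ * (Tc (n - 2 - j) * (Tc (n - 2))⁻¹)
        rw [show n - 2 - (j + 1) = n - 2 - j - 1 by omega]
        group
    intro a b ha hb
    have h := G.mul_mem (hbase (n - 2 - a) (by omega)) (G.inv_mem (hbase (n - 2 - b) (by omega)))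
    convert h using 1
    show Tc a * (Tc b)⁻¹ = Tc (n - 2 - (n - 2 - a)) * _ * (Tc (n - 2 - (n - 2 - b)) * _)⁻¹
    rw [show n - 2 - (n - 2 - a) = a by omega, show n - 2 - (n - 2 - b) = b by omega]
    group
  have hTlev : ∀ i, i ≤ n - 2 → Lev 1 ((Tc i : Matrix (Fin n) (Fin n) F) - 1) ∧
      ∀ r c : Fin n, (c : ℕ) = r + 1 → ((Tc i : Matrix (Fin n) (Fin n) F) - 1) r c = if (r : ℕ) = i then (lam : F) else 0 := by
    intro i hi
    rw [hTc i hi, tv, add_sub_cancel_left]
    refine ⟨fun r c hc => ?_, fun r c hc => ?_⟩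
    · rw [Matrix.vecMulVec_apply, Pi.smul_apply, ← dot_bv (row i) c]
      by_cases hr : (r : ℕ) = i
      · rw [hrow i _ hi (by omega), if_neg (by omega), smul_zero, mul_zero]
      · rw [bv, if_neg hr, zero_mul]
    · rw [Matrix.vecMulVec_apply, Pi.smul_apply, ← dot_bv (row i) c]
      by_cases hr : (r : ℕ) = i
      · rw [hrow i _ hi (by omega), if_pos (by omega), bv, if_pos hr, if_pos hr, smul_eq_mul, one_mul, mul_one]
      · rw [bv, if_neg hr, zero_mul, if_neg hr]
  have hYlev : ∀ a b, a ≤ n - 2 → b ≤ n - 2 → Lev 1 ((Y a b : Matrix (Fin n) (Fin n) F) - 1) ∧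
      ∀ r c : Fin n, (c : ℕ) = r + 1 → ((Y a b : Matrix (Fin n) (Fin n) F) - 1) r c =
        (if (r : ℕ) = a then (lam : F) else 0) - (if (r : ℕ) = b then (lam : F) else 0) := by
    intro a b ha hb
    obtain ⟨ha1, ha2⟩ := hTlev a ha
    obtain ⟨hb1, hb2⟩ := hTlev b hb
    have hbi := lev_inv hb1
    have e : (Y a b : Matrix (Fin n) (Fin n) F) - 1 =
        ((Tc a : Matrix (Fin n) (Fin n) F) - 1) * ((((Tc b)⁻¹ : Matrix.SpecialLinearGroup (Fin n) F) : Matrix (Fin n) (Fin n) F) - 1) +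
        (((Tc a : Matrix (Fin n) (Fin n) F) - 1) + ((((Tc b)⁻¹ : Matrix.SpecialLinearGroup (Fin n) F) : Matrix (Fin n) (Fin n) F) - 1)) := by
      show ((Tc a * (Tc b)⁻¹ : Matrix.SpecialLinearGroup (Fin n) F) : Matrix (Fin n) (Fin n) F) - 1 = _
      rw [Matrix.SpecialLinearGroup.coe_mul]; noncomm_ring
    rw [e]
    refine ⟨((ha1.mul hbi).mono (by omega)).add (ha1.add hbi), fun r c hc => ?_⟩
    have hzero : (((Tc b : Matrix (Fin n) (Fin n) F) - 1) * ((((Tc b)⁻¹ : Matrix.SpecialLinearGroup (Fin n) F) : Matrix (Fin n) (Fin n) F) - 1)) r c = 0 :=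
      (hb1.mul hbi) r c (by omega)
    have hid : ((Tc b : Matrix (Fin n) (Fin n) F) - 1) * ((((Tc b)⁻¹ : Matrix.SpecialLinearGroup (Fin n) F) : Matrix (Fin n) (Fin n) F) - 1) =
        -(((Tc b : Matrix (Fin n) (Fin n) F) - 1) + ((((Tc b)⁻¹ : Matrix.SpecialLinearGroup (Fin n) F) : Matrix (Fin n) (Fin n) F) - 1)) := by
      have h1 : (Tc b : Matrix (Fin n) (Fin n) F) * (((Tc b)⁻¹ : Matrix.SpecialLinearGroup (Fin n) F) : Matrix (Fin n) (Fin n) F) = 1 := by
        rw [← Matrix.SpecialLinearGroup.coe_mul, mul_inv_cancel, Matrix.SpecialLinearGroup.coe_one]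
      rw [sub_mul, mul_sub, mul_sub, h1, one_mul, mul_one, one_mul]
      abel
    rw [hid, Matrix.neg_apply, neg_eq_zero, Matrix.add_apply, hb2 r c hc] at hzero
    rw [Matrix.add_apply, (ha1.mul hbi) r c (by omega), zero_add, Matrix.add_apply, ha2 r c hc,
      eq_neg_of_add_eq_zero_right hzero]
    ring
  have hchain : ∀ k, (hk : k < n) → 1 ≤ k → ∃ g ∈ G, Lev k ((g : Matrix (Fin n) (Fin n) F) - 1) ∧
      ((g : Matrix (Fin n) (Fin n) F) - 1) ⟨0, by omega⟩ ⟨k, hk⟩ = (lam : F) ^ k := by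
    intro k
    induction k with
    | zero => intro _ h; omega
    | succ k ih =>
      intro hk _
      rcases Nat.eq_zero_or_pos k with h0 | h0
      · subst h0
        obtain ⟨h1, h2⟩ := hYlev 0 1 (by omega) (by omega)
        refine ⟨Y 0 1, hY 0 1 (by omega) (by omega), h1, ?_⟩
        rw [h2 _ _ rfl, if_pos rfl, if_neg (by simp), sub_zero, zero_add, pow_one]
      · obtain ⟨g, hg, hlev, hent⟩ := ih (by omega) h0
        let b := if k = 1 then 2 else 1
        have hb : b ≤ n - 2 ∧ b ≠ k ∧ b ≠ 0 := by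
          simp only [b]; split_ifs <;> omega
        obtain ⟨h1, h2⟩ := hYlev k b (by omega) hb.1
        obtain ⟨c1, c2⟩ := comm_entry hlev h0 h1 (z := ⟨0, by omega⟩) (o := ⟨1, by omega⟩)
          (i := ⟨k, by omega⟩) (j := ⟨k + 1, hk⟩) rfl rfl rfl rfl
        refine ⟨_, G.mul_mem (G.mul_mem hg (hY k b (by omega) hb.1))
          (G.inv_mem (G.mul_mem (hY k b (by omega) hb.1) hg)), c1, ?_⟩
        rw [c2, hent, h2 _ _ rfl, h2 _ _ rfl]
        simp [Ne.symm hb.2.1, show ¬ (0 = k) by omega, Ne.symm hb.2.2, pow_succ]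
  have hc : Par G 0 (n - 1) ((lam : F) ^ (n - 1)) := by
    obtain ⟨g, hg, hlev, hent⟩ := hchain (n - 1) (by omega) (by omega)
    refine ⟨g, hg, ?_⟩
    rw [tv, ← sub_eq_iff_eq_add']
    ext r c
    rw [Matrix.vecMulVec_apply, Pi.smul_apply]
    by_cases hrc : (r : ℕ) = 0 ∧ (c : ℕ) = n - 1
    · rw [show r = ⟨0, by omega⟩ from Fin.ext hrc.1, show c = ⟨n - 1, by omega⟩ from Fin.ext hrc.2, hent]
      simp [bv]
    · rw [hlev r c (by omega)]
      simp only [bv, smul_eq_mul]
      split_ifs <;> simp_all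
  have hconj : ∀ {a ψ : Fin n → F} (s : ℕ), MemM G (tv a ψ) →
      MemM G (tv (((u ^ s : Matrix.SpecialLinearGroup (Fin n) F) : Matrix (Fin n) (Fin n) F) *ᵥ a)
        (ψ ᵥ* (((u ^ s)⁻¹ : Matrix.SpecialLinearGroup (Fin n) F) : Matrix (Fin n) (Fin n) F))) :=
    fun s h => memM_conj (G.pow_mem huG s) h
  let lo : ℕ → (Fin n → F) := fun i =>
    bv n (n - 1) ᵥ* (((u ^ i)⁻¹ : Matrix.SpecialLinearGroup (Fin n) F) : Matrix (Fin n) (Fin n) F)
  have hlo : ∀ i m, 1 ≤ i → i ≤ m → m < n → lo i ⬝ᵥ bv n m = 0 := by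
    intro i m hi him hm
    obtain ⟨l, rfl⟩ : ∃ l, m = l + i := ⟨m - i, by omega⟩
    rw [← Matrix.dotProduct_mulVec, hpi i l hm, bv_dot_bv (by omega), if_neg (by omega)]
  have hlo1 : ∀ i, 1 ≤ i → i < n → lo i ⬝ᵥ bv n (i - 1) = κ := by
    intro i hi hin
    obtain ⟨l, rfl⟩ : ∃ l, i = l + 1 := ⟨i - 1, by omega⟩
    rw [← Matrix.dotProduct_mulVec, pow_succ, _root_.mul_inv_rev, Matrix.SpecialLinearGroup.coe_mul,
      ← Matrix.mulVec_mulVec, show l + 1 - 1 = 0 + l by omega, hpi l 0 (by omega), dotProduct_comm, hzl]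
  have hlow : ∀ i t, i < n → Par G 0 (n - 1) t → MemM G (tv (bv n i) (t • lo i)) := by
    intro i t hi ht
    have h := hconj i ht
    rw [hpu i 0 (by omega), Matrix.smul_vecMul, zero_add] at h
    exact h
  have h10 : ∀ t, Par G 0 (n - 1) t → Par G 1 0 (κ * t) := by
    intro t ht
    have h := hlow 1 t (by omega) ht
    have e : t • lo 1 = (κ * t) • (bv n 0 : Fin n → F) := by
      refine vec_ext fun m hm => ?_
      rw [smul_dotProduct, smul_dotProduct, bv_dot_bv (by omega)]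
      rcases Nat.eq_zero_or_pos m with rfl | hm0
      · rw [show (0 : ℕ) = 1 - 1 from rfl, hlo1 1 le_rfl (by omega), if_pos rfl, smul_eq_mul, smul_eq_mul, mul_one, mul_comm]
      · rw [hlo 1 m le_rfl hm0 hm, if_neg (by omega), smul_zero, smul_zero]
    rwa [e] at h
  have hdown : ∀ i t, i + 1 ≤ n - 2 → Par G (i + 1) (n - 1) t → Par G i (n - 1) ((lam : F) * t) := by
    intro i t hi ht
    have hfix : ∀ j, j ≤ n - 2 → bv n (n - 1) ᵥ* (Tc j : Matrix (Fin n) (Fin n) F) = bv n (n - 1) := by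
      intro j hj
      rw [hTc j hj, tv, Matrix.vecMul_add, Matrix.vecMul_one, Matrix.vecMul_vecMulVec, bv_dot_bv (by omega),
        if_neg (by omega), zero_smul, add_zero]
    have hfix' : ∀ j, j ≤ n - 2 →
        bv n (n - 1) ᵥ* (((Tc j)⁻¹ : Matrix.SpecialLinearGroup (Fin n) F) : Matrix (Fin n) (Fin n) F) = bv n (n - 1) := by
      intro j hj
      conv_lhs => rw [← hfix j hj]
      rw [Matrix.vecMul_vecMul, ← Matrix.SpecialLinearGroup.coe_mul, mul_inv_cancel,
        Matrix.SpecialLinearGroup.coe_one, Matrix.vecMul_one]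
    have hcol : (Y (i + 1) i : Matrix (Fin n) (Fin n) F) *ᵥ bv n (i + 1) = bv n (i + 1) - (lam : F) • bv n i := by
      show ((Tc (i + 1) * (Tc i)⁻¹ : Matrix.SpecialLinearGroup (Fin n) F) : Matrix (Fin n) (Fin n) F) *ᵥ _ = _
      have h1 : (((Tc i)⁻¹ : Matrix.SpecialLinearGroup (Fin n) F) : Matrix (Fin n) (Fin n) F) *ᵥ bv n (i + 1) =
          bv n (i + 1) - (lam : F) • bv n i := by
        refine hinvmul _ _ _ ?_
        rw [hTc i (by omega), tv, Matrix.add_mulVec, Matrix.one_mulVec, Matrix.vecMulVec_mulVec,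
          dotProduct_sub, smul_dotProduct, hrow i (i + 1) (by omega) le_rfl, if_pos rfl, dotProduct_smul,
          smul_dotProduct, hrow i i (by omega) (by omega), if_neg (by omega), smul_zero, smul_zero, sub_zero,
          smul_eq_mul, mul_one]
        funext r
        simp
      rw [Matrix.SpecialLinearGroup.coe_mul, ← Matrix.mulVec_mulVec, h1, hTc (i + 1) hi, tv, Matrix.add_mulVec,
        Matrix.one_mulVec, Matrix.vecMulVec_mulVec, dotProduct_sub, smul_dotProduct,
        hrow (i + 1) (i + 1) hi (by omega), if_neg (by omega), smul_zero, dotProduct_smul, smul_dotProduct,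
        hrow (i + 1) i hi (by omega), if_neg (by omega), smul_zero, smul_zero, sub_zero]
      simp
    have h := memM_conj (hY (i + 1) i hi (by omega)) ht
    rw [hcol, Matrix.smul_vecMul, show (Y (i + 1) i)⁻¹ = Tc i * (Tc (i + 1))⁻¹ by
      show (Tc (i + 1) * (Tc i)⁻¹)⁻¹ = _; group,
      Matrix.SpecialLinearGroup.coe_mul, ← Matrix.vecMul_vecMul, hfix i (by omega), hfix' (i + 1) hi] at h
    have h2 := h.mul (par_neg (by omega) (by omega) ht)
    have e : tv (bv n (i + 1)) ((-t) • bv n (n - 1)) = tv (-bv n (i + 1)) (t • (bv n (n - 1) : Fin n → F)) := by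
      simp [tv, Matrix.vecMulVec_smul, Matrix.neg_vecMulVec]
    rw [e, tv_mul_tv_left (by rw [dotProduct_neg, smul_dotProduct, bv_dot_bv (by omega), if_neg (by omega), smul_zero, neg_zero])] at h2
    have e2 : tv (bv n (i + 1) - (lam : F) • bv n i + -bv n (i + 1)) (t • (bv n (n - 1) : Fin n → F)) =
        tv (bv n i) ((-((lam : F) * t)) • bv n (n - 1)) := by
      rw [show bv n (i + 1) - (lam : F) • bv n i + -bv n (i + 1) = (-(lam : F)) • (bv n i : Fin n → F) by
        rw [neg_smul]; abel]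
      simp [tv, Matrix.vecMulVec_smul, Matrix.smul_vecMulVec, smul_smul, mul_comm]
    rw [e2] at h2
    have h3 := par_neg (G := G) (by omega) (by omega) h2
    rwa [neg_neg] at h3
  have hdown' : ∀ i t, i ≤ n - 2 → Par G i (n - 1) t → Par G 0 (n - 1) ((lam : F) ^ i * t) := by
    intro i
    induction i with
    | zero => intro t _ h; simpa using h
    | succ i ih =>
      intro t hi h
      have := ih _ (by omega) (hdown i t hi h)
      rwa [← mul_assoc, ← pow_succ] at this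
  let R : AddSubgroup F :=
    { carrier := {t | Par G 0 (n - 1) t}
      zero_mem' := par_zero _ _
      add_mem' := fun hs ht => par_add (by omega) (by omega) hs ht
      neg_mem' := fun ht => par_neg (by omega) (by omega) ht }
  have hmul : ∀ a ∈ R, ∀ b ∈ R, (lam : F) * (a * b) ∈ R := by
    intro a ha b hb
    have h1 : Par G 1 (n - 1) (κ * a * b) := par_comm (by omega) (by omega) (by omega) (by omega) (h10 a ha) hb
    have h2 : (lam : F) * (κ * a * b) ∈ R := hdown 0 _ (by omega) h1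
    rcases neg_one_pow_eq_or F n with h | h
    · rw [hκ, h] at h2
      have := R.neg_mem h2
      convert this using 1; ring
    · rw [hκ, h] at h2
      convert h2 using 1; ring
  obtain ⟨p, hp⟩ := CharP.exists F
  haveI : Fact p.Prime := ⟨CharP.char_is_prime F p⟩
  obtain ⟨k, m', hm', hnk⟩ := Nat.exists_eq_pow_mul_and_not_dvd (show n ≠ 0 by omega) p (Fact.out : p.Prime).ne_one
  set d := p ^ k with hd
  have hdpos : 0 < d := pow_pos (Fact.out : p.Prime).pos k
  have hPexp : P = expand F d ((X - 1) ^ m') := by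
    rw [hP, hnk, pow_mul, sub_pow_char_pow (p := p) (n := k) X 1, one_pow, map_pow, map_sub, expand_X, map_one]
  have hcd : ∀ i, 1 ≤ i → i < d → P.coeff i = 0 := by
    intro i h1 h2
    rw [hPexp, coeff_expand hdpos, if_neg (Nat.not_dvd_of_pos_of_lt h1 h2)]
  set N : ℤ := (-1) ^ (m' - 1) * (m' : ℤ) with hN
  have hPd : P.coeff d = (N : F) := by
    rw [hPexp, coeff_expand hdpos, if_pos dvd_rfl, Nat.div_self hdpos,
      show (X - 1 : F[X]) = X + C (-1) by simp [sub_eq_add_neg], coeff_X_add_C_pow, Nat.choose_one_right, hN]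
    push_cast
    rfl
  have hN0 : (N : F) ≠ 0 := by
    rw [hN]
    push_cast
    refine mul_ne_zero (pow_ne_zero _ (neg_ne_zero.2 one_ne_zero)) ?_
    rw [Ne, CharP.cast_eq_zero_iff F p]
    exact hm'
  have hcop : d.Coprime (Nat.card Fˣ) := by
    refine Nat.Coprime.pow_left k (((Fact.out : p.Prime).coprime_iff_not_dvd).2 fun hdvd => ?_)
    haveI := Fintype.ofFinite F
    rw [Nat.card_units, Nat.card_eq_fintype_card] at hdvd
    obtain ⟨e, -, he⟩ := FiniteField.card F p
    have h1 : 1 ≤ p ^ (e : ℕ) := Nat.one_le_pow _ _ (Fact.out : p.Prime).pos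
    have h2 : p ∣ Fintype.card F := he ▸ dvd_pow_self p e.ne_zero
    have h3 := Nat.dvd_sub h2 hdvd
    rw [Nat.sub_sub_self (he ▸ h1)] at h3
    exact (Fact.out : p.Prime).not_dvd_one h3
  have hdd : ∀ a ∈ R, ∀ b ∈ R, (lam : F) ^ (d + 1) * ((N : F) * (a * b)) ∈ R ∨ d = n := by
    intro a ha b hb
    by_cases hdn : d = n
    · exact Or.inr hdn
    refine Or.inl ?_
    have hm2 : 2 ≤ m' := by
      rcases Nat.lt_or_ge m' 2 with h | h
      · rcases Nat.eq_zero_or_pos m' with h0 | h0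
        · rw [h0, mul_zero] at hnk; omega
        · rw [show m' = 1 by omega, mul_one] at hnk; exact absurd hnk.symm hdn
      · exact h
    have h2d : 2 * d ≤ n := by rw [hnk, mul_comm 2 d]; exact Nat.mul_le_mul_left d hm2
    have hd1 : d + 1 ≠ n - 1 := by
      intro he
      have hdn4 : d = 2 ∧ n = 4 := by omega
      have hm22 : m' = 2 := by
        rw [hdn4.1, hdn4.2] at hnk
        omega
      have hp2 : p = 2 := by
        have hk0 : k ≠ 0 := by rintro rfl; simp [hd] at hdn4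
        have : p ∣ 2 := hdn4.1 ▸ hd ▸ dvd_pow_self p hk0
        exact (Nat.prime_dvd_prime_iff_eq Fact.out Nat.prime_two).1 this
      exact hm' (by rw [hp2, hm22])
    have h := memM_comm (hlow (d + 1) a (by omega) ha) hb
      (by rw [smul_dotProduct, bv_dot_bv (by omega), if_neg (by omega), smul_zero])
      (by rw [smul_dotProduct, bv_dot_bv (by omega), if_neg (by omega), smul_zero])
    have hval : lo (d + 1) ⬝ᵥ bv n 0 = (N : F) := by
      rw [← Matrix.dotProduct_mulVec, pow_succ', _root_.mul_inv_rev, Matrix.SpecialLinearGroup.coe_mul,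
        ← Matrix.mulVec_mulVec, hz, Matrix.mulVec_smul, Matrix.mulVec_sum, dotProduct_smul, dotProduct_sum,
        Finset.sum_eq_single (d - 1)]
      · have e1 : (((u ^ d)⁻¹ : Matrix.SpecialLinearGroup (Fin n) F) : Matrix (Fin n) (Fin n) F) *ᵥ bv n (d - 1) =
            ((u⁻¹ : Matrix.SpecialLinearGroup (Fin n) F) : Matrix (Fin n) (Fin n) F) *ᵥ bv n 0 := by
          have he : (u ^ d)⁻¹ = u⁻¹ * (u ^ (d - 1))⁻¹ := by
            conv_lhs => rw [show d = d - 1 + 1 by omega, pow_succ, _root_.mul_inv_rev]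
          rw [he, Matrix.SpecialLinearGroup.coe_mul, ← Matrix.mulVec_mulVec]
          congr 1
          have := hpi (d - 1) 0 (by omega)
          rwa [zero_add] at this
        rw [Matrix.mulVec_smul, e1, dotProduct_smul, dotProduct_comm, hzl, show d - 1 + 1 = d by omega, hPd,
          smul_eq_mul, smul_eq_mul, mul_comm (N : F), ← mul_assoc, hκ2, one_mul]
      · intro i hi hne
        rw [Finset.mem_range] at hi
        rw [Matrix.mulVec_smul, dotProduct_smul]
        rcases Nat.lt_or_ge (i + 1) d with hid | hid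
        · rw [hcd (i + 1) (by omega) hid, zero_smul]
        · obtain ⟨l, rfl⟩ : ∃ l, i = l + d := ⟨i - d, by omega⟩
          rw [hpi d l hi, bv_dot_bv (by omega), if_neg (by omega), smul_zero]
      · intro h; exact absurd (Finset.mem_range.2 (by omega)) h
    rw [smul_dotProduct, hval, smul_eq_mul, smul_smul] at h
    have h2 := hdown' (d + 1) _ (by omega) h
    show Par G 0 (n - 1) _
    convert h2 using 2
    ring
  have hall : ∀ t, Par G 0 (n - 1) t := all_mem lam hgen R hc (by omega) hmul d hcop N hN0 hdd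
  have hi0 : ∀ i, 1 ≤ i → i < n → ∀ t, Par G i 0 t := by
    intro i
    induction i with
    | zero => intro h; omega
    | succ i ih =>
      intro _ hin t
      rcases Nat.eq_zero_or_pos i with h0 | h0
      · subst h0
        have := h10 (κ * t) (hall _)
        rwa [← mul_assoc, hκ2, one_mul] at this
      · have h := memM_comm (hlow (i + 1) 1 hin (hall 1)) (ih h0 (by omega) (κ * t))
          (by rw [smul_dotProduct, bv_dot_bv (by omega), if_neg (by omega), smul_zero])
          (by rw [smul_dotProduct, bv_dot_bv (by omega), if_neg (by omega), smul_zero])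
        have hl := hlo1 (i + 1) (by omega) hin
        rw [Nat.add_sub_cancel] at hl
        rw [smul_dotProduct, hl, smul_eq_mul, one_mul, smul_smul, ← mul_assoc,
          hκ2, one_mul] at h
        exact h
  have h0j : ∀ s m, 1 ≤ m → m < n → n - m ≤ s → ∀ t, Par G 0 m t := by
    intro s
    induction s with
    | zero => intro m h1 h2 h3; omega
    | succ s ih =>
      intro m h1 h2 h3 t
      by_cases hms : n - m ≤ s
      · exact ih m h1 h2 hms t
      have hs : s + 1 = n - m := by omega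
      let r := bv n 0 ᵥ* ((u ^ (n - m) : Matrix.SpecialLinearGroup (Fin n) F) : Matrix (Fin n) (Fin n) F)
      have hr : ∀ l, l < m → r ⬝ᵥ bv n l = 0 := by
        intro l hl
        rw [← Matrix.dotProduct_mulVec, hpu _ _ (by omega), bv_dot_bv (by omega), if_neg (by omega)]
      have hrm : r ⬝ᵥ bv n m = κ := by
        rw [← Matrix.dotProduct_mulVec, show n - m = (n - 1 - m) + 1 by omega, pow_succ',
          Matrix.SpecialLinearGroup.coe_mul, ← Matrix.mulVec_mulVec, hpu _ _ (by omega),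
          show m + (n - 1 - m) = n - 1 by omega, hlast, dotProduct_neg, dotProduct_sum, Finset.sum_eq_single 0]
        · rw [dotProduct_smul, bv_dot_bv (by omega), if_pos rfl, hc0, smul_eq_mul, mul_one, hκ]
        · intro l _ hl
          rw [dotProduct_smul, bv_dot_bv (by omega), if_neg (Ne.symm hl), smul_zero]
        · intro h; exact absurd (Finset.mem_range.2 (by omega)) h
      have hA : MemM G (tv (bv n 0) ((κ * t) • r)) := by
        have h := memM_conj (G.inv_mem (G.pow_mem huG (n - m))) (hi0 (n - m) (by omega) (by omega) (κ * t))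
        rw [inv_inv, Matrix.smul_vecMul] at h
        have e := hpi (n - m) 0 (by omega)
        rw [zero_add] at e
        rwa [e] at h
      have hB : MemM G (tv (bv n 0) (t • bv n m - (κ * t) • r)) := by
        refine memM_support (m0 := m) (fun l hl => ?_) (Nat.zero_le m) (fun l h4 h5 => ih l (by omega) h5 (by omega))
        rw [sub_dotProduct, smul_dotProduct, smul_dotProduct]
        rcases hl.eq_or_lt with rfl | hlt
        · rw [bv_dot_bv h2, if_pos rfl, hrm, smul_eq_mul, smul_eq_mul, mul_one,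
            mul_right_comm, hκ2, one_mul, sub_self]
        · rw [bv_dot_bv h2, if_neg (by omega), hr l hlt, smul_zero, smul_zero, sub_zero]
      have h := hA.mul hB
      rw [tv_mul_tv_right (by rw [smul_dotProduct, hr 0 (by omega), smul_zero]), add_sub_cancel] at h
      exact h
  refine Cfsg.Agent.Linear.eq_top_of_transvection_mem fun i j hij c => ?_
  have hij' : (i : ℕ) ≠ j := fun h => hij (Fin.ext h)
  have hpar : Par G i j c := by
    rcases Nat.eq_zero_or_pos (i : ℕ) with h0 | h0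
    · rw [h0] at hij' ⊢
      exact h0j n j (Nat.pos_of_ne_zero (Ne.symm hij')) j.2 (by omega) c
    · rcases Nat.eq_zero_or_pos (j : ℕ) with h1 | h1
      · rw [h1]; exact hi0 i h0 i.2 c
      · have := par_comm hij' (by omega : (0 : ℕ) ≠ j) (by omega) j.2 (hi0 i h0 i.2 c)
          (h0j n j h1 j.2 (by omega) 1)
        rwa [mul_one] at this
  obtain ⟨g, hg, hge⟩ := hpar
  have : g = Matrix.SpecialLinearGroup.transvection hij c := by
    refine Subtype.ext ?_
    rw [hge, Matrix.SpecialLinearGroup.transvection_coe, tv]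
    congr 1
    ext r s
    simp [Matrix.vecMulVec_apply, Matrix.single_apply, bv, Fin.ext_iff]
    split_ifs <;> first | rfl | omega | simp_all
  exact this ▸ hg

end Main

end Cfsg.Agent.H55.TwoUnipotent
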